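import Cfsg.Agent.H71.Glue
set_option maxRecDepth 1000000
set_option Elab.async false
namespace H83.O83LC
open H71
noncomputable def nc_0 : ℕ := 0x2026
noncomputable def nc_1 : ℕ := 0xa
noncomputable def nc_2 : ℕ := 0x8001
noncomputable def nc_3 : ℕ := 0xa54285
noncomputable def nc_4 : ℕ := 0x40c190
noncomputable def nc_5 : ℕ := 0xe14187
noncomputable def nc_6 : ℕ := 0x1e0028
noncomputable def nc_7 : ℕ := 0x2603
noncomputable def nc : Net := .cons 14 nc_0 <| .cons 7 nc_1 <| .cons 4 nc_2 <| .cons 1 nc_3 <| .cons 2 nc_4 <| .cons 4 nc_5 <| .cons 7 nc_6 <| .cons 14 nc_7 <| .nil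
theorem vnc : Net.valid 28 nc = true := by decide +kernel
noncomputable def nd_0 : ℕ := 0x25e8
noncomputable def nd_1 : ℕ := 0x28048
noncomputable def nd_2 : ℕ := 0x41c385
noncomputable def nd_3 : ℕ := 0x400112
noncomputable def nd_4 : ℕ := 0x240a11
noncomputable def nd_5 : ℕ := 0x200c892
noncomputable def nd_6 : ℕ := 0x804084
noncomputable def nd_7 : ℕ := 0x8c066
noncomputable def nd_8 : ℕ := 0x20e3
noncomputable def nd : Net := .cons 14 nd_0 <| .cons 7 nd_1 <| .cons 4 nd_2 <| .cons 2 nd_3 <| .cons 1 nd_4 <| .cons 2 nd_5 <| .cons 4 nd_6 <| .cons 7 nd_7 <| .cons 14 nd_8 <| .nil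
theorem vnd : Net.valid 28 nd = true := by decide +kernel
noncomputable def nn_0 : ℕ := 0x2386
noncomputable def nn_1 : ℕ := 0x150000
noncomputable def nn_2 : ℕ := 0x200181
noncomputable def nn_3 : ℕ := 0x2400110
noncomputable def nn_4 : ℕ := 0x2250894
noncomputable def nn_5 : ℕ := 0x60c182
noncomputable def nn_6 : ℕ := 0x14181
noncomputable def nn_7 : ℕ := 0x1a4000
noncomputable def nn_8 : ℕ := 0x3496
noncomputable def nn : Net := .cons 14 nn_0 <| .cons 7 nn_1 <| .cons 4 nn_2 <| .cons 2 nn_3 <| .cons 1 nn_4 <| .cons 2 nn_5 <| .cons 4 nn_6 <| .cons 7 nn_7 <| .cons 14 nn_8 <| .nil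
theorem vnn : Net.valid 28 nn = true := by decide +kernel
noncomputable def na : Net := .nil
theorem vna : Net.valid 28 na = true := by decide +kernel
noncomputable def nb : Net := .nil
theorem vnb : Net.valid 28 nb = true := by decide +kernel
noncomputable def ne : Net := .nil
theorem vne : Net.valid 28 ne = true := by decide +kernel
noncomputable def nf : Net := .nil
theorem vnf : Net.valid 28 nf = true := by decide +kernel
noncomputable def ng : Net := .nil
theorem vng : Net.valid 28 ng = true := by decide +kernel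
noncomputable def nh : Net := .nil
theorem vnh : Net.valid 28 nh = true := by decide +kernel
noncomputable def ni : Net := .nil
theorem vni : Net.valid 28 ni = true := by decide +kernel
noncomputable def nj : Net := .nil
theorem vnj : Net.valid 28 nj = true := by decide +kernel
noncomputable def nz : Net := .nil
theorem vnz : Net.valid 28 nz = true := by decide +kernel
noncomputable def nk_0 : ℕ := 0x440
noncomputable def nk_1 : ℕ := 0x30008
noncomputable def nk_2 : ℕ := 0x10006
noncomputable def nk_3 : ℕ := 0x48010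
noncomputable def nk_4 : ℕ := 0x44014
noncomputable def nk_5 : ℕ := 0x48010
noncomputable def nk_6 : ℕ := 0x610386
noncomputable def nk_7 : ℕ := 0x30008
noncomputable def nk_8 : ℕ := 0x440
noncomputable def nk : Net := .cons 14 nk_0 <| .cons 7 nk_1 <| .cons 4 nk_2 <| .cons 2 nk_3 <| .cons 1 nk_4 <| .cons 2 nk_5 <| .cons 4 nk_6 <| .cons 7 nk_7 <| .cons 14 nk_8 <| .nil
theorem vnk : Net.valid 28 nk = true := by decide +kernel
noncomputable def nl_0 : ℕ := 0xa8000
noncomputable def nl_1 : ℕ := 0x20c001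
noncomputable def nl_2 : ℕ := 0x40002
noncomputable def nl_3 : ℕ := 0x2040881
noncomputable def nl_4 : ℕ := 0x64c002
noncomputable def nl_5 : ℕ := 0x20c001
noncomputable def nl_6 : ℕ := 0xa8000
noncomputable def nl : Net := .cons 7 nl_0 <| .cons 4 nl_1 <| .cons 2 nl_2 <| .cons 1 nl_3 <| .cons 2 nl_4 <| .cons 4 nl_5 <| .cons 7 nl_6 <| .nil
theorem vnl : Net.valid 28 nl = true := by decide +kernel
noncomputable def nm_0 : ℕ := 0x2000
noncomputable def nm_1 : ℕ := 0xa8000
noncomputable def nm_2 : ℕ := 0x4000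
noncomputable def nm_3 : ℕ := 0x40010
noncomputable def nm_4 : ℕ := 0x2a54210
noncomputable def nm_5 : ℕ := 0x2208010
noncomputable def nm_6 : ℕ := 0x200000
noncomputable def nm_7 : ℕ := 0x154000
noncomputable def nm_8 : ℕ := 0x2000
noncomputable def nm : Net := .cons 14 nm_0 <| .cons 7 nm_1 <| .cons 4 nm_2 <| .cons 2 nm_3 <| .cons 1 nm_4 <| .cons 2 nm_5 <| .cons 4 nm_6 <| .cons 7 nm_7 <| .cons 14 nm_8 <| .nil
theorem vnm : Net.valid 28 nm = true := by decide +kernel
noncomputable def gensN : List Net := [nc, nd, nn, Net.nil]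
noncomputable def invsN : List Net := [na, nb, ne, nf, ng, nh, ni, nj, nz, nk, nl, nm, Net.nil]
noncomputable def A : ℕ → ℕ → ℕ := mkA gensN invsN
noncomputable def π : ℕ → Equiv.Perm ℕ := mkPi gensN invsN
theorem vG : ∀ r ∈ ([nc, nd, nn, Net.nil] : List Net), Net.valid 28 r = true := by
  intro r hr
  simp only [List.mem_cons, List.not_mem_nil, or_false] at hr
  rcases hr with rfl | rfl | rfl | rfl
  · exact vnc
  · exact vnd
  · exact vnn
  · rfl
theorem vI : ∀ r ∈ ([na, nb, ne, nf, ng, nh, ni, nj, nz, nk, nl, nm, Net.nil] : List Net), Net.valid 28 r = true := by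
  intro r hr
  simp only [List.mem_cons, List.not_mem_nil, or_false] at hr
  rcases hr with rfl | rfl | rfl | rfl | rfl | rfl | rfl | rfl | rfl | rfl | rfl | rfl | rfl
  · exact vna
  · exact vnb
  · exact vne
  · exact vnf
  · exact vng
  · exact vnh
  · exact vni
  · exact vnj
  · exact vnz
  · exact vnk
  · exact vnl
  · exact vnm
  · rfl
theorem env : Env 28 π A := env_mk vG vI
theorem hN : 28 ≤ 2 ^ 5 := by norm_num
theorem pinv : ∀ l, π (linv 8 l) = (π l)⁻¹ := mkPi_inv' hN rfl vI (by decide +kernel)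
def R : List (List ℕ) := [[8,9,8,9],
  [8,10,8,10],
  [8,11,8,11],
  [8,12,8,12],
  [8,13,8,13],
  [8,14,8,14],
  [8,15,8,15,16],
  [8,16,8,16],
  [9,10,9,10],
  [9,11,9,11],
  [9,12,9,12],
  [9,13,9,13],
  [9,14,9,14,16],
  [9,15,9,15],
  [9,16,9,16],
  [10,11,10,11],
  [10,12,10,12],
  [10,13,10,13,16],
  [10,14,10,14],
  [10,15,10,15],
  [10,16,10,16],
  [11,12,11,12,16],
  [11,13,11,13],
  [11,14,11,14],
  [11,15,11,15],
  [11,16,11,16],
  [12,13,12,13],
  [12,14,12,14],
  [12,15,12,15],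
  [12,16,12,16],
  [13,14,13,14],
  [13,15,13,15],
  [13,16,13,16],
  [14,15,14,15],
  [14,16,14,16],
  [15,16,15,16],
  [0,0,0],
  [2,2,2],
  [4,4,4],
  [17,0,17,0],
  [0,2,1,3],
  [17,18,17,18],
  [17,2,17,3],
  [0,4,1,5],
  [17,19,17,19],
  [17,4,17,5],
  [18,2,18,2],
  [18,0,18,1],
  [2,4,3,5],
  [18,19,18,19],
  [18,4,18,5],
  [19,4,19,4],
  [19,0,19,1],
  [19,2,19,3],
  [0,8,1,12],
  [0,9,1,13],
  [0,10,1,14],
  [0,11,1,15],
  [0,12,1,12,8],
  [0,13,1,13,9],
  [0,14,1,14,10],
  [0,15,1,15,11],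
  [0,16,1,16],
  [2,8,3,10],
  [2,9,3,11],
  [2,10,3,10,8],
  [2,11,3,11,9],
  [2,12,3,14],
  [2,13,3,15],
  [2,14,3,14,12],
  [2,15,3,15,13],
  [2,16,3,16],
  [4,8,5,9],
  [4,9,5,9,8],
  [4,10,5,11],
  [4,11,5,11,10],
  [4,12,5,13],
  [4,13,5,13,12],
  [4,14,5,15],
  [4,15,5,15,14],
  [4,16,5,16],
  [17,8,17,8],
  [17,9,17,9],
  [17,10,17,10],
  [17,11,17,11],
  [17,12,17,12,8],
  [17,13,17,13,9],
  [17,14,17,14,10],
  [17,15,17,15,11],
  [17,16,17,16],
  [18,8,18,8],
  [18,9,18,9],
  [18,10,18,10,8],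
  [18,11,18,11,9],
  [18,12,18,12],
  [18,13,18,13],
  [18,14,18,14,12],
  [18,15,18,15,13],
  [18,16,18,16],
  [19,8,19,8],
  [19,9,19,9,8],
  [19,10,19,10],
  [19,11,19,11,10],
  [19,12,19,12],
  [19,13,19,13,12],
  [19,14,19,14],
  [19,15,19,15,14],
  [19,16,19,16]]
def RH : List (List ℕ) := []
def HL : List ℕ := [8,9,10,11,12,13,14,15,16,17,18,19]
def S : List ℕ := [0,1,2,3,4,5,8,9,10,11,12,13,14,15,16,17,18,19]
theorem relP : ∀ r ∈ R, evw π r = 1 := env.eq_one_of_allId hN (by decide +kernel)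
def seeds : List (List ℕ) := []
theorem seeds_mem {G : Type*} [Group G] {val : ℕ → G} {H : Subgroup G} (hv : ∀ l, val (linv 8 l) = (val l)⁻¹) (he : val 21 = 1)
    (hR : ∀ r ∈ R ++ RH, evw val r = 1) (hH : ∀ l ∈ HL, val l ∈ H) : ∀ w ∈ seeds, evw val w ∈ H := by simp [seeds]
def spec : List ℕ := [294912,303104,311296,319488,327680,327684,344064,344068,352256,352260,368640,368644,376832,385024,385028,393216,393220,409600,409604,417792,425984,425988,434176,434180,442370,442374,450562,450566,458754,458758,466946,466950,507906,507910,516098,516102,524290,524294,548866,548870,557058,557062,581634,581638,589826,589830,606210,606214,622594,622598,638978,638982,655362,655366,663554,671746,679938,688130,737282,745474,770050,778242,811010,827394,843778,860162,475138,483330,491522,499714,532482,540674,565250,573442,598018,614402,630786,647170]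
noncomputable def rules : List (List ℕ) := spec.map (mkRule 8 R)
noncomputable def hs : List (List ℕ) := HL.map (fun z => [z]) ++ seeds
noncomputable def D0 : ℕ := Nat.shiftLeft 1 0
noncomputable def K0 : List ℕ := List.replicate 21 0
def steps0_0 : List ℕ := [3,16387,32771,49155,65539,81923,98307,114691,131075,147459,163843,180227,0,4,8,12,16,20,1,2,5,10,9,18,13,70,17,2,21,6,25,29,33,2,37,6,41,45,49,74,53,57,61,10,65,14,69,73,77,78,81,85,89,93,97,101,105,109,113,117,121,125,129,133,137,141,145,149,153,157,161,165,169,173,177,181,185,189,193,197,201,205,209,213,217,221,225,229,233,237,241,245,249,253,257,261,265,269,273,277,281,285,289,293,297,301,305,309]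
theorem run0 : tcRun A 8 0 rules hs (steps0_0) (finSt A S (ival 0 27)) D0 K0 = true := by decide +kernel
theorem done {G : Type*} [Group G] {val : ℕ → G} {H : Subgroup G} (hv : ∀ l, val (linv 8 l) = (val l)⁻¹) (he : val 21 = 1)
    (hR : ∀ r ∈ R ++ RH, evw val r = 1) (hH : ∀ l ∈ HL, val l ∈ H) : TCDone val H π 0 S (ival 0 27) := by
  have T : TCHyp val H 28 π A 8 rules hs := tcHyp_mk env hv pinv (fun r hr => hR r (List.mem_append_left _ hr)) relP hH (seeds_mem hv he hR hH) spec
  have h0 : Inv val H π 0 D0 K0 := inv_init val H π 0 21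
  exact tcRun_fin T h0 run0
end H83.O83LC
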