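import Cfsg.Agent.H71.Glue
set_option maxRecDepth 1000000
set_option Elab.async false
namespace H83.W4LB
open H71
noncomputable def nt_0 : ℕ := 0x2c0
noncomputable def nt_1 : ℕ := 0x14
noncomputable def nt_2 : ℕ := 0x182086
noncomputable def nt_3 : ℕ := 0x49240
noncomputable def nt_4 : ℕ := 0x249248
noncomputable def nt_5 : ℕ := 0x201041
noncomputable def nt_6 : ℕ := 0xc1143
noncomputable def nt_7 : ℕ := 0x2d002
noncomputable def nt_8 : ℕ := 0x160
noncomputable def nt : Net := .cons 12 nt_0 <| .cons 6 nt_1 <| .cons 3 nt_2 <| .cons 2 nt_3 <| .cons 1 nt_4 <| .cons 2 nt_5 <| .cons 3 nt_6 <| .cons 6 nt_7 <| .cons 12 nt_8 <| .nil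
theorem vnt : Net.valid 24 nt = true := by decide +kernel
noncomputable def na : Net := .nil
theorem vna : Net.valid 24 na = true := by decide +kernel
noncomputable def nb : Net := .nil
theorem vnb : Net.valid 24 nb = true := by decide +kernel
noncomputable def nc : Net := .nil
theorem vnc : Net.valid 24 nc = true := by decide +kernel
noncomputable def nd : Net := .nil
theorem vnd : Net.valid 24 nd = true := by decide +kernel
noncomputable def ne : Net := .nil
theorem vne : Net.valid 24 ne = true := by decide +kernel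
noncomputable def nf : Net := .nil
theorem vnf : Net.valid 24 nf = true := by decide +kernel
noncomputable def ng : Net := .nil
theorem vng : Net.valid 24 ng = true := by decide +kernel
noncomputable def nh : Net := .nil
theorem vnh : Net.valid 24 nh = true := by decide +kernel
noncomputable def nz : Net := .nil
theorem vnz : Net.valid 24 nz = true := by decide +kernel
noncomputable def nk_0 : ℕ := 0x13c
noncomputable def nk_1 : ℕ := 0x1e01e
noncomputable def nk_2 : ℕ := 0x184100
noncomputable def nk_3 : ℕ := 0x201041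
noncomputable def nk_4 : ℕ := 0x241049
noncomputable def nk_5 : ℕ := 0x209241
noncomputable def nk_6 : ℕ := 0x1c4101
noncomputable def nk_7 : ℕ := 0x21021
noncomputable def nk_8 : ℕ := 0xec3
noncomputable def nk : Net := .cons 12 nk_0 <| .cons 6 nk_1 <| .cons 3 nk_2 <| .cons 2 nk_3 <| .cons 1 nk_4 <| .cons 2 nk_5 <| .cons 3 nk_6 <| .cons 6 nk_7 <| .cons 12 nk_8 <| .nil
theorem vnk : Net.valid 24 nk = true := by decide +kernel
noncomputable def nu_0 : ℕ := 0x350
noncomputable def nu_1 : ℕ := 0x32030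
noncomputable def nu_2 : ℕ := 0x82000
noncomputable def nu_3 : ℕ := 0x201048
noncomputable def nu_4 : ℕ := 0x249249
noncomputable def nu_5 : ℕ := 0x208208
noncomputable def nu_6 : ℕ := 0x7142
noncomputable def nu_7 : ℕ := 0xf00d
noncomputable def nu_8 : ℕ := 0xcaf
noncomputable def nu : Net := .cons 12 nu_0 <| .cons 6 nu_1 <| .cons 3 nu_2 <| .cons 2 nu_3 <| .cons 1 nu_4 <| .cons 2 nu_5 <| .cons 3 nu_6 <| .cons 6 nu_7 <| .cons 12 nu_8 <| .nil
theorem vnu : Net.valid 24 nu = true := by decide +kernel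
noncomputable def gensN : List Net := [nt]
noncomputable def invsN : List Net := [na, nb, nc, nd, ne, nf, ng, nh, nz, nk, Net.nil, nu, Net.nil, Net.nil]
noncomputable def A : ℕ → ℕ → ℕ := mkA gensN invsN
noncomputable def π : ℕ → Equiv.Perm ℕ := mkPi gensN invsN
theorem vG : ∀ r ∈ ([nt] : List Net), Net.valid 24 r = true := by
  intro r hr
  simp only [List.mem_cons, List.not_mem_nil, or_false] at hr
  rcases hr with rfl
  · exact vnt
theorem vI : ∀ r ∈ ([na, nb, nc, nd, ne, nf, ng, nh, nz, nk, Net.nil, nu, Net.nil, Net.nil] : List Net), Net.valid 24 r = true := by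
  intro r hr
  simp only [List.mem_cons, List.not_mem_nil, or_false] at hr
  rcases hr with rfl | rfl | rfl | rfl | rfl | rfl | rfl | rfl | rfl | rfl | rfl | rfl | rfl | rfl
  · exact vna
  · exact vnb
  · exact vnc
  · exact vnd
  · exact vne
  · exact vnf
  · exact vng
  · exact vnh
  · exact vnz
  · exact vnk
  · rfl
  · exact vnu
  · rfl
  · rfl
theorem env : Env 24 π A := env_mk vG vI
theorem hN : 24 ≤ 2 ^ 5 := by norm_num
theorem pinv : ∀ l, π (linv 2 l) = (π l)⁻¹ := mkPi_inv' hN rfl vI (by decide +kernel)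
def R : List (List ℕ) := [[2,3,2,3],
  [2,4,2,4],
  [2,5,2,5],
  [2,6,2,6],
  [2,7,2,7,10],
  [2,8,2,8,10],
  [2,9,2,9,10],
  [2,10,2,10],
  [3,4,3,4],
  [3,5,3,5],
  [3,6,3,6,10],
  [3,7,3,7],
  [3,8,3,8,10],
  [3,9,3,9,10],
  [3,10,3,10],
  [4,5,4,5],
  [4,6,4,6,10],
  [4,7,4,7,10],
  [4,8,4,8],
  [4,9,4,9,10],
  [4,10,4,10],
  [5,6,5,6,10],
  [5,7,5,7,10],
  [5,8,5,8,10],
  [5,9,5,9],
  [5,10,5,10],
  [6,7,6,7],
  [6,8,6,8],
  [6,9,6,9],
  [6,10,6,10],
  [7,8,7,8],
  [7,9,7,9],
  [7,10,7,10],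
  [8,9,8,9],
  [8,10,8,10],
  [9,10,9,10],
  [0,0,0],
  [13,0,13,0,13,0],
  [11,13,11,13],
  [11,0,11,1],
  [11,2,11,2],
  [11,3,11,3],
  [11,4,11,4],
  [11,5,11,5],
  [11,6,11,6,2],
  [11,7,11,7,3],
  [11,8,11,8,4],
  [11,9,11,9,5],
  [11,10,11,10],
  [13,2,13,2],
  [13,3,13,4],
  [13,4,13,3],
  [13,5,13,5,4,3,2],
  [13,6,13,6],
  [13,7,13,8],
  [13,8,13,7],
  [13,9,13,9,8,7,6],
  [13,10,13,10],
  [0,2,1,2],
  [0,3,1,3],
  [0,4,1,5],
  [0,5,1,5,4,3,2],
  [0,6,1,6],
  [0,7,1,7],
  [0,8,1,9],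
  [0,9,1,9,8,7,6],
  [0,10,1,10]]
def RH : List (List ℕ) := []
def HL : List ℕ := [2,3,4,5,6,7,8,9,10]
def S : List ℕ := [0,1,2,3,4,5,6,7,8,9,10,11,13]
theorem relP : ∀ r ∈ R, evw π r = 1 := env.eq_one_of_allId hN (by decide +kernel)
def seeds : List (List ℕ) := []
theorem seeds_mem {G : Type*} [Group G] {val : ℕ → G} {H : Subgroup G} (hv : ∀ l, val (linv 2 l) = (val l)⁻¹) (he : val 16 = 1)
    (hR : ∀ r ∈ R ++ RH, evw val r = 1) (hH : ∀ l ∈ HL, val l ∈ H) : ∀ w ∈ seeds, evw val w ∈ H := by simp [seeds]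
def spec : List ℕ := [294912,311296,319488,319490,319492,327682,335874,344066,352258,393218,401410,409602,409606,434178,442370,442374,466946,475138,475142,483330,483334,491522,491526,507906,507910,516098,516102,524290,524294,540674,540678,360450,368642,376834,385026,303104,425986,458754,499714,499720,532482,532488,425992,458760]
noncomputable def rules : List (List ℕ) := spec.map (mkRule 2 R)
noncomputable def hs : List (List ℕ) := HL.map (fun z => [z]) ++ seeds
noncomputable def D0 : ℕ := Nat.shiftLeft 1 0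
noncomputable def K0 : List ℕ := List.replicate 16 0
def steps0_0 : List ℕ := [3,16387,32771,49155,65539,81923,98307,114691,131075,0,4,44,52,0,4,1,2,5,9,13,2,17,21,25,29,33,37,41,45,49,53,57,61,65,69,73,77,81,85,89,93,97,101,105,109,113,117,121,125,129,133,137,141,54,145,149,153,157,161,165,41,45,49,53,57,61,65,69,77,89,93,101,113,117,145,169,149,173]
theorem run0 : tcRun A 2 0 rules hs (steps0_0) (finSt A S (ival 0 24)) D0 K0 = true := by decide +kernel
theorem done {G : Type*} [Group G] {val : ℕ → G} {H : Subgroup G} (hv : ∀ l, val (linv 2 l) = (val l)⁻¹) (he : val 16 = 1)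
    (hR : ∀ r ∈ R ++ RH, evw val r = 1) (hH : ∀ l ∈ HL, val l ∈ H) : TCDone val H π 0 S (ival 0 24) := by
  have T : TCHyp val H 24 π A 2 rules hs := tcHyp_mk env hv pinv (fun r hr => hR r (List.mem_append_left _ hr)) relP hH (seeds_mem hv he hR hH) spec
  have h0 : Inv val H π 0 D0 K0 := inv_init val H π 0 16
  exact tcRun_fin T h0 run0
end H83.W4LB
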