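import Cfsg.Agent.H71.Glue
set_option maxRecDepth 1000000
set_option Elab.async false
namespace H83.W4LC
open H71
noncomputable def nt_0 : ℕ := 0xe4
noncomputable def nt_1 : ℕ := 0x2020
noncomputable def nt_2 : ℕ := 0x1140
noncomputable def nt_3 : ℕ := 0x2020
noncomputable def nt_4 : ℕ := 0xa04
noncomputable def nt_5 : ℕ := 0xe4
noncomputable def nt : Net := .cons 8 nt_0 <| .cons 2 nt_1 <| .cons 1 nt_2 <| .cons 2 nt_3 <| .cons 4 nt_4 <| .cons 8 nt_5 <| .nil
theorem vnt : Net.valid 16 nt = true := by decide +kernel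
noncomputable def na : Net := .nil
theorem vna : Net.valid 16 na = true := by decide +kernel
noncomputable def nb : Net := .nil
theorem vnb : Net.valid 16 nb = true := by decide +kernel
noncomputable def nc : Net := .nil
theorem vnc : Net.valid 16 nc = true := by decide +kernel
noncomputable def nd : Net := .nil
theorem vnd : Net.valid 16 nd = true := by decide +kernel
noncomputable def ne : Net := .nil
theorem vne : Net.valid 16 ne = true := by decide +kernel
noncomputable def nf : Net := .nil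
theorem vnf : Net.valid 16 nf = true := by decide +kernel
noncomputable def ng : Net := .nil
theorem vng : Net.valid 16 ng = true := by decide +kernel
noncomputable def nh : Net := .nil
theorem vnh : Net.valid 16 nh = true := by decide +kernel
noncomputable def nz : Net := .nil
theorem vnz : Net.valid 16 nz = true := by decide +kernel
noncomputable def nk_0 : ℕ := 0x80
noncomputable def nk_1 : ℕ := 0x800
noncomputable def nk_2 : ℕ := 0x400
noncomputable def nk_3 : ℕ := 0x3012
noncomputable def nk_4 : ℕ := 0x800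
noncomputable def nk_5 : ℕ := 0x80
noncomputable def nk : Net := .cons 8 nk_0 <| .cons 4 nk_1 <| .cons 1 nk_2 <| .cons 2 nk_3 <| .cons 4 nk_4 <| .cons 8 nk_5 <| .nil
theorem vnk : Net.valid 16 nk = true := by decide +kernel
noncomputable def nn_0 : ℕ := 0x204
noncomputable def nn_1 : ℕ := 0x200
noncomputable def nn_2 : ℕ := 0x1101
noncomputable def nn_3 : ℕ := 0x230
noncomputable def nn_4 : ℕ := 0x204
noncomputable def nn : Net := .cons 4 nn_0 <| .cons 2 nn_1 <| .cons 1 nn_2 <| .cons 2 nn_3 <| .cons 4 nn_4 <| .nil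
theorem vnn : Net.valid 16 nn = true := by decide +kernel
noncomputable def nu_0 : ℕ := 0x20
noncomputable def nu_1 : ℕ := 0x804
noncomputable def nu_2 : ℕ := 0x5150
noncomputable def nu_3 : ℕ := 0x3030
noncomputable def nu_4 : ℕ := 0xc00
noncomputable def nu_5 : ℕ := 0x44
noncomputable def nu : Net := .cons 8 nu_0 <| .cons 4 nu_1 <| .cons 1 nu_2 <| .cons 2 nu_3 <| .cons 4 nu_4 <| .cons 8 nu_5 <| .nil
theorem vnu : Net.valid 16 nu = true := by decide +kernel
noncomputable def nw_0 : ℕ := 0x80a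
noncomputable def nw_1 : ℕ := 0x5150
noncomputable def nw_2 : ℕ := 0x3001
noncomputable def nw_3 : ℕ := 0x80a
noncomputable def nw : Net := .cons 4 nw_0 <| .cons 1 nw_1 <| .cons 2 nw_2 <| .cons 4 nw_3 <| .nil
theorem vnw : Net.valid 16 nw = true := by decide +kernel
noncomputable def gensN : List Net := [nt]
noncomputable def invsN : List Net := [na, nb, nc, nd, ne, nf, ng, nh, nz, nk, nn, nu, nw, Net.nil]
noncomputable def A : ℕ → ℕ → ℕ := mkA gensN invsN
noncomputable def π : ℕ → Equiv.Perm ℕ := mkPi gensN invsN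
theorem vG : ∀ r ∈ ([nt] : List Net), Net.valid 16 r = true := by
  intro r hr
  simp only [List.mem_cons, List.not_mem_nil, or_false] at hr
  rcases hr with rfl
  · exact vnt
theorem vI : ∀ r ∈ ([na, nb, nc, nd, ne, nf, ng, nh, nz, nk, nn, nu, nw, Net.nil] : List Net), Net.valid 16 r = true := by
  intro r hr
  simp only [List.mem_cons, List.not_mem_nil, or_false] at hr
  rcases hr with rfl | rfl | rfl | rfl | rfl | rfl | rfl | rfl | rfl | rfl | rfl | rfl | rfl | rfl
  · exact vna
  · exact vnb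
  · exact vnc
  · exact vnd
  · exact vne
  · exact vnf
  · exact vng
  · exact vnh
  · exact vnz
  · exact vnk
  · exact vnn
  · exact vnu
  · exact vnw
  · rfl
theorem env : Env 16 π A := env_mk vG vI
theorem hN : 16 ≤ 2 ^ 4 := by norm_num
theorem pinv : ∀ l, π (linv 2 l) = (π l)⁻¹ := mkPi_inv' hN rfl vI (by decide +kernel)
def R : List (List ℕ) := [[2,3,2,3],
  [2,4,2,4],
  [2,5,2,5],
  [2,6,2,6],
  [2,7,2,7,10],
  [2,8,2,8,10],
  [2,9,2,9,10],
  [2,10,2,10],
  [3,4,3,4],
  [3,5,3,5],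
  [3,6,3,6,10],
  [3,7,3,7],
  [3,8,3,8,10],
  [3,9,3,9,10],
  [3,10,3,10],
  [4,5,4,5],
  [4,6,4,6,10],
  [4,7,4,7,10],
  [4,8,4,8],
  [4,9,4,9,10],
  [4,10,4,10],
  [5,6,5,6,10],
  [5,7,5,7,10],
  [5,8,5,8,10],
  [5,9,5,9],
  [5,10,5,10],
  [6,7,6,7],
  [6,8,6,8],
  [6,9,6,9],
  [6,10,6,10],
  [7,8,7,8],
  [7,9,7,9],
  [7,10,7,10],
  [8,9,8,9],
  [8,10,8,10],
  [9,10,9,10],
  [0,0,0],
  [12,11,12,11,12,11],
  [13,0,13,0,13,0],
  [14,0,14,0],
  [14,13,14,13,14,13],
  [11,13,11,13],
  [11,0,11,1],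
  [11,14,11,14],
  [12,13,12,13],
  [12,0,12,1],
  [12,14,12,14],
  [11,2,11,2],
  [11,3,11,3],
  [11,4,11,4],
  [11,5,11,5],
  [11,6,11,6,2],
  [11,7,11,7,3],
  [11,8,11,8,4],
  [11,9,11,9,5],
  [11,10,11,10],
  [12,2,12,6],
  [12,3,12,7],
  [12,4,12,8],
  [12,5,12,9],
  [12,6,12,2],
  [12,7,12,3],
  [12,8,12,4],
  [12,9,12,5],
  [12,10,12,10],
  [13,2,13,2],
  [13,3,13,4],
  [13,4,13,3],
  [13,5,13,5,4,3,2],
  [13,6,13,6],
  [13,7,13,8],
  [13,8,13,7],
  [13,9,13,9,8,7,6],
  [13,10,13,10],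
  [0,2,1,2],
  [0,3,1,3],
  [0,4,1,5],
  [0,5,1,5,4,3,2],
  [0,6,1,6],
  [0,7,1,7],
  [0,8,1,9],
  [0,9,1,9,8,7,6],
  [0,10,1,10],
  [14,2,14,3],
  [14,3,14,2],
  [14,4,14,4],
  [14,5,14,5,4,3,2],
  [14,6,14,7],
  [14,7,14,6],
  [14,8,14,8],
  [14,9,14,9,8,7,6],
  [14,10,14,10]]
def RH : List (List ℕ) := []
def HL : List ℕ := [0,1,2,3,4,5,6,7,8,9,10,11,13]
def S : List ℕ := [0,1,2,3,4,5,6,7,8,9,10,11,12,13,14]
theorem relP : ∀ r ∈ R, evw π r = 1 := env.eq_one_of_allId hN (by decide +kernel)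
def seeds : List (List ℕ) := []
theorem seeds_mem {G : Type*} [Group G] {val : ℕ → G} {H : Subgroup G} (hv : ∀ l, val (linv 2 l) = (val l)⁻¹) (he : val 16 = 1)
    (hR : ∀ r ∈ R ++ RH, evw val r = 1) (hH : ∀ l ∈ HL, val l ∈ H) : ∀ w ∈ seeds, evw val w ∈ H := by simp [seeds]
def spec : List ℕ := [294912,319490,335872,344064,344068,352256,352258,360450,368642,376832,458754,458758,466946,466950,475138,475142,483330,483334,524290,679938,679942,696322,712706,712710,729090,745474,417794,417800,425986,425992,434178,434184,442370,442376,303104,311296,327680,704514,737282,319488,335874,344066,360448,368640,368644,450562,532482,540674,540678,565250,573442,573446,598018,606210,606214,614402,614406,622598,638978,638982,647170,647174,655366,671746,671750,557058,589826,630786,630792,663554,663560]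
noncomputable def rules : List (List ℕ) := spec.map (mkRule 2 R)
noncomputable def hs : List (List ℕ) := HL.map (fun z => [z]) ++ seeds
noncomputable def D0 : ℕ := Nat.shiftLeft 1 0
noncomputable def K0 : List ℕ := List.replicate 16 0
def steps0_0 : List ℕ := [3,2,32771,49155,65539,81923,98307,114691,131075,147459,163843,180227,196611,48,56,44,52,0,4,1,2,5,2,9,13,17,21,25,29,33,2,37,41,45,49,53,57,61,65,69,73,77,81,85,89,93,97,101,105,109,113,117,121,125,129,133,137,141,54,145,149,153,157,58,5,2,9,161,13,165,2,17,25,169,173,177,181,185,189,193,197,201,205,209,213,217,221,225,229,233,237,241,245,249,253,257,141,54,261,265,269,273,277,281]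
theorem run0 : tcRun A 2 0 rules hs (steps0_0) (finSt A S (ival 0 15)) D0 K0 = true := by decide +kernel
theorem done {G : Type*} [Group G] {val : ℕ → G} {H : Subgroup G} (hv : ∀ l, val (linv 2 l) = (val l)⁻¹) (he : val 16 = 1)
    (hR : ∀ r ∈ R ++ RH, evw val r = 1) (hH : ∀ l ∈ HL, val l ∈ H) : TCDone val H π 0 S (ival 0 15) := by
  have T : TCHyp val H 16 π A 2 rules hs := tcHyp_mk env hv pinv (fun r hr => hR r (List.mem_append_left _ hr)) relP hH (seeds_mem hv he hR hH) spec
  have h0 : Inv val H π 0 D0 K0 := inv_init val H π 0 16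
  exact tcRun_fin T h0 run0
end H83.W4LC
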