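import Cfsg.Agent.H83.OrdD
import Cfsg.Agent.H83.SC3Main
import Cfsg.Agent.H83.CentFour
import Cfsg.Agent.H83.BSWD8
import Cfsg.Agent.H7.GWSpec
import Cfsg.Agent.H34.BS
import Cfsg.Agent.H61.SL2Lift
import Cfsg.Agent.H3.DSQ
import Cfsg.Agent.H8.TransferEval
import Cfsg.Agent.S0494
import Cfsg.Agent.S0495

/-! Simple groups with an element whose centralizer has order at most 4. -/

set_option autoImplicit false
set_option linter.unusedSectionVars false

namespace H83

open Subgroup Cfsg
open scoped MatrixGroups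

universe u

theorem psl_comm_of_sq {F : Type*} [Field F] {w y : PSL(2, F)} (h1 : w * w ≠ 1)
    (h : y * (w * w) = w * w * y) : y * y * w = w * (y * y) := by
  obtain ⟨W, rfl⟩ := H61.proj_surjective w
  obtain ⟨Y, rfl⟩ := H61.proj_surjective y
  have ht : H61.tr W ≠ 0 := fun e => h1 (H61.psl_mul_self_eq_one_iff.mpr (Or.inr e))
  have h2 : Y * Y * (W * W) = W * W * (Y * Y) := by
    simp only [← map_mul, H61.proj_eq_iff] at h
    rcases h with h | h
    · rw [mul_assoc, h, ← mul_assoc, h, mul_assoc]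
    · rw [mul_assoc, h, mul_neg, ← mul_assoc, h, neg_mul, neg_neg, mul_assoc]
  have h3 : Y * Y * W = W * (Y * Y) := by
    generalize Y * Y = Z at h2
    have h4 := congrArg (fun g : SL(2, F) => (g : Matrix (Fin 2) (Fin 2) F)) h2
    simp only [Matrix.SpecialLinearGroup.coe_mul Z,
      Matrix.SpecialLinearGroup.coe_mul (W * W), H61.sl_mul_self,
      mul_sub, sub_mul, mul_one, one_mul, mul_smul_comm, smul_mul_assoc, sub_left_inj] at h4
    exact Subtype.ext (smul_right_injective _ ht h4)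
  simp only [← map_mul, h3]

theorem dih_of_closure {G : Type*} [Group G] {r s : G} (h1 : s * s = 1) (h2 : s ∉ zpowers r)
    (h3 : s * r * s⁻¹ = r⁻¹) : H85.Dih (closure ({r, s} : Set G)) r s := by
  refine ⟨h1, h2, h3, fun x => ?_⟩
  rw [mem_closure_inverting_iff h3 (m := 0) (by rw [h1, zpow_zero])]
  constructor
  · rintro ⟨k, rfl | rfl⟩
    · exact Or.inl ⟨k, rfl⟩
    · exact Or.inr ⟨k, by rw [← mul_assoc, h1, one_mul]⟩
  · rintro (⟨k, hk⟩ | ⟨k, hk⟩)
    · exact ⟨k, Or.inl hk.symm⟩
    · exact ⟨k, Or.inr (by rw [show r ^ k = _ from hk, ← mul_assoc, h1, one_mul])⟩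

theorem dsq_closure {G : Type*} [Group G] {m : ℕ} {a b : G} (h : H3.DSQ m a b) :
    closure ({a, b} : Set G) = ⊤ := by
  have ha : a ∈ closure ({a, b} : Set G) := Subgroup.subset_closure (by simp)
  have hb : b ∈ closure ({a, b} : Set G) := Subgroup.subset_closure (by simp)
  refine eq_top_iff.mpr fun x _ => ?_
  rcases h.eq_zpow_or x with ⟨i, rfl⟩ | ⟨i, rfl⟩
  exacts [zpow_mem ha i, mul_mem (zpow_mem ha i) hb]

variable {G : Type u} [Group G] [Finite G] [IsSimpleGroup G]

theorem not_isCyclic_sylow_two (hna : ¬ IsMulCommutative G) (S : Sylow 2 G) (h2 : 2 ∣ Nat.card G) :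
    ¬ IsCyclic (S : Subgroup G) := fun h =>
  H87.not_normalizer_le_centralizer hna h2 S
    (h.normalizer_le_centralizer ((Nat.minFac_eq_two_iff _).mpr h2))

theorem index_ne_two' (hna : ¬ IsMulCommutative G) (N : Subgroup G) (hN : N.Normal) :
    N.index ≠ 2 :=
  index_ne_two_of_simple (fun e => H87.not_isPGroup hna 2 (IsPGroup.of_card (n := 1) e)) N hN

theorem alt5_of_cent_four (hna : ¬ IsMulCommutative G) {w : G} (h1 : w ≠ 1)
    (hC : IsKleinFour (centralizer ({w} : Set G))) : Nonempty (G ≃* alternatingGroup (Fin 5)) := by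
  have hw : orderOf w = 2 := loc_orderOf_two h1 (congrArg Subtype.val
    (IsKleinFour.mul_self (⟨w, mem_cent_iff.mpr rfl⟩ : centralizer ({w} : Set G))))
  rcases cent_four_trichotomy hw hC with ⟨P, N, hN, h⟩ | ⟨E, hE, -, h⟩ | h
  · rcases hN.eq_bot_or_eq_top with rfl | rfl
    · exact absurd (IsPGroup.of_surjective P.isPGroup' (P : Subgroup G).subtype
        (fun g => ⟨⟨g, (isComplement'_bot_left.mp h).ge trivial⟩, rfl⟩)) (H87.not_isPGroup hna 2)
    · obtain ⟨Q, hQ⟩ := H87.exists_sylow_mem_of_orderOf hw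
      have h3 := H87.card_sylow_eq_card_sylow P Q
      rw [isComplement'_top_left.mp h, card_bot] at h3
      exact absurd ((eq_bot_of_card_eq _ h3.symm).le hQ) h1
  · rcases hE.eq_bot_or_eq_top with rfl | rfl
    · rw [card_bot] at h; omega
    · rw [card_top] at h
      rcases h with h | h
      · exact absurd (IsPGroup.of_card (n := 1) h) (H87.not_isPGroup hna 2)
      · exact absurd (IsPGroup.of_card (n := 2) h) (H87.not_isPGroup hna 2)
  · exact h

theorem not_sd_of_cent (hna : ¬ IsMulCommutative G) (S : Sylow 2 G) {m : ℕ}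
    {a b w : (S : Subgroup G)} (h : H3.DSQ m a b) (hm : 2 ≤ m) (hb : b ^ 2 = 1)
    (hab : b * a * b⁻¹ = a ^ (2 ^ m - 1)) (h2 : w * w ≠ 1) (h4 : w ^ 4 = 1)
    (hw : Nat.card (centralizer ({(w : G)} : Set G)) = 4) : False := by
  have hD := dih_of_closure (r := a ^ 2) (s := b) ((pow_two b).symm.trans hb)
    (fun e => h.notMem (zpowers_le.mpr (pow_mem (mem_zpowers a) 2) e)) (h.conj_sq h.notMem)
  set M := closure ({a ^ 2, b} : Set (S : Subgroup G))
  have h1 := M.card_mul_index
  rw [hD.card, h.orderOf_sq, h.card] at h1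
  have h3 : M.index = 2 := by
    rw [show 2 ^ (m + 2) = 2 * 2 ^ m * 2 by ring] at h1
    exact Nat.eq_of_mul_eq_mul_left (by positivity) h1
  obtain ⟨N, hN, hi, -⟩ := H8.thompson_transfer_general (S : Subgroup G)
    (M.map (S : Subgroup G).subtype) (Nat.odd_iff.mpr (Nat.two_dvd_ne_zero.mp S.not_dvd_index))
    (by rw [relIndex, subgroupOf, comap_map_eq_self_of_injective (subtype_injective _), h3]) w
    (by
      rintro k g ⟨j, rfl⟩ ⟨x, hx, e⟩
      have e1 : ((w ^ (2 * j + 1) : (S : Subgroup G)) : G) = g * x * g⁻¹ := by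
        rw [show (x : G) = _ from e]; simp [mul_assoc]
      have e2 : w ^ (2 * j + 1) * w ^ (2 * j + 1) = w * w := by
        rw [← pow_add, show 2 * j + 1 + (2 * j + 1) = 4 * j + 2 by ring, pow_add, pow_mul, h4,
          one_pow, one_mul, pow_two]
      have e3 : x * x ≠ 1 := fun e3 => h2 (Subtype.ext (by
        rw [← e2, coe_mul, e1, conj_mul, ← coe_mul, e3]; simp))
      have e4 : zpowers (a : G) ≤ centralizer ({(x : G)} : Set G) := by
        obtain ⟨i, rfl⟩ := hD.mem_zpowers_of_sq_ne hx e3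
        exact zpowers_le.mpr (mem_cent_iff.mpr (((Commute.refl (a : G)).pow_right 2).zpow_right i))
      have e5 : centralizer ({g * x * g⁻¹} : Set G) ≤ centralizer ({(w : G)} : Set G) := by
        intro y hy
        rw [← e1] at hy
        have e6 : (w ^ (2 * j + 1)) ^ (2 * j + 1) = w := by
          rw [← pow_mul, show (2 * j + 1) * (2 * j + 1) = 4 * (j * j + j) + 1 by ring, pow_succ,
            pow_mul, h4, one_pow, one_mul]
        rw [← e6]
        exact mem_cent_iff.mpr ((mem_cent_iff.mp hy).pow_right _)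
      have e6 := card_le_of_le e4
      have e7 := card_le_of_le e5
      rw [H87.card_centralizer_conj, hw] at e7
      rw [Nat.card_zpowers, Subgroup.orderOf_coe, h.ord] at e6
      have : 2 ^ 3 ≤ 2 ^ (m + 1) := Nat.pow_le_pow_right (by norm_num) (by omega)
      omega)
    (by
      rintro k g ⟨j, rfl⟩ hx
      refine ⟨⟨_, hx⟩, ?_, rfl⟩
      have e1 : (⟨_, hx⟩ : (S : Subgroup G)) * ⟨_, hx⟩ = 1 := Subtype.ext (by
        have : (w : G) ^ 4 = 1 := congrArg Subtype.val h4
        change g⁻¹ * (w : G) ^ (j + j) * g * (g⁻¹ * (w : G) ^ (j + j) * g) = 1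
        rw [show g⁻¹ * (w : G) ^ (j + j) * g * (g⁻¹ * (w : G) ^ (j + j) * g) =
          g⁻¹ * ((w : G) ^ 4) ^ j * g by group, this]; group)
      generalize (⟨_, hx⟩ : (S : Subgroup G)) = x at e1
      have key : ∀ i : ℤ, ∀ n : ℕ, n ≤ m → a ^ (i * 2 ^ n) = 1 → a ^ i ∈ M := by
        intro i n hn e
        rw [← orderOf_dvd_iff_zpow_eq_one, h.ord] at e
        obtain ⟨l, rfl⟩ : (2 : ℤ) ∣ i := by
          have e2 : (2 : ℤ) * 2 ^ n ∣ i * 2 ^ n :=
            (show (2 : ℤ) * 2 ^ n ∣ ((2 ^ (m + 1) : ℕ) : ℤ) by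
              rw [← pow_succ']; exact_mod_cast pow_dvd_pow 2 (by omega)).trans e
          exact (mul_dvd_mul_iff_right (by positivity)).mp e2
        rw [zpow_mul]
        exact zpow_mem (by exact_mod_cast hD.r_mem) l
      rcases h.eq_zpow_or x with ⟨i, rfl⟩ | ⟨i, rfl⟩
      · exact key i 1 (by omega) (by rw [pow_one, mul_two, zpow_add, e1])
      · refine mul_mem (key i m le_rfl ?_) hD.s_mem
        have e2 : b⁻¹ = b := inv_eq_of_mul_eq_one_right ((pow_two b).symm.trans hb)
        rw [← e1, mul_assoc, ← mul_assoc b]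
        nth_rw 2 [← e2]
        rw [← conj_zpow, hab, ← zpow_natCast, ← zpow_mul, ← zpow_add,
          Nat.cast_sub Nat.one_le_two_pow]
        congr 1
        push_cast
        ring)
  exact index_ne_two' hna N hN hi

theorem d8_of_cent (hG : H7.GW.GWSimple.{u}) (hna : ¬ IsMulCommutative G) (S : Sylow 2 G) {a b : G}
    (hD : H85.Dih (S : Subgroup G) a b) (ha : orderOf a = 4)
    (hC : Nat.card (centralizer ({a} : Set G)) = 4) :
    Nonempty (G ≃* alternatingGroup (Fin 6)) ∨ Nonempty (G ≃* alternatingGroup (Fin 7)) ∨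
      ∃ (F : Type) (_ : Field F) (_ : Fintype F), Fintype.card F = 7 ∧ Nonempty (G ≃* PSL(2, F)) := by
  have h1 : a * a ≠ 1 := fun e => by
    have := orderOf_dvd_of_pow_eq_one ((pow_two a).trans e)
    rw [ha] at this; omega
  have ht : orderOf (a * a) = 2 := loc_orderOf_two h1 (by
    rw [← pow_orderOf_eq_one a, ha, pow_succ, pow_three]; group)
  have hta : a * a ∈ zpowers a := mul_mem (mem_zpowers a) (mem_zpowers a)
  rcases hG G hna (fun T => by
    obtain ⟨g, rfl⟩ := MulAction.exists_smul_eq G S T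
    exact ⟨_, g * (a * a) * g⁻¹, _, hD.conj g, (orderOf_conj _ _).trans ht,
      by rw [← conj_mul]; exact mul_mem (mem_zpowers _) (mem_zpowers _)⟩) with ⟨F, _, _, -, -, ⟨e⟩⟩ | h7
  swap
  · exact Or.inr (Or.inl h7)
  have h2 : centralizer ({a * a} : Set G) = S := by
    refine le_antisymm (fun g hg => ?_) fun x hx => mem_cent_iff.mpr (hD.comm_of_ord2 hta ht hx)
    obtain ⟨_, ⟨o, ho, rfl⟩, u, hu, rfl⟩ := cent_decomp_of_dih S hD ht hta (mem_cent_iff.mp hg)
    have h3 : Odd (orderOf (o : G)) := by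
      rw [Subgroup.orderOf_coe]
      exact Odd.of_dvd_nat (H2.odd_card_oddCore _) (orderOf_dvd_natCard _ ho)
    have h4 := psl_comm_of_sq (w := e a) (y := e o) (by rwa [← map_mul, map_ne_one_iff _ e.injective])
      (by rw [← map_mul, ← map_mul, ← map_mul, mem_cent_iff.mp o.2])
    rw [← map_mul, ← map_mul, ← map_mul, e.injective.eq_iff] at h4
    have h5 := orderOf_dvd_natCard _ (zpowers_le.mpr (mem_cent_iff.mpr h4) (loc_mem_zpowers_sq h3))
    rw [hC] at h5
    have h6 : (o : G) = 1 := orderOf_eq_one_iff.mp (Nat.Coprime.eq_one_of_dvd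
      (Nat.Coprime.pow_right 2 (Nat.coprime_two_right.mpr h3)) h5)
    change (o : G) * u ∈ _
    rwa [h6, one_mul]
  obtain ⟨e'⟩ := nonempty_closure_equiv_dihedral a b ha hD.sq hD.rel hD.notMem
  have h3 : closure ({a, b} : Set G) = S := Subgroup.ext fun x =>
    ((dih_of_closure hD.sq hD.notMem hD.rel).mem x).trans (hD.mem x).symm
  rcases alt6_or_psl7_of_centralizer ht ((MulEquiv.subgroupCongr (h2.trans h3.symm)).trans e')
    (index_ne_two' hna) with h | h
  exacts [Or.inl h, Or.inr (Or.inr h)]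

theorem s3280_of (hGW : H7.GW.GWSimple.{u}) (hG : ¬ IsCyclic G) (w : G)
    (hw : Nat.card ↥(centralizer ({w} : Set G)) ≤ 4) :
    Nonempty (G ≃* ↥(alternatingGroup (Fin 5))) ∨ Nonempty (G ≃* ↥(alternatingGroup (Fin 6))) ∨
      Nonempty (G ≃* ↥(alternatingGroup (Fin 7))) ∨
      (∃ (F : Type) (_ : Field F) (_ : Fintype F), Fintype.card F = 7 ∧
        Nonempty (G ≃* PSL(2, F))) := by
  have hna := H87.nonabelian_of_not_isCyclic hG
  have hwC : w ∈ centralizer ({w} : Set G) := mem_cent_iff.mpr rfl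
  have h0 : 0 < Nat.card (centralizer ({w} : Set G)) := Nat.card_pos
  have h1 : w ≠ 1 := by
    rintro rfl
    rw [show centralizer ({1} : Set G) = ⊤ from eq_top_iff.mpr fun g _ =>
      mem_cent_iff.mpr (Commute.one_right g), card_top] at hw h0
    interval_cases h : Nat.card G
    · exact H87.not_isPGroup hna 2 (IsPGroup.of_card (n := 0) h)
    · exact H87.not_isPGroup hna 2 (IsPGroup.of_card (n := 1) h)
    · exact H87.not_isPGroup hna 3 (IsPGroup.of_card (n := 1) h)
    · exact H87.not_isPGroup hna 2 (IsPGroup.of_card (n := 2) h)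
  have h2 : Nat.card (centralizer ({w} : Set G)) ≠ 1 := fun e =>
    h1 ((eq_bot_of_card_eq _ e).le hwC)
  by_cases h3 : Nat.card (centralizer ({w} : Set G)) = 3
  · have h4 := H87.zpowers_eq_of_mem_prime h3 hwC h1
    rcases SC3.card_of_simple ⟨H87.orderOf_eq_of_mem_prime h3 hwC h1,
      fun g hg => h4.ge (mem_cent_iff.mpr hg)⟩ (fun hn => by
        rcases hn.eq_bot_or_eq_top with e | e
        · exact h1 (e.le (mem_zpowers w))
        · exact hG ⟨w, fun g => e.ge trivial⟩) with e | e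
    · exact Or.inl (Cfsg.Agent.S0494.result e)
    · exact Or.inr (Or.inr (Or.inr ⟨ZMod 7, inferInstance, inferInstance, rfl,
        Cfsg.Agent.S0495.result e rfl⟩))
  by_cases h4 : IsKleinFour (centralizer ({w} : Set G))
  · exact Or.inl (alt5_of_cent_four hna h1 h4)
  have h5 : Nat.card (centralizer ({w} : Set G)) = 2 ^ 1 ∨
      Nat.card (centralizer ({w} : Set G)) = 2 ^ 2 := by omega
  have h6 : IsCyclic (centralizer ({w} : Set G)) := by
    rcases h5 with e | e
    · exact isCyclic_of_prime_card (p := 2) e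
    · by_contra e1
      exact h4 ⟨e, (not_isCyclic_iff_exponent_eq_prime Nat.prime_two e).mp e1⟩
  obtain ⟨S, hS⟩ := (h5.elim IsPGroup.of_card IsPGroup.of_card).exists_le_sylow
  have h7 := not_isCyclic_sylow_two hna S ((show 2 ∣ _ by omega).trans
    (card_subgroup_dvd_card (centralizer ({w} : Set G))))
  have h8 : ¬ (S : Subgroup G) ≤ centralizer ({w} : Set G) := fun e =>
    h7 (le_antisymm hS e ▸ h6)
  have h9 : ∀ x ∈ centralizer ({w} : Set G), ∀ y ∈ centralizer ({w} : Set G), orderOf x = 2 →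
      orderOf y = 2 → x = y := fun x hx y hy ox oy => by
    obtain ⟨c, hc⟩ := (isCyclic_iff_exists_zpowers_eq_top.mp h6)
    have := H8.eq_of_mem_zpowers_of_orderOf_two (a := c) (x := ⟨x, hx⟩) (y := ⟨y, hy⟩)
      (hc.ge trivial) (hc.ge trivial) ((Subgroup.orderOf_mk _ _).trans ox)
      ((Subgroup.orderOf_mk _ _).trans oy)
    exact congrArg Subtype.val this
  have h10 : w * w ≠ 1 := fun e => by
    have : Nontrivial (S : Subgroup G) := ⟨⟨⟨w, hS hwC⟩, 1, fun e => h1 (congrArg Subtype.val e)⟩⟩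
    have := S.isPGroup'.center_nontrivial
    obtain ⟨z, hz⟩ := exists_prime_orderOf_dvd_card' (G := center (S : Subgroup G)) 2 (by
      obtain ⟨n, hn, e⟩ := (S.isPGroup'.to_subgroup (center _)).nontrivial_iff_card.mp this
      exact e ▸ dvd_pow_self 2 hn.ne')
    have hc : ∀ s ∈ (S : Subgroup G), s * z = z * s := fun s hs =>
      congrArg Subtype.val (mem_center_iff.mp z.2 ⟨s, hs⟩)
    rw [← Subgroup.orderOf_coe, ← Subgroup.orderOf_coe] at hz
    have := h9 _ (mem_cent_iff.mpr (hc w (hS hwC)).symm) w hwC hz (loc_orderOf_two h1 e)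
    exact h8 fun s hs => mem_cent_iff.mpr (this ▸ hc s hs)
  have h11 : Nat.card (centralizer ({w} : Set G)) = 4 := h5.resolve_left fun e => h10 (by
    rw [← pow_two]; exact orderOf_dvd_iff_pow_eq_one.mp ((orderOf_dvd_natCard _ hwC).trans e.dvd))
  have h12 : w ^ 4 = 1 := orderOf_dvd_iff_pow_eq_one.mp ((orderOf_dvd_natCard _ hwC).trans h11.dvd)
  obtain ⟨m, a, b, h⟩ := H3.exists_dsq_of_card_centralizer S.isPGroup' (fun e => h8 fun s hs =>
    mem_cent_iff.mpr (congrArg Subtype.val (e.is_comm.comm (⟨s, hs⟩ : (S : Subgroup G)) ⟨w, hS hwC⟩)))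
    (x := ⟨w, hS hwC⟩) (by
      rw [← h11, ← Ord.card_sub hS]
      congr 2
      ext g
      simp only [mem_subgroupOf, mem_cent_iff, Commute, SemiconjBy, Subtype.ext_iff, coe_mul])
  rcases h.cases with ⟨hb, hab⟩ | ⟨hb, hab⟩ | ⟨hm, hb, hab⟩
  · have hD : H85.Dih (S : Subgroup G) a b := by
      have := (dih_of_closure ((pow_two b).symm.trans hb) h.notMem hab).map
        (S : Subgroup G).subtype (subtype_injective _)
      rwa [dsq_closure h,
        ← MonoidHom.range_eq_map, range_subtype] at this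
    have e1 := hD.mem_zpowers_of_sq_ne (hS hwC) h10
    have e2 : zpowers (a : G) ≤ centralizer ({w} : Set G) := by
      obtain ⟨i, rfl⟩ := e1
      exact zpowers_le.mpr (mem_cent_iff.mpr ((Commute.refl (a : G)).zpow_right i))
    have e3 : orderOf (a : G) = 4 := by
      have e4 := card_le_of_le e2
      rw [Nat.card_zpowers, h11] at e4
      rw [Subgroup.orderOf_coe, h.ord] at e4 ⊢
      have := h.one_le
      have : 2 ^ 2 ≤ 2 ^ (m + 1) := Nat.pow_le_pow_right (by norm_num) (by omega)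
      omega
    refine Or.inr (d8_of_cent hGW hna S hD e3 (le_antisymm (h11 ▸ card_le_of_le fun g hg => ?_)
      (e3 ▸ Nat.card_zpowers (a : G) ▸ card_le_of_le (zpowers_le.mpr (mem_cent_iff.mpr rfl)))))
    obtain ⟨i, rfl⟩ := e1
    exact mem_cent_iff.mpr ((mem_cent_iff.mp hg).zpow_right i)
  · obtain ⟨n, rfl⟩ : ∃ n, m = n + 1 := ⟨m - 1, by have := h.one_le; omega⟩
    obtain ⟨e⟩ := nonempty_equiv_quaternion (n := 2 ^ (n + 1)) a b (h.ord.trans (pow_succ' 2 _))
      ((pow_two b).symm.trans hb) hab h.notMem (dsq_closure h)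
    have := H34.brauerSuzuki G S n e fun N hN ho => hN.eq_bot_or_eq_top.resolve_right fun e => by
      rw [e, card_top] at ho
      exact absurd (Odd.of_dvd_nat ho (card_subgroup_dvd_card (centralizer ({w} : Set G))))
        (by rw [h11]; decide)
    rw [H87.center_eq_bot hna, card_bot] at this
    omega
  · exact (not_sd_of_cent hna S (w := ⟨w, hS hwC⟩) h hm hb hab
      (fun e => h10 (congrArg Subtype.val e)) (Subtype.ext h12) h11).elim

end H83
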