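/- Solvable linear groups transitive on points and on lines. -/
import Cfsg.Agent.H90.Huppert
import Cfsg.Agent.H4.Hall
import Cfsg.Agent.H57.PslAutTwo
import Cfsg.Prelude.Def_Perm

set_option autoImplicit false
set_option linter.unusedSectionVars false

namespace H83
open Cfsg Subgroup
open scoped Pointwise

section Count
variable {P : Type*} [CommGroup P] [Finite P] {p : ℕ} [hp : Fact p.Prime]

/-- independent pairs in `W` -/
def w6X (W : Subgroup P) : Set (P × P) := {x | x.1 ∈ W ∧ x.2 ∈ W ∧ x.1 ≠ 1 ∧ x.2 ∉ zpowers x.1}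

theorem w6_card_zpowers (he : ∀ x : P, x ^ p = 1) {x : P} (hx : x ≠ 1) :
    Nat.card (zpowers x) = p := by
  rw [Nat.card_zpowers, orderOf_eq_prime (he x) hx]

theorem w6X_card (he : ∀ x : P, x ^ p = 1) (W : Subgroup P) :
    (w6X W).ncard = (Nat.card W - 1) * (Nat.card W - p) := by
  classical
  have := Fintype.ofFinite P
  have h1 : ((W : Set P) \ {1}).toFinset.card = Nat.card W - 1 := by
    rw [← Set.ncard_eq_toFinset_card', Set.ncard_sdiff_singleton_of_mem W.one_mem]; rfl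
  rw [Set.ncard_eq_toFinset_card', Finset.card_eq_sum_card_fiberwise (f := Prod.fst)
    (t := ((W : Set P) \ {1}).toFinset) (fun x hx => by
      have := Set.mem_toFinset.1 hx
      simpa using ⟨this.1, this.2.2.1⟩), ← h1, ← smul_eq_mul, ← Finset.sum_const]
  refine Finset.sum_congr rfl fun v hv => ?_
  obtain ⟨hv, v1⟩ := Set.mem_toFinset.1 hv
  have h2 : ((W : Set P) \ (zpowers v : Set P)).ncard = Nat.card W - p := by
    rw [Set.ncard_sdiff (show (zpowers v : Set P) ⊆ W from zpowers_le.2 hv),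
      ← w6_card_zpowers he v1]; rfl
  rw [← h2, Set.ncard_eq_toFinset_card']
  refine Finset.card_bij (fun x _ => x.2) (fun x hx => ?_) (fun x hx y hy e => ?_) fun w hw => ?_
  · obtain ⟨a, rfl⟩ := Finset.mem_filter.1 hx
    have := Set.mem_toFinset.1 a
    exact Set.mem_toFinset.2 ⟨this.2.1, this.2.2.2⟩
  · exact Prod.ext ((Finset.mem_filter.1 hx).2.trans (Finset.mem_filter.1 hy).2.symm) e
  · have := Set.mem_toFinset.1 hw
    exact ⟨(v, w), Finset.mem_filter.2 ⟨Set.mem_toFinset.2 ⟨hv, this.1, v1, this.2⟩, rfl⟩, rfl⟩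

theorem w6_card_span (he : ∀ x : P, x ^ p = 1) {W : Subgroup P} {x : P × P} (hx : x ∈ w6X W) :
    Nat.card (zpowers x.1 ⊔ zpowers x.2 : Subgroup P) = p ^ 2 := by
  have h2 : x.2 ≠ 1 := fun e => hx.2.2.2 (e ▸ one_mem _)
  have h := H4.card_sup_mul_card_inf (zpowers x.1) (zpowers x.2)
  have : Fact (Nat.card (zpowers x.2)).Prime := ⟨by rw [w6_card_zpowers he h2]; exact hp.out⟩
  have hb : zpowers x.1 ⊓ zpowers x.2 = ⊥ := by
    rcases ((zpowers x.1).subgroupOf (zpowers x.2)).eq_bot_or_eq_top_of_prime_card with e | e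
    · exact disjoint_iff.1 (subgroupOf_eq_bot.1 e)
    · exact absurd (subgroupOf_eq_top.1 e (mem_zpowers _)) hx.2.2.2
  rwa [hb, card_bot, mul_one, w6_card_zpowers he hx.2.2.1, w6_card_zpowers he h2, ← pow_two] at h

theorem w6_count (he : ∀ x : P, x ^ p = 1) :
    (Nat.card P - 1) * (Nat.card P - p) =
      {W : Subgroup P | Nat.card W = p ^ 2}.ncard * ((p ^ 2 - 1) * (p ^ 2 - p)) := by
  classical
  have := Fintype.ofFinite P
  have := Fintype.ofFinite (Subgroup P)
  rw [← card_top (G := P), ← w6X_card he, Set.ncard_eq_toFinset_card', Set.ncard_eq_toFinset_card',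
    Finset.card_eq_sum_card_fiberwise (f := fun x => zpowers x.1 ⊔ zpowers x.2)
    (t := {W : Subgroup P | Nat.card W = p ^ 2}.toFinset) (fun x hx => by
      simpa using w6_card_span he (Set.mem_toFinset.1 hx)), ← smul_eq_mul, ← Finset.sum_const]
  refine Finset.sum_congr rfl fun W hW => ?_
  have hW : Nat.card W = p ^ 2 := by simpa using hW
  rw [← hW, ← w6X_card he, Set.ncard_eq_toFinset_card']
  congr 1
  ext x
  rw [Finset.mem_filter, Set.mem_toFinset, Set.mem_toFinset]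
  refine ⟨fun ⟨a, b⟩ => ⟨b ▸ mem_sup_left (mem_zpowers _), b ▸ mem_sup_right (mem_zpowers _),
    a.2.2⟩, fun a => ⟨⟨mem_top _, mem_top _, a.2.2⟩, eq_of_le_of_card_ge
      (sup_le (zpowers_le.2 a.1) (zpowers_le.2 a.2.1)) (by rw [hW, w6_card_span he a])⟩⟩

theorem w6_dvd (he : ∀ x : P, x ^ p = 1) (h2 : p ^ 2 ∣ Nat.card P) (Γ : Subgroup (MulAut P))
    (ht : ∀ W W' : Subgroup P, Nat.card W = p ^ 2 → Nat.card W' = p ^ 2 → ∃ g ∈ Γ, g • W = W')
    {Z : Subgroup (MulAut P)} (hZ : Z ≤ Γ) (hz : ∀ z ∈ Z, ∀ W : Subgroup P, z • W = W) :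
    (Nat.card P - 1) * (Nat.card P - p) * Nat.card Z ∣ Nat.card Γ * ((p ^ 2 - 1) * (p ^ 2 - p)) := by
  obtain ⟨W, hW⟩ := Sylow.exists_subgroup_card_pow_prime p h2
  have e : {W : Subgroup P | Nat.card W = p ^ 2} = MulAction.orbit Γ W := by
    ext W'
    refine ⟨fun h => ?_, ?_⟩
    · obtain ⟨g, hg, e⟩ := ht W W' hW h
      exact ⟨⟨g, hg⟩, e⟩
    · rintro ⟨g, rfl⟩
      exact (Nat.card_congr (equivSMul (g : MulAut P) W).toEquiv).symm.trans hW
  have h3 : Nat.card Z ∣ Nat.card (MulAction.stabilizer Γ W) := by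
    rw [← Nat.card_congr (subgroupOfEquivOfLe hZ).toEquiv]
    exact card_dvd_of_le fun z hz' => hz z hz' W
  rw [w6_count he, e, mul_right_comm, ← (MulAction.stabilizer Γ W).index_mul_card,
    MulAction.index_stabilizer]
  exact mul_dvd_mul_right (mul_dvd_mul_left _ h3) _

end Count

theorem w6_num {p m z : ℕ} (hp : p.Prime) (hm : 2 ≤ m) (hz : p = 3 → 2 ∣ z)
    (h : (p ^ (m + 1) - 1) * (p ^ (m + 1) - p) * z ∣
      (p ^ (m + 1) - 1) * (m + 1) * ((p ^ 2 - 1) * (p ^ 2 - p))) : m = 2 ∨ (m = 4 ∧ p = 2) := by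
  obtain ⟨r, rfl⟩ : ∃ r, p = r + 1 := ⟨p - 1, by have := hp.pos; omega⟩
  have r1 : 1 ≤ r := by have := hp.two_le; omega
  have e1 : (r + 1) ^ 2 - 1 = r * (r + 2) := by rw [Nat.sub_eq_iff_eq_add (by nlinarith)]; ring
  have e2 : (r + 1) ^ 2 - (r + 1) = (r + 1) * r := by
    rw [Nat.sub_eq_iff_eq_add (by nlinarith)]; ring
  obtain ⟨A, hA⟩ : ∃ A, (r + 1) ^ m = A + 1 := ⟨_, (Nat.sub_add_cancel (Nat.one_le_pow _ _ hp.pos)).symm⟩
  have e3 : (r + 1) ^ (m + 1) - (r + 1) = (r + 1) * A := by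
    rw [pow_succ, hA, Nat.sub_eq_iff_eq_add (by nlinarith)]; ring
  have h0 : 0 < (r + 1) ^ (m + 1) - 1 := by
    have := Nat.one_lt_pow (n := m + 1) (by omega) hp.one_lt; omega
  rw [e1, e2, e3, mul_assoc, mul_assoc, mul_assoc, Nat.mul_dvd_mul_iff_left h0,
    show (m + 1) * (r * (r + 2) * ((r + 1) * r)) = (r + 1) * ((m + 1) * (r * (r + 2) * r)) by ring,
    Nat.mul_dvd_mul_iff_left (by omega)] at h
  have h1 := (dvd_mul_right A z).trans h
  have h2 := Nat.le_of_dvd (by positivity) h1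
  rcases (show m = 2 ∨ m = 3 ∨ m = 4 ∨ 5 ≤ m by omega) with rfl | rfl | rfl | h5
  · exact Or.inl rfl
  · exfalso
    have : A = r * (r * r + 3 * r + 3) := by nlinarith
    rw [this, show (3 + 1) * (r * (r + 2) * r) = r * (4 * (r * (r + 2))) by ring,
      Nat.mul_dvd_mul_iff_left r1] at h1
    have h3 : r * r + 3 * r + 3 ∣ 4 * r + 12 := (Nat.dvd_add_right h1).1 ⟨4, by ring⟩
    have h4 := Nat.le_of_dvd (by omega) h3
    have : r ≤ 3 := by nlinarith
    interval_cases r <;> omega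
  · have : A = r * (r + 2) * (r * r + 2 * r + 2) := by nlinarith
    rw [this, mul_assoc, show (4 + 1) * (r * (r + 2) * r) = r * (r + 2) * (5 * r) by ring,
      Nat.mul_dvd_mul_iff_left (by positivity)] at h
    have h4 := Nat.le_of_dvd (by omega) ((dvd_mul_right _ z).trans h)
    have : r ≤ 2 := by nlinarith
    interval_cases r
    · exact Or.inr ⟨rfl, rfl⟩
    · obtain ⟨k, rfl⟩ := hz rfl
      obtain ⟨c, hc⟩ := h
      have : 10 = 20 * (k * c) := by linarith
      omega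
  exfalso
  obtain ⟨k, rfl⟩ : ∃ k, m = k + 5 := ⟨m - 5, by omega⟩
  rcases (show r = 1 ∨ 2 ≤ r by omega) with rfl | r2
  · have : k < 2 ^ k := Nat.lt_two_pow_self
    rw [pow_add] at hA
    norm_num at hA h2
    omega
  · have a1 : k < 3 ^ k := Nat.lt_pow_self (by norm_num)
    have a2 : 3 ^ k ≤ (r + 1) ^ k := Nat.pow_le_pow_left (by omega) k
    have a3 : 9 ≤ (r + 1) ^ 2 := by nlinarith
    have a4 : k + 5 + 1 ≤ (r + 1) ^ k * (r + 1) ^ 2 := by nlinarith
    have a5 : r * (r + 2) * r + 1 ≤ (r + 1) ^ 3 := by nlinarith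
    have a6 : A + 1 = (r + 1) ^ k * (r + 1) ^ 2 * (r + 1) ^ 3 := by rw [← hA]; ring
    have a7 := Nat.mul_le_mul a4 a5
    nlinarith

theorem w6_not81 {G V : Type*} [Group G] [Finite G] [Group.IsSolvable G] [AddCommGroup V] [Finite V]
    [DistribMulAction G V] [FaithfulSMul G V] (hV : Nat.card V = 3 ^ 4) (h5 : 5 ∣ Nat.card G)
    (h13 : 13 ∣ Nat.card G) : False := by
  have p5 : Fact (Nat.Prime 5) := ⟨by norm_num⟩
  have p13 : Fact (Nat.Prime 13) := ⟨by norm_num⟩
  have ppd : H90.Ppd 3 4 5 := ⟨p5.out, by norm_num, fun j h1 h2 => by interval_cases j <;> norm_num⟩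
  have free : ∀ (M : Subgroup G), IsPGroup 5 M → ∀ S : Set V, 0 ∉ S → (∀ g ∈ M, ∀ v ∈ S, g • v ∈ S) →
      Nat.card M ∣ S.ncard := fun M hM S h0 hS => by
    refine H11.card_dvd_ncard_of_free S (fun g v hv => hS g g.2 v hv) fun g v hv e => ?_
    by_contra g1
    obtain ⟨k, hk⟩ := IsPGroup.iff_orderOf.1 hM g
    have o := orderOf_pow_orderOf_div (x := g) (n := 5) (orderOf_pos g).ne' (by
      rw [hk]; exact dvd_pow_self 5 fun e => g1 (by rwa [e, pow_zero, orderOf_eq_one_iff] at hk))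
    refine h0 (ppd.fpf Nat.prime_three hV (g := ((g ^ (orderOf g / 5) : M) : G))
      (by rw [orderOf_coe, o]) (v := v) ?_ ▸ hv)
    exact (MulAction.stabilizer M v).pow_mem e _
  have key : ∀ (R : Subgroup G) (h : G), IsPGroup 13 R → R ≠ ⊥ → orderOf h = 5 →
      h ∈ normalizer (R : Set G) → False := fun R h hR R1 o hn => by
    let C : AddSubgroup V := FixedPoints.addSubgroup R V
    have c1 : Nat.card V ≡ Nat.card C [MOD 13] := hR.card_modEq_card_fixedPoints V
    obtain ⟨i, hi, hc⟩ := (Nat.dvd_prime_pow Nat.prime_three).1 (hV ▸ C.card_addSubgroup_dvd_card)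
    have c2 : i ≠ 4 := fun e => R1 (eq_bot_iff.2 fun g hg => by
      have := AddSubgroup.eq_top_of_card_eq C (by rw [hc, hV, e])
      exact eq_of_smul_eq_smul (α := V) fun v => by
        rw [one_smul]
        exact (show v ∈ C from this ▸ AddSubgroup.mem_top v) ⟨g, hg⟩)
    have d := free (zpowers h) (IsPGroup.of_card (n := 1) (by rw [Nat.card_zpowers, o, pow_one]))
      ((C : Set V) \ {0}) (fun h => h.2 rfl) fun g hg v hv => ⟨fun r => ?_, fun e => hv.2
        ((smul_eq_zero_iff_eq g).1 e)⟩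
    · rw [Set.ncard_sdiff_singleton_of_mem C.zero_mem, Nat.card_zpowers, o] at d
      change 5 ∣ Nat.card C - 1 at d
      rw [hV, hc] at c1
      rw [hc] at d
      interval_cases i <;> first | omega | (simp [Nat.ModEq] at c1)
    · have := hv.1 ⟨_, (mem_normalizer_iff''.1 (zpowers_le.2 hn hg) r).1 r.2⟩
      change (g⁻¹ * r * g) • v = v at this
      change (r : G) • g • v = g • v
      rw [mul_assoc, mul_smul, inv_smul_eq_iff, mul_smul] at this
      exact this
  obtain ⟨K, hK1, hK2⟩ := H4.exists_isPiHall {5, 13} G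
  have dv : ∀ r : ℕ, r.Prime → r ∈ ({5, 13} : Set ℕ) → r ∣ Nat.card G → r ∣ Nat.card K :=
    fun r hr h1 h2 => ((Nat.Prime.dvd_mul hr).1 (K.card_mul_index ▸ h2)).resolve_right (hK2 r hr h1)
  obtain ⟨h, ho⟩ := exists_prime_orderOf_dvd_card' 5 (dv 5 p5.out (by simp) h5)
  obtain ⟨g, go⟩ := exists_prime_orderOf_dvd_card' 13 (dv 13 p13.out (by simp) h13)
  have : Nontrivial K := ⟨h, 1, fun e => by simp [e] at ho⟩
  obtain ⟨r, M, hr, hn, -, M1, -, hM, -⟩ := H2.exists_elementaryAbelian_normal_le (⊤ : Subgroup K)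
    top_ne_bot
  have := Fact.mk hr
  have M1' : M.map K.subtype ≠ ⊥ := by rwa [Ne, map_eq_bot_iff_of_injective _ K.subtype_injective]
  have hN : ∀ k : K, (k : G) ∈ normalizer (M.map K.subtype : Set G) := fun k => by
    have := le_normalizer_map (H := M) K.subtype
    exact this ⟨k, by rw [normalizer_eq_top]; exact mem_top _, rfl⟩
  rcases hK1 r hr ((hM.card_eq_or_dvd.resolve_left fun e => M1 (eq_bot_of_card_eq _ e)).trans
    M.card_subgroup_dvd_card) with rfl | rfl
  swap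
  · exact key _ h (hM.map _) M1' (by rw [orderOf_coe, ho]) (hN h)
  have d := free _ (hM.map K.subtype) {0}ᶜ (fun h => h rfl) fun g _ v hv e =>
    hv ((smul_eq_zero_iff_eq g).1 e)
  rw [Set.ncard_compl, Set.ncard_singleton, hV, card_map_of_injective K.subtype_injective] at d
  obtain ⟨k, hk⟩ := IsPGroup.iff_card.1 hM
  have k1 : k = 1 := by
    have : k ≠ 0 := fun e => M1 (eq_bot_of_card_eq _ (by rw [hk, e, pow_zero]))
    by_contra
    exact absurd ((hk ▸ pow_dvd_pow 5 (show 2 ≤ k by omega) : 5 ^ 2 ∣ _).trans d) (by norm_num)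
  have c : ∃ x ∈ M, x ≠ 1 ∧ g * x = x * g := by
    by_contra! hc
    have := H90.card_dvd_ncard_of_conj (zpowers g) ((M : Set K) \ {1})
      (fun a _ x hx => ⟨hn.conj_mem x hx.1 a, fun e => hx.2 (by simpa using e)⟩) fun a ha x hx e => by
        by_contra a1
        have : Fact (Nat.card (zpowers g)).Prime := ⟨by rw [Nat.card_zpowers, go]; exact p13.out⟩
        rcases ((centralizer {x}).subgroupOf (zpowers g)).eq_bot_or_eq_top_of_prime_card with e' | e'
        · exact a1 (disjoint_def.1 (subgroupOf_eq_bot.1 e') (mem_centralizer_singleton_iff.2 e) ha)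
        · exact hc x hx.1 hx.2 (mem_centralizer_singleton_iff.1 (subgroupOf_eq_top.1 e' (mem_zpowers g)))
    rw [Set.ncard_sdiff_singleton_of_mem M.one_mem, Nat.card_zpowers, go] at this
    change 13 ∣ Nat.card M - 1 at this
    rw [hk, k1] at this
    norm_num at this
  obtain ⟨x, hx, x1, c⟩ := c
  refine key (zpowers (g : G)) x (IsPGroup.of_card (n := 1) (by
    rw [Nat.card_zpowers, orderOf_coe, go, pow_one])) (by
      rw [Ne, zpowers_eq_bot]; exact fun e => by simp [show g = 1 from Subtype.ext e] at go) ?_ ?_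
  · rw [orderOf_coe]
    exact orderOf_eq_prime (by rw [← pow_one 5, ← k1, ← hk]; exact congrArg Subtype.val (pow_card_eq_one' (x := (⟨x, hx⟩ : M)))) x1
  · refine centralizer_le_normalizer _ fun y hy => ?_
    obtain ⟨i, rfl⟩ := hy
    exact ((show Commute (g : G) x from congrArg Subtype.val c).zpow_left i).eq

end H83
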