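/- The semi-affine group; solvable groups transitive on the subgroups of given order of a normal
elementary abelian Sylow subgroup. -/
import Cfsg.Agent.H83.W6Lin
import Cfsg.Agent.H46.Quo
import Cfsg.Agent.H46.Nil

set_option autoImplicit false
set_option linter.unusedSectionVars false

namespace H83
open Cfsg Subgroup
open scoped Pointwise

section Semi
variable {F : Type*} [Field F]

theorem w6_semi_uniq {a a' : Fˣ} {b b' : F} {φ φ' : F ≃+* F}
    (h : ∀ x, (a : F) * φ x + b = a' * φ' x + b') : φ = φ' := by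
  have h0 := h 0
  have h1 := h 1
  simp only [map_zero, mul_zero, zero_add, map_one, mul_one] at h0 h1
  subst h0
  obtain rfl : a = a' := Units.ext (add_right_cancel h1)
  exact RingEquiv.ext fun x => mul_left_cancel₀ a.ne_zero (add_right_cancel (h x))

theorem w6_semi_ex (g : semiaffineGroup F) :
    ∃ φ : F ≃+* F, ∃ a : Fˣ, ∃ b : F, ∀ x, g.1 x = a * φ x + b := by
  obtain ⟨a, b, φ, h⟩ := g.2
  exact ⟨φ, a, b, h⟩

theorem w6_semi_choose (g : semiaffineGroup F) {φ : F ≃+* F} {a : Fˣ} {b : F}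
    (h : ∀ x, g.1 x = a * φ x + b) : (w6_semi_ex g).choose = φ := by
  obtain ⟨a', b', h'⟩ := (w6_semi_ex g).choose_spec
  exact w6_semi_uniq fun x => (h' x).symm.trans (h x)

variable (F) in
/-- the field part of a semi-affine map -/
noncomputable def w6psi : semiaffineGroup F →* RingAut F :=
  MonoidHom.mk' (fun g => (w6_semi_ex g).choose) fun g h => by
    obtain ⟨a, b, hg⟩ := (w6_semi_ex g).choose_spec
    obtain ⟨c, d, hh⟩ := (w6_semi_ex h).choose_spec
    refine w6_semi_choose (g * h) (a := a * Units.map ((w6_semi_ex g).choose : F →* F) c)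
      (b := a * (w6_semi_ex g).choose d + b) fun x => ?_
    show g.1 (h.1 x) = _ * (w6_semi_ex g).choose ((w6_semi_ex h).choose x) + _
    rw [hh, hg, map_add, map_mul, Units.val_mul, Units.coe_map, MonoidHom.coe_coe]
    ring

theorem w6psi_eq (g : semiaffineGroup F) {φ : F ≃+* F} {a : Fˣ} {b : F}
    (h : ∀ x, g.1 x = a * φ x + b) : w6psi F g = φ := w6_semi_choose g h

theorem w6psi_surj : Function.Surjective (w6psi F) := fun φ =>
  ⟨⟨φ.toEquiv, 1, 0, φ, fun x => by simp⟩, w6psi_eq _ (a := 1) (b := 0) fun x => by simp⟩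

theorem w6psi_ker : (w6psi F).ker = (affineGroup F).subgroupOf (semiaffineGroup F) := by
  ext g
  rw [MonoidHom.mem_ker, mem_subgroupOf]
  constructor
  · intro h
    obtain ⟨φ, a, b, hg⟩ := w6_semi_ex g
    rw [w6psi_eq g hg] at h
    subst h
    exact ⟨a, b, hg⟩
  · rintro ⟨a, b, hg⟩
    exact w6psi_eq g (φ := RingEquiv.refl F) hg

theorem w6_aff_le : affineGroup F ≤ semiaffineGroup F := by
  rintro g ⟨a, b, hg⟩
  exact ⟨a, b, RingEquiv.refl F, hg⟩

theorem w6_card_affine [Finite F] : Nat.card (affineGroup F) = (Nat.card F - 1) * Nat.card F := by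
  let f : Fˣ × F → affineGroup F := fun v =>
    ⟨(Units.mulLeft v.1).trans (Equiv.addRight v.2), v.1, v.2, fun _ => rfl⟩
  have hf : Function.Bijective f := by
    constructor
    · rintro ⟨a, b⟩ ⟨c, d⟩ h
      have h1 : ∀ x, (a : F) * x + b = c * x + d := fun x =>
        congrArg (fun g : affineGroup F => g.1 x) h
      have h0 := h1 0
      have h2 := h1 1
      simp only [mul_zero, zero_add, mul_one] at h0 h2
      subst h0
      rw [Units.ext (add_right_cancel h2)]
    · rintro ⟨g, a, b, hg⟩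
      exact ⟨(a, b), Subtype.ext (Equiv.ext fun x => (hg x).symm)⟩
  rw [← Nat.card_congr (Equiv.ofBijective f hf), Nat.card_prod, Nat.card_units]

theorem w6_card_semi [Finite F] : Nat.card (semiaffineGroup F) =
    (Nat.card F - 1) * Nat.card F * Nat.card (RingAut F) := by
  rw [← (w6psi F).ker.card_mul_index, index_ker, MonoidHom.range_eq_top.2 w6psi_surj, card_top,
    w6psi_ker, Nat.card_congr (subgroupOfEquivOfLe w6_aff_le).toEquiv, w6_card_affine]

theorem w6_card_stab [Finite F] : Nat.card (MulAction.stabilizer (semiaffineGroup F) (0 : F)) =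
    (Nat.card F - 1) * Nat.card (RingAut F) := by
  have : MulAction.IsPretransitive (semiaffineGroup F) F := ⟨fun x y =>
    ⟨⟨Equiv.addRight (y - x), 1, y - x, RingEquiv.refl F, fun _ => by simp⟩, by
      show x + (y - x) = y
      ring⟩⟩
  have h := (MulAction.stabilizer (semiaffineGroup F) (0 : F)).card_mul_index
  rw [MulAction.index_stabilizer_of_transitive, w6_card_semi, mul_right_comm] at h
  exact Nat.eq_of_mul_eq_mul_right Nat.card_pos h

theorem w6_card_galois (p n : ℕ) [Fact p.Prime] (hn : n ≠ 0) :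
    Nat.card (RingAut (GaloisField p n)) = n := by
  have := Fintype.ofFinite (GaloisField p n)
  exact H57.card_ringAut_finite_field (p := p)
    (by rw [← Nat.card_eq_fintype_card, GaloisField.card p n hn])

end Semi

section Lin
variable {V : Type*} [CommGroup V] [Finite V] {p : ℕ} [hp : Fact p.Prime]

variable (V) in
/-- the power maps -/
def w6Z : Subgroup (MulAut V) where
  carrier := {φ | ∃ k : ℕ, ∀ x, φ x = x ^ k}
  one_mem' := ⟨1, fun x => by simp⟩
  mul_mem' := by
    rintro φ ψ ⟨k, hk⟩ ⟨l, hl⟩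
    exact ⟨l * k, fun x => by rw [MulAut.mul_apply, hl, hk, pow_mul]⟩
  inv_mem' := by
    rintro φ ⟨k, hk⟩
    obtain ⟨m, hm⟩ := mem_powers_iff_mem_zpowers.2 (inv_mem (mem_zpowers φ))
    refine ⟨k ^ m, ?_⟩
    rw [← show φ ^ m = φ⁻¹ from hm]
    clear hm
    induction m with
    | zero => simp
    | succ m ih => intro x; rw [pow_succ, MulAut.mul_apply, ih, hk, pow_succ', pow_mul]

theorem w6Z_comm {φ : MulAut V} (h : φ ∈ w6Z V) (ψ : MulAut V) : ψ * φ = φ * ψ := by
  obtain ⟨k, hk⟩ := h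
  exact MulEquiv.ext fun x => by rw [MulAut.mul_apply, MulAut.mul_apply, hk, hk, map_pow]

theorem w6Z_smul {φ : MulAut V} (h : φ ∈ w6Z V) (W : Subgroup V) : φ • W = W := by
  obtain ⟨k, hk⟩ := h
  refine eq_of_le_of_card_ge ?_ (Nat.card_congr (equivSMul φ W).toEquiv).le
  rintro _ ⟨x, hx, rfl⟩
  show φ x ∈ W
  rw [hk]
  exact pow_mem hx k

theorem w6Z_exists {k : ℕ} (hk : (Nat.card V).Coprime k) : ∃ φ ∈ w6Z V, ∀ x, φ x = x ^ k :=
  ⟨MulEquiv.ofBijective (powMonoidHom k) (powCoprime hk).bijective, ⟨k, fun _ => rfl⟩,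
    fun _ => rfl⟩

theorem w6Z_two (he : ∀ x : V, x ^ 2 = 1) : w6Z V = ⊥ := by
  rw [eq_bot_iff]
  rintro φ ⟨k, hk⟩
  refine mem_bot.2 (MulEquiv.ext fun x => ?_)
  rcases Nat.even_or_odd' k with ⟨m, rfl | rfl⟩
  · have : φ x = φ 1 := by rw [hk, pow_mul, he, one_pow, map_one]
    rw [φ.injective this, map_one, map_one]
  · rw [hk, pow_succ, pow_mul, he, one_pow, one_mul, MulAut.one_apply]

theorem w6_lin (he : ∀ x : V, x ^ p = 1) {n : ℕ} (hn : 3 ≤ n) (hc : Nat.card V = p ^ n)
    (D : Subgroup (MulAut V)) (hs : Group.IsSolvable D)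
    (ht : ∀ W W' : Subgroup V, Nat.card W = Nat.card W' → ∃ g ∈ D, g • W = W') :
    (∃ e : Additive V ≃+ GaloisField p n, ∀ g ∈ D, ∃ (a : (GaloisField p n)ˣ)
      (σ : GaloisField p n ≃+* GaloisField p n), ∀ v : V,
        e (Additive.ofMul (g v)) = a * σ (e (Additive.ofMul v))) ∧
    (n = 3 ∨ (n = 5 ∧ p = 2)) ∧ (p = 2 → (2 ^ n - 1) * (2 ^ n - 2) ∣ Nat.card D * 6) ∧
      (p = 2 → 2 ^ n - 1 ∣ Nat.card D) := by
  set Γ := w6Z V ⊔ D with hΓ
  have hZc : D ≤ H46.Cent (w6Z V) := fun g _ => H46.mem_cent.2 fun φ h => (w6Z_comm h g).symm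
  have : Group.IsSolvable Γ := H46.sol_sup (hZc.trans (H46.cent_le_nrm _))
    (H46.sol_of_comm (H46.comm_iff_le_cent.2 fun g _ => H46.mem_cent.2 fun φ h =>
      (w6Z_comm h g).symm)) hs
  let _ : DistribMulAction Γ (Additive V) :=
    { smul := fun d x => Additive.ofMul (d.1 x.toMul)
      one_smul := fun _ => rfl
      mul_smul := fun _ _ _ => rfl
      smul_zero := fun d => congrArg Additive.ofMul (map_one d.1)
      smul_add := fun d x y => congrArg Additive.ofMul (map_mul d.1 _ _) }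
  have : FaithfulSMul Γ (Additive V) :=
    ⟨fun {d e} h => Subtype.ext (MulEquiv.ext fun x => h (Additive.ofMul x))⟩
  have h1 : 1 < Nat.card V := by rw [hc]; exact Nat.one_lt_pow (by omega) hp.out.one_lt
  have : Nontrivial V := Finite.one_lt_card_iff_nontrivial.1 h1
  have htr : H90.TransNZ Γ (Additive V) := by
    intro v w hv hw
    obtain ⟨g, hg, e⟩ := ht (zpowers v.toMul) (zpowers w.toMul)
      ((w6_card_zpowers he hv).trans (w6_card_zpowers he hw).symm)
    have h2 : zpowers (g v.toMul) = zpowers w.toMul := by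
      rw [← e]; exact (MonoidHom.map_zpowers (g : V →* V) _).symm
    obtain ⟨k, hk⟩ := mem_powers_iff_mem_zpowers.2 (h2 ▸ mem_zpowers w.toMul)
    have h3 : (Nat.card V).Coprime k := by
      rw [hc]
      refine Nat.Coprime.pow_left _ ((Nat.Prime.coprime_iff_not_dvd hp.out).2 ?_)
      rintro ⟨m, rfl⟩
      simp only at hk
      rw [pow_mul, he, one_pow] at hk
      exact hw hk.symm
    obtain ⟨φ, hφ, hφ'⟩ := w6Z_exists h3
    exact ⟨⟨φ * g, mul_mem (mem_sup_left hφ) (mem_sup_right hg)⟩,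
      (congrArg Additive.ofMul ((hφ' _).trans hk))⟩
  have hdv := w6_dvd he (hc ▸ pow_dvd_pow p (by omega)) Γ (fun W W' a b => by
    obtain ⟨g, hg, e⟩ := ht W W' (a.trans b.symm)
    exact ⟨g, mem_sup_right hg, e⟩) le_sup_left fun z hz W => w6Z_smul hz W
  have h2 : p = 2 → Γ = D := by
    rintro rfl
    rw [hΓ, w6Z_two he, bot_sup_eq]
  rcases htr.huppert with ⟨F, _, _, e, hF⟩ | hx
  · have := Fintype.ofFinite (GaloisField p n)
    let φ : F ≃+* GaloisField p n := FiniteField.ringEquivOfCardEq (by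
      rw [← Nat.card_eq_fintype_card, ← Nat.card_eq_fintype_card, GaloisField.card p n (by omega),
        ← hc]
      exact (Nat.card_congr e.toEquiv).symm)
    let e' : Additive V ≃+ GaloisField p n := e.trans φ.toAddEquiv
    have key : ∀ g : Γ, ∃ (a : (GaloisField p n)ˣ) (σ : GaloisField p n ≃+* GaloisField p n),
        ∀ v : Additive V, e' (g • v) = a * σ (e' v) := by
      intro g
      obtain ⟨a, σ, h⟩ := hF g
      have ha : φ a ≠ 0 := by
        intro e0
        obtain ⟨v, hv⟩ := exists_ne (0 : Additive V)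
        have h3 := h v
        rw [(map_eq_zero φ).1 e0, zero_mul, map_eq_zero_iff e e.injective,
          smul_eq_zero_iff_eq] at h3
        exact hv h3
      refine ⟨Units.mk0 _ ha, (φ.symm.trans σ).trans φ, fun v => ?_⟩
      show φ (e (g • v)) = φ a * φ (σ (φ.symm (φ (e v))))
      rw [h, map_mul, RingEquiv.symm_apply_apply]
    let θ : Γ →* Equiv.Perm (GaloisField p n) :=
      e'.toEquiv.permCongrHom.toMonoidHom.comp (MulAction.toPermHom Γ (Additive V))
    have hθ : ∀ g x, θ g x = e' (g • e'.symm x) := fun _ _ => rfl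
    have hθ1 : ∀ g, θ g ∈ semiaffineGroup (GaloisField p n) := fun g => by
      obtain ⟨a, σ, h⟩ := key g
      exact ⟨a, 0, σ, fun x => by rw [hθ, h, AddEquiv.apply_symm_apply, add_zero]⟩
    have hcard := card_dvd_of_injective ((θ.codRestrict _ hθ1).codRestrict
      (MulAction.stabilizer (semiaffineGroup (GaloisField p n)) (0 : GaloisField p n)) fun g => by
        show θ g 0 = 0
        rw [hθ, map_zero, smul_zero, map_zero]) fun a b h =>
      MulAction.toPerm_injective (e'.toEquiv.permCongrHom.injective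
        (congrArg (fun g => g.1.1) h))
    rw [w6_card_stab, w6_card_galois p n (by omega), GaloisField.card p n (by omega)] at hcard
    refine ⟨⟨e', fun g hg => ?_⟩, ?_, ?_, ?_⟩
    · obtain ⟨a, σ, h⟩ := key ⟨g, mem_sup_right hg⟩
      exact ⟨a, σ, fun v => h (Additive.ofMul v)⟩
    · obtain ⟨m, rfl⟩ : ∃ m, n = m + 1 := ⟨n - 1, by omega⟩
      rw [hc] at hdv
      have := w6_num (m := m) hp.out (by omega) (z := Nat.card (w6Z V)) ?_
        (hdv.trans (mul_dvd_mul_right hcard _))
      · omega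
      · rintro rfl
        obtain ⟨φ, hφ, hφ'⟩ := w6Z_exists (V := V) (k := 2)
          (hc ▸ Nat.Coprime.pow_left _ (by norm_num))
        have h3 : orderOf φ = 2 := by
          refine orderOf_eq_prime (MulEquiv.ext fun x => ?_) fun e0 => ?_
          · rw [pow_two, MulAut.mul_apply, hφ', hφ', ← pow_mul, show 2 * 2 = 3 + 1 from rfl,
              pow_succ, he, one_mul, MulAut.one_apply]
          · obtain ⟨x, hx⟩ := exists_ne (1 : V)
            have := hφ' x
            rw [e0, MulAut.one_apply, pow_two, left_eq_mul] at this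
            exact hx this
        exact h3 ▸ H46.orderOf_dvd_card hφ
    · intro e2
      rw [h2 e2, hc] at hdv
      subst e2
      exact (dvd_mul_right _ _).trans hdv
    · intro e2
      have := htr.card_sub_one_dvd
      rw [h2 e2, show Nat.card (Additive V) = p ^ n from hc] at this
      subst e2
      exact this
  · exfalso
    rw [show Nat.card (Additive V) = p ^ n from hc] at hx
    have sq : ∀ r : ℕ, r.Prime → p ^ n ≠ r ^ 2 := fun r hr e => by
      have h3 : p = r := (Nat.prime_dvd_prime_iff_eq hp.out hr).1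
        (hp.out.dvd_of_dvd_pow (e ▸ dvd_pow_self p (by omega)))
      subst h3
      have := Nat.pow_right_injective hr.two_le e
      omega
    rcases hx with e | e | e | e | e | e
    · exact sq 3 (by norm_num) e
    · exact sq 5 (by norm_num) e
    · exact sq 7 (by norm_num) e
    · exact sq 11 (by norm_num) e
    · exact sq 23 (by norm_num) e
    · have e' : p ^ n = 3 ^ 4 := e
      have h3 : p = 3 := (Nat.prime_dvd_prime_iff_eq hp.out Nat.prime_three).1
        (hp.out.dvd_of_dvd_pow (e' ▸ dvd_pow_self p (by omega)))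
      subst h3
      rw [hc, e'] at hdv
      have h4 : 65 ∣ Nat.card Γ * 48 :=
        (show 65 ∣ (3 ^ 4 - 1) * (3 ^ 4 - 3) by norm_num).trans ((dvd_mul_right _ _).trans hdv)
      have h5 : 65 ∣ Nat.card Γ := (Nat.Coprime.dvd_mul_right (by norm_num)).1 h4
      exact w6_not81 (G := Γ) (V := Additive V) (hc.trans e') (dvd_trans (by norm_num) h5)
        (dvd_trans (by norm_num) h5)

end Lin

/-- The conclusion of the affine lemma. -/
def W6Aff (X : Type*) [Group X] (p n : ℕ) [Fact p.Prime] : Prop :=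
  (n = 3 ∧ (∃ f : X →* semiaffineGroup (GaloisField p 3), Function.Injective f) ∧
    (p = 2 → Nonempty (X ≃* semiaffineGroup (GaloisField 2 3)) ∨
      Nonempty (X ≃* affineGroup (GaloisField 2 3)))) ∨
  (n = 5 ∧ p = 2 ∧ Nonempty (X ≃* semiaffineGroup (GaloisField 2 5)))

theorem w6_aff {X : Type*} [Group X] [Finite X] [Group.IsSolvable X] {p : ℕ} [hp : Fact p.Prime]
    (V : Subgroup X) [hV : V.Normal] (hel : IsElementaryAbelian p V) {n : ℕ} (hn : 3 ≤ n)
    (hc : Nat.card V = p ^ n) (hC : centralizer (V : Set X) ≤ V) (hi : ¬ p ∣ V.index)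
    (ht : ∀ W W' : Subgroup X, W ≤ V → W' ≤ V → Nat.card W = Nat.card W' →
      ∃ g : X, W' = W.map (MulAut.conj g).toMonoidHom) : W6Aff X p n := by
  have hcomm := hel.1
  let _ : CommGroup V := IsMulCommutative.instCommGroup
  obtain ⟨D, hD⟩ := exists_right_complement'_of_coprime (N := V) (by
    rw [hc]; exact Nat.Coprime.pow_left _ ((Nat.Prime.coprime_iff_not_dvd hp.out).2 hi))
  let ρ : X →* MulAut V := MulAut.conjNormal
  have hρ : ∀ (g : X) (v : V), (ρ g v : X) = g * v * g⁻¹ := fun _ _ => rfl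
  have hker : ρ.ker = V := by
    apply le_antisymm
    · exact fun g hg => hC fun v hv => by
        have := hρ g ⟨v, hv⟩
        rw [MonoidHom.mem_ker.1 hg] at this
        exact eq_mul_inv_iff_mul_eq.1 this
    · exact fun g hg => MulEquiv.ext fun v => Subtype.ext (by
        rw [hρ, mul_inv_eq_iff_eq_mul]
        exact congrArg Subtype.val (mul_comm (⟨g, hg⟩ : V) v))
  obtain ⟨⟨e, he⟩, h1, h2, h3⟩ := w6_lin (V := V) (fun x => Subtype.ext (hel.2 x x.2)) hn hc
    ρ.range (Group.isSolvable_of_surjective ρ.rangeRestrict_surjective) fun W W' h => by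
      obtain ⟨g, hg⟩ := ht (W.map V.subtype) (W'.map V.subtype) (map_subtype_le _)
        (map_subtype_le _) (by rw [H46.card_map_subtype, H46.card_map_subtype, h])
      refine ⟨ρ g, ⟨g, rfl⟩, map_injective V.subtype_injective ?_⟩
      rw [hg, map_map]
      exact map_map _ _ _
  have hX : Nat.card X = p ^ n * Nat.card ρ.range := by
    rw [← index_ker, hker, ← hc, card_mul_index]
  let ε : GaloisField p n ≃ X ⧸ D :=
    (e.symm.toEquiv.trans Additive.toMul).trans hD.leftQuotientEquiv.symm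
  have hε : ∀ v : V, ε (e (Additive.ofMul v)) = ((v : X) : X ⧸ D) := fun v => by
    show hD.leftQuotientEquiv.symm (e.symm (e (Additive.ofMul v))).toMul = _
    rw [AddEquiv.symm_apply_apply]
    rfl
  let θ : X →* Equiv.Perm (GaloisField p n) :=
    ε.symm.permCongrHom.toMonoidHom.comp (MulAction.toPermHom X (X ⧸ D))
  have hθ : ∀ (v : V) (d : D) (w : V), θ (v * d) (e (Additive.ofMul w)) =
      e (Additive.ofMul (ρ d w)) + e (Additive.ofMul v) := by
    intro v d w
    show ε.symm (((v : X) * d) • ε (e (Additive.ofMul w))) = _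
    rw [← map_add, ← ofMul_mul, mul_comm, Equiv.symm_apply_eq, hε, hε]
    show (((v : X) * d * w : X) : X ⧸ D) = ((v * (d * w * (d : X)⁻¹) : X) : X ⧸ D)
    rw [QuotientGroup.eq]
    simp [mul_assoc]
  have hθ1 : ∀ g, θ g ∈ semiaffineGroup (GaloisField p n) := fun g => by
    obtain ⟨⟨v, d⟩, rfl⟩ := hD.2 g
    obtain ⟨a, σ, h⟩ := he (ρ d) ⟨d, rfl⟩
    refine ⟨a, e (Additive.ofMul v), σ, fun x => ?_⟩
    obtain ⟨w, rfl⟩ := e.surjective x
    exact (hθ v d w.toMul).trans (by rw [h]; rfl)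
  have hinj : Function.Injective (θ.codRestrict _ hθ1) := by
    refine (injective_iff_map_eq_one _).2 fun g hg => ?_
    obtain ⟨⟨v, d⟩, rfl⟩ := hD.2 g
    have h4 : ∀ w : V, e (Additive.ofMul (ρ d w)) + e (Additive.ofMul v) = e (Additive.ofMul w) :=
      fun w => (hθ v d w).symm.trans (congrArg (fun g => g.1 (e (Additive.ofMul w))) hg)
    have h5 : e (Additive.ofMul v) = 0 := by simpa using h4 1
    have h6 : (d : X) ∈ ρ.ker := MulEquiv.ext fun w => by simpa [h5] using h4 w
    rw [hker] at h6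
    have h7 : v = 1 := (map_eq_zero_iff e e.injective).1 h5
    show (v : X) * d = 1
    rw [h7, disjoint_def.1 hD.disjoint h6 d.2]
    simp
  have hdv := card_dvd_of_injective _ hinj
  have hiso : Nat.card X = Nat.card (semiaffineGroup (GaloisField p n)) →
      Nonempty (X ≃* semiaffineGroup (GaloisField p n)) := fun h =>
    ⟨MulEquiv.ofBijective _ ((Nat.bijective_iff_injective_and_card _).2 ⟨hinj, h⟩)⟩
  rw [w6_card_semi, w6_card_galois p n (by omega), GaloisField.card p n (by omega), hX] at hdv hiso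
  rcases h1 with rfl | ⟨rfl, rfl⟩
  · refine Or.inl ⟨rfl, ⟨_, hinj⟩, ?_⟩
    rintro rfl
    obtain ⟨c, hc'⟩ := h3 rfl
    rw [hc'] at hdv hiso hX
    have h4 : c ∣ 3 := Nat.dvd_of_mul_dvd_mul_left (show 0 < 56 by norm_num) (by
      rwa [← mul_assoc] at hdv)
    rcases (Nat.dvd_prime Nat.prime_three).1 h4 with rfl | rfl
    · right
      have h5 : ∀ g, θ g ∈ affineGroup (GaloisField 2 3) := fun g => by
        have h6 : (θ.codRestrict _ hθ1) g ∈ (w6psi _).ker := by
          rw [MonoidHom.mem_ker, ← orderOf_eq_one_iff]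
          refine Nat.eq_one_of_dvd_coprimes (show Nat.Coprime 56 3 by norm_num) ?_ ?_
          · exact ((orderOf_map_dvd _ _).trans (orderOf_map_dvd _ _)).trans
              ((orderOf_dvd_natCard g).trans hX.dvd)
          · exact (_root_.orderOf_dvd_natCard _).trans (w6_card_galois 2 3 (by omega)).dvd
        rwa [w6psi_ker, mem_subgroupOf] at h6
      refine ⟨MulEquiv.ofBijective (θ.codRestrict _ h5) ((Nat.bijective_iff_injective_and_card _).2
        ⟨fun a b h => hinj (Subtype.ext (congrArg Subtype.val h :)), ?_⟩)⟩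
      rw [w6_card_affine, GaloisField.card 2 3 (by omega), hX]
      rfl
    · exact Or.inl (hiso rfl)
  · refine Or.inr ⟨rfl, rfl, hiso ?_⟩
    have h4 : Nat.card ρ.range ∣ 155 := Nat.dvd_of_mul_dvd_mul_left (show 0 < 32 by norm_num) hdv
    have h5 : 155 ∣ Nat.card ρ.range := Nat.dvd_of_mul_dvd_mul_right (show 0 < 6 by norm_num)
      (h2 rfl)
    rw [Nat.dvd_antisymm h4 h5]
    rfl

section Wrap
open H46
variable {G : Type*} [Group G] [Finite G] {p : ℕ} [hp : Fact p.Prime]

theorem w6_card_map {H : Type*} [Group H] (f : G →* H) {A : Subgroup G}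
    (h : ∀ a ∈ A, f a = 1 → a = 1) : Nat.card (A.map f) = Nat.card A :=
  (Nat.card_congr (Equiv.ofBijective (f.subgroupMap A) ⟨(injective_iff_map_eq_one _).2
    fun a ha => Subtype.ext (h a a.2 (congrArg Subtype.val ha)),
      f.subgroupMap_surjective A⟩)).symm

theorem w6_fuse {P W : Subgroup G} (hP : IsSylowOf p P ⊤) (hc : IsMulCommutative P) (hW : W ≤ P)
    {g : G} (hW' : cj g W ≤ P) : ∃ n ∈ Nrm P, cj n W = cj g W := by
  have h0 := comm_iff_le_cent.1 hc
  have h1 : IsSylowOf p P (Cent (cj g W)) := hP.of_le (h0.trans (cent_anti hW')) le_top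
  have h2 : IsSylowOf p (cj g P) (Cent (cj g W)) := (hP.cj_of_mem (mem_top g)).of_le
    (by rw [← cj_cent]; exact cj_mono g (h0.trans (cent_anti hW))) le_top
  obtain ⟨c, hc, e⟩ := sylow_trans hp.out h2 h1
  exact ⟨c * g, mem_nrm_iff_cj.2 (by rw [cj_mul, ← e]), by rw [cj_mul, cj_of_le_cent hc]⟩

theorem w6_cent_le (hO : pPrimeCore p G = ⊥) {V : Subgroup G} [hV : V.Normal]
    (hP : IsSylowOf p V ⊤) (hc : IsMulCommutative V) : Cent V ≤ V := by
  have h1 : IsSylowOf p V (Cent V) := hP.of_le (comm_iff_le_cent.1 hc) le_top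
  have h2 := (npc_isSd (npc_of_nrm_le_cent hp.out h1 inf_le_left) h1).sup
  have h3 : Op' p (Cent V) ≤ Op' p ⊤ := NormalIn.piCoreOf_le (normalIn_top_iff.2 inferInstance)
  rw [Op'_eq_pPrimeCore hp.out ⊤] at h3
  have h4 : (pPrimeCore p (⊤ : Subgroup G)).map (⊤ : Subgroup G).subtype ≤ pPrimeCore p G := by
    have := H2.normal_map_subtype_of_characteristic ⊤ (pPrimeCore p (⊤ : Subgroup G))
    exact H2.le_pPrimeCore (by rw [H46.card_map_subtype]; exact H2.coprime_card_pPrimeCore p _)
  rw [← h2, eq_bot_iff.2 ((h3.trans h4).trans hO.le), bot_sup_eq]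

theorem s4025 (hC : ∀ H K : Subgroup G, IsPGroup p H → IsPGroup p K → Nat.card H = Nat.card K →
      ∃ g : G, K = H.map (MulAut.conj g).toMonoidHom) (P : Sylow p G) (n : ℕ) (hn : 3 ≤ n)
    (hel : IsElementaryAbelian p (P : Subgroup G)) (hcard : Nat.card P = p ^ n)
    (hsolv : Group.IsSolvable (Nrm (P : Subgroup G) ⧸ pPrimeCore p (Nrm (P : Subgroup G)))) :
    W6Aff (Nrm (P : Subgroup G) ⧸ pPrimeCore p (Nrm (P : Subgroup G))) p n := by
  set N := Nrm (P : Subgroup G) with hN
  set f := QuotientGroup.mk' (pPrimeCore p N) with hf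
  have hs : Function.Surjective f := QuotientGroup.mk'_surjective _
  have hle : (P : Subgroup G) ≤ N := le_nrm_self
  let Q := P.subtype hle
  have hQ : (Q : Subgroup N).Normal := normal_subgroupOf_of_le_normalizer le_rfl
  have hinj : ∀ a ∈ (Q : Subgroup N), f a = 1 → a = 1 := fun a ha e => by
    obtain ⟨k, hk⟩ := IsPGroup.iff_orderOf.1 Q.2 ⟨a, ha⟩
    have h1 := H2.coprime_orderOf_of_mem_pPrimeCore ((QuotientGroup.eq_one_iff a).1 e)
    rw [← orderOf_coe] at hk
    exact orderOf_eq_one_iff.1 (Nat.eq_one_of_dvd_coprimes (h1.pow_right k) dvd_rfl hk.dvd)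
  have hV : ((Q : Subgroup N).map f).Normal := hQ.map f hs
  have hel' : IsElementaryAbelian p ((Q : Subgroup N).map f) := by
    refine ⟨comm_iff_le_cent.2 ?_, ?_⟩
    · rintro _ ⟨a, ha, rfl⟩ _ ⟨b, hb, rfl⟩
      rw [← map_mul, ← map_mul]
      exact congrArg f (Subtype.ext (comm_iff_le_cent.1 hel.1 ha _ hb))
    · rintro _ ⟨a, ha, rfl⟩
      rw [← map_pow, show a ^ p = 1 from Subtype.ext (hel.2 a ha), map_one]
  refine w6_aff ((Q : Subgroup N).map f) hel' hn ?_ (w6_cent_le
    (H2.pPrimeCore_quotient_pPrimeCore p N) (isSylowOf_top (Q.mapSurjective hs)) hel'.1)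
    (Q.mapSurjective hs).not_dvd_index fun W W' hW hW' e => ?_
  · rw [w6_card_map f hinj, ← hcard]
    exact card_subgroupOf hle
  have k1 : ∀ W ≤ (Q : Subgroup N).map f, (W.comap f ⊓ Q).map f = W := fun W hW => by
    refine le_antisymm ((map_mono inf_le_left).trans (map_comap_le _ _)) fun x hx => ?_
    obtain ⟨a, ha, rfl⟩ := hW hx
    exact ⟨a, ⟨hx, ha⟩, rfl⟩
  have k2 : ∀ W ≤ (Q : Subgroup N).map f,
      Nat.card ((W.comap f ⊓ Q).map N.subtype) = Nat.card W := fun W hW => by
    rw [H46.card_map_subtype, ← w6_card_map f (A := W.comap f ⊓ Q) fun a ha => hinj a ha.2,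
      k1 W hW]
  have k3 : ∀ W : Subgroup (N ⧸ pPrimeCore p N), (W.comap f ⊓ Q).map N.subtype ≤ P := by
    rintro W _ ⟨a, ha, rfl⟩
    exact ha.2
  obtain ⟨g, hg⟩ := hC _ _ (P.2.to_le (k3 W)) (P.2.to_le (k3 W'))
    (by rw [k2 W hW, k2 W' hW', e])
  obtain ⟨m, hm, e'⟩ := w6_fuse (isSylowOf_top P) hel.1 (k3 W) (g := g) (hg.ge.trans (k3 W'))
  refine ⟨f ⟨m, hm⟩, ?_⟩
  have h1 : W'.comap f ⊓ Q = cj ⟨m, hm⟩ (W.comap f ⊓ Q) := map_injective N.subtype_injective (by
    rw [hg, ← show cj m _ = map _ _ from e', cj, cj, map_map, map_map]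
    rfl)
  rw [← k1 W' hW', h1, ← k1 W hW, map_map, map_map, k1 W hW]
  rfl

end Wrap

end H83
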