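/- Groups in which `p`-subgroups of equal order are conjugate: general facts. -/
import Cfsg.Agent.H83.W6Aff
import Cfsg.Agent.H24.Socle
import Cfsg.Agent.H86.Fusion
import Cfsg.Agent.S4020
import Cfsg.Agent.S0228

set_option autoImplicit false
set_option linter.unusedSectionVars false

namespace H83
open Cfsg Subgroup H98 H14

/-- `p`-subgroups of equal order are conjugate, for all primes `p`. -/
def D6 (G : Type*) [Group G] : Prop :=
  ∀ p : ℕ, p.Prime → ∀ H K : Subgroup G, IsPGroup p H → IsPGroup p K → Nat.card H = Nat.card K →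
    ∃ g : G, K = H.map (MulAut.conj g).toMonoidHom

variable {G : Type*} [Group G] [Finite G]

theorem d6_card_comap {H : Type*} [Group H] {f : G →* H} (hf : Function.Surjective f)
    (K : Subgroup H) : Nat.card (K.comap f) * Nat.card H = Nat.card K * Nat.card G := by
  have : Finite H := Finite.of_surjective f hf
  rw [← (K.comap f).card_mul_index, index_comap_of_surjective _ hf, ← K.card_mul_index]
  ring

theorem d6_map_cj {H : Type*} [Group H] (f : G →* H) (g : G) (A : Subgroup G) :
    (cj g A).map f = cj (f g) (A.map f) := by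
  rw [cj, cj, map_map, map_map]
  congr 1
  ext x
  simp

theorem D6.of_surj (h : D6 G) {H : Type*} [Group H] (f : G →* H) (hf : Function.Surjective f) :
    D6 H := fun p hp A B hA hB e => by
  have := Fact.mk hp
  have : Finite H := Finite.of_surjective f hf
  obtain ⟨P, hP⟩ := exists_isSyl p (A.comap f)
  obtain ⟨Q, hQ⟩ := exists_isSyl p (B.comap f)
  have h1 : Nat.card (A.comap f) = Nat.card (B.comap f) :=
    Nat.eq_of_mul_eq_mul_right Nat.card_pos (by rw [d6_card_comap hf, d6_card_comap hf, e])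
  obtain ⟨g, hg⟩ := h p hp P Q hP.isPGroup hQ.isPGroup (by rw [hP.card_eq, hQ.card_eq, h1])
  have h2 := hP.map f
  have h3 := hQ.map f
  rw [map_comap_eq_self_of_surjective hf] at h2 h3
  exact ⟨f g, by rw [← h3.eq_of_isPGroup hB, hg, d6_map_cj, h2.eq_of_isPGroup hA]⟩

theorem D6.conj (h : D6 G) {p : ℕ} (hp : p.Prime) {a b : G} (ha : orderOf a = p)
    (hb : orderOf b = p) : ∃ g : G, g * a * g⁻¹ ∈ zpowers b ∧ b ∈ zpowers (g * a * g⁻¹) := by
  obtain ⟨g, hg⟩ := h p hp (zpowers a) (zpowers b)
    (IsPGroup.of_card (n := 1) (by rw [Nat.card_zpowers, ha, pow_one]))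
    (IsPGroup.of_card (n := 1) (by rw [Nat.card_zpowers, hb, pow_one]))
    (by rw [Nat.card_zpowers, Nat.card_zpowers, ha, hb])
  rw [MonoidHom.map_zpowers] at hg
  exact ⟨g, hg ▸ mem_zpowers _, hg.le (mem_zpowers _)⟩

theorem D6.conj_two (h : D6 G) {a b : G} (ha : orderOf a = 2) (hb : orderOf b = 2) :
    ∃ g : G, g * a * g⁻¹ = b := by
  obtain ⟨g, hg, -⟩ := h.conj Nat.prime_two ha hb
  exact ⟨g, ((mem_zpowers_two hb).1 hg).resolve_left
    (ne_one_of_two ((orderOf_conj' g a).trans ha))⟩

theorem D6.mem_of_normal (h : D6 G) {p : ℕ} (hp : p.Prime) {N : Subgroup G} [hN : N.Normal]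
    (hd : p ∣ Nat.card N) {b : G} (hb : b ^ p = 1) : b ∈ N := by
  have := Fact.mk hp
  by_cases b1 : b = 1
  · exact b1 ▸ one_mem N
  obtain ⟨a, ha⟩ := exists_prime_orderOf_dvd_card' p hd
  obtain ⟨g, -, hg⟩ := h.conj hp ((orderOf_coe a).trans ha) (orderOf_eq_prime hb b1)
  exact zpowers_le.2 (hN.conj_mem _ a.2 g) hg

/-- the index of a perfect normal subgroup is prime to the odd primes dividing its order -/
theorem D6.not_dvd_index (h : D6 G) {p : ℕ} (hp : p.Prime) (p2 : p ≠ 2) {N : Subgroup G}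
    [hN : N.Normal] (hc : ⁅N, N⁆ = N) (hd : p ∣ Nat.card N) : ¬ p ∣ N.index := by
  have := Fact.mk hp
  obtain ⟨P⟩ : Nonempty (Sylow p G) := inferInstance
  suffices hP : (P : Subgroup G) ≤ N from fun e => P.not_dvd_index (e.trans (index_dvd_of_le hP))
  rcases Cfsg.Agent.S4020.result h P with h1 | h1 | ⟨⟨e⟩⟩
  · have h2 := (H46.cyclic_sylow_der (X := N ⊔ P) hp
      (H46.Cfsg.IsPiHallOf.of_le (H46.isSylowOf_top P) le_sup_right le_top) h1
      (hd.trans (card_dvd_of_le (hc.ge.trans (commutator_mono le_sup_left le_sup_left))))).1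
    refine h2.trans ((commutator_mono inf_le_left inf_le_left).trans ?_)
    rw [commutator_le]
    intro a ha b hb
    obtain ⟨x, hx, y, hy, rfl⟩ := mem_sup_of_normal_left.1 ha
    obtain ⟨z, hz, w, hw, rfl⟩ := mem_sup_of_normal_left.1 hb
    rw [← QuotientGroup.eq_one_iff, ← QuotientGroup.mk'_apply, map_commutatorElement,
      commutatorElement_eq_one_iff_mul_comm]
    simp only [map_mul, QuotientGroup.mk'_apply, (QuotientGroup.eq_one_iff _).2 hx,
      (QuotientGroup.eq_one_iff _).2 hz, one_mul]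
    rw [← QuotientGroup.mk_mul, ← QuotientGroup.mk_mul]
    exact congrArg _ (congrArg Subtype.val (h1.commGroup.mul_comm ⟨y, hy⟩ ⟨w, hw⟩))
  · exact fun b hb => h.mem_of_normal hp hd (h1.2 b hb)
  · obtain ⟨k, hk⟩ := IsPGroup.iff_card.1 P.isPGroup'
    have h8 : Nat.card (P : Subgroup G) = 8 := by
      rw [Nat.card_congr e.toEquiv, Nat.card_eq_fintype_card, QuaternionGroup.card]
    exact absurd ((Nat.prime_dvd_prime_iff_eq Nat.prime_two hp).1
      (Nat.prime_two.dvd_of_dvd_pow (n := k) (by rw [← hk, h8]; decide))).symm p2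

theorem D6.comm_odd (h : D6 G) {p : ℕ} [hp : Fact p.Prime] (p2 : p ≠ 2) (P : Sylow p G) :
    IsCyclic (P : Subgroup G) ∨ IsElementaryAbelian p (P : Subgroup G) := by
  rcases Cfsg.Agent.S4020.result h P with h1 | h1 | ⟨⟨e⟩⟩
  · exact Or.inl h1
  · exact Or.inr h1
  · obtain ⟨k, hk⟩ := IsPGroup.iff_card.1 P.isPGroup'
    have h8 : Nat.card (P : Subgroup G) = 8 := by
      rw [Nat.card_congr e.toEquiv, Nat.card_eq_fintype_card, QuaternionGroup.card]
    exact absurd ((Nat.prime_dvd_prime_iff_eq Nat.prime_two hp.out).1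
      (Nat.prime_two.dvd_of_dvd_pow (n := k) (by rw [← hk, h8]; decide))).symm p2

theorem d6_cyclic (hO : oddCore G = ⊥) (S : Sylow 2 G) (hS : IsCyclic S) :
    IsCyclic G ∧ IsPGroup 2 G := by
  suffices h : (S : Subgroup G) = ⊤ by
    have e : S ≃* G := (MulEquiv.subgroupCongr h).trans topEquiv
    exact ⟨isCyclic_of_surjective e e.surjective, S.isPGroup'.of_equiv e⟩
  rcases Nat.even_or_odd (Nat.card G) with h | h
  · have h2 : (Nat.card G).minFac = 2 := (Nat.minFac_eq_two_iff _).2 h.two_dvd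
    have hc := hS.isComplement' h2
    have h3 := (H2.le_oddCore (N := (MonoidHom.transferSylow S
      (hS.normalizer_le_centralizer h2)).ker) (by
        rw [← hc.index_eq_card]
        exact Nat.odd_iff.2 (Nat.two_dvd_ne_zero.1 S.not_dvd_index))).trans hO.le
    rw [← index_eq_one, hc.index_eq_card, eq_bot_iff.2 h3, card_bot]
  · exact eq_top_iff.2 (((H2.le_oddCore (N := ⊤) (by rwa [card_top])).trans hO.le).trans bot_le)

theorem d6_four_le {S : Subgroup G} (hS : IsElementaryAbelian 2 S) (hc : ¬ IsCyclic S) :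
    ∃ n, 2 ≤ n ∧ Nat.card S = 2 ^ n := by
  obtain ⟨n, hn⟩ := IsPGroup.iff_card.1 (show IsPGroup 2 S from fun x =>
    ⟨1, Subtype.ext (by simpa using hS.2 x x.2)⟩)
  refine ⟨n, by_contra fun h => hc (isCyclic_of_card_dvd_prime (p := 2) ?_), hn⟩
  rw [hn]
  interval_cases n <;> simp

theorem D6.solv (h : D6 G) [Group.IsSolvable G] (hO : oddCore G = ⊥) (S : Sylow 2 G)
    (hS : IsElementaryAbelian 2 (S : Subgroup G)) {n : ℕ} (hn : 2 ≤ n)
    (hc : Nat.card (S : Subgroup G) = 2 ^ n) :
    (n = 2 ∧ Nonempty (G ≃* alternatingGroup (Fin 4))) ∨ W6Aff G 2 n := by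
  have h4 : 4 ∣ Nat.card (S : Subgroup G) := hc ▸ pow_dvd_pow 2 hn
  have h1 : pCore 2 G ≠ ⊥ := fun e => by
    have := H24.eq_bot_of_cores hO e ⊤ inferInstance inferInstance
    rw [show (S : Subgroup G) = ⊥ from eq_bot_iff.2 (le_top.trans this.le), card_bot] at h4
    omega
  obtain ⟨t, ht, t2, -⟩ := exists_central_involution (H2.pCore_isPGroup 2 G) h1
  have h2 : (S : Subgroup G) = pCore 2 G :=
    le_antisymm (fun b hb => h.mem_of_normal Nat.prime_two (two_dvd_card_of_mem ht t2) (hS.2 b hb))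
      ((H2.pCore_isPGroup 2 G).le_sylow_of_normal S)
  have hN : (S : Subgroup G).Normal := h2 ▸ inferInstance
  have hC := w6_cent_le hO (H46.isSylowOf_top S) hS.1
  rcases hn.eq_or_lt with rfl | hn
  · have K : IsKleinFour (S : Subgroup G) := by
      have : Nontrivial (S : Subgroup G) := Finite.one_lt_card_iff_nontrivial.1 (by omega)
      exact ⟨hc, (Monoid.exponent_eq_prime_iff Nat.prime_two).2 fun x x1 =>
        orderOf_eq_prime (Subtype.ext (hS.2 x x.2)) x1⟩
    have nc : ∀ z : G, orderOf z = 2 → z ∉ center G := fun z z2 hz => by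
      have : (S : Subgroup G) ≤ zpowers z := fun b hb => by
        by_cases b1 : b = 1
        · exact b1 ▸ one_mem _
        obtain ⟨g, rfl⟩ := h.conj_two z2 (orderOf_eq_prime (hS.2 b hb) b1)
        rw [mem_center_iff.1 hz, mul_inv_cancel_right]
        exact mem_zpowers z
      have := card_le_of_le this
      rw [Nat.card_zpowers, z2, hc] at this
      omega
    refine Or.inl ⟨rfl, Cfsg.Agent.S0228.result ?_ nc⟩
    have h5 := H86.relIndex_centralizer_four_dvd K ⊤ (normalizer_eq_top_iff.2 hN).ge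
    have h8 : centralizer ((S : Subgroup G) : Set G) = S :=
      le_antisymm hC (H46.comm_iff_le_cent.1 hS.1)
    rw [relIndex_top_right, h8] at h5
    have h6 := S.not_dvd_index
    have h7 : (S : Subgroup G).index ≠ 1 := fun e => nc t t2 (mem_center_iff.2 fun g =>
      congrArg Subtype.val (hS.1.is_comm.comm ⟨g, (index_eq_one.1 e).ge trivial⟩ ⟨t, h2.ge ht⟩))
    rw [← (S : Subgroup G).card_mul_index, hc]
    generalize (S : Subgroup G).index = m at h5 h6 h7
    have := Nat.le_of_dvd (by decide) h5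
    interval_cases m <;> omega
  · exact Or.inr (w6_aff (S : Subgroup G) hS hn hc hC S.not_dvd_index fun W W' hW hW' e =>
      h 2 Nat.prime_two W W' (S.isPGroup'.to_le hW) (S.isPGroup'.to_le hW') e)

/-- the socle in the non-solvable case -/
theorem D6.socle (h : D6 G) (hns : ¬ Group.IsSolvable G) (hO : oddCore G = ⊥) (S : Sylow 2 G)
    (hS : IsElementaryAbelian 2 (S : Subgroup G)) :
    ∃ M : Subgroup G, M.Normal ∧ IsSimpleGroup M ∧ ¬ IsMulCommutative M ∧
      centralizer (M : Set G) = ⊥ ∧ (S : Subgroup G) ≤ M := by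
  have le : ∀ N : Subgroup G, N.Normal → 2 ∣ Nat.card N → (S : Subgroup G) ≤ N :=
    fun N _ hd b hb => h.mem_of_normal Nat.prime_two hd (hS.2 b hb)
  have od : ∀ N : Subgroup G, (S : Subgroup G) ≤ N → Odd N.index := fun N hN =>
    Odd.of_dvd_nat (Nat.odd_iff.2 (Nat.two_dvd_ne_zero.1 S.not_dvd_index)) (index_dvd_of_le hN)
  have hs : ∀ N : Subgroup G, N.Normal → Group.IsSolvable N → N = ⊥ := fun N _ hN => by
    rcases Nat.even_or_odd (Nat.card N) with e | e
    · exact absurd (H24.solvable_of_odd_index N hN (od N (le N inferInstance e.two_dvd))) hns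
    · exact eq_bot_iff.2 ((H2.le_oddCore e).trans hO.le)
  have : Nontrivial G := by
    by_contra h
    have := not_nontrivial_iff_subsingleton.1 h
    exact hns inferInstance
  obtain ⟨M, hM, hM1, hmin⟩ := H2.exists_minimal_normal G
  have hnM : ¬ Group.IsSolvable M := fun h => hM1 (hs M hM h)
  have hna : ¬ IsMulCommutative M := fun h =>
    hnM (Group.isSolvable_of_comm fun a b => h.is_comm.comm a b)
  have two : ∀ {X : Subgroup G}, ¬ Group.IsSolvable X → 2 ∣ Nat.card X := fun h =>
    (show 2 ∣ 4 by decide).trans (H24.four_dvd_of_not_solvable h)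
  have : Nontrivial M := (nontrivial_iff_ne_bot M).2 hM1
  have sol : ∀ K : Subgroup M, H89.IsMinNormal K → ¬ Group.IsSolvable (K.map M.subtype) := by
    intro K hK h
    have := (H24.solvable_map_iff M.subtype_injective K).1 h
    have := hK.normal
    obtain ⟨p, M', hp, hn, hle, h1, -, h2, -⟩ := H2.exists_elementaryAbelian_normal_le K hK.ne_bot
    have := Fact.mk hp
    have := (H2.isPGroup_map_pCore_subtype (p := p) M).isNilpotent
    refine h1 ((map_eq_bot_iff_of_injective _ M.subtype_injective).1 (eq_bot_iff.2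
      ((map_mono (H2.le_pCore h2)).trans (hs _
        (H2.normal_map_subtype_of_characteristic M _) inferInstance).le)))
  refine ⟨M, hM, ⟨fun N hN => ?_⟩, hna, by_contra fun hC => ?_, le M hM (two hnM)⟩
  · refine (em (N = ⊥)).imp_right fun N1 => ?_
    obtain ⟨K, hKN, hK⟩ := H89.exists_isMinNormal_le N hN N1
    have hK1 : K.map M.subtype ≠ ⊥ := by
      rw [Ne, map_eq_bot_iff_of_injective _ M.subtype_injective]
      exact hK.ne_bot
    have key : ∀ g : G, K = K.map (MulAut.conjNormal g : MulAut M).toMonoidHom := fun g => by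
      by_contra hne
      have hK' := hK.map_equiv (MulAut.conjNormal g : MulAut M)
      obtain ⟨_, ⟨a, ha, rfl⟩, a2⟩ := exists_involution_mem (two (sol _ hK))
      obtain ⟨_, ⟨b, hb, rfl⟩, b2⟩ := exists_involution_mem (two (sol _ hK'))
      replace a2 : orderOf a = 2 := (orderOf_coe a).symm.trans a2
      replace b2 : orderOf b = 2 := (orderOf_coe b).symm.trans b2
      have hd := hK.disjoint hK' hne
      have hab : orderOf (a * b) = 2 := by
        refine orderOf_two_of_mul_self ?_ fun e => ?_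
        · rw [(hK.commute hK' hne ha hb).symm.mul_mul_mul_comm, mul_self_of_two a2,
            mul_self_of_two b2, one_mul]
        · exact ne_one_of_two a2 (disjoint_def.1 hd ha (eq_inv_of_mul_eq_one_left e ▸ inv_mem hb))
      obtain ⟨c, hc⟩ := h.conj_two ((orderOf_coe a).trans a2) ((orderOf_coe _).trans hab)
      have hL := hK.map_equiv (MulAut.conjNormal c : MulAut M)
      have hm : a * b ∈ K.map (MulAut.conjNormal c : MulAut M).toMonoidHom :=
        ⟨a, ha, Subtype.ext hc⟩
      have cen : ∀ {J : Subgroup M}, H89.IsMinNormal J → ∀ {x : M}, x ∈ J →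
          (∀ y ∈ J, Commute x y) → x = 1 := fun {J} hJ {x} hx hy => by
        have := hJ.normal
        have h1 : IsMulCommutative (J ⊓ centralizer (J : Set M) : Subgroup M) :=
          ⟨⟨fun u v => Subtype.ext (v.2.2 u u.2.1)⟩⟩
        rcases hJ.min (J ⊓ centralizer (J : Set M)) inferInstance inf_le_left with e | e
        · exact (e.le ⟨hx, fun y hy' => (hy y hy').symm⟩ :)
        · rw [e] at h1
          exact absurd ((H24.solvable_map_iff M.subtype_injective J).2
            (Group.isSolvable_of_comm h1.is_comm.comm)) (sol J hJ)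
      by_cases e1 : K = K.map (MulAut.conjNormal c : MulAut M).toMonoidHom
      · exact ne_one_of_two b2 (disjoint_def.1 hd ((mul_mem_cancel_left ha).1 (e1.ge hm)) hb)
      · refine ne_one_of_two a2 (cen hK ha fun y hy => ?_)
        have h1 := (hK.commute hL e1 hy hm).mul_right (hK.commute hK' hne hy (inv_mem hb))
        rw [mul_inv_cancel_right] at h1
        exact h1.symm
    have h3 := (hmin _ ⟨fun x hx g => ?_⟩ (map_subtype_le K)).resolve_left hK1
    · rw [eq_top_iff]
      intro x _
      obtain ⟨y, hy, e⟩ := h3.ge x.2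
      exact hKN (Subtype.ext e ▸ hy)
    · obtain ⟨y, hy, rfl⟩ := hx
      exact ⟨MulAut.conjNormal g y, (key g).ge ⟨y, hy, rfl⟩, rfl⟩
  · have h1 := le _ inferInstance (two fun h' => hC (hs _ inferInstance h'))
    rcases H2.le_or_disjoint_of_minimal_normal hmin (centralizer (M : Set G)) with hle | hd
    · exact hna ⟨⟨fun a b => Subtype.ext (hle b.2 a a.2)⟩⟩
    · have h2 := le M hM (two hnM)
      have h3 : (S : Subgroup G) = ⊥ := eq_bot_iff.2 ((le_inf h2 h1).trans hd.le_bot)
      have h4 := od ⊥ h3.le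
      rw [index_bot] at h4
      exact hns (H42.odd_order h4)

end H83
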