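/- Groups in which `p`-subgroups of equal order are conjugate: the list modulo the odd core. -/
import Cfsg.Agent.H83.D6Base
import Cfsg.Agent.H42.ReeSyl3
import Cfsg.Agent.H42.ReeFinal
import Cfsg.Agent.H24.J1Ord
import Cfsg.Agent.H24.AbJ2
import Cfsg.Agent.H30.WBLF
import Cfsg.Agent.H47.NQ8
import Cfsg.Agent.H7.GWCons
import Cfsg.Agent.H55.Basic
import Cfsg.Agent.S2065
import Cfsg.Agent.S0251
import Cfsg.Agent.S1258

set_option autoImplicit false
set_option linter.unusedSectionVars false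

namespace H83
open Cfsg Subgroup H98 H14 H10.W

universe u

/-- an element of odd order centralized by one involution and inverted by another -/
def D6Bad (G : Type*) [Group G] : Prop :=
  ∃ y t d : G, Odd (orderOf y) ∧ y ≠ 1 ∧ orderOf t = 2 ∧ orderOf d = 2 ∧ t * y = y * t ∧
    d * y * d⁻¹ = y⁻¹

variable {G : Type u} [Group G] [Finite G]

theorem D6Bad.of_inj {H : Type*} [Group H] (h : D6Bad H) (f : H →* G)
    (hf : Function.Injective f) : D6Bad G := by
  obtain ⟨y, t, d, h1, h2, h3, h4, h5, h6⟩ := h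
  exact ⟨f y, f t, f d, by rwa [orderOf_injective f hf], (map_ne_one_iff f hf).2 h2,
    by rwa [orderOf_injective f hf], by rwa [orderOf_injective f hf],
    by rw [← map_mul, h5, map_mul], by rw [← map_inv, ← map_mul, ← map_mul, h6, map_inv]⟩

theorem d6_torus_two {L T : Subgroup G} {d : G} {q : ℕ} (h : Torus L T d q) : orderOf d = 2 :=
  orderOf_two_of_mul_self h.sq fun e => h.notMem (e ▸ one_mem T)

theorem d6_bad_jr {t : G} {L : Subgroup G} (h : JR t L L 5) : D6Bad G := by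
  obtain ⟨p, hp⟩ := H30.WB.jobLF G L 5 h.iso (by decide)
  obtain ⟨T, d, hT, hc⟩ := hp.nonsplit
  obtain ⟨y, hy⟩ := exists_prime_orderOf_dvd_card' (G := T) 3 (show 3 ∣ Nat.card T by omega)
  have y3 : orderOf (y : G) = 3 := (orderOf_coe y).trans hy
  exact ⟨y, t, d, by rw [y3]; decide, fun e => by simp [e] at y3, h.inv, d6_torus_two hT,
    h.prod.2.2.1 t (mem_zpowers t) y (hT.le y.2), hT.inv y y.2⟩

theorem d6_bad_torus {L T : Subgroup G} {d : G} {q k : ℕ} (h : Torus L T d q)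
    (hc : Nat.card T = 2 * k) (hk : Odd k) (k1 : k ≠ 1) : D6Bad G := by
  obtain ⟨r, hr, hd⟩ := Nat.exists_prime_and_dvd k1
  have := Fact.mk hr
  obtain ⟨y, hy⟩ := exists_prime_orderOf_dvd_card' (G := T) r (hc ▸ hd.mul_left 2)
  obtain ⟨t, ht⟩ := exists_prime_orderOf_dvd_card' (G := T) 2 (hc ▸ Dvd.intro k rfl)
  have yr : orderOf (y : G) = r := (orderOf_coe y).trans hy
  exact ⟨y, t, d, yr ▸ hk.of_dvd_nat hd, fun e => hr.ne_one (by rw [← yr, e, orderOf_one]),
    (orderOf_coe t).trans ht, d6_torus_two h,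
    congrArg Subtype.val (h.cyc.commGroup.mul_comm t y), h.inv y y.2⟩

theorem d6_bad_l2 {q : ℕ} (h : IsL2 G q) (h5 : 5 < q) (h8 : q % 8 = 3 ∨ q % 8 = 5) : D6Bad G := by
  obtain ⟨F, _, _, hF, ⟨e⟩⟩ := h
  obtain ⟨p, hp⟩ := H30.WB.jobLF G ⊤ q ⟨F, _, _, hF, ⟨topEquiv.trans e⟩⟩ (Nat.odd_iff.2 (by omega))
  have := Fact.mk hp.prime
  rcases h8 with h8 | h8
  · obtain ⟨T, d, hT, hc⟩ := hp.nonsplit
    exact d6_bad_torus hT (k := (q + 1) / 4) (by omega) (Nat.odd_iff.2 (by omega)) (by omega)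
  · obtain ⟨U, hU⟩ := exists_isSyl p (⊤ : Subgroup G)
    obtain ⟨U', hU', hne⟩ := hp.two U hU
    obtain ⟨⟨d, hT, -⟩, hc, -⟩ := hp.borel U U' hU hU' hne
    exact d6_bad_torus hT (k := (q - 1) / 4) (by omega) (Nat.odd_iff.2 (by omega)) (by omega)

theorem d6_aut {M : Subgroup G} [M.Normal] (hC : centralizer (M : Set G) = ⊥) {Y : Type*}
    [Group Y] (e : M ≃* Y) : ∃ φ : G →* MulAut Y, Function.Injective φ :=
  ⟨(MulAut.congr e).toMonoidHom.comp MulAut.conjNormal, (MulAut.congr e).injective.comp <|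
    (injective_iff_map_eq_one _).2 fun g hg => hC.le (x := g) fun x hx => by
      have := congrArg Subtype.val (DFunLike.congr_fun hg ⟨x, hx⟩)
      exact (mul_inv_eq_iff_eq_mul.1 this).symm⟩

theorem d6_card_aut {F : Type} [Field F] [Fintype F] {p f : ℕ} (hp : p.Prime)
    (hF : Fintype.card F = p ^ f) (h3 : 3 < p ^ f) :
    Nat.card (MulAut (PSL2 F)) = f * ((p ^ f + 1) * (p ^ f * (p ^ f - 1))) := by
  have := Fact.mk hp
  have hf : 1 ≤ f := Nat.pos_of_ne_zero fun e => by simp [e] at h3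
  rw [Cfsg.Agent.S0813.result p f hf hF 2 le_rfl (fun _ => h3), H88.card_pgl_two, hF, if_pos rfl,
    one_mul, show (p ^ f) ^ 2 - 1 = (p ^ f + 1) * (p ^ f - 1) from Nat.sq_sub_sq _ 1]
  ring

theorem d6_perf {M : Subgroup G} [IsSimpleGroup M] (h : ¬ IsMulCommutative M) : ⁅M, M⁆ = M := by
  have := congrArg (map M.subtype) (commutator_eq_top_of_simple h)
  rwa [commutator_def, map_commutator, ← MonoidHom.range_eq_map, range_subtype] at this

theorem d6_isL2_top {M : Subgroup G} (hM : M.index = 1) {q : ℕ} (h : IsL2 M q) : IsL2 G q := by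
  obtain ⟨F, _, _, hF, ⟨e⟩⟩ := h
  exact ⟨F, _, _, hF, ⟨(topEquiv.symm.trans (MulEquiv.subgroupCongr (index_eq_one.1 hM)).symm).trans e⟩⟩

theorem D6.l2_odd (h : D6 G) {M : Subgroup G} [M.Normal] (hC : centralizer (M : Set G) = ⊥)
    (hi : Odd M.index) {q : ℕ} (h3 : 3 < q) (h8 : q % 8 = 3 ∨ q % 8 = 5) (hM : IsL2 M q) :
    ∃ p f : ℕ, p.Prime ∧ (f = 1 ∨ f = 3) ∧ q = p ^ f ∧ (p % 8 = 3 ∨ p % 8 = 5) ∧ IsL2 G q := by
  obtain ⟨p, hp⟩ := H30.WB.jobLF G M q hM (Nat.odd_iff.2 (by omega))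
  have := Fact.mk hp.prime
  obtain ⟨f, hf, hq⟩ := hp.pow
  obtain ⟨hs, hna⟩ := H24.IsL2.simple hM h3
  have hperf := d6_perf hna
  have hcard := hp.card
  have hd : M.index ∣ f := by
    obtain ⟨F, _, _, hF, ⟨e⟩⟩ := hM
    obtain ⟨φ, hφ⟩ := d6_aut hC e
    have h1 := card_dvd_of_injective φ hφ
    rw [d6_card_aut hp.prime (hF.trans hq) (hq ▸ h3), ← hq, ← hcard, ← M.card_mul_index,
      show f * (2 * Nat.card M) = Nat.card M * (2 * f) by ring,
      Nat.mul_dvd_mul_iff_left Nat.card_pos] at h1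
    exact (Nat.coprime_two_right.2 hi).dvd_of_dvd_mul_left h1
  obtain ⟨U, hU⟩ := exists_isSyl p M
  obtain ⟨u1, u2, -, u3, -⟩ := hp.syl U hU
  have hpM : p ∣ Nat.card M :=
    (dvd_pow_self p hf.ne').trans (hq ▸ u1 ▸ card_dvd_of_le hU.le)
  have hodd : p % 2 = 1 := hp.prime.eq_two_or_odd.resolve_left hp.odd
  have hf3 : f = 1 ∨ f = 3 := by
    by_contra hcon
    have f2 : f ≠ 2 := by
      rintro rfl
      rw [hq, Nat.pow_mod] at h8
      have : p % 8 = 1 ∨ p % 8 = 3 ∨ p % 8 = 5 ∨ p % 8 = 7 := by omega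
      rcases this with e | e | e | e <;> simp [e] at h8
    let P : Sylow p G := hU.isPGroup.toSylow (by
      rw [← relIndex_mul_index hU.le]
      exact fun e => ((Nat.Prime.dvd_mul hp.prime).1 e).elim hU.not_dvd_relIndex
        (h.not_dvd_index hp.prime hp.odd hperf hpM))
    have hP : (P : Subgroup G) = U := rfl
    have hel : IsElementaryAbelian p (P : Subgroup G) :=
      (h.comm_odd hp.odd P).elim (fun e => ⟨⟨⟨e.commGroup.mul_comm⟩⟩, u2⟩) id
    have hsol : Group.IsSolvable (H46.Nrm (P : Subgroup G)) := by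
      change Group.IsSolvable (nor U)
      by_contra hns
      have h4 := H24.four_dvd_of_not_solvable hns
      have h5 : Odd (M.relIndex (nor U)) := hi.of_dvd_nat (relIndex_dvd_index_of_normal M _)
      rw [← (M.subgroupOf (nor U)).card_mul_index, ← inf_subgroupOf_right,
        Nat.card_congr (subgroupOfEquivOfLe inf_le_right).toEquiv, inf_subgroupOf_right] at h4
      have h6 := (Nat.Coprime.pow_left 2 (Nat.coprime_two_left.2 h5)).dvd_of_dvd_mul_right h4
      have h7 : 8 ∣ q * (q - 1) := u3 ▸ mul_dvd_mul_left 2 h6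
      have h9 := (Nat.Coprime.pow_left 3 (Nat.coprime_two_left.2
        (show Odd q from Nat.odd_iff.2 (by omega)))).dvd_of_dvd_mul_left h7
      omega
    rcases s4025 (h p hp.prime) P f (by omega) hel (u1.trans hq) inferInstance with e | e
    · exact hcon (Or.inr e.1)
    · exact hp.odd e.2.1
  have hi1 : M.index = 1 := by
    rcases hf3 with rfl | rfl
    · exact Nat.dvd_one.1 hd
    · refine ((Nat.dvd_prime Nat.prime_three).1 hd).resolve_right fun e =>
        h.not_dvd_index Nat.prime_three (by decide) hperf ?_ e.symm.dvd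
      refine (show Nat.Coprime 3 2 by decide).dvd_of_dvd_mul_left (hcard ▸ ?_)
      have : 3 ∣ q + 1 ∨ 3 ∣ q ∨ 3 ∣ q - 1 := by omega
      rcases this with e | e | e
      exacts [e.mul_right _, (e.mul_right _).mul_left _, (e.mul_left _).mul_left _]
  refine ⟨p, f, hp.prime, hf3, hq, ?_, d6_isL2_top hi1 hM⟩
  rcases hf3 with rfl | rfl
  · rwa [hq, pow_one] at h8
  · rw [hq, Nat.pow_mod] at h8
    have : p % 8 = 1 ∨ p % 8 = 3 ∨ p % 8 = 5 ∨ p % 8 = 7 := by omega
    rcases this with e | e | e | e <;> simp [e] at h8 ⊢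

theorem D6.l2_even (h : D6 G) {M : Subgroup G} [M.Normal] (hC : centralizer (M : Set G) = ⊥)
    (S : Sylow 2 G) (hS : IsElementaryAbelian 2 (S : Subgroup G)) (hSM : (S : Subgroup G) ≤ M)
    {n : ℕ} (hn : 3 ≤ n) (hM : IsL2 M (2 ^ n)) :
    IsL2 G 8 ∨ Nonempty (G ≃* MulAut (Matrix.ProjectiveSpecialLinearGroup (Fin 2) (GaloisField 2 5))) := by
  have h3 : 3 < 2 ^ n := lt_of_lt_of_le (by decide) (Nat.pow_le_pow_right two_pos hn)
  obtain ⟨hs, hna⟩ := H24.IsL2.simple hM h3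
  have hev : Even (2 ^ n) := (Nat.even_pow.2 ⟨even_two, by omega⟩)
  have ho : Odd (2 ^ n - 1) := Nat.Even.sub_odd (by omega) hev odd_one
  have hcard : Nat.card M = (2 ^ n + 1) * (2 ^ n * (2 ^ n - 1)) := by
    rw [(H24.L2.facts hM).1, Nat.coprime_two_left.2 ho, Nat.div_one]
  obtain ⟨m, hm⟩ := IsPGroup.iff_card.1 S.isPGroup'
  have hmn : m = n := by
    have h1 : 2 ^ n ∣ 2 ^ m := hm ▸ S.pow_dvd_card_of_pow_dvd_card
      (Dvd.dvd.trans (hcard ▸ (Dvd.intro _ rfl).mul_left _) M.card_subgroup_dvd_card)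
    have h2 : 2 ^ m ∣ (2 ^ n + 1) * (2 ^ n * (2 ^ n - 1)) := hm ▸ hcard ▸ card_dvd_of_le hSM
    have h4 := (Nat.Coprime.pow_left m (Nat.coprime_two_left.2 ho)).dvd_of_dvd_mul_right
      ((Nat.Coprime.pow_left m (Nat.coprime_two_left.2 hev.add_one)).dvd_of_dvd_mul_left h2)
    exact Nat.pow_right_injective le_rfl (Nat.dvd_antisymm h4 h1)
  subst hmn
  have hsol : Group.IsSolvable (H46.Nrm (S : Subgroup G)) := by
    refine H24.solvable_of_odd_index ((S : Subgroup G).subgroupOf _) ?_ (Odd.of_dvd_nat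
      (Nat.odd_iff.2 (Nat.two_dvd_ne_zero.1 S.not_dvd_index)) (relIndex_dvd_index_of_le le_normalizer))
    exact Group.isSolvable_of_comm fun a b => Subtype.ext (Subtype.ext (show a.1.1 * b.1.1 = _ * _ from
      congrArg Subtype.val (hS.1.is_comm.comm (⟨a.1.1, a.2⟩ : (S : Subgroup G)) ⟨b.1.1, b.2⟩)))
  have hM' := hM
  obtain ⟨F, _, _, hF, ⟨e⟩⟩ := hM'
  obtain ⟨φ, hφ⟩ := d6_aut hC e
  have hA := d6_card_aut Nat.prime_two hF h3
  have h1 := card_dvd_of_injective φ hφ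
  rw [hA, ← hcard, ← M.card_mul_index, mul_comm m, Nat.mul_dvd_mul_iff_left Nat.card_pos] at h1
  rcases s4025 (h 2 Nat.prime_two) S m hn hS hm inferInstance with ⟨rfl, -⟩ | ⟨rfl, -, ⟨e'⟩⟩
  · refine Or.inl (d6_isL2_top (((Nat.dvd_prime Nat.prime_three).1 h1).resolve_right fun e =>
      h.not_dvd_index Nat.prime_three (by decide) (d6_perf hna) ?_ e.symm.dvd) hM)
    rw [hcard]
    decide
  · have h5 : 5 ∣ Nat.card G := by
      refine Dvd.dvd.trans ?_ ((card_quotient_dvd_card (pPrimeCore 2 _)).trans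
        (H46.Nrm (S : Subgroup G)).card_subgroup_dvd_card)
      rw [Nat.card_congr e'.toEquiv, w6_card_semi, w6_card_galois 2 5 (by decide)]
      exact Dvd.intro_left _ rfl
    have h6 : M.index = 5 := ((Nat.dvd_prime Nat.prime_five).1 h1).resolve_left fun e => by
      rw [← M.card_mul_index, e, hcard] at h5
      exact absurd h5 (by decide)
    have e1 := MulEquiv.ofBijective φ ((Nat.bijective_iff_injective_and_card φ).2
      ⟨hφ, by rw [hA, ← M.card_mul_index, hcard, h6, mul_comm]⟩)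
    let _ := Fintype.ofFinite (GaloisField 2 5)
    exact Or.inr ⟨e1.trans (MulAut.congr (H55.pslCongr (FiniteField.ringEquivOfCardEq (by
      rw [hF, eq_comm, ← Nat.card_eq_fintype_card, GaloisField.card 2 5 (by decide)]))))⟩

theorem d6_j1 {M : Subgroup G} [M.Normal] (hC : centralizer (M : Set G) = ⊥) {t : M}
    {L : Subgroup M} (h : JR t L L 5) : IsJ1 G ∧ D6Bad G := by
  obtain ⟨e⟩ := H24.JR.isoJ1 h
  obtain ⟨φ, hφ⟩ := d6_aut hC e
  have : Finite Spor.J1 := Finite.of_equiv _ e.toEquiv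
  have h1 := Nat.card_le_card_of_injective φ hφ
  have h2 : Nat.card (Inn Spor.J1) ≤ Nat.card M := Nat.card_congr e.toEquiv ▸
    Nat.card_le_card_of_surjective _ (MulAut.conj : Spor.J1 →* _).rangeRestrict_surjective
  rw [card_eq_card_quotient_mul_card_subgroup (Inn Spor.J1), Cfsg.Agent.S2065.result, one_mul] at h1
  have h3 : M = ⊤ := eq_top_of_le_card M (h1.trans h2)
  have e1 : M ≃* G := (MulEquiv.subgroupCongr h3).trans topEquiv
  obtain ⟨hs, hc⟩ : IsJ1 M := by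
    rcases (H42.Ree.walterB M t L L 5 h).2 with h4 | ⟨m, hm, h4, -⟩
    · exact h4.2
    · exact absurd (h4 ▸ dvd_pow_self 3 (by omega) : 3 ∣ 5) (by decide)
  exact ⟨⟨e1.symm.isSimpleGroup, (Nat.card_congr e1.toEquiv).symm.trans hc⟩,
    (d6_bad_jr h).of_inj M.subtype M.subtype_injective⟩

theorem D6.nonsolv (h : D6 G) (hns : ¬ Group.IsSolvable G) (hO : oddCore G = ⊥) (S : Sylow 2 G)
    (hS : IsElementaryAbelian 2 (S : Subgroup G)) :
    (8 ∣ Nat.card G ∧ ((IsJ1 G ∧ D6Bad G) ∨ IsL2 G 8 ∨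
      Nonempty (G ≃* MulAut (Matrix.ProjectiveSpecialLinearGroup (Fin 2) (GaloisField 2 5))))) ∨
    ∃ p f : ℕ, p.Prime ∧ (f = 1 ∨ f = 3) ∧ 3 < p ^ f ∧ (p % 8 = 3 ∨ p % 8 = 5) ∧
      IsL2 G (p ^ f) := by
  obtain ⟨M, hM, hs, hna, hC, hSM⟩ := h.socle hns hO S hS
  have hi : Odd M.index :=
    Odd.of_dvd_nat (Nat.odd_iff.2 (Nat.two_dvd_ne_zero.1 S.not_dvd_index)) (index_dvd_of_le hSM)
  have odd : ∀ q, 3 < q → (q % 8 = 3 ∨ q % 8 = 5) → IsL2 M q → ∃ p f : ℕ, p.Prime ∧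
      (f = 1 ∨ f = 3) ∧ 3 < p ^ f ∧ (p % 8 = 3 ∨ p % 8 = 5) ∧ IsL2 G (p ^ f) := fun q h3 h8 hq => by
    obtain ⟨p, f, a, b, rfl, c, d⟩ := h.l2_odd hC hi h3 h8 hq
    exact ⟨p, f, a, b, h3, c, d⟩
  rcases H42.Ree.cases_of_abelian hna (H24.ab2_subgroup (H24.ab2_of_sylow S hS.1) M) (fun P => by
    obtain ⟨Q, hQ⟩ := (P.isPGroup'.map M.subtype).exists_le_sylow
    have hc : IsMulCommutative (Q : Subgroup G) :=
      (h.comm_odd (by decide) Q).elim (fun e => ⟨⟨e.commGroup.mul_comm⟩⟩) And.left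
    exact ⟨⟨fun a b => Subtype.ext (Subtype.ext (show a.1.1 * b.1.1 = _ * _ from
      congrArg Subtype.val (hc.is_comm.comm
      (⟨a.1.1, hQ ⟨_, a.2, rfl⟩⟩ : (Q : Subgroup G)) ⟨b.1.1, hQ ⟨_, b.2, rfl⟩⟩)))⟩⟩) with
    ⟨n, hn, hq⟩ | ⟨q, h3, h8, hq⟩ | ⟨t, L, hJ⟩
  · rcases hn.eq_or_lt with rfl | hn
    · exact Or.inr (odd 5 (by decide) (by decide) (H24.isL2_four_iff.1 hq))
    · refine Or.inl ⟨Dvd.dvd.trans ?_ M.card_subgroup_dvd_card, Or.inr (h.l2_even hC S hS hSM hn hq)⟩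
      rw [(H24.L2.facts hq).1]
      exact ((pow_dvd_pow 2 hn).mul_right _).mul_left _
  · exact Or.inr (odd q h3 h8 hq)
  · have h1 := d6_j1 hC hJ
    exact Or.inl ⟨by rw [h1.1.2]; decide, Or.inl h1⟩

theorem d6_card_q8 {S : Subgroup G} (e : S ≃* QuaternionGroup 2) : Nat.card S = 8 := by
  rw [Nat.card_congr e.toEquiv, Nat.card_eq_fintype_card, QuaternionGroup.card]

theorem D6.no_two (h : D6 G) (S : Sylow 2 G) (e : (S : Subgroup G) ≃* QuaternionGroup 2)
    (H : Subgroup G) : H.index ≠ 2 := fun h2 => by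
  have hN := normal_of_index_eq_two h2
  have h4 : 2 ^ 2 ∣ Nat.card H := by
    have := (S : Subgroup G).card_subgroup_dvd_card
    rw [d6_card_q8 e, ← H.card_mul_index, h2] at this
    omega
  obtain ⟨K, hK⟩ := Sylow.exists_subgroup_card_pow_prime 2 h4
  rw [← card_map_of_injective H.subtype_injective] at hK
  refine S.not_dvd_index (h2.symm.dvd.trans (index_dvd_of_le fun x hx => ?_))
  have key : ∀ a : QuaternionGroup 2, (¬ a ^ 2 ^ 1 = 1 ∧ a ^ 2 ^ (1 + 1) = 1) ∨ ∃ b, b * b = a := by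
    decide
  rcases key (e ⟨x, hx⟩) with ⟨h5, h6⟩ | ⟨b, hb⟩
  · have h7 : Nat.card (zpowers x) = 2 ^ 2 := by
      rw [Nat.card_zpowers, ← orderOf_eq_prime_pow h5 h6, e.orderOf_eq, orderOf_mk]
    obtain ⟨g, hg⟩ := h 2 Nat.prime_two _ _ (IsPGroup.of_card hK) (IsPGroup.of_card h7)
      (hK.trans h7.symm)
    obtain ⟨y, hy, rfl⟩ := hg.le (mem_zpowers x)
    exact hN.conj_mem _ (map_subtype_le K hy) g
  · have h5 : (e.symm b : G) * e.symm b = x := by
      rw [← coe_mul, ← map_mul, hb, e.symm_apply_apply]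
    exact h5 ▸ mul_self_mem_of_index_two h2 _

/-- The list. -/
def D6List (X : Type*) [Group X] : Prop :=
  (IsCyclic X ∧ IsPGroup 2 X) ∨ Nonempty (X ≃* affineGroup (GaloisField 2 3)) ∨
    Nonempty (X ≃* semiaffineGroup (GaloisField 2 3)) ∨
    Nonempty (X ≃* semiaffineGroup (GaloisField 2 5)) ∨ (IsJ1 X ∧ D6Bad X) ∨ IsL2 X 8 ∨
    Nonempty (X ≃* MulAut (Matrix.ProjectiveSpecialLinearGroup (Fin 2) (GaloisField 2 5))) ∨ Nonempty (X ≃* alternatingGroup (Fin 4)) ∨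
    Nonempty (X ≃* Matrix.SpecialLinearGroup (Fin 2) (ZMod 3)) ∨
    ∃ (p f : ℕ) (F : Type) (_ : Field F) (_ : Fintype F), p.Prime ∧ (f = 1 ∨ f = 3) ∧
      Fintype.card F = p ^ f ∧ 3 < p ^ f ∧ (p % 8 = 3 ∨ p % 8 = 5) ∧
      (Nonempty (X ≃* PSL2 F) ∨ Nonempty (X ≃* Matrix.SpecialLinearGroup (Fin 2) F))

theorem D6.list (h : D6 G) (hO : oddCore G = ⊥) : D6List G := by
  obtain ⟨S⟩ : Nonempty (Sylow 2 G) := inferInstance
  by_cases hc : IsCyclic S
  · exact Or.inl (d6_cyclic hO S hc)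
  refine Or.inr ?_
  rcases (Cfsg.Agent.S4020.result h S).resolve_left hc with hS | ⟨⟨e⟩⟩
  · by_cases hs : Group.IsSolvable G
    · obtain ⟨n, hn, h1⟩ := d6_four_le hS hc
      rcases h.solv hO S hS hn h1 with ⟨-, h2⟩ | ⟨-, -, h2⟩ | ⟨-, -, h2⟩
      · exact Or.inr <| Or.inr <| Or.inr <| Or.inr <| Or.inr <| Or.inr <| Or.inl h2
      · exact (h2 rfl).elim (fun e => Or.inr (Or.inl e)) Or.inl
      · exact Or.inr <| Or.inr <| Or.inl h2
    · refine Or.inr <| Or.inr <| Or.inr ?_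
      rcases h.nonsolv hs hO S hS with ⟨-, h2 | h2 | h2⟩ | ⟨p, f, a, b, c, d, F, _, _, hF, h2⟩
      · exact Or.inl h2
      · exact Or.inr (Or.inl h2)
      · exact Or.inr <| Or.inr <| Or.inl h2
      · exact Or.inr <| Or.inr <| Or.inr <| Or.inr <| Or.inr
          ⟨p, f, F, _, _, a, b, hF, c, d, Or.inl h2⟩
  refine Or.inr <| Or.inr <| Or.inr <| Or.inr <| Or.inr <| Or.inr <| Or.inr ?_
  have h2 := h.no_two S e
  by_cases hs : Group.IsSolvable G
  · exact Or.inl (H47.N.sl23_of_solvable hO h2 S (m := 1) e)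
  obtain ⟨z, z2, hz, -, -⟩ := H7.GW.gq_data hO S (n := 0) e
  have hZ : Nat.card (center G) = 2 := by rw [hz, Nat.card_zpowers, z2]
  have hZ2 : IsPGroup 2 (center G) := IsPGroup.of_card (n := 1) hZ
  have hsurj := QuotientGroup.mk'_surjective (center G)
  have hY := h.of_surj _ hsurj
  have hns : ¬ Group.IsSolvable (G ⧸ center G) := fun hh =>
    hs (H24.solvable_of_normal (center G) (Group.isSolvable_of_comm fun a b =>
      Subtype.ext (mem_center_iff.1 b.2 a)) hh)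
  have h8 : ¬ 8 ∣ Nat.card (G ⧸ center G) := fun hh => by
    have := S.pow_dvd_card_of_pow_dvd_card (n := 4) (by
      rw [card_eq_card_quotient_mul_card_subgroup (center G), hZ]
      omega)
    rw [d6_card_q8 e] at this
    omega
  obtain ⟨T⟩ : Nonempty (Sylow 2 (G ⧸ center G)) := inferInstance
  have hT : IsElementaryAbelian 2 (T : Subgroup (G ⧸ center G)) := by
    rcases Cfsg.Agent.S4020.result hY T with h3 | h3 | ⟨⟨h3⟩⟩
    · exact absurd (H24.solvable_of_cyclic T h3) hns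
    · exact h3
    · exact absurd (d6_card_q8 h3 ▸ card_subgroup_dvd_card _) h8
  obtain ⟨p, f, a, b, c, d, F, _, _, hF, ⟨e1⟩⟩ := (hY.nonsolv hns
    (H34.pPrimeCore_quot_central_eq_bot _ hZ2 le_rfl hO) T hT).resolve_left fun hh => h8 hh.1
  have hodd : Odd (p ^ f) := (Nat.odd_iff.2 (by omega)).pow
  obtain ⟨hsi, hna⟩ := H24.IsL2.simple (L := G ⧸ center G) ⟨F, _, _, hF, ⟨e1⟩⟩ c
  have hper : commutator G = ⊤ := by
    have h3 := (Cfsg.Agent.S1258.result hsi hna).1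
    have h4 : (commutator G).index ∣ 2 := by
      rw [← relIndex_top_right, ← h3, relIndex_sup_left, ← hZ]
      exact relIndex_dvd_card _ _
    exact index_eq_one.1 (((Nat.dvd_prime Nat.prime_two).1 h4).resolve_right (h2 _))
  refine Or.inr ⟨p, f, F, _, _, a, b, hF, c, d, Or.inr (H7.GW.sl2_of_double ?_ ?_ hper
    (e1.toMonoidHom.comp (QuotientGroup.mk' _)) (e1.surjective.comp hsurj) ?_)⟩
  · rwa [Nat.card_eq_fintype_card, hF]
  · rwa [Nat.card_eq_fintype_card, hF]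
  · rw [← MonoidHom.comap_ker, (MonoidHom.ker_eq_bot_iff _).2 e1.injective, MonoidHom.comap_bot,
      QuotientGroup.ker_mk', hZ]

theorem D6.list_quot (h : D6 G) : D6List (G ⧸ oddCore G) :=
  (h.of_surj _ (QuotientGroup.mk'_surjective _)).list (H2.pPrimeCore_quotient_pPrimeCore 2 G)

theorem d6_not_bad (hC : ∀ H K : Subgroup G, Nat.card H = Nat.card K →
    ∃ g : G, K = H.map (MulAut.conj g).toMonoidHom) : ¬ D6Bad G := by
  rintro ⟨y, t, d, h1, h2, h3, h4, h5, h6⟩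
  have key : ∀ s : G, orderOf s = 2 → s * y * s⁻¹ ∈ zpowers y →
      Nat.card (zpowers y ⊔ zpowers s : Subgroup G) = orderOf y * 2 := fun s s2 hs => by
    rw [H46.card_sup_of_disjoint, Nat.card_zpowers, Nat.card_zpowers, s2]
    · rw [zpowers_le]
      refine mem_normalizer_fintype fun a ha => ?_
      obtain ⟨k, rfl⟩ := mem_zpowers_iff.1 ha
      rw [← conj_zpow]
      exact zpow_mem hs k
    · exact disjoint_iff.1 (disjoint_of_coprime_natCard (by
        rw [Nat.card_zpowers, Nat.card_zpowers, s2]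
        exact Nat.coprime_two_right.2 h1))
  obtain ⟨g, hg⟩ := hC _ _ ((key t h3 (by rw [h5, mul_inv_cancel_right]; exact mem_zpowers y)).trans
    (key d h4 (h6 ▸ inv_mem (mem_zpowers y))).symm)
  have hc : ∀ a ∈ zpowers y ⊔ zpowers t, ∀ b ∈ zpowers y ⊔ zpowers t, a * b = b * a := by
    have h7 : ∀ b ∈ zpowers y ⊔ zpowers t, b * y = y * b ∧ b * t = t * b := fun b hb =>
      (sup_le (zpowers_le.2 ⟨mem_centralizer_singleton_iff.2 rfl,
        mem_centralizer_singleton_iff.2 h5.symm⟩) (zpowers_le.2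
          ⟨mem_centralizer_singleton_iff.2 h5, mem_centralizer_singleton_iff.2 rfl⟩) :
        _ ≤ centralizer {y} ⊓ centralizer {t}) hb |>.imp mem_centralizer_singleton_iff.1
          mem_centralizer_singleton_iff.1
    exact fun a ha b hb => mem_centralizer_singleton_iff.1 ((sup_le
      (zpowers_le.2 (mem_centralizer_singleton_iff.2 (h7 b hb).1.symm))
      (zpowers_le.2 (mem_centralizer_singleton_iff.2 (h7 b hb).2.symm)) : _ ≤ centralizer {b}) ha)
  obtain ⟨a, ha, ea⟩ := hg.le (mem_sup_left (mem_zpowers y))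
  obtain ⟨b, hb, eb⟩ := hg.le (mem_sup_right (mem_zpowers d))
  have h8 : d * y = y * d := by rw [← ea, ← eb, ← map_mul, ← map_mul, hc b hb a ha]
  rw [h8, mul_inv_cancel_right, eq_inv_iff_mul_eq_one] at h6
  exact h2 (H24.eq_one_of_odd_of_sq h1 h6)

theorem d6_all_surj (hC : ∀ H K : Subgroup G, Nat.card H = Nat.card K →
    ∃ g : G, K = H.map (MulAut.conj g).toMonoidHom) {X : Type*} [Group X] (f : G →* X)
    (hf : Function.Surjective f) (A B : Subgroup X) (e : Nat.card A = Nat.card B) :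
    ∃ g : X, B = A.map (MulAut.conj g).toMonoidHom := by
  have : Finite X := Finite.of_surjective f hf
  obtain ⟨g, hg⟩ := hC (A.comap f) (B.comap f)
    (Nat.eq_of_mul_eq_mul_right Nat.card_pos (by rw [d6_card_comap hf, d6_card_comap hf, e]))
  refine ⟨f g, ?_⟩
  have := congrArg (map f) hg
  rwa [map_comap_eq_self_of_surjective hf, show (A.comap f).map (MulAut.conj g).toMonoidHom =
    cj g (A.comap f) from rfl, d6_map_cj, map_comap_eq_self_of_surjective hf] at this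

end H83
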