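import Cfsg.Agent.H86.SPGDef
import Cfsg.Agent.H72.SPFR

/-! STD-SP type I fusion, slot G2b: the element of `GQ` normalises `X_l`. -/

set_option autoImplicit false
set_option linter.unusedSectionVars false

namespace H83.SPG

open H67.UA hiding Par
open H67.SP
open H67.SA (mem_cjs conj_mem_cjs)
open H86.SPG H72.SPF
open H81.SU (rt rt_sq rt_mul rt_ne)

universe u

variable {n : ℕ} {F : Type} [Field F] [StarRing F] [TrivialStar F] [CharP F 2] [Finite F]
  [Par n F] [Base n F] {G : Type u} [Group G] {e : XU n F →* G} {t : G} {δ : F}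
  {r : Vn n F → F → F → G} {h : G}

theorem q00 : q0 (0 : Vn n F) = 0 := by
  have := FV.q0_smul (n := n) (0 : F) 0
  rwa [zero_smul, sq, zero_mul, zero_mul] at this

theorem r0 (m : RM e t δ r h) (a : F) : r 0 a 0 = e (Tc (a ^ 2) (ev 0)) := by
  rw [m.q 0 a hy_zero, q00, zero_add]

theorem rsq (m : RM e t δ r h) (c : F) : r 0 0 c * r 0 0 c = 1 := by
  rw [m.mul _ _ _ _ _ _ hy_zero hy_zero, add_zero, add_zero, cc, r0 m, sq, mul_zero]
  exact (congrArg e (EE_zero _)).trans (map_one e)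

theorem rQ (m : RM e t δ r h) (c : F) {x : XU n F} (hx : x ∈ QQ n F) : Commute (r 0 0 c) (e x) := by
  obtain ⟨y, d, hy, rfl⟩ := (FV.mem_QQ x).1 hx
  have : e (EE (ev 0) y d) = r y (rt (q0 y + d)) 0 := by
    rw [m.q _ _ hy, rt_sq, ← add_assoc, cc, zero_add]
  show _ = _
  rw [this, m.mul _ _ _ _ _ _ hy_zero hy, m.mul _ _ _ _ _ _ hy hy_zero, add_comm y, add_comm 0 (rt _),
    add_comm c]

theorem rT (a : AW e t) (m : RM e t δ r h) (c : F) :
    r 0 0 (rt c) * t * (r 0 0 (rt c))⁻¹ = t * e (Tc c (ev 0)) := by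
  have h1 := m.tc 0 0 (rt c) hy_zero
  have h2 := m.mul 0 (rt c) 0 0 0 (rt c) hy_zero hy_zero
  rw [add_zero, add_zero, zero_add, r0 m, rt_sq] at h2
  rw [zero_add, ← h2, inv_eq_of_mul_eq_one_right a.tt] at h1
  rw [mul_inv_eq_iff_eq_mul, mul_assoc, ← h1, ← mul_assoc, ← mul_assoc, a.tt, one_mul]

theorem zmul (a b a' b' : F) : (EE (ev 0) (b • ev 1) a : XU n F) * EE (ev 0) (b' • ev 1) a' =
    EE (ev 0) ((b + b') • ev 1) (a + a') := by
  rw [mE' (p10 b) (p10 b'), hf_smul_left, hr, hx, mul_zero, mul_zero, add_zero, add_smul]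

theorem zQ (a b : F) : (EE (ev 0) (b • ev 1) a : XU n F) ∈ QQ n F := memE (p10 b) a

theorem zT (a : F) : (EE (ev 0) ((0 : F) • ev 1) a : XU n F) = Tc a (ev 0) := by rw [zero_smul]

theorem zinj (fh : FH n F) {a b a' b' : F}
    (k : (EE (ev 0) (b • ev 1) a : XU n F) = EE (ev 0) (b' • ev 1) a') : a = a' ∧ b = b' := by
  obtain ⟨h1, h2⟩ := fh.inj _ _ _ _ (hy_smul b fh.e1.1) (hy_smul b' fh.e1.1) k
  exact ⟨h2, smul_left_injective F fh.e1.2.1 h1⟩

theorem lrT {c : F} (hc : c ≠ 0) : Lr (Tc c (ev 0) : XU n F) :=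
  ⟨rt c • ev 0, smul_ne_zero (rt_ne hc) (ev_ne 0), by
    rw [TT, Tc_smul, mul_one, nm, star_trivial, ← sq, rt_sq]⟩

/-- An element of `C(t)` that maps `X_l` into `Q` maps it into `X_l`. -/
theorem lq (fq : FQ n F) (a : AW e t) {m : G} (hm : m * t * m⁻¹ = t) (c : F) {x : XU n F}
    (hx : x ∈ QQ n F) (k : m * e (Tc c (ev 0)) * m⁻¹ = e x) : ∃ d, x = Tc d (ev 0) := by
  by_cases hc : c = 0
  · refine ⟨0, a.inj ?_⟩
    rw [← k, hc, show (Tc 0 (ev 0) : XU n F) = 1 from EE_zero _, map_one, mul_one, mul_inv_cancel]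
  obtain ⟨u', h1, h2⟩ := a.lr m _ (mul_inv_eq_iff_eq_mul.1 hm) (lrT hc)
  rw [k] at h2
  exact (FV.mem_Zl _ _).1 (fq.lq x hx (a.inj h2 ▸ h1))

theorem alg {α β : F → F} (Y : F → F → Prop) (hY : ∀ a b, Y a b ↔ ∃ c, α c = a ∧ β c = b)
    (inj : ∀ c c', α c = α c' → β c = β c' → c = c')
    (add : ∀ a b a' b', Y a b → Y a' b' → Y (a + a') (b + b')) (h1 : ∀ a, ¬ Y a 1)
    (h2 : ∀ a b ξ, ξ ≠ 0 → Y a b → Y (ξ ^ 2 * a) b) (c : F) : β c = 0 := by
  have y : ∀ c, Y (α c) (β c) := fun c => (hY _ _).2 ⟨c, rfl, rfl⟩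
  by_contra b0
  have b1 : β c ≠ 1 := fun k => h1 _ (k ▸ y c)
  by_cases ha : ∀ c, α c = 0
  · obtain ⟨d, hd⟩ := Finite.surjective_of_injective
      (f := β) (fun c c' k => inj c c' ((ha c).trans (ha c').symm) k) 1
    exact h1 _ (hd ▸ y d)
  obtain ⟨c0, a0⟩ := not_forall.1 ha
  have h3 : ∀ d, d ≠ α c0 → Y d 0 := fun d hd => by
    have k : 1 + d * (α c0)⁻¹ ≠ 0 := fun k => hd (by
      have := congrArg (· * α c0) k
      simp only [add_mul, one_mul, inv_mul_cancel_right₀ a0, zero_mul] at this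
      rw [← zero_add d, ← cc (α c0), add_assoc, this, add_zero])
    have := add _ _ _ _ (y c0) (h2 _ _ _ (rt_ne k) (y c0))
    rwa [rt_sq, cc, add_mul, one_mul, inv_mul_cancel_right₀ a0, ← add_assoc, cc, zero_add] at this
  have h4 : ∀ d, Y d 0 := fun d => by
    by_cases hd : d = α c0
    · have := add _ _ _ _ (h3 (β c * α c0) fun k => b1 (mul_right_cancel₀ a0 (by rw [k, one_mul])))
        (h3 ((1 + β c) * α c0) fun k => b0 (by
          rw [add_mul, one_mul, add_eq_left] at k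
          exact (mul_eq_zero.1 k).resolve_right a0))
      rwa [add_zero, add_mul, one_mul, add_left_comm, cc, add_zero, ← hd] at this
    · exact h3 d hd
  choose f hf using fun d => (hY d 0).1 (h4 d)
  obtain ⟨d, rfl⟩ := Finite.surjective_of_injective
    (f := f) (fun d d' k => by rw [← (hf d).1, k, (hf d').1]) c
  exact b0 (hf d).2

theorem g2b (fh : FH n F) (fq : FQ n F) (a : AW e t) (m : RM e t δ r h) (q : GQ e t) :
    ∃ g A, Af e t g A (ev 1) := by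
  classical
  obtain ⟨g, gt, gQ, gz⟩ := q
  simp only [zu_eq] at gz
  choose α β gz using gz
  have c : ∀ a b g : G, g * (a * b) * g⁻¹ = g * a * g⁻¹ * (g * b * g⁻¹) := fun a b g => by group
  have xc' : xc n F = EE (ev 0) ((1 : F) • ev 1) 1 := by rw [one_smul, xc_eq]
  have n1 : ∀ x ∈ QQ n F, ∃ x' ∈ QQ n F, e x' = g * e x * g⁻¹ := fun x hx => by
    have := (conj_mem_cjs (g := g)).2 (Subgroup.mem_map_of_mem e hx)
    rwa [gQ] at this
  have n2 : ∀ x ∈ QQ n F, ∃ x' ∈ QQ n F, e x' = g⁻¹ * e x * g := fun x hx => by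
    have := Subgroup.mem_map_of_mem e hx
    rw [← gQ] at this
    exact mem_cjs.1 this
  have b0 : ∀ c, β c = 0 := by
    refine alg (α := α) (fun a b => ∃ c, g * e (Tc c (ev 0)) * g⁻¹ = e (EE (ev 0) (b • ev 1) a))
      (fun a' b => exists_congr fun c => ⟨fun k => zinj fh (a.inj ((gz c).symm.trans k)),
        fun k => by rw [gz, k.1, k.2]⟩) (fun c c' k k' => ?_) ?_ ?_ ?_
    · have := gz c
      rw [k, k', ← gz c', mul_left_inj, mul_right_inj, ← zT, ← zT] at this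
      exact (zinj fh (a.inj this)).1
    · rintro a b a' b' ⟨d, k⟩ ⟨d', k'⟩
      exact ⟨d + d', by rw [← zmul, map_mul, ← k, ← k', ← c, ← map_mul, ← zT d, ← zT d', zmul, add_zero,
        zT]⟩
    · rintro a' ⟨d, k⟩
      have k1 : g * (r 0 0 (rt d) * t * (r 0 0 (rt d))⁻¹) * g⁻¹ =
          r 0 0 (rt (1 + a')) * t * (r 0 0 (rt (1 + a')))⁻¹ := by
        rw [rT a m, rT a m, c, gt, k, xc', mul_assoc, ← map_mul, zmul, cc, zT]
      obtain ⟨d', k2⟩ := lq fq a (m := (r 0 0 (rt (1 + a')))⁻¹ * g * r 0 0 (rt d)) (by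
        calc _ = (r 0 0 (rt (1 + a')))⁻¹ * (g * (r 0 0 (rt d) * t * (r 0 0 (rt d))⁻¹) * g⁻¹) *
            r 0 0 (rt (1 + a')) := by group
          _ = _ := by rw [k1]; group) d (zQ a' 1) (by
        calc _ = (r 0 0 (rt (1 + a')))⁻¹ * (g * (r 0 0 (rt d) * e (Tc d (ev 0)) *
            (r 0 0 (rt d))⁻¹) * g⁻¹) * r 0 0 (rt (1 + a')) := by group
          _ = _ := by
            rw [(rQ m _ (memE (hf_zero_left _) d)).eq, mul_inv_cancel_right, k, mul_assoc,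
              ← (rQ m _ (zQ a' 1)).eq, inv_mul_cancel_left])
      exact one_ne_zero (zinj fh (k2.trans (zT d').symm)).2
    · rintro a' b ξ hξ ⟨d, k⟩
      obtain ⟨p, p0, p1⟩ := fq.tor ξ hξ
      have pj : ∀ a b : F, p * EE (ev 0) (b • ev 1) a * p⁻¹ = EE (ev 0) (b • ev 1) (ξ ^ 2 * a) :=
        fun a b => by
          rw [jE (p10 b), p0, ac_smul, p1, EE_smul, star_trivial, nm, star_trivial, smul_smul,
            smul_smul, mul_right_comm, mul_inv_cancel₀ hξ, one_mul, sq]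
      have k1 : r 0 0 (rt 1) * g * t * (r 0 0 (rt 1) * g)⁻¹ = t * e (EE (ev 0) ((1 : F) • ev 1) 0) := by
        calc _ = r 0 0 (rt 1) * (g * t * g⁻¹) * (r 0 0 (rt 1))⁻¹ := by group
          _ = _ := by
            rw [gt, c, rT a m, xc', (rQ m _ (zQ 1 1)).eq, mul_inv_cancel_right, mul_assoc, ← map_mul,
              ← zT, zmul, cc, zero_add]
      obtain ⟨x', hx', k2⟩ := n2 _ (zQ (ξ ^ 2 * a') b)
      obtain ⟨d', k3⟩ := lq fq a (m := (r 0 0 (rt 1) * g)⁻¹ * e p * (r 0 0 (rt 1) * g)) (by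
        calc _ = (r 0 0 (rt 1) * g)⁻¹ * (e p * (r 0 0 (rt 1) * g * t * (r 0 0 (rt 1) * g)⁻¹) *
            (e p)⁻¹) * (r 0 0 (rt 1) * g) := by group
          _ = _ := by
            rw [k1, c, ← a.cen, mul_inv_cancel_right, ← map_mul, ← map_inv, ← map_mul, pj, mul_zero,
              ← k1]
            group) d hx' (by
        calc _ = g⁻¹ * ((r 0 0 (rt 1))⁻¹ * (e p * (r 0 0 (rt 1) * (g * e (Tc d (ev 0)) * g⁻¹) *
            (r 0 0 (rt 1))⁻¹) * (e p)⁻¹) * r 0 0 (rt 1)) * g := by group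
          _ = _ := by
            rw [k, (rQ m _ (zQ a' b)).eq, mul_inv_cancel_right, ← map_mul, ← map_inv, ← map_mul, pj,
              mul_assoc (r 0 0 (rt 1))⁻¹, ← (rQ m _ (zQ _ b)).eq, inv_mul_cancel_left, k2])
      exact ⟨d', by rw [← k3, k2]; group⟩
  have ex : ∀ y : Vn n F, ∃ y', (Hy y → Hy y' ∧ ∃ c', g * e (EE (ev 0) y 0) * g⁻¹ =
      e (EE (ev 0) y' c')) := fun y => by
    by_cases hy : Hy y
    · obtain ⟨x', hx', k⟩ := n1 _ (memE hy.1 0)
      obtain ⟨y', c', hy', rfl⟩ := (FV.mem_QQ x').1 hx'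
      exact ⟨y', fun _ => ⟨hy', c', k.symm⟩⟩
    · exact ⟨0, fun k => absurd k hy⟩
  choose A hA using ex
  refine ⟨g, A, fh.e1.1, fun y d hy => ⟨(hA y hy).1, ?_⟩, ⟨1, by rw [gt, xc_eq]⟩, ?_⟩
  · obtain ⟨hy', c', k⟩ := hA y hy
    refine ⟨c' + α d, ?_⟩
    have e1 : ∀ (y : Vn n F) (c d : F), Hy y →
        (EE (ev 0) y (c + d) : XU n F) = EE (ev 0) y c * Tc d (ev 0) := fun y c d hy => by
      rw [mE' hy.1 (hf_zero_left _), hf_zero_left, add_zero, add_zero]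
    rw [← zero_add d, e1 _ _ _ hy, map_mul, c, k, gz, b0, zT, zero_add, e1 _ _ _ hy', map_mul]
  · obtain ⟨hy', c', k⟩ := hA 0 hy_zero
    rw [EE_zero, map_one, mul_one, mul_inv_cancel, ← map_one e, ← EE_zero (ev 0)] at k
    exact (fh.inj _ _ _ _ hy_zero hy' (a.inj k)).1.symm

theorem jobG2b : JobG2b.{u} := fun _ _ _ _ _ _ _ _ _ _ _ _ _ _ _ fh fq a _ _ _ m q =>
  g2b fh fq a m q

end H83.SPG
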