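/- Tower HKS, slot OC: elements of odd order centralising a dihedral or elementary abelian
Sylow 2-subgroup of a simple group. -/
import Cfsg.Agent.H7.HKSSpec
import Cfsg.Agent.H85.Wrap1
import Cfsg.Agent.S0483
import Cfsg.Agent.H24.Walter
import Cfsg.Agent.H24.BenderAb
import Cfsg.Agent.H42.ReeFinal
import Cfsg.Agent.H42.OddOrder
import Cfsg.Agent.H83.SC4
import Cfsg.Agent.H3.DihQuat
import Cfsg.Agent.H61.SL2Basic
import Cfsg.Agent.H98.Sylow

set_option autoImplicit false

namespace H83.HK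

open Cfsg Subgroup
open scoped MatrixGroups

universe u

section L2

variable {F : Type*} [Field F]

theorem sl_ext {A B : SL(2, F)} (h00 : A 0 0 = B 0 0) (h01 : A 0 1 = B 0 1) (h10 : A 1 0 = B 1 0)
    (h11 : A 1 1 = B 1 1) : A = B := by
  ext i j; fin_cases i <;> fin_cases j <;> assumption

theorem sl_det (A : SL(2, F)) : A 0 0 * A 1 1 - A 0 1 * A 1 0 = 1 := by
  have := A.det_coe
  rwa [Matrix.det_fin_two] at this

theorem sl_mul (A B : SL(2, F)) (i j : Fin 2) : (A * B) i j = A i 0 * B 0 j + A i 1 * B 1 j := by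
  change (A.1 * B.1) i j = _
  rw [Matrix.mul_apply, Fin.sum_univ_two]

theorem sl_neg (A : SL(2, F)) (i j : Fin 2) : (-A) i j = -A i j := rfl

theorem sl_scalar {A : SL(2, F)} (h01 : A 0 1 = 0) (h10 : A 1 0 = 0) (h : A 0 0 = A 1 1) :
    A = 1 ∨ A = -1 := by
  have d := sl_det A
  rw [h01, ← h, zero_mul, sub_zero] at d
  rcases mul_self_eq_one_iff.1 d with e | e
  · exact Or.inl (sl_ext (by simp [e]) (by simp [h01]) (by simp [h10]) (by simp [← h, e]))
  · exact Or.inr (sl_ext (by simp [sl_neg, e]) (by simp [sl_neg, h01]) (by simp [sl_neg, h10])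
      (by simp [sl_neg, ← h, e]))

/-- a non-central matrix with central square has trace zero. -/
theorem sl_trace {A : SL(2, F)} (h : A * A = 1 ∨ A * A = -1) (h1 : A ≠ 1) (h2 : A ≠ -1) :
    A 1 1 = -A 0 0 := by
  by_contra t
  have t' : A 0 0 + A 1 1 ≠ 0 := fun e => t (by linear_combination e)
  have e01 : (A * A) 0 1 = 0 := by rcases h with h | h <;> simp [h, sl_neg]
  have e10 : (A * A) 1 0 = 0 := by rcases h with h | h <;> simp [h, sl_neg]
  have e00 : (A * A) 0 0 = (A * A) 1 1 := by rcases h with h | h <;> simp [h, sl_neg]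
  rw [sl_mul] at e01 e10 e00
  rw [sl_mul] at e00
  have a : A 0 1 = 0 := (mul_eq_zero.1 (show A 0 1 * (A 0 0 + A 1 1) = 0 by
    linear_combination e01)).resolve_right t'
  have b : A 1 0 = 0 := (mul_eq_zero.1 (show A 1 0 * (A 0 0 + A 1 1) = 0 by
    linear_combination e10)).resolve_right t'
  have c : A 0 0 - A 1 1 = 0 := (mul_eq_zero.1 (show (A 0 0 - A 1 1) * (A 0 0 + A 1 1) = 0 by
    linear_combination e00)).resolve_right t'
  rcases sl_scalar a b (sub_eq_zero.1 c) with e | e
  · exact h1 e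
  · exact h2 e

theorem sl_three {A B Y : SL(2, F)} (hA : A 1 1 = -A 0 0) (hB : B 1 1 = -B 0 0)
    (A1 : A ≠ 1) (A2 : A ≠ -1) (AB : B ≠ A) (AB' : B ≠ -A) (cA : Y * A = A * Y)
    (cB : Y * B = B * Y) : Y * Y = 1 ∨ Y * Y = -1 := by
  have a1 := congrArg (fun M : SL(2, F) => M 0 0) cA
  have a2 := congrArg (fun M : SL(2, F) => M 0 1) cA
  have a3 := congrArg (fun M : SL(2, F) => M 1 0) cA
  have b1 := congrArg (fun M : SL(2, F) => M 0 0) cB
  have b2 := congrArg (fun M : SL(2, F) => M 0 1) cB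
  have b3 := congrArg (fun M : SL(2, F) => M 1 0) cB
  simp only [sl_mul, hA, hB] at a1 a2 a3 b1 b2 b3
  have dA := sl_det A
  have dB := sl_det B
  have dY := sl_det Y
  rw [hA] at dA
  rw [hB] at dB
  by_cases ht : Y 1 1 = -Y 0 0
  · right
    refine sl_ext ?_ ?_ ?_ ?_ <;> simp only [sl_mul, sl_neg, ht] <;> rw [ht] at dY
    · simp only [Matrix.SpecialLinearGroup.coe_one, Matrix.one_apply_eq]; linear_combination -dY
    · simp; ring
    · simp; ring
    · simp only [Matrix.SpecialLinearGroup.coe_one, Matrix.one_apply_eq]; linear_combination -dY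
  by_cases hs : Y 0 1 = 0 ∧ Y 1 0 = 0 ∧ Y 0 0 = Y 1 1
  · rcases sl_scalar hs.1 hs.2.1 hs.2.2 with e | e <;> simp [e]
  exfalso
  by_cases h2 : (2 : F) = 0
  · have hp : Y 0 0 - Y 1 1 ≠ 0 := fun e => ht (by linear_combination -e + Y 0 0 * h2)
    have a : A 0 1 = 0 := (mul_eq_zero.1 (show A 0 1 * (Y 0 0 - Y 1 1) = 0 by
      linear_combination a2 + A 0 0 * Y 0 1 * h2)).resolve_right hp
    have b : A 1 0 = 0 := (mul_eq_zero.1 (show A 1 0 * (Y 0 0 - Y 1 1) = 0 by
      linear_combination -a3 + A 0 0 * Y 1 0 * h2)).resolve_right hp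
    rcases sl_scalar a b (by rw [hA]; linear_combination A 0 0 * h2) with e | e
    · exact A1 e
    · exact A2 e
  -- the vectors `(2 a, b, c)` of `A` and `B` are proportional
  have m : A 0 0 * B 0 1 = B 0 0 * A 0 1 ∧ A 0 0 * B 1 0 = B 0 0 * A 1 0 ∧
      A 0 1 * B 1 0 = B 0 1 * A 1 0 := by
    by_cases hq : Y 0 1 = 0
    · by_cases hr : Y 1 0 = 0
      · have hp : Y 0 0 - Y 1 1 ≠ 0 := fun e => hs ⟨hq, hr, sub_eq_zero.1 e⟩
        refine ⟨mul_left_cancel₀ hp ?_, mul_left_cancel₀ hp ?_, mul_left_cancel₀ hp ?_⟩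
        · linear_combination A 0 0 * b2 - B 0 0 * a2
        · linear_combination B 0 0 * a3 - A 0 0 * b3
        · linear_combination B 1 0 * a2 - A 1 0 * b2 + 2 * (A 0 0 * B 1 0 - B 0 0 * A 1 0) * hq
      · refine ⟨mul_left_cancel₀ (mul_ne_zero h2 hr) ?_, mul_left_cancel₀ (mul_ne_zero h2 hr) ?_,
          mul_left_cancel₀ hr ?_⟩
        · linear_combination 2 * (B 0 0 * a1 - A 0 0 * b1) + 2 * (A 0 0 * B 1 0 - B 0 0 * A 1 0) * hq
        · linear_combination B 1 0 * a3 - A 1 0 * b3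
        · linear_combination A 1 0 * b1 - B 1 0 * a1
    · refine ⟨mul_left_cancel₀ (mul_ne_zero h2 hq) ?_, mul_left_cancel₀ hq ?_,
        mul_left_cancel₀ hq ?_⟩
      · linear_combination A 0 1 * b2 - B 0 1 * a2
      · linear_combination A 0 0 * b1 - B 0 0 * a1 + Y 1 0 * (mul_left_cancel₀ (mul_ne_zero h2 hq)
          (show 2 * Y 0 1 * (A 0 0 * B 0 1) = 2 * Y 0 1 * (B 0 0 * A 0 1) by
            linear_combination A 0 1 * b2 - B 0 1 * a2))
      · linear_combination A 0 1 * b1 - B 0 1 * a1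
  obtain ⟨m1, m2, m3⟩ := m
  set l := -(A 0 0 * B 0 0) - A 0 1 * B 1 0 with hl
  have e0 : B 0 0 = l * A 0 0 := by linear_combination -B 0 0 * dA + A 0 1 * m2
  have e1 : B 0 1 = l * A 0 1 := by linear_combination -B 0 1 * dA - A 0 0 * m1 + A 0 1 * m3
  have e2 : B 1 0 = l * A 1 0 := by linear_combination -B 1 0 * dA - A 0 0 * m2
  have e3 : l * l = 1 := by
    rw [e0, e1, e2] at dB
    linear_combination dB - l * l * dA
  rcases mul_self_eq_one_iff.1 e3 with e | e
  · exact AB (sl_ext (by rw [e0, e, one_mul]) (by rw [e1, e, one_mul]) (by rw [e2, e, one_mul])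
      (by rw [hA, hB, e0, e, one_mul]))
  · exact AB' (sl_ext (by rw [sl_neg, e0, e]; ring) (by rw [sl_neg, e1, e]; ring)
      (by rw [sl_neg, e2, e]; ring) (by rw [sl_neg, hA, hB, e0, e]; ring))

theorem mk_eq_iff {A B : SL(2, F)} :
    (A : Matrix.ProjectiveSpecialLinearGroup (Fin 2) F) = B ↔ B = A ∨ B = -A := by
  rw [QuotientGroup.eq, H61.sl_mem_center_iff, inv_mul_eq_one, inv_mul_eq_iff_eq_mul, mul_neg,
    mul_one, eq_comm]

theorem comm_of_odd {Y A : SL(2, F)} {m : ℕ} (hm : Odd m) (hY : Y ^ m = 1 ∨ Y ^ m = -1)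
    (h : A * Y = Y * A ∨ A * Y = -(Y * A)) (h2 : A * A = 1 ∨ A * A = -1) : Y * A = A * Y := by
  rcases h with h | h
  · exact h.symm
  have key : ∀ k : ℕ, A * Y ^ k = (-1) ^ k * (Y ^ k * A) := by
    intro k
    induction k with
    | zero => simp
    | succ k ih =>
      rw [pow_succ, ← mul_assoc, ih, mul_assoc, mul_assoc, h, pow_succ]
      simp [mul_assoc]
  have := key m
  rw [hm.neg_one_pow] at this
  have e : A = -A := by
    rcases hY with e | e
    · simpa [e] using this
    · exact Eq.symm (by simpa [e] using this)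
  rw [h, ← mul_neg, ← e]

/-- In `PSL₂(F)` an element of odd order centralising two distinct involutions is trivial. -/
theorem psl_odd {a b y : Matrix.ProjectiveSpecialLinearGroup (Fin 2) F} (ha : a * a = 1)
    (hb : b * b = 1) (a1 : a ≠ 1) (b1 : b ≠ 1) (ab : a ≠ b) (hy : Odd (orderOf y))
    (ca : a * y = y * a) (cb : b * y = y * b) : y = 1 := by
  obtain ⟨A, rfl⟩ := QuotientGroup.mk_surjective a
  obtain ⟨B, rfl⟩ := QuotientGroup.mk_surjective b
  obtain ⟨Y, rfl⟩ := QuotientGroup.mk_surjective y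
  have one : ∀ {X : SL(2, F)}, (X : Matrix.ProjectiveSpecialLinearGroup (Fin 2) F) = 1 ↔
      X = 1 ∨ X = -1 := by
    intro X; rw [QuotientGroup.eq_one_iff, H61.sl_mem_center_iff]
  have hY := pow_orderOf_eq_one (Y : Matrix.ProjectiveSpecialLinearGroup (Fin 2) F)
  rw [← QuotientGroup.mk_pow, one] at hY
  rw [← QuotientGroup.mk_mul, one] at ha hb
  rw [← QuotientGroup.mk_mul, ← QuotientGroup.mk_mul, eq_comm, mk_eq_iff] at ca cb
  rw [Ne, one, not_or] at a1 b1
  rw [Ne, mk_eq_iff, not_or] at ab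
  have := sl_three (sl_trace ha a1.1 a1.2) (sl_trace hb b1.1 b1.2) a1.1 a1.2 ab.1 ab.2
    (comm_of_odd hy hY ca ha) (comm_of_odd hy hY cb hb)
  rw [← one, QuotientGroup.mk_mul, ← pow_two] at this
  have h1 := orderOf_dvd_of_pow_eq_one this
  rw [← orderOf_eq_one_iff]
  rcases (Nat.dvd_prime Nat.prime_two).1 h1 with e | e
  · exact e
  · rw [e] at hy; exact absurd hy (by decide)

theorem equiv_odd {G : Type*} [Group G] (e : G ≃* Matrix.ProjectiveSpecialLinearGroup (Fin 2) F)
    {a b y : G} (ha : a * a = 1)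
    (hb : b * b = 1) (a1 : a ≠ 1) (b1 : b ≠ 1) (ab : a ≠ b) (hy : Odd (orderOf y))
    (ca : a * y = y * a) (cb : b * y = y * b) : y = 1 := by
  refine e.map_eq_one_iff.1 (psl_odd (a := e a) (b := e b) ?_ ?_ ?_ ?_ ?_ ?_ ?_ ?_)
  · rw [← map_mul, ha, map_one]
  · rw [← map_mul, hb, map_one]
  · exact fun h => a1 (e.map_eq_one_iff.1 h)
  · exact fun h => b1 (e.map_eq_one_iff.1 h)
  · exact fun h => ab (e.injective h)
  · rwa [e.orderOf_eq]
  · rw [← map_mul, ca, map_mul]
  · rw [← map_mul, cb, map_mul]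

end L2

theorem a7_multiset (m : Multiset ℕ) (hs : m.sum ≤ 7) (h2 : ∀ x ∈ m, 2 ≤ x)
    (he : Even (m.sum + Multiset.card m)) (h4 : 4 ∣ m.lcm) : m.lcm = 4 := by
  induction m using Quotient.inductionOn with
  | h l =>
    match l with
    | [] => simp at h4
    | [a] =>
      have := h2 a (by simp)
      simp at hs he h4 ⊢
      interval_cases a <;> revert he h4 <;> decide
    | [a, b] =>
      have := h2 a (by simp)
      have := h2 b (by simp)
      simp at hs he h4 ⊢
      have : a ≤ 5 := by omega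
      have : b ≤ 5 := by omega
      interval_cases a <;> interval_cases b <;> revert he h4 hs <;> decide
    | [a, b, c] =>
      have := h2 a (by simp)
      have := h2 b (by simp)
      have := h2 c (by simp)
      simp at hs he h4 ⊢
      have : a ≤ 3 := by omega
      have : b ≤ 3 := by omega
      have : c ≤ 3 := by omega
      interval_cases a <;> interval_cases b <;> interval_cases c <;> revert he h4 hs <;> decide
    | a :: b :: c :: d :: l =>
      have := h2 a (by simp)
      have := h2 b (by simp)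
      have := h2 c (by simp)
      have := h2 d (by simp)
      simp at hs
      omega

theorem a7_four (g : alternatingGroup (Fin 7)) (h : 4 ∣ orderOf g) : orderOf g = 4 := by
  rw [← Subgroup.orderOf_coe, ← Equiv.Perm.lcm_cycleType] at h ⊢
  refine a7_multiset _ ?_ (fun x hx => Equiv.Perm.two_le_of_mem_cycleType hx) ?_ h
  · rw [Equiv.Perm.sum_cycleType]
    simpa using (g : Equiv.Perm (Fin 7)).support.card_le_univ
  · have := Equiv.Perm.mem_alternatingGroup.1 g.2
    rw [Equiv.Perm.sign_of_cycleType] at this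
    by_contra ho
    rw [(Nat.not_even_iff_odd.1 ho).neg_one_pow] at this
    exact absurd this (by decide)

theorem odd_mem {G : Type*} [Group G] {L : Subgroup G} {y : G} (hy : Odd (orderOf y))
    (h : y * y ∈ L) : y ∈ L := by
  obtain ⟨k, hk⟩ := hy
  have : y = ((y * y) ^ (k + 1)) := by
    rw [← pow_two, ← pow_mul, show 2 * (k + 1) = (2 * k + 1) + 1 by ring, ← hk, pow_succ,
      pow_orderOf_eq_one, one_mul]
  rw [this]; exact pow_mem h _

theorem el_comm {G : Type*} [Group G] {S : Subgroup G} (h : ∀ s ∈ S, s * s = 1) {a b : G}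
    (ha : a ∈ S) (hb : b ∈ S) : a * b = b * a := by
  have := h _ (mul_mem ha hb)
  rw [← inv_eq_of_mul_eq_one_right this, mul_inv_rev, inv_eq_of_mul_eq_one_right (h a ha),
    inv_eq_of_mul_eq_one_right (h b hb)]

theorem mem_zpowers_inv {G : Type*} [Group G] {t x : G} (ht : t * t = 1) (hx : x ∈ zpowers t) :
    x = 1 ∨ x = t := by
  obtain ⟨k, rfl⟩ := mem_zpowers_iff.1 hx
  have h2 : t ^ (2 : ℤ) = 1 := by rw [zpow_two, ht]
  rcases Int.even_or_odd' k with ⟨j, rfl | rfl⟩
  · left; rw [zpow_mul, h2, one_zpow]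
  · right; rw [zpow_add, zpow_mul, h2, one_zpow, one_mul, zpow_one]

theorem jr_case {G : Type u} [Group G] [Finite G] {t : G} {E L : Subgroup G} {q : ℕ}
    (h : H10.W.JR t E L q) (S : Sylow 2 G) (hS : ∀ s ∈ (S : Subgroup G), s * s = 1) {y : G}
    (hy : Odd (orderOf y)) (ht : t ∈ (S : Subgroup G)) (c : ∀ s ∈ (S : Subgroup G), s * y = y * s) :
    y = 1 := by
  obtain rfl := (H42.Ree.walterB G t E L q h).1
  have c8 := ((H24.jobJR' G t E E q h).card_sylow S).1
  obtain ⟨-, hE, hc, -, hsup⟩ := h.prod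
  have tt := hS t ht
  have hn : E ≤ normalizer (zpowers t : Set G) := H98.le_normalizer_of_le_centralizer fun e he =>
    mem_centralizer_iff.2 fun a ha => hc a ha e he
  have dec : ∀ g : G, t * g = g * t → g ∈ E ∨ t * g ∈ E := by
    intro g hg
    have : g ∈ zpowers t ⊔ E := by rw [hsup]; exact mem_centralizer_singleton_iff.2 hg.symm
    obtain ⟨n, hn, a, ha, rfl⟩ := (H98.mem_sup_right_norm hn).1 this
    rcases mem_zpowers_inv tt hn with rfl | rfl
    · left; simpa using ha
    · right; rwa [← mul_assoc, tt, one_mul]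
  have yE : y ∈ E := by
    rcases dec y (c t ht) with e | e
    · exact e
    · refine odd_mem hy ?_
      have := mul_mem e e
      rwa [mul_assoc, ← mul_assoc y, ← c t ht, mul_assoc, ← mul_assoc, tt, one_mul] at this
  have pick : ∀ u : G, ∃ a ∈ (S : Subgroup G), a ∈ E ∧ a ≠ 1 ∧ a ≠ u := by
    intro u
    obtain ⟨a, ha, hn⟩ : ∃ a ∈ (S : Subgroup G), a ∉ ({1, t, u, t * u} : Set G) := by
      by_contra hcon
      push Not at hcon
      have h1 : Nat.card (S : Subgroup G) ≤ ({1, t, u, t * u} : Set G).ncard :=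
        Set.ncard_le_ncard hcon
      have h2 : ({1, t, u, t * u} : Set G).ncard ≤ 4 :=
        (Set.ncard_insert_le _ _).trans (Nat.succ_le_succ ((Set.ncard_insert_le _ _).trans
          (Nat.succ_le_succ ((Set.ncard_insert_le _ _).trans (by simp)))))
      omega
    simp only [Set.mem_insert_iff, Set.mem_singleton_iff, not_or] at hn
    rcases dec a (el_comm hS ht ha) with e | e
    · exact ⟨a, ha, e, hn.1, hn.2.2.1⟩
    · refine ⟨t * a, mul_mem ht ha, e, fun e' => hn.2.1 ?_, fun e' => hn.2.2.2 ?_⟩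
      · rw [← inv_eq_of_mul_eq_one_right e', inv_eq_of_mul_eq_one_right tt]
      · rw [← e', ← mul_assoc, tt, one_mul]
  obtain ⟨a, ha, aE, a1, -⟩ := pick 1
  obtain ⟨b, hb, bE, b1, ba⟩ := pick a
  obtain ⟨F, _, _, -, ⟨e⟩⟩ := h.iso
  have := equiv_odd e (a := ⟨a, aE⟩) (b := ⟨b, bE⟩) (y := ⟨y, yE⟩) (Subtype.ext (hS a ha))
    (Subtype.ext (hS b hb)) (fun e' => a1 (congrArg Subtype.val e'))
    (fun e' => b1 (congrArg Subtype.val e')) (fun e' => ba (congrArg Subtype.val e').symm)
    (by rwa [← Subgroup.orderOf_coe]) (Subtype.ext (c a ha)) (Subtype.ext (c b hb))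
  exact congrArg Subtype.val this

theorem el_case {G : Type u} [Group G] [Finite G] [IsSimpleGroup G] (hG : ¬ IsMulCommutative G)
    (S : Sylow 2 G) (hc : ¬ IsCyclic (S : Subgroup G)) (hS : ∀ s ∈ (S : Subgroup G), s * s = 1)
    {y : G} (hy : Odd (orderOf y)) (c : ∀ s ∈ (S : Subgroup G), s * y = y * s) : y = 1 := by
  have hel : ∀ (g : G), ∀ s ∈ ((g • S : Sylow 2 G) : Subgroup G), s * s = 1 := by
    intro g s hs
    obtain ⟨s, hs, rfl⟩ := hs
    change g * s * g⁻¹ * (g * s * g⁻¹) = 1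
    rw [show g * s * g⁻¹ * (g * s * g⁻¹) = g * (s * s) * g⁻¹ by group, hS s hs]; simp
  have ab : H10.W.Ab2 G := fun P => by
    obtain ⟨g, rfl⟩ := MulAction.exists_smul_eq G S P
    exact ⟨⟨fun a b => Subtype.ext (el_comm (hel g) a.2 b.2)⟩⟩
  obtain ⟨a, ha, a1⟩ : ∃ a ∈ (S : Subgroup G), a ≠ 1 := by
    by_contra hcon
    push Not at hcon
    rw [(eq_bot_iff_forall _).2 hcon] at hc
    exact hc inferInstance
  obtain ⟨b, hb, ba⟩ : ∃ b ∈ (S : Subgroup G), b ∉ zpowers a := by
    by_contra hcon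
    push Not at hcon
    rw [le_antisymm hcon (zpowers_le.2 ha)] at hc
    exact hc inferInstance
  have l2 : ∀ q, H10.W.IsL2 G q → y = 1 := fun q ⟨F, _, _, _, ⟨e⟩⟩ =>
    equiv_odd e (hS a ha) (hS b hb) a1 (fun e' => ba (e' ▸ one_mem _))
      (fun e' => ba (e' ▸ mem_zpowers _)) hy (c a ha) (c b hb)
  rcases H24.walterA G hG ab with ⟨n, -, h⟩ | ⟨q, -, -, h⟩ | ⟨t, E, L, q, h⟩
  · exact l2 _ h
  · exact l2 _ h
  · obtain ⟨P, hP⟩ := (H98.isPGroup_zpowers (p := 2) (x := t) (k := 1)
      (by rw [pow_one, ← h.inv, pow_orderOf_eq_one])).exists_le_sylow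
    obtain ⟨g, rfl⟩ := MulAction.exists_smul_eq G S P
    have := jr_case h (g • S) (hel g) (y := g * y * g⁻¹) (by
      rwa [← MulAut.conj_apply, MulEquiv.orderOf_eq]) (hP (mem_zpowers t)) (by
      rintro _ ⟨s, hs, rfl⟩
      change g * s * g⁻¹ * (g * y * g⁻¹) = g * y * g⁻¹ * (g * s * g⁻¹)
      rw [show g * s * g⁻¹ * (g * y * g⁻¹) = g * (s * y) * g⁻¹ by group, c s hs]; group)
    simpa using this

theorem jobOC : H7.HKS.JobOC.{u} := by
  intro G _ _ _ S y hG hS hi h hy c
  obtain ⟨P, rfl⟩ := H98.isSyl_top_iff.1 (H98.isSyl_of_not_dvd_relIndex (p := 2) le_top hS (by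
    rw [relIndex_top_right, ← even_iff_two_dvd]; exact Nat.not_even_iff_odd.2 hi))
  have h2 : 2 ∣ Nat.card G := by
    by_contra h2
    have := H42.odd_order (G := G) (Nat.not_even_iff_odd.1 (by rwa [even_iff_two_dvd]))
    exact hG ⟨⟨IsSimpleGroup.comm_iff_isSolvable.2 this⟩⟩
  have hc := H83.not_isCyclic_sylow_two hG P h2
  rcases h with ⟨a, d, aa, dd, hP⟩ | h
  swap
  · exact el_case hG P hc h hy c
  have ia := inv_eq_of_mul_eq_one_right aa
  have id := inv_eq_of_mul_eq_one_right dd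
  have ha : a ∈ (P : Subgroup G) := hP ▸ subset_closure (by simp)
  have hd : d ∈ (P : Subgroup G) := hP ▸ subset_closure (by simp)
  have hr : a * d ∈ (P : Subgroup G) := mul_mem ha hd
  have hP' : closure {a * d, d} = (P : Subgroup G) := by
    apply le_antisymm
    · rw [closure_le]; rintro x (rfl | rfl) <;> assumption
    · rw [← hP, closure_le]
      have m1 : a * d ∈ closure ({a * d, d} : Set G) := subset_closure (by simp)
      have m2 : d ∈ closure ({a * d, d} : Set G) := subset_closure (by simp)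
      rintro x (rfl | rfl)
      · exact (mul_mem_cancel_right m2).1 m1
      · exact m2
  have dr : d ∉ zpowers (a * d) := fun e => by
    have : (P : Subgroup G) = zpowers (a * d) := by
      refine le_antisymm ?_ (zpowers_le.2 hr)
      rw [← hP', closure_le]
      rintro x (rfl | rfl)
      · exact mem_zpowers _
      · exact e
    rw [this] at hc
    exact hc inferInstance
  have rel : d * (a * d) * d⁻¹ = (a * d)⁻¹ := by
    rw [mul_inv_rev, ia, ← mul_assoc, mul_inv_cancel_right, id]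
  obtain ⟨k, hk⟩ : ∃ k, orderOf (a * d) = 2 ^ k := by
    have := (IsPGroup.iff_orderOf.1 P.isPGroup') ⟨_, hr⟩
    rwa [← Subgroup.orderOf_coe] at this
  have k0 : k ≠ 0 := by
    rintro rfl
    rw [pow_zero, orderOf_eq_one_iff] at hk
    have : (P : Subgroup G) = zpowers d := by
      rw [← hP', hk, zpowers_eq_closure]
      exact closure_insert_one _
    rw [this] at hc
    exact hc inferInstance
  by_cases k1 : k = 1
  · refine el_case hG P hc ?_ hy c
    have e : a * d = d * a := by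
      have := pow_orderOf_eq_one (a * d)
      rw [hk, k1, pow_one, pow_two] at this
      rw [← inv_eq_of_mul_eq_one_right this, mul_inv_rev, ia, id]
    have cm : ∀ s ∈ closure ({a, d} : Set G), ∀ s' ∈ closure ({a, d} : Set G), Commute s s' := by
      intro s hs s' hs'
      induction hs, hs' using closure_induction₂ with
      | mem x y hx hy =>
        rcases hx with rfl | rfl <;> rcases hy with rfl | rfl
        · rfl
        · exact e
        · exact e.symm
        · rfl
      | one_left => exact Commute.one_left _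
      | one_right => exact Commute.one_right _
      | mul_left _ _ _ _ _ _ h1 h2 => exact h1.mul_left h2
      | mul_right _ _ _ _ _ _ h1 h2 => exact h1.mul_right h2
      | inv_left _ _ _ _ h => exact h.inv_left
      | inv_right _ _ _ _ h => exact h.inv_right
    intro s hs
    rw [← hP] at hs
    induction hs using closure_induction with
    | mem x hx => rcases hx with rfl | rfl <;> assumption
    | one => simp
    | mul x y hx hy h1 h2 => rw [(cm y hy x hx).mul_mul_mul_comm, h1, h2, one_mul]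
    | inv x _ h1 => rw [← mul_inv_rev, h1, inv_one]
  have iso := H3.nonempty_closure_mulEquiv_dihedral hk (by rw [pow_two, dd]) rel dr
  rw [hP'] at iso
  have n2 : 2 ≤ 2 ^ k := by
    obtain ⟨j, rfl⟩ := Nat.exists_eq_succ_of_ne_zero k0
    have := Nat.one_le_two_pow (n := j)
    rw [pow_succ]; omega
  rcases H85.gw_simple (@Cfsg.Agent.S0483.result) hG P n2 iso with ⟨F, _, _, -, -, ⟨e⟩⟩ | ⟨⟨e⟩⟩
  · obtain ⟨j, rfl⟩ := Nat.exists_eq_succ_of_ne_zero k0
    have z : (a * d) ^ 2 ^ j ∈ zpowers (a * d) := npow_mem_zpowers _ _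
    refine equiv_odd e (a := (a * d) ^ 2 ^ j) (b := d) ?_ dd ?_ (fun e' => dr (e' ▸ one_mem _))
      (fun e' => dr (by rw [e'] at z; exact z)) hy (c _ (pow_mem hr _)) (c d hd)
    · rw [← pow_two, ← pow_mul, ← pow_succ, ← hk, pow_orderOf_eq_one]
    · refine pow_ne_one_of_lt_orderOf (by positivity) ?_
      rw [hk]; exact Nat.pow_lt_pow_right (by norm_num) (Nat.lt_succ_self j)
  · have h4 : 4 ∣ 2 ^ k := pow_dvd_pow 2 (show 2 ≤ k by omega)
    have cp : (orderOf (a * d)).Coprime (orderOf y) := by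
      rw [hk]; exact (Nat.coprime_two_left.2 hy).pow_left _
    have o := (show Commute (a * d) y from c _ hr).orderOf_mul_eq_mul_orderOf_of_coprime cp
    have := a7_four (e (a * d * y)) (by rw [e.orderOf_eq, o, hk]; exact h4.mul_right _)
    rw [e.orderOf_eq, o, hk] at this
    obtain ⟨j, hj⟩ := h4
    rw [hj, mul_assoc] at this
    exact orderOf_eq_one_iff.1 (Nat.eq_one_of_mul_eq_one_left (m := j) (by omega))

end H83.HK
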