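import Cfsg.Agent.H83.SfE1

/-! STD-F4, job FE: cocycles of `P` with values in `V`. -/

set_option autoImplicit false
set_option linter.unusedSectionVars false
set_option synthInstance.maxSize 2000

namespace H83.SfE

open Cfsg.Lie H64.SF Subgroup
open H64.SG (Cz Cs Ns IsO2 mem_Cs mem_Cz)
open H67.SA (cm cm_eq_one)
open H59.SO (AutOn)
open H86.WR (XF US UF4)
open H46.SF (sh)

variable {F : Type} [Field F] [CharP F 2] [Finite F]

/-- `θ` is multiplicative on `P` and fixes `Q`. -/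
structure Hy (θ : XF F → XF F) : Prop where
  mul : ∀ a ∈ P F 44, ∀ b ∈ P F 44, θ (a * b) = θ a * θ b
  fix : ∀ u ∈ Q F 44, θ u = u

variable {θ : XF F → XF F}

theorem Hy.one (h : Hy θ) : θ 1 = 1 := h.fix 1 (one_mem _)

theorem Hy.inv (h : Hy θ) {a : XF F} (ha : a ∈ P F 44) : θ a⁻¹ = (θ a)⁻¹ :=
  eq_inv_of_mul_eq_one_left (by rw [← h.mul _ (inv_mem ha) _ ha, inv_mul_cancel, h.one])

theorem Hy.conj (h : Hy θ) {a b : XF F} (ha : a ∈ P F 44) (hb : b ∈ P F 44) :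
    θ (a * b * a⁻¹) = θ a * θ b * (θ a)⁻¹ := by
  rw [h.mul _ (mul_mem ha hb) _ (inv_mem ha), h.mul _ ha _ hb, h.inv ha]

theorem Hy.cmm (h : Hy θ) {a b : XF F} (ha : a ∈ P F 44) (hb : b ∈ P F 44) :
    θ (cm a b) = cm (θ a) (θ b) := by
  rw [H67.SA.cm, h.mul _ (mul_mem (mul_mem ha hb) (inv_mem ha)) _ (inv_mem hb), h.conj ha hb,
    h.inv hb]

theorem Hy.mem (R : FR F) (h : Hy θ) {p : XF F} (hp : p ∈ P F 44) : θ p * p⁻¹ ∈ V F 44 :=
  (mem_V R).2 fun u hu => by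
    have h1 := conjQ R (inv_mem hp) hu
    have h2 := h.mul _ hp _ (QP h1)
    rw [h.fix _ h1, show p * (p⁻¹ * u * p⁻¹⁻¹) = u * p by group, h.mul _ (QP hu) _ hp,
      h.fix _ hu] at h2
    rw [← mul_assoc, h2]; group

/-- The coordinates of the cocycle. -/
noncomputable def cc (θ : XF F → XF F) (p : XF F) (r : ℕ) : F := co (θ p * p⁻¹) r

theorem Hy.cx (R : FR F) (h : Hy θ) {s r : ℕ} (hs : s ∈ Lv) (hr : r ∈ M8) (d : F) {q : XF F}
    (hq : q ∈ P F 44) : cc θ (x F s d * q) r =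
      cc θ (x F s d) r + (cc θ q r + d ^ ex s * cc θ q (bk s r)) := by
  have sP := xP s d (Lv_spec s hs).2.1
  rw [cc, cc, cc, cc, ← co_conj R hs hr d (h.mem R hq), ← co_mul (h.mem R sP)
    (conjV R sP (h.mem R hq)), h.mul _ sP _ hq]
  congr 1; group

/-- the coordinates that vanish -/
def Z0 (s r : ℕ) : Prop := r = 48 ∨ (r ∈ M8 ∧ ip r s ≤ 0)

instance (s r : ℕ) : Decidable (Z0 s r) := by unfold Z0; infer_instance

theorem cc48 (p : XF F) : cc θ p 48 = 0 := co_not (by decide +kernel)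

theorem tV : ∀ s ∈ Lv, ∀ v ∈ M8, ip v s ≤ 0 → v = 48 ∨ (∃ r ∈ M8, bk s r = v) ∨
    ∃ r ∈ M8, bk s r = 48 ∧ ∃ t ∈ Lv, bk t r = v ∧ 0 ≤ ip s t := by decide +kernel

theorem Hy.van (R : FR F) (h : Hy θ) {s v : ℕ} (hs : s ∈ Lv) (hv : Z0 s v) (a : F) :
    cc θ (x F s a) v = 0 := by
  have s1 := (Lv_spec s hs).1
  have sP := xP s a (Lv_spec s hs).2.1
  rcases hv with rfl | hv
  · exact cc48 _
  rcases tV s hs v hv.1 hv.2 with rfl | ⟨r, hr, rfl⟩ | ⟨r, hr, e, t, ht, rfl, e'⟩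
  · exact cc48 _
  · have h1 := h.cx R hs hr a sP
    rw [x_sq s1, cc, h.one, one_mul, inv_one, co_one, ← add_assoc, CharTwo.add_self_eq_zero,
      zero_add, eq_comm, mul_eq_zero] at h1
    refine h1.elim (fun h2 => ?_) id
    rw [pow_eq_zero_iff'.1 h2 |>.1, x_zero s1, cc, h.one, one_mul, inv_one, co_one]
  · have h1 := h.cx R hs hr a (xP t 1 (Lv_spec t ht).2.1)
    rw [x_c0 s1 (Lv_spec t ht).1 e', h.cx R ht hr 1 sP, e, cc48, one_pow] at h1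
    linear_combination h1

/-- The long roots of the Levi factor. -/
def LL : List ℕ := [15, 16, 17, 21, 22, 23, 24, 25, 26, 30, 31, 32]

/-- `u - t` -/
def df (u t : ℕ) : ℕ := lc 1 u (-1) t

/-- `u = (u - t) + t`, and the conditions for comparing coordinates at `r`. -/
def Adj (u t r : ℕ) : Prop := df u t ∈ Lv ∧ t ∈ Lv ∧ u ∈ Lv ∧ r ∈ M8 ∧ bk u r ∈ M8 ∧
  (df u t < 48 ∧ t < 48 ∧ sh (df u t) = sh t ∧ ip (df u t) t < 0 ∧ t ≠ 47 - df u t ∧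
    ad (df u t) t = u) ∧ ex (df u t) = 1 ∧ Z0 (df u t) (bk t r) ∧ Z0 t (bk u r) ∧
    Z0 (df u t) (bk u r) ∧ Z0 (df u t) (bk t (bk u r)) ∧ bk (df u t) r = ad t (bk u r)

instance (u t r : ℕ) : Decidable (Adj u t r) := by unfold Adj; infer_instance

theorem Hy.adj (R : FR F) (h : Hy θ) {u t r : ℕ} (e : Adj u t r) (a : F) :
    cc θ (x F u a) r = a * cc θ (x F t 1) (ad t (bk u r)) := by
  obtain ⟨e1, e2, e3, e4, e5, e6, e7, e8, e9, e10, e11, e12⟩ := e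
  generalize df u t = s at *
  have sP := xP s a (Lv_spec s e1).2.1
  have tP := xP t (1 : F) (Lv_spec t e2).2.1
  have h0 : x F s a * x F t 1 = x F u a * (x F t 1 * x F s a) := by
    rw [← mul_one a, ← c1' s t u a 1 e6, mul_one, H67.SA.cm]; group
  have h1 := h.cx R e1 e4 a tP
  rw [h0, h.cx R e3 e4 a (mul_mem tP sP), h.cx R e2 e4 1 sP, h.cx R e2 e5 1 sP, h.van R e1 e8,
    h.van R e2 e9, h.van R e1 e10, h.van R e1 e11, e7, e12] at h1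
  linear_combination h1

def t0 (ρ : ℕ) : ℕ := [32, 32, 31, 0, 16, 15, 15].getD (ρ - 41) 0
def t1 (ρ : ℕ) : ℕ := [31, 30, 30, 0, 17, 17, 16].getD (ρ - 41) 0

theorem tL : ∀ u ∈ LL, u ∈ Lv ∧ ex u = 1 ∧ ∀ r ∈ M8, (Z0 u r ∧ bk u r = 48) ∨ (bk u r ∈ lV 44 ∧
    (Adj u (t0 (bk u r)) r ∨ (Adj u (t1 (bk u r)) r ∧
      Adj (t1 (bk u r)) (t0 (bk u r)) (ad (t1 (bk u r)) (bk u r)) ∧
      bk (t1 (bk u r)) (ad (t1 (bk u r)) (bk u r)) = bk u r))) := by decide +kernel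

theorem Hy.long (R : FR F) (h : Hy θ) : ∃ v ∈ V F 44, ∀ u ∈ LL, ∀ r ∈ M8, ∀ a,
    cc θ (x F u a) r = a * co v (bk u r) := by
  refine ⟨pr (lV 44) fun ρ => cc θ (x F (t0 ρ) 1) (ad (t0 ρ) ρ),
    pr_mem fun s hs => x_mem hs (abV s hs).1 _, fun u hu r hr a => ?_⟩
  obtain ⟨h1, -, h2⟩ := tL u hu
  rcases h2 r hr with e | ⟨e0, e | e⟩
  · rw [h.van R h1 e.1, e.2, co_not (by decide +kernel), mul_zero]
  · rw [h.adj R e, co_pr, if_pos e0]
  · rw [h.adj R e.1, h.adj R e.2.1, e.2.2, co_pr, if_pos e0, one_mul]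

theorem Hy.tw (R : FR F) (h : Hy θ) {v : XF F} (hv : v ∈ V F 44) :
    Hy fun y => v⁻¹ * θ y * v :=
  ⟨fun a ha b hb => by rw [h.mul a ha b hb]; group,
    fun u hu => by rw [h.fix u hu, mul_assoc, (mem_V R).1 hv u hu, inv_mul_cancel_left]⟩

theorem Hy.fixL (R : FR F) (h : Hy θ) : ∃ v ∈ V F 44, ∀ u ∈ LL, ∀ a,
    v⁻¹ * θ (x F u a) * v = x F u a := by
  obtain ⟨v, hv, h1⟩ := h.long R
  have h2 := h.tw R hv
  have k : ∀ u ∈ LL, ∀ a, ∃ z ∈ Z F 44, v⁻¹ * θ (x F u a) * v = z * x F u a := by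
    intro u hu a
    obtain ⟨u1, u2, -⟩ := tL u hu
    have uP := xP u a (Lv_spec u u1).2.1
    refine ⟨_, mem_of_co (h2.mem R uP) fun r r1 r2 => ?_, (inv_mul_cancel_right _ _).symm⟩
    have hr : r ∈ M8 := (by decide +kernel : ∀ r ∈ lV 44, r ∉ [44] → r ∈ M8) r r1 r2
    have e : v⁻¹ * θ (x F u a) * v * (x F u a)⁻¹ =
        v⁻¹ * (θ (x F u a) * (x F u a)⁻¹ * (x F u a * v * (x F u a)⁻¹)) := by group
    have h3 := h1 u hu r hr a
    rw [cc] at h3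
    rw [e, inv_eq_of_mul_eq_one_right (v_sq hv), co_mul hv (mul_mem (h.mem R uP) (conjV R uP hv)),
      co_mul (h.mem R uP) (conjV R uP hv), co_conj R u1 hr a hv, h3, u2, pow_one]
    linear_combination (co v r + a * co v (bk u r)) * (CharTwo.two_eq_zero (R := F))
  refine ⟨v, hv, fun u hu a => ?_⟩
  obtain ⟨s, hs, t, ht, e⟩ := (by decide +kernel : ∀ u ∈ LL, ∃ s ∈ LL, ∃ t ∈ LL, ad s t = u ∧
    s ∈ lP 44 ∧ t ∈ lP 44 ∧ s < 48 ∧ t < 48 ∧ sh s = sh t ∧ ip s t < 0 ∧ t ≠ 47 - s) u hu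
  obtain ⟨e1, e2, e3, e4, e5, e6, e7, e8⟩ := e
  obtain ⟨z, z1, z2⟩ := k s hs a
  obtain ⟨w, w1, w2⟩ := k t ht 1
  have h3 := h2.cmm (xP s a e2) (xP t 1 e3)
  simp only [z2, w2] at h3
  rwa [cm_central (xP s a e2) (xP t 1 e3) z1 w1, x_c1 e4 e5 e6 e7 e8, e1, mul_one] at h3

theorem Hy.short (R : FR F) (h : Hy θ) (hL : ∀ u ∈ LL, ∀ a, θ (x F u a) = x F u a) : ∃ κ : F,
    ∀ s, S s → ip 44 s = 0 → ∀ c, θ (x F s c) = x F s c * x F (ad 44 s) (κ * c) := by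
  obtain ⟨k, hk⟩ := exists_pr (l := [44, 46]) (by decide +kernel) (by decide)
    (mem_of_co (h.mem R (xP 28 1)) fun r r1 r2 => h.van R (by decide)
      ((by decide +kernel : ∀ r ∈ lV 44, r ∉ [44, 46] → Z0 28 r) r r1 r2) 1)
  simp only [pr_cons, pr_nil, mul_one] at hk
  rw [mul_inv_eq_iff_eq_mul, mul_assoc] at hk
  have g29 : ∀ c, θ (x F 29 c) = x F 29 c * x F 47 (k 46 * c) := fun c => by
    have h1 := h.cmm (xP 28 1) (xP 24 c)
    have h2 : cm (x F 46 (k 46) * x F 28 1) (x F 24 c) = x F 46 (k 46) * cm (x F 28 1) (x F 24 c) *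
        (x F 46 (k 46))⁻¹ * cm (x F 46 (k 46)) (x F 24 c) := by simp only [H67.SA.cm]; group
    have h3 := cm_central (mul_mem (xP 46 (k 46)) (xP 28 1)) (xP 24 c) (xZ (k 44)) (one_mem _)
    rw [one_mul] at h3
    rw [hk, hL 24 (by decide), h3, h2, c2' 28 24 29 32, c1' 46 24 47, one_pow, one_mul,
      h.mul _ (xP 29 c) _ (xP 32 c), hL 32 (by decide), ← mul_assoc, c0' 46 29,
      mul_assoc (x F 29 c), c0' 46 32, ← mul_assoc, mul_inv_cancel_right, mul_assoc, c0' 32 47,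
      ← mul_assoc, mul_left_inj] at h1
    exact h1
  have st : ∀ l s s' : ℕ, (∀ c, θ (x F s c) = x F s c * x F (ad 44 s) (k 46 * c)) →
      l ∈ LL ∧ 47 - l ∈ LL ∧ l ∈ lP 44 ∧ 47 - l ∈ lP 44 ∧ s ∈ lP 44 ∧ l < 48 ∧ s < 48 ∧ ad 44 s < 48 ∧
        rf l s = s' ∧ rf l (ad 44 s) = ad 44 s' →
      ∀ c, θ (x F s' c) = x F s' c * x F (ad 44 s') (k 46 * c) := by
    intro l s s' g ⟨e1, e2, e3, e4, e5, e6, e7, e8, e9, e10⟩ c
    have nP : n F l ∈ P F 44 := by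
      rw [n_eq e6]; exact mul_mem (mul_mem (xP l 1 e3) (xP _ 1 e4)) (xP l 1 e3)
    have hn : θ (n F l) = n F l := by
      rw [n_eq e6, h.mul _ (mul_mem (xP l 1 e3) (xP _ 1 e4)) _ (xP l 1 e3),
        h.mul _ (xP l 1 e3) _ (xP _ 1 e4), hL l e1, hL _ e2]
    have h1 := h.conj nP (xP s c e5)
    rwa [hn, g, ← conj_mul, n_conj e6 e7, n_conj e6 e8, e9, e10] at h1
  have a29 : ∀ c, θ (x F 29 c) = x F 29 c * x F (ad 44 29) (k 46 * c) := by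
    rwa [show ad 44 29 = 47 by decide +kernel]
  have a19 := st 32 29 19 a29 (by decide +kernel)
  refine ⟨k 46, fun s s1 s2 => ?_⟩
  have : s ∈ [18, 19, 20, 27, 28, 29] :=
    (by decide +kernel : ∀ s < 48, sh s = true → ip 44 s = 0 → s ∈ [18, 19, 20, 27, 28, 29])
      s s1.1 s1.2 s2
  simp only [List.mem_cons, List.not_mem_nil, or_false] at this
  rcases this with rfl | rfl | rfl | rfl | rfl | rfl
  exacts [st 24 19 18 a19 (by decide +kernel), a19, st 31 29 20 a29 (by decide +kernel),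
    st 26 29 27 a29 (by decide +kernel), st 24 29 28 a29 (by decide +kernel), a29]

theorem coc (R : FR F) (θ : XF F → XF F) (A : AutOn (P F 44) θ) (h : ∀ u ∈ Q F 44, θ u = u) :
    ∃ v ∈ V F 44, ∃ κ : F, (∀ y ∈ Y F 44, θ y = v * y * v⁻¹) ∧ ∀ s, S s → ip 44 s = 0 → ∀ c,
      θ (x F s c) = v * (x F s c * x F (ad 44 s) (κ * c)) * v⁻¹ := by
  have h0 : Hy θ := ⟨A.mul, h⟩
  obtain ⟨v, hv, h1⟩ := h0.fixL R
  have h2 := h0.tw R hv
  obtain ⟨κ, h3⟩ := h2.short R h1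
  let K : Subgroup (XF F) :=
    { carrier := {y | y ∈ P F 44 ∧ v⁻¹ * θ y * v = y}
      one_mem' := ⟨one_mem _, h2.one⟩
      mul_mem' := fun {a b} ha hb => ⟨mul_mem ha.1 hb.1, (h2.mul _ ha.1 _ hb.1).trans (by
        rw [ha.2, hb.2])⟩
      inv_mem' := fun {a} ha => ⟨inv_mem ha.1, (h2.inv ha.1).trans (by rw [ha.2])⟩ }
  refine ⟨v, hv, κ, fun y hy => ?_, fun s s1 s2 c => by rw [← h3 s s1 s2 c]; group⟩
  have := (US_le (K := K) (fun r hr _ a => ?_) hy).2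
  · conv_rhs => rw [← this]
    group
  · obtain ⟨e1, e2 | e2⟩ := (by decide +kernel : ∀ r ∈ lY 44, r ∈ lP 44 ∧ (r ∈ lQ 44 ∨ r ∈ LL)) r hr
    · exact ⟨xP r a e1, h2.fix _ (xQ r a e2)⟩
    · exact ⟨xP r a e1, h1 r e2 a⟩

theorem fe (R : FR F) : FE F := ⟨qe R, hq R, cE R, coc R⟩

theorem jobFE (hFR : JobFR) : JobFE := fun F _ _ _ => fe (hFR F)

end H83.SfE
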