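/- Real characters of simple groups with abelian Sylow `2`-subgroups (S4523). -/
import Cfsg.Agent.H24.Walter
import Cfsg.Agent.H30.WBSet
import Cfsg.Agent.H30.WBLF
import Cfsg.Agent.H10.WAsm
import Cfsg.Agent.H10.WB1
import Cfsg.Agent.H41.RealBlock
import Cfsg.Agent.H37.Kernel
import Cfsg.Agent.H83.InvPair

set_option autoImplicit false

namespace H83
open Cfsg Subgroup H10.W H98 H14 H28 H35
open scoped ComplexConjugate

universe u
variable {G : Type*} [Group G] [Finite G] {M : Ideal AlgInt}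

theorem w6_conj (χ : IrrCharacter G) (g : G) : conj ((χ : G → ℂ) g) = (χ : G → ℂ) g⁻¹ :=
  (χ.2.isCharacter.apply_inv g).symm

theorem w6_card_mul {G : Type*} [Group G] {H K : Subgroup G} (h : H ≤ K) :
    Nat.card H * H.relIndex K = Nat.card K := by
  rw [← (H.subgroupOf K).card_mul_index, Nat.card_congr (subgroupOfEquivOfLe h).toEquiv]; rfl

theorem w6_deg_cconj (χ : IrrCharacter G) :
    charDegree (H41.cconj χ : G → ℂ) = charDegree (χ : G → ℂ) := by
  have : (charDegree (H41.cconj χ : G → ℂ) : ℂ) = charDegree (χ : G → ℂ) := by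
    rw [coe_deg, coe_deg, H41.cconj_apply, w6_conj, inv_one]
  exact_mod_cast this

/-- A real element with centralizer of odd order gives a real character of even degree. -/
theorem w6_real_even (hM : IsPModular 2 M) {x d : G} (x1 : x ≠ 1) (hd : d * x * d⁻¹ = x⁻¹)
    (ho : Odd (Nat.card (cen x))) :
    ∃ χ : IrrCharacter G, Even (charDegree (χ : G → ℂ)) ∧ H41.cconj χ = χ := by
  have := hM.2.1
  have := charP_F hM
  by_contra hn
  push Not at hn
  have hS := fun (χ : IrrCharacter G) g => H34.char_mem_S (M := M) χ.2.isCharacter g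
  have hr : ∀ χ : IrrCharacter G, (χ : G → ℂ) x⁻¹ = (χ : G → ℂ) x := fun χ =>
    (χ.2.isClassFunction.eq_of_isConj (isConj_iff.2 ⟨d, hd⟩)).symm
  set f : IrrCharacter G → F M := fun χ => red M ((χ : G → ℂ) x) with hf
  have hA : ∑ χ, f χ ^ 2 = 1 := by
    have h := congrArg (red M) (column_orthogonality_of_isConj (IsConj.refl x))
    simp only [w6_conj, hr] at h
    rw [red_sum _ _ fun χ _ => mul_mem (hS χ x) (hS χ x), red_natCast] at h
    obtain ⟨k, hk⟩ := ho
    rw [hk] at h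
    simp only [red_mul (hS _ x) (hS _ x)] at h
    simpa [pow_two, CharTwo.two_eq_zero] using h
  have hB : ∑ χ, (charDegree (χ : IrrCharacter G).1 : F M) * f χ = 0 := by
    have h := congrArg (red M) (sum_degree_mul_apply_of_ne_one x1)
    rw [red_sum _ _ fun χ _ => mul_mem (hS χ 1) (hS χ x), red_zero] at h
    simp only [red_mul (hS _ 1) (hS _ x)] at h
    simpa only [← coe_deg, red_natCast] using h
  have hC : ∑ χ, (1 + (charDegree (χ : IrrCharacter G).1 : F M)) * f χ = 0 := by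
    refine Finset.sum_involution (fun χ _ => H41.cconj χ) (fun χ _ => ?_) (fun χ _ h0 e => h0 ?_)
      (fun _ _ => Finset.mem_univ _) fun χ _ => H41.cconj_cconj χ
    · simp only [hf, w6_deg_cconj]
      simp only [H41.coe_cconj, hr]
      exact CharTwo.add_self_eq_zero _
    · obtain ⟨k, hk⟩ := Nat.not_even_iff_odd.1 fun h => hn χ h e
      rw [hk]
      push_cast
      rw [CharTwo.two_eq_zero, zero_mul, zero_add, CharTwo.add_self_eq_zero, zero_mul]
  simp only [add_mul, one_mul, Finset.sum_add_distrib, hB, add_zero] at hC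
  rw [← CharTwo.sum_sq, hC] at hA
  simp at hA

/-- The principal `2`-block of a group of even order has a nontrivial real character. -/
theorem w6_real_prin (hM : IsPModular 2 M) {t : G} (ht : orderOf t = 2) :
    ∃ χ ∈ principalBlock M G, (χ : G → ℂ) ≠ (fun _ => 1) ∧ H41.cconj χ = χ := by
  classical
  have := hM.2.1
  have := charP_F hM
  by_contra hn
  push Not at hn
  have hS := fun (χ : IrrCharacter G) g => H34.char_mem_S (M := M) χ.2.isCharacter g
  have h := congrArg (red M) (H37.weak_orthogonality' hM (H37.isPBlock_principalBlock (G := G))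
    (x := t) (y := 1) (by rw [ht]) (by simp))
  simp only [w6_conj, inv_one] at h
  rw [red_sum _ _ fun χ _ => mul_mem (hS χ t) (hS χ 1), red_zero,
    ← Finset.add_sum_erase _ _ ((Set.Finite.mem_toFinset _).2 H37.one_mem_principalBlock),
    Finset.sum_involution (fun χ _ => H41.cconj χ) (fun χ _ => ?_) (fun χ hχ _ => ?_)
      (fun χ hχ => ?_) fun χ _ => H41.cconj_cconj χ] at h
  · simp [red_one] at h
  · simp only [H41.coe_cconj, inv_one, inv_eq_of_orderOf_two ht]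
    exact CharTwo.add_self_eq_zero _
  · exact hn χ ((Set.Finite.mem_toFinset _).1 (Finset.mem_of_mem_erase hχ))
      fun e => Finset.ne_of_mem_erase hχ (Subtype.ext e)
  · refine Finset.mem_erase.2 ⟨fun e => Finset.ne_of_mem_erase hχ ?_, (Set.Finite.mem_toFinset _).2
      (H41.cconj_mem_principalBlock ((Set.Finite.mem_toFinset _).1 (Finset.mem_of_mem_erase hχ)))⟩
    rw [← H41.cconj_cconj χ, e]
    exact Subtype.ext (funext fun g => by simp [H41.cconj])

/-- If `C(st)` has even order then `s` and `t` commute with a common involution. -/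
theorem w6_common {s t : G} (hs : s * s = 1) (ht : t * t = 1) (he : Even (Nat.card (cen (s * t)))) :
    ∃ u, orderOf u = 2 ∧ u ∈ cen s ∧ u ∈ cen t := by
  classical
  have := Fintype.ofFinite G
  have : Fact (Nat.Prime 2) := ⟨Nat.prime_two⟩
  have hi := right_inverts_mul hs ht
  have hm : ∀ y ∈ cen (s * t), t * y * t⁻¹ ∈ cen (s * t) := fun y hy => by
    rw [cen, ← H36.centralizer_singleton_inv, ← hi]
    exact mem_cen.2 (by rw [conj_mul, conj_mul, mem_cen.1 hy])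
  let σ : Function.End (cen (s * t)) := fun y => ⟨t * y * t⁻¹, hm y y.2⟩
  have h := Equiv.Perm.card_fixedPoints_modEq (f := σ) (p := 2) (n := 1) (by
    rw [pow_one, pow_two]
    refine funext fun y => Subtype.ext ?_
    change t * (t * y * t⁻¹) * t⁻¹ = y
    calc _ = (t * t) * y * (t * t)⁻¹ := by group
      _ = y := by rw [ht]; group)
  have e : Fintype.card (Function.fixedPoints σ) = Nat.card (cen (s * t) ⊓ cen t : Subgroup G) := by
    rw [← Nat.card_eq_fintype_card]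
    exact Nat.card_congr ⟨fun y => ⟨y.1.1, y.1.2, mem_cen.2
      (mul_inv_eq_iff_eq_mul.1 (congrArg Subtype.val y.2)).symm⟩, fun y => ⟨⟨y.1, y.2.1⟩,
        Subtype.ext (mul_inv_eq_iff_eq_mul.2 (mem_cen.1 y.2.2).symm)⟩, fun _ => rfl, fun _ => rfl⟩
  rw [← Nat.card_eq_fintype_card] at h
  have h2 : 2 ∣ Nat.card (cen (s * t) ⊓ cen t : Subgroup G) :=
    e ▸ (h.dvd_iff dvd_rfl).1 he.two_dvd
  obtain ⟨u, hu⟩ := exists_prime_orderOf_dvd_card' 2 h2
  refine ⟨u, by rw [orderOf_coe, hu], mem_cen.2 ?_, u.2.2⟩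
  have a := mem_cen.1 u.2.1
  have b := mem_cen.1 u.2.2
  apply mul_right_cancel (b := t)
  rw [mul_assoc, a, mul_assoc, mul_assoc, b]

/-- The involutions of a subgroup. -/
def w6I (H : Subgroup G) : Set G := {a | a ∈ H ∧ orderOf a = 2}

theorem w6_index_le {t : G} (ht : orderOf t = 2)
    (h1 : ∀ s : G, orderOf s = 2 → ∃ g, g * t * g⁻¹ = s)
    (h : ∀ s : G, orderOf s = 2 → ∃ u, orderOf u = 2 ∧ u ∈ cen s ∧ u ∈ cen t) :
    (cen t).index ≤ (w6I (cen t)).ncard ^ 2 := by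
  classical
  have := Fintype.ofFinite G
  have hc : ∀ u ∈ w6I (cen t), (w6I (cen u)).ncard = (w6I (cen t)).ncard := fun u hu => by
    obtain ⟨g, rfl⟩ := h1 u hu.2
    symm
    refine Set.ncard_congr (fun a _ => g * a * g⁻¹) (fun a ha => ⟨?_, by
      rw [orderOf_conj, ha.2]⟩) (fun a b _ _ e => by simpa using e) fun b hb =>
      ⟨g⁻¹ * b * g⁻¹⁻¹, ⟨?_, by rw [orderOf_conj, hb.2]⟩, by group⟩
    · rw [← cj_cen]; exact conj_mem_cj ha.1
    · have := hb.1
      rw [← cj_cen] at this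
      simpa using mem_cj.1 this
  rw [← relIndex_top_right, ← H24.ncard_orb]
  calc _ ≤ (⋃ u ∈ (w6I (cen t)).toFinset, w6I (cen u)).ncard := by
        refine Set.ncard_le_ncard ?_
        rintro _ ⟨g, -, rfl⟩
        have o : orderOf (g * t * g⁻¹) = 2 := by rw [orderOf_conj, ht]
        obtain ⟨u, u2, a, b⟩ := h _ o
        exact Set.mem_biUnion (Set.mem_toFinset.2 ⟨b, u2⟩) ⟨mem_cen.2 (mem_cen.1 a).symm, o⟩
    _ ≤ ∑ u ∈ (w6I (cen t)).toFinset, (w6I (cen u)).ncard := Finset.set_ncard_biUnion_le _ _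
    _ = _ := by
        rw [Finset.sum_congr rfl fun u hu => hc u (Set.mem_toFinset.1 hu), Finset.sum_const,
          smul_eq_mul, ← Set.ncard_eq_toFinset_card', pow_two]

theorem w6_one_class (h : Facts G) {s t : G} (hs : orderOf s = 2) (ht : orderOf t = 2) :
    ∃ g, g * t * g⁻¹ = s := by
  have : Fact (Nat.Prime 2) := ⟨Nat.prime_two⟩
  obtain ⟨P, hP⟩ := (IsPGroup.of_card (n := 1) (G := zpowers s)
    (by rw [Nat.card_zpowers, hs, pow_one])).exists_le_sylow
  obtain ⟨Q, hQ⟩ := (IsPGroup.of_card (n := 1) (G := zpowers t)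
    (by rw [Nat.card_zpowers, ht, pow_one])).exists_le_sylow
  obtain ⟨g, rfl⟩ := MulAction.exists_smul_eq G Q P
  obtain ⟨-, -, d, -, hd⟩ := h.singer (g • Q)
  obtain ⟨k, hk⟩ := hd (g * t * g⁻¹) (by
    rw [coe_smul_sylow]; exact conj_mem_cj (hQ (mem_zpowers t))) s (hP (mem_zpowers s))
    (by simpa using ne_one_of_orderOf_two ht) (ne_one_of_orderOf_two hs)
  exact ⟨d ^ k * g, by rw [← hk]; group⟩

theorem w6_sq (h : Facts G) {a : G} {k : ℕ} (ha : a ^ 2 ^ k = 1) : a * a = 1 := by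
  obtain ⟨P, hP⟩ := (IsPGroup.iff_orderOf.2 fun g : zpowers a => by
    have : Fact (Nat.Prime 2) := ⟨Nat.prime_two⟩
    refine (Nat.dvd_prime_pow Nat.prime_two).1 (orderOf_dvd_of_pow_eq_one (n := 2 ^ k) ?_) |>.imp
      fun _ h => h.2
    obtain ⟨_, i, rfl⟩ := g
    exact Subtype.ext (by
      simp only [SubgroupClass.coe_pow, OneMemClass.coe_one]
      rw [← zpow_natCast, ← zpow_mul, mul_comm, zpow_mul, zpow_natCast, ha, one_zpow])).exists_le_sylow
  rw [← pow_two]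
  exact (h.singer P).1 a (hP (mem_zpowers a))

theorem w6_pow_eq_inv (h : Facts G) {k : ℕ} (hk₁ : ∀ g : G, (∃ j : ℕ, orderOf g = 2 ^ j) → g ^ k = g)
    (hk₂ : ∀ g : G, Odd (orderOf g) → g ^ k = g⁻¹) (g : G) : g ^ k = g⁻¹ := by
  obtain ⟨a, m, hm, e⟩ := Nat.exists_eq_two_pow_mul_odd (orderOf_pos g).ne'
  have h1 : g ^ m * g ^ m = 1 := w6_sq h (k := a) (by rw [← pow_mul, mul_comm, ← e, pow_orderOf_eq_one])
  have h2 : (g ^ m) ^ k = g ^ m := hk₁ _ (by
    obtain ⟨j, -, hj⟩ := (Nat.dvd_prime_pow Nat.prime_two).1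
      (orderOf_dvd_of_pow_eq_one (x := g ^ m) (n := 2 ^ 1) (by rw [pow_one, pow_two, h1]))
    exact ⟨j, hj⟩)
  have h3 : (g ^ 2) ^ k = (g ^ 2)⁻¹ := hk₂ _ (hm.of_dvd_nat (orderOf_dvd_of_pow_eq_one (by
    rw [← pow_mul, mul_comm, pow_mul, pow_two, h1])))
  have h4 : orderOf (g ^ (k + 1)) ∣ 2 := orderOf_dvd_of_pow_eq_one (by
    rw [← pow_mul, mul_comm, pow_mul, pow_succ, h3, inv_mul_cancel])
  have h5 : orderOf (g ^ (k + 1)) ∣ m := orderOf_dvd_of_pow_eq_one (by
    rw [← pow_mul, mul_comm, pow_mul, pow_succ, h2, h1])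
  rw [eq_inv_iff_mul_eq_one, ← pow_succ, ← orderOf_eq_one_iff]
  exact Nat.eq_one_of_dvd_coprimes (Nat.coprime_two_left.2 hm) h4 h5

/-- the two tori of `L₂(q)` -/
theorem w6_split {L : Subgroup G} {p q : ℕ} (h : LF L p q) :
    ∃ T d, Torus L T d q ∧ 2 * Nat.card T + 1 = q := by
  have : Fact p.Prime := ⟨h.prime⟩
  obtain ⟨U, hU⟩ := exists_isSyl (p := p) L
  obtain ⟨U', hU', ne⟩ := h.two U hU
  obtain ⟨⟨d, hd, -⟩, c, -⟩ := h.borel U U' hU hU' ne
  exact ⟨_, d, hd, c⟩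

theorem w6_odd_torus {L : Subgroup G} {p q : ℕ} (h : LF L p q) (hq : 3 < q) :
    ∃ T d, Torus L T d q ∧ Odd (Nat.card T) ∧ 1 < Nat.card T := by
  obtain ⟨T, d, h1, h2⟩ := w6_split h
  obtain ⟨T', d', h1', h2'⟩ := h.nonsplit
  rcases Nat.even_or_odd (Nat.card T) with ⟨k, hk⟩ | hk
  · exact ⟨T', d', h1', ⟨k, by omega⟩, by omega⟩
  · exact ⟨T, d, h1, hk, by omega⟩

theorem w6_isL2_top {q : ℕ} (h : IsL2 G q) : IsL2 (⊤ : Subgroup G) q := by
  obtain ⟨F, _, _, e, ⟨f⟩⟩ := h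
  exact ⟨F, _, _, e, ⟨topEquiv.trans f⟩⟩

/-- number of involutions of `L₂(q)` -/
theorem w6_inv_L {L : Subgroup G} {p q : ℕ} (h : LF L p q) (hF : Facts L) :
    ∃ n, (2 * n + 1 = q ∨ 2 * n = q + 1) ∧ Even n ∧ (w6I L).ncard * (2 * n) ≤ Nat.card L := by
  have : Fact (Nat.Prime 2) := ⟨Nat.prime_two⟩
  have := hF.simple
  obtain ⟨u, hu⟩ := exists_prime_orderOf_dvd_card' 2 (H24.even_card_of_nonabelian hF.nonab).two_dvd
  have u2 : orderOf (u : G) = 2 := by rw [orderOf_coe, hu]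
  obtain ⟨T, d, hT, uT⟩ := h.tor u u.2 (ne_one_of_orderOf_two u2) (by
    rw [u2]; exact fun e => h.odd ((Nat.prime_dvd_prime_iff_eq h.prime Nat.prime_two).1 e))
  refine ⟨Nat.card T, hT.card, even_iff_two_dvd.2 (u2 ▸ orderOf_dvd_natCard T uT), ?_⟩
  have e : w6I L = H24.orb L u := by
    ext a
    refine ⟨fun ha => ?_, ?_⟩
    · obtain ⟨g, hg⟩ := w6_one_class hF (s := ⟨a, ha.1⟩) (by rw [← orderOf_coe, ha.2]) hu
      exact ⟨g, g.2, congrArg Subtype.val hg⟩
    · rintro ⟨g, hg, rfl⟩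
      exact ⟨mul_mem (mul_mem hg u.2) (inv_mem hg), by rw [orderOf_conj, u2]⟩
  have hle : T ≤ L ⊓ cen (u : G) := fun x hx => ⟨hT.le hx, mem_cen.2 (congrArg Subtype.val
    (hT.cyc.commGroup.mul_comm ⟨x, hx⟩ ⟨u, uT⟩))⟩
  have hd : d ∈ L ⊓ cen (u : G) := ⟨hT.mem, mem_cen.2 (by
    have := hT.inv u uT
    rw [inv_eq_of_orderOf_two u2] at this
    exact mul_inv_eq_iff_eq_mul.1 this)⟩
  have h2 : 2 * Nat.card T ≤ Nat.card (L ⊓ cen (u : G) : Subgroup G) := by
    obtain ⟨c, hc⟩ := card_dvd_of_le hle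
    have c1 : c ≠ 1 := fun e1 => hT.notMem (eq_of_le_of_card_ge hle (by rw [hc, e1, mul_one]) ▸ hd)
    have c0 : c ≠ 0 := fun e0 => by rw [e0] at hc; exact Nat.card_pos.ne' hc
    rw [hc, mul_comm]
    exact Nat.mul_le_mul_left _ (by omega)
  rw [e, H24.ncard_orb, ← inf_relIndex_left, ← w6_card_mul (inf_le_left (a := L) (b := cen (u : G))),
    mul_comm (Nat.card (L ⊓ cen (u : G) : Subgroup G))]
  exact Nat.mul_le_mul_left _ h2

theorem w6_exists_real (hB : WalterB.{u}) {G : Type u} [Group G] [Finite G] (h : Known G) :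
    ∃ x d : G, x ≠ 1 ∧ d * x * d⁻¹ = x⁻¹ ∧ Odd (Nat.card (cen x)) := by
  have : Fact (Nat.Prime 2) := ⟨Nat.prime_two⟩
  by_contra hn
  push Not at hn
  have key : ∀ s t : G, orderOf s = 2 → orderOf t = 2 →
      ∃ u, orderOf u = 2 ∧ u ∈ cen s ∧ u ∈ cen t := fun s t hs ht => by
    by_cases e : s = t
    · exact ⟨s, hs, mem_cen.2 rfl, mem_cen.2 (by rw [e])⟩
    have s2 := mul_self_of_orderOf_two hs
    have t2 := mul_self_of_orderOf_two ht
    exact w6_common s2 t2 (Nat.not_odd_iff_even.1 (hn _ t (fun e1 => e (by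
      rw [eq_inv_of_mul_eq_one_left e1, inv_eq_of_orderOf_two ht])) (right_inverts_mul s2 t2)))
  rcases h with h | ⟨q, q3, q8, h⟩ | ⟨t, E, L, q, h⟩
  · obtain ⟨_, hna⟩ := H24.IsL2E.simple h
    obtain ⟨t, ht⟩ := exists_prime_orderOf_dvd_card' 2 (H24.even_card_of_nonabelian hna).two_dvd
    have hc : ∀ s : G, orderOf s = 2 → s * t = t * s := fun s hs => by
      obtain ⟨u, u2, a, b⟩ := key s t hs ht
      have := H24.IsL2E.sq h u (s * t) u2 (by
        rw [mul_assoc, ← mem_cen.1 b, ← mul_assoc, ← mem_cen.1 a, mul_assoc])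
      rw [eq_inv_of_mul_eq_one_left this, mul_inv_rev, inv_eq_of_orderOf_two hs,
        inv_eq_of_orderOf_two ht]
    have hN : normalClosure ({t} : Set G) ≤ cen t := by
      refine closure_le _ |>.2 fun a ha => ?_
      obtain ⟨_, rfl, c⟩ := Group.mem_conjugatesOfSet_iff.1 ha
      obtain ⟨g, rfl⟩ := isConj_iff.1 c
      exact mem_cen.2 (hc _ (by rw [orderOf_conj, ht]))
    rcases (normalClosure_normal (s := ({t} : Set G))).eq_bot_or_eq_top with e | e
    · exact ne_one_of_orderOf_two ht (mem_bot.1 (e ▸ subset_normalClosure rfl))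
    rcases (inferInstance : (center G).Normal).eq_bot_or_eq_top with e' | e'
    · exact ne_one_of_orderOf_two ht (mem_bot.1 (e' ▸ mem_center_iff.2 fun g =>
        mem_cen.1 (hN (e ▸ mem_top g))))
    · exact hna ⟨⟨fun a b => (mem_center_iff.1 (e' ▸ mem_top b) a)⟩⟩
  · obtain ⟨p, hL⟩ := H30.WB.jobLF G ⊤ q (w6_isL2_top h) (Nat.odd_iff.2 (by omega))
    obtain ⟨T, d, hT, ho, h1⟩ := w6_odd_torus hL q3
    obtain ⟨⟨x, hx⟩, x1⟩ := ne_bot_iff_exists_ne_one.1 ((one_lt_card_iff_ne_bot T).1 h1)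
    have x1' : x ≠ 1 := fun e => x1 (Subtype.ext e)
    refine hn x d x1' (hT.inv x hx) ?_
    rw [← top_inf_eq (cen x), hT.cent x hx fun e => x1'
      (H24.eq_one_of_odd_of_sq (H24.odd_orderOf_of_mem ho hx) e)]
    exact ho
  obtain ⟨rfl, hq⟩ := hB G t E L q h
  obtain ⟨p, hL⟩ := H30.WB.jobLF G E q h.iso h.odd
  obtain ⟨n, hn1, hn2, hn3⟩ := w6_inv_L hL (H24.JR.facts h)
  have h1 := w6_index_le h.inv (fun s hs => h.pjr.oneClass hs) fun s hs => key s t hs h.inv
  have h2 : (w6I (cen t)).ncard ≤ 1 + 2 * (w6I E).ncard := by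
    calc _ ≤ ({t} ∪ (w6I E ∪ (fun a => t * a) '' w6I E)).ncard := by
          refine Set.ncard_le_ncard fun a ha => ?_
          rcases h.pjr.mem_or ha.1 with r | r
          · exact Or.inr (Or.inl ⟨r, ha.2⟩)
          by_cases e : a = t
          · exact Or.inl e
          refine Or.inr (Or.inr ⟨t * a, ⟨r, orderOf_eq_two_iff'.2 ⟨?_, fun e1 => e ?_⟩⟩, by
            simp only [← mul_assoc, h.pjr.sq, one_mul]⟩)
          · rw [mul_assoc, ← mul_assoc a, mem_cen.1 ha.1, mul_assoc, mul_self_of_orderOf_two ha.2,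
              mul_one, h.pjr.sq]
          · rw [eq_inv_of_mul_eq_one_right e1, inv_eq_of_orderOf_two h.inv]
      _ ≤ _ := by
          refine (Set.ncard_union_le _ _).trans ?_
          have a := Set.ncard_union_le (w6I E) ((fun a => t * a) '' w6I E)
          have b := Set.ncard_image_le (f := fun a => t * a) (s := w6I E)
          rw [Set.ncard_singleton]
          omega
  have h3 : Nat.card (cen t) = 2 * Nat.card E := by
    obtain ⟨S, hS⟩ := h.pjr.exists_sylow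
    obtain ⟨F, b⟩ := H30.WB.jobBSet G t E E q h S hS
    have := b.card_cen
    rwa [← b.card_E] at this
  have h4 := (cen t).card_mul_index
  have h5 := hL.card
  rw [h3, h5] at h4
  generalize (w6I E).ncard = i at *
  generalize (w6I (cen t)).ncard = c at *
  have h6 := h1.trans (Nat.pow_le_pow_left h2 2)
  generalize (cen t).index = x at *
  generalize Nat.card E = e at *
  rcases hq with ⟨rfl, hq⟩ | ⟨m, -, hm, hq⟩
  · rw [hq.2] at h4
    obtain ⟨k, rfl⟩ := hn2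
    have : k = 1 := by omega
    subst this
    have : i ≤ 15 := by omega
    nlinarith
  · have q4 : q % 4 = 3 := by
      rw [hm, pow_succ, pow_mul, Nat.mul_mod, Nat.pow_mod]; simp
    obtain ⟨k, rfl⟩ := hn2
    obtain ⟨r, rfl⟩ : ∃ r, q = r + 1 := ⟨q - 1, by omega⟩
    have e1 : 2 * (k + k) = r + 1 + 1 := by omega
    rw [e1] at hn3
    rw [hq] at h4
    simp only [Nat.add_sub_cancel] at h4 h5
    have r0 : 0 < r := by omega
    have a1 : 2 * i ≤ (r + 1) * r := Nat.le_of_mul_le_mul_left (c := r + 1 + 1) (by nlinarith) (by omega)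
    have a2 : x = (r + 1) ^ 2 * ((r + 1) * r + 1) :=
      Nat.eq_of_mul_eq_mul_left (n := (r + 1 + 1) * ((r + 1) * r)) (by positivity) (by rw [h4]; ring)
    have a3 := h6.trans (Nat.pow_le_pow_left (show 1 + 2 * i ≤ (r + 1) * r + 1 by omega) 2)
    rw [a2, pow_two ((r + 1) * r + 1)] at a3
    have := Nat.le_of_mul_le_mul_right a3 (by omega)
    nlinarith

theorem w6_facts {G : Type u} [Group G] [Finite G] (h : Known G) : Facts G :=
  h.facts H24.jobL2 H24.jobJR'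

theorem s4523 (hB : WalterB.{u}) {S : Type u} [Group S] [Finite S] [IsSimpleGroup S] (hna : ¬ IsMulCommutative S) (P : Sylow 2 S) (hP : IsMulCommutative P) (M : Ideal Cfsg.AlgInt) (hM : Cfsg.IsPModular 2 M) (k : ℕ) (hk₁ : ∀ g : S, (∃ j : ℕ, orderOf g = 2 ^ j) → g ^ k = g) (hk₂ : ∀ g : S, Odd (orderOf g) → g ^ k = g⁻¹) : (∃ χ₁ : Cfsg.IrrCharacter S, Even (Cfsg.charDegree (χ₁ : S → ℂ)) ∧ ∀ g : S, (χ₁ : S → ℂ) (g ^ k) = (χ₁ : S → ℂ) g) ∧ ∃ χ₂ ∈ Cfsg.principalBlock M S, (χ₂ : S → ℂ) ≠ (fun _ => 1) ∧ ∀ g : S, (χ₂ : S → ℂ) (g ^ k) = (χ₂ : S → ℂ) g := by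
  have : Fact (Nat.Prime 2) := ⟨Nat.prime_two⟩
  have hK := H24.walterA S hna (ab2_of_sylow P hP)
  have key : ∀ χ : IrrCharacter S, H41.cconj χ = χ → ∀ g, (χ : S → ℂ) (g ^ k) = (χ : S → ℂ) g :=
    fun χ e g => by
      rw [w6_pow_eq_inv (w6_facts hK) hk₁ hk₂, ← congrFun (H41.coe_cconj χ) g, e]
  obtain ⟨x, d, x1, hd, ho⟩ := w6_exists_real hB hK
  obtain ⟨χ, h1, h2⟩ := w6_real_even hM x1 hd ho
  obtain ⟨t, ht⟩ := exists_prime_orderOf_dvd_card' 2 (H24.even_card_of_nonabelian hna).two_dvd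
  obtain ⟨ψ, h3, h4, h5⟩ := w6_real_prin hM ht
  exact ⟨⟨χ, h1, key χ h2⟩, ψ, h3, h4, key ψ h5⟩

end H83
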