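/- Tower KU, job B1b: a subgroup with at most three double cosets does not fix a non-isotropic point. -/
import Cfsg.Agent.H53.KUSpec

set_option autoImplicit false

namespace H83.KU

open Cfsg H59 H53.WU H53.KU Module

theorem dc_symm {G : Type} [Group G] {K : Subgroup G} {g g' : G} (h : DC K K g g') : DC K K g' g := by
  obtain ⟨k, hk, p, hp, rfl⟩ := h
  exact ⟨k⁻¹, K.inv_mem hk, p⁻¹, K.inv_mem hp, by group⟩

section

variable {S : HS} {K : Subgroup S.G} {v : S.V}

theorem norm_one (hv : S.B v v ≠ 0) {k : S.G} {c : S.F} (hc : k.1 v = c • v) :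
    frob S.hF c * c = 1 := by
  have h1 : S.B (k.1 v) (k.1 v) = S.B v v := k.2.1 v v
  rw [hc, form_smul_left, form_smul_right] at h1
  exact mul_right_cancel₀ hv (by linear_combination h1)

theorem dc_norm (hv : S.B v v ≠ 0) (hK : ∀ k ∈ K, ∃ c : S.F, k.1 v = c • v) {g g' : S.G}
    (h : DC K K g g') :
    frob S.hF (S.B v (g'.1 v)) * S.B v (g'.1 v) = frob S.hF (S.B v (g.1 v)) * S.B v (g.1 v) := by
  obtain ⟨k, hk, p, hp, rfl⟩ := h
  obtain ⟨c, hc⟩ := hK k hk
  obtain ⟨d, hd⟩ := hK p hp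
  have h1 := norm_one hv hc
  have h2 := norm_one hv hd
  have h3 : S.B (k.1 v) (k.1 (g.1 v)) = S.B v (g.1 v) := k.2.1 _ _
  rw [hc, form_smul_left] at h3
  have h4 : (k * g * p).1 v = d • k.1 (g.1 v) := by
    change k.1 (g.1 (p.1 v)) = _
    rw [hd, map_smul, map_smul]
  rw [h4, form_smul_right, ← h3, map_mul, map_mul, frob_frob]
  linear_combination (frob S.hF (S.B v (k.1 (g.1 v))) * S.B v (k.1 (g.1 v))) * (h2 - h1)

theorem dc_fix (hK : ∀ k ∈ K, ∃ c : S.F, k.1 v = c • v) {g g' : S.G}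
    (h : DC K K g g') (hg : g.1 v = v) : ∃ c : S.F, g'.1 v = c • v := by
  obtain ⟨k, hk, p, hp, rfl⟩ := h
  obtain ⟨c, hc⟩ := hK k hk
  obtain ⟨d, hd⟩ := hK p hp
  refine ⟨d * c, ?_⟩
  change k.1 (g.1 (p.1 v)) = _
  rw [hd, map_smul, map_smul, hg, hc, smul_smul]

theorem witt_one (hv : S.B v v ≠ 0) {p : S.V} (hp : S.B p p ≠ 0) (hpv : S.B p v = 0) {u : S.V}
    (hu : S.B u u = S.B v v) : ∃ g : S.G, g.1 v = u := by
  have hv0 : v ≠ 0 := by rintro rfl; simp at hv
  have hu0 : u ≠ 0 := by rintro rfl; exact hv (by rw [← hu]; simp)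
  obtain ⟨g, hg, h⟩ := S.h.witt_family_sisom (ι := Unit) (u := fun _ => v) (w := fun _ => u)
    (linearIndependent_unique_iff.2 hv0) (linearIndependent_unique_iff.2 hu0) (fun _ _ => hu.symm) hp
    (fun _ => hpv)
  exact ⟨⟨g, hg⟩, h ()⟩

end

theorem jobB1b : JobB1b := by
  intro S h4 v hv hK
  have hn : 6 ≤ S.n := by have := S.hr; omega
  have hq : S.q ≠ 2 := by have := S.hq; omega
  have hv0 : v ≠ 0 := by rintro rfl; simp at hv
  have hd := S.h.disjoint_span_singleton hv
  have hd2 := S.h.disjoint_perp_perp hd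
  have hfr := S.h.finrank_add_finrank_perp (Submodule.span S.F {v})
  rw [finrank_span_singleton hv0] at hfr
  obtain ⟨e, he0, he⟩ := HS.exists_iso (S := S.toHS.sub _ hd2) (by
    change 2 ≤ finrank S.F (perp S.B (Submodule.span S.F {v}))
    change 6 ≤ finrank S.F S.V at hn
    omega)
  have hve : S.B v e.1 = 0 := mem_perp_singleton.1 e.2
  have hev : S.B e.1 v = 0 := S.h.eq_zero_comm.1 hve
  have hee : S.B e.1 e.1 = 0 := he
  have he1 : e.1 ≠ 0 := fun h => he0 (Subtype.ext h)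
  obtain ⟨p, hp, hp0⟩ := S.h.exists_self_ne_zero_perp hd (by
    rw [finrank_span_singleton hv0]
    change 6 ≤ finrank S.F S.V at hn
    omega)
  have hvp : S.B v p = 0 := mem_perp_singleton.1 hp
  have hpv : S.B p v = 0 := S.h.eq_zero_comm.1 hvp
  have hσv := S.h.self_fixed v
  have hσp := S.h.self_fixed p
  obtain ⟨τ, hτ, hτ0, hτ1⟩ := exists_fixed_ne_zero_one S.hF hq
  obtain ⟨a, ha, -⟩ := exists_norm_eq_not_fixed S.h.ne_id S.h.invol (μ := S.B v v / S.B p p)
    (by rw [map_div₀, hσv, hσp]) (div_ne_zero hv hp0)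
  obtain ⟨c, hc, -⟩ := exists_norm_eq_not_fixed S.h.ne_id S.h.invol hτ hτ0
  obtain ⟨b, hb, -⟩ := exists_norm_eq_not_fixed S.h.ne_id S.h.invol (μ := (1 - τ) * S.B v v / S.B p p)
    (by rw [map_div₀, map_mul, map_sub, map_one, hτ, hσv, hσp])
    (div_ne_zero (mul_ne_zero (sub_ne_zero.2 hτ1.symm) hv) hp0)
  rw [eq_div_iff hp0] at ha hb
  obtain ⟨g1, hg1⟩ := witt_one hv hp0 hpv (u := v + e.1) (by
    simp only [map_add, LinearMap.add_apply, hve, hev, hee, add_zero])
  obtain ⟨g2, hg2⟩ := witt_one hv hp0 hpv (u := a • p) (by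
    rw [form_smul_left, form_smul_right, ← ha, mul_assoc])
  obtain ⟨g3, hg3⟩ := witt_one hv hp0 hpv (u := c • v + b • p) (by
    simp only [map_add, LinearMap.add_apply, form_smul_left, form_smul_right, hvp, hpv]
    linear_combination S.B v v * hc + hb)
  have n0 : frob S.hF (S.B v ((1 : S.G).1 v)) * S.B v ((1 : S.G).1 v) = S.B v v * S.B v v := by
    change frob S.hF (S.B v v) * S.B v v = _
    rw [hσv]
  have n1 : frob S.hF (S.B v (g1.1 v)) * S.B v (g1.1 v) = S.B v v * S.B v v := by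
    rw [hg1, map_add, hve, add_zero, hσv]
  have n2 : frob S.hF (S.B v (g2.1 v)) * S.B v (g2.1 v) = 0 := by
    rw [hg2, form_smul_right, hvp, mul_zero, mul_zero]
  have n3 : frob S.hF (S.B v (g3.1 v)) * S.B v (g3.1 v) = τ * (S.B v v * S.B v v) := by
    rw [hg3, map_add, form_smul_right, form_smul_right, hvp, mul_zero, add_zero, map_mul, hσv, ← hc]
    ring
  have hvv := mul_ne_zero hv hv
  have k01 : ¬ DC S.K S.K 1 g1 := fun h => by
    obtain ⟨d, hd⟩ := dc_fix hK h rfl
    rw [hg1] at hd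
    have h1 := congrArg (S.B v) hd
    rw [map_add, hve, add_zero, form_smul_right] at h1
    have h2 : d = 1 := mul_right_cancel₀ hv (by rw [← h1, one_mul])
    rw [h2, one_smul] at hd
    exact he1 (by simpa using hd)
  have k02 : ¬ DC S.K S.K 1 g2 := fun h => by
    have := dc_norm hv hK h
    rw [n0, n2] at this
    exact hvv this.symm
  have k03 : ¬ DC S.K S.K 1 g3 := fun h => by
    have := dc_norm hv hK h
    rw [n0, n3] at this
    exact hτ1 (mul_right_cancel₀ hvv (by rw [this, one_mul]))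
  have k12 : ¬ DC S.K S.K g1 g2 := fun h => by
    have := dc_norm hv hK h
    rw [n1, n2] at this
    exact hvv this.symm
  have k13 : ¬ DC S.K S.K g1 g3 := fun h => by
    have := dc_norm hv hK h
    rw [n1, n3] at this
    exact hτ1 (mul_right_cancel₀ hvv (by rw [this, one_mul]))
  have k23 : ¬ DC S.K S.K g2 g3 := fun h => by
    have := dc_norm hv hK h
    rw [n2, n3] at this
    exact mul_ne_zero hτ0 hvv this
  obtain ⟨i, j, hij, h⟩ := h4 ![1, g1, g2, g3]
  fin_cases i <;> fin_cases j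
  all_goals first
    | exact hij rfl
    | exact k01 h | exact k02 h | exact k03 h | exact k12 h | exact k13 h | exact k23 h
    | exact k01 (dc_symm h) | exact k02 (dc_symm h) | exact k03 (dc_symm h)
    | exact k12 (dc_symm h) | exact k13 (dc_symm h) | exact k23 (dc_symm h)

end H83.KU
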