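/- Tower HKS, slot MU: the Sylow subgroups of `PSU₃(q)` in the defining characteristic. -/
import Cfsg.Agent.H7.HKSSpec
import Cfsg.Agent.H85.U3Syl
import Cfsg.Agent.H98.Sylow

set_option autoImplicit false

namespace H83.HK

open Cfsg Subgroup Module H59

universe u

section Geo

variable {F V : Type*} [Field F] [AddCommGroup V] [Module F V] {σ : F →+* F}
  {B : V →ₛₗ[σ] V →ₗ[F] F}

/-- The stabiliser of the line spanned by `e`. -/
def lineSt (B : V →ₛₗ[σ] V →ₗ[F] F) (e : V) : Subgroup (sisom B) where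
  carrier := {g | ∃ t : F, t ≠ 0 ∧ g.1 e = t • e}
  mul_mem' := by
    rintro a b ⟨s, hs, ha⟩ ⟨t, ht, hb⟩
    refine ⟨t * s, mul_ne_zero ht hs, ?_⟩
    change a.1 (b.1 e) = _
    rw [hb, map_smul, ha, smul_smul]
  one_mem' := ⟨1, one_ne_zero, by simp⟩
  inv_mem' := by
    rintro a ⟨s, hs, ha⟩
    refine ⟨s⁻¹, inv_ne_zero hs, ?_⟩
    change a.1.symm e = _
    rw [LinearEquiv.symm_apply_eq, map_smul, ha, smul_smul, inv_mul_cancel₀ hs, one_smul]

/-- The unipotent radical. -/
noncomputable abbrev uR (B : V →ₛₗ[σ] V →ₗ[F] F) (e : V) : Subgroup (sisom B) :=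
  (unipRad B e).subgroupOf (sisom B)

theorem uR_le (e : V) : uR B e ≤ lineSt B e := fun _ hg => ⟨1, one_ne_zero, by
  rw [one_smul]; exact hg.2.1⟩

theorem conj_uR {e : V} {l g : sisom B} (hl : l ∈ lineSt B e) (hg : g ∈ uR B e) :
    l * g * l⁻¹ ∈ uR B e := by
  obtain ⟨t, ht, h⟩ := hl
  exact IsHyp.conj_mem_unipRad_of_smul l.2.1 ht h hg

theorem lineSt_le_nor (e : V) : lineSt B e ≤ normalizer (uR B e : Set (sisom B)) := by
  intro l hl
  refine mem_normalizer_iff.2 fun g => ⟨conj_uR hl, fun h => ?_⟩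
  simpa [mul_assoc] using conj_uR (inv_mem hl) h

variable [Finite F] [FiniteDimensional F V] {e f : V} (H : IsHyp B e f) (hV : finrank F V = 3)
include H hV

theorem exists_w : ∃ w : hypPerp B e f, B w w = 1 ∧ ∀ u : hypPerp B e f, ∃ a : F, u = a • w := by
  have hB := H.herm
  obtain ⟨w0, hw0, hw0'⟩ := hB.exists_self_ne_zero_perp (hB.disjoint_span_hyp H.ee
    (H.ef ▸ one_ne_zero)) (by rw [hB.finrank_span_hyp H.ee (H.ef ▸ one_ne_zero), hV]; norm_num)
  obtain ⟨l, hl⟩ := hB.exists_smul_norm_eq hw0' (map_one σ)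
  obtain ⟨w, hww⟩ : ∃ w : hypPerp B e f, B w w = 1 := ⟨⟨l • w0, Submodule.smul_mem _ _ hw0⟩, hl⟩
  have w0 : w ≠ 0 := by rintro rfl; simp at hww
  have h1 : finrank F (hypPerp B e f) = 1 := by
    have := hB.finrank_hypPerp H.ee H.ef
    omega
  exact ⟨w, hww, fun u => ((finrank_eq_one_iff_of_nonzero' w w0).1 h1 u).imp fun _ => Eq.symm⟩

theorem aniso {u : hypPerp B e f} (h : B u u = 0) : u = 0 := by
  obtain ⟨w, hw, hu⟩ := exists_w H hV
  obtain ⟨a, rfl⟩ := hu u
  rw [Submodule.coe_smul, form_smul_left, form_smul_right, hw, mul_one, mul_eq_zero,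
    map_eq_zero, or_self] at h
  rw [h, zero_smul]

theorem mem_line {v : V} (hv : B v v = 0) (h : B e v = 0) : v = B f v • e := by
  have h1 := H.form_eq v v
  rw [hv, h, map_zero, mul_zero, zero_mul, zero_add, zero_add] at h1
  have h2 := H.decomp v
  rwa [aniso H hV h1.symm, h, zero_smul, add_zero, Submodule.coe_zero, add_zero] at h2

omit [Finite F] [FiniteDimensional F V] hV in
theorem hyp_of {v : V} (hv : B v v = 0) (h : B e v ≠ 0) : IsHyp B e ((B e v)⁻¹ • v) :=
  ⟨H.herm, H.ee, by rw [form_smul_left, form_smul_right, hv, mul_zero, mul_zero],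
    by rw [form_smul_right, inv_mul_cancel₀ h]⟩

omit hV in
theorem eq_one_of_fix {u : sisom B} (hu : u ∈ uR B e) {t : F} (h : u.1 f = t • f) : u = 1 := by
  have h1 := H.apply_f hu
  have h2 := congrArg (B e) (h.symm.trans h1)
  rw [map_sub, map_sub, form_smul_right, form_smul_right, H.ef, H.ee, IsHyp.ew] at h2
  have t1 : t = 1 := by linear_combination h2
  rw [t1, one_smul] at h
  have h3 : u.1 f = f - ((0 : hypPerp B e f) : V) - (0 : F) • e := by simp [h]
  have h4 : (1 : V ≃ₗ[F] V) f = f - ((0 : hypPerp B e f) : V) - (0 : F) • e := by simp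
  exact Subtype.ext (H.ext hu (one_mem _) ((H.cu_eq h3).trans (H.cu_eq h4).symm)
    ((H.ca_eq h3).trans (H.ca_eq h4).symm))

theorem not_perp {g : sisom B} (hg : g ∉ lineSt B e) : B e (g.1 e) ≠ 0 := by
  intro h
  have h1 := mem_line H hV (by rw [mem_isom.1 g.2.1, H.ee]) h
  refine hg ⟨_, fun h0 => ?_, h1⟩
  rw [h0, zero_smul, LinearEquiv.map_eq_zero_iff] at h1
  exact H.e_ne h1

theorem ti {u g : sisom B} (hu : u ∈ uR B e) (u1 : u ≠ 1) (h : g * u * g⁻¹ ∈ lineSt B e) :
    g ∈ lineSt B e := by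
  by_contra hg
  have hg' : g⁻¹ ∉ lineSt B e := fun h => hg (inv_mem_iff.1 h)
  have H' := hyp_of H (v := g⁻¹.1 e) (by rw [mem_isom.1 g⁻¹.2.1, H.ee]) (not_perp H hV hg')
  obtain ⟨t, -, ht⟩ := h
  refine u1 (eq_one_of_fix H' hu (t := t) ?_)
  have : u.1 (g⁻¹.1 e) = t • g⁻¹.1 e := by
    rw [← map_smul, ← ht]
    exact (g.1.symm_apply_apply _).symm
  rw [map_smul, this, smul_comm]

omit hV in
theorem trans_iso {v : V} (hv : B v v = 0) (h : B e v ≠ 0) :
    ∃ u ∈ uR B e, v = B e v • u.1 f := by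
  have H' := hyp_of H hv h
  set v' := (B e v)⁻¹ • v with hv'
  have h1 := H.form_eq v' v'
  have h2 := H.decomp v'
  rw [H'.ff, H'.ef, map_one, mul_one, one_mul] at h1
  rw [H'.ef, one_smul] at h2
  obtain ⟨g, hg, g1, g2⟩ := H.exists_cu_ca (-H.proj v') (a := -B f v') (by
    simp only [Submodule.coe_neg, map_neg, LinearMap.neg_apply, neg_neg]
    linear_combination h1)
  refine ⟨g, hg, ?_⟩
  have : g.1 f = v' := by
    rw [H.apply_f hg, g1, g2]
    conv_rhs => rw [h2]
    simp only [Submodule.coe_neg, neg_smul]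
    abel
  rw [this, hv', smul_smul, mul_inv_cancel₀ h, one_smul]

theorem bruhat {g n : sisom B} (hg : g ∉ lineSt B e) (hn : n ∉ lineSt B e) :
    ∃ u ∈ uR B e, (u * n)⁻¹ * g ∈ lineSt B e := by
  have g0 := not_perp H hV hg
  have n0 := not_perp H hV hn
  obtain ⟨u₁, h₁, e₁⟩ := trans_iso H (v := g.1 e) (by rw [mem_isom.1 g.2.1, H.ee]) g0
  obtain ⟨u₂, h₂, e₂⟩ := trans_iso H (v := n.1 e) (by rw [mem_isom.1 n.2.1, H.ee]) n0
  refine ⟨u₁ * u₂⁻¹, mul_mem h₁ (inv_mem h₂), B e (g.1 e) * (B e (n.1 e))⁻¹,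
    mul_ne_zero g0 (inv_ne_zero n0), ?_⟩
  change (u₁ * u₂⁻¹ * n).1.symm (g.1 e) = _
  rw [LinearEquiv.symm_apply_eq, map_smul]
  change _ = _ • u₁.1 (u₂.1.symm (n.1 e))
  generalize B e (n.1 e) = c at *
  rw [e₂, map_smul, LinearEquiv.symm_apply_apply, map_smul, smul_smul, mul_assoc,
    inv_mul_cancel₀ n0, mul_one, ← e₁]

theorem exists_not_mem : ∃ n : sisom B, n ∉ lineSt B e := by
  obtain ⟨w, hw, -⟩ := exists_w H.symm hV
  obtain ⟨g, hg, g1⟩ := H.symm.exists_cu w
  refine ⟨g, fun ⟨t, _, ht⟩ => ?_⟩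
  have := eq_one_of_fix H.symm (u := g) hg ht
  have h4 : (1 : V ≃ₗ[F] V) e = e - ((0 : hypPerp B f e) : V) - (0 : F) • f := by simp
  rw [this, show ((1 : sisom B) : V ≃ₗ[F] V) = 1 from rfl, H.symm.cu_eq h4] at g1
  rw [← g1] at hw
  simp at hw

theorem index_lineSt [Finite (sisom B)] : (lineSt B e).index = Nat.card (uR B e) + 1 := by
  obtain ⟨n, hn⟩ := exists_not_mem H hV
  let φ : Option (uR B e) → sisom B ⧸ lineSt B e := fun o =>
    match o with
    | none => ((1 : sisom B) : sisom B ⧸ lineSt B e)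
    | some u => ((u.1 * n : sisom B) : sisom B ⧸ lineSt B e)
  have key : ∀ u : uR B e, φ none ≠ φ (some u) := fun u h => by
    have := QuotientGroup.eq.1 h
    rw [inv_one, one_mul, mul_mem_cancel_left (uR_le e u.2)] at this
    exact hn this
  have hφ : Function.Bijective φ := by
    constructor
    · rintro (_ | u) (_ | v) h
      · rfl
      · exact absurd h (key v)
      · exact absurd h.symm (key u)
      · have h1 := QuotientGroup.eq.1 h
        congr 1
        by_contra ne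
        refine hn (inv_mem_iff.1 (ti H hV (u := u.1⁻¹ * v.1) (g := n⁻¹)
          (mul_mem (inv_mem u.2) v.2) (fun e' => ne (Subtype.ext (inv_mul_eq_one.1 e'))) ?_))
        simpa [mul_assoc] using h1
    · intro c
      obtain ⟨g, rfl⟩ := QuotientGroup.mk_surjective c
      by_cases hg : g ∈ lineSt B e
      · exact ⟨none, QuotientGroup.eq.2 (by simpa using hg)⟩
      · obtain ⟨u, hu, h⟩ := bruhat H hV hg hn
        exact ⟨some ⟨u, hu⟩, QuotientGroup.eq.2 h⟩
  rw [index, ← Nat.card_congr (Equiv.ofBijective φ hφ), Finite.card_option]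

theorem inv_comm {t z : sisom B} (ht : t ∈ lineSt B e) (tt : t * t = 1) (hz : z ∈ uR B e)
    (hc : ∀ u ∈ uR B e, z * u = u * z) : t * z = z * t := by
  have c0 : H.cu z.1 = 0 := by
    refine aniso H hV (H.herm.form_eq_zero_iff_forall.2 fun c => ?_)
    obtain ⟨g, hg, g1⟩ := H.exists_cu (c • H.cu z.1)
    have := (H.commute_iff hz hg).1 (congrArg Subtype.val (hc g hg))
    rwa [g1, Submodule.coe_smul] at this
  obtain ⟨s, -, hs⟩ := ht
  have t2 : ∀ x, t.1 (t.1 x) = x := fun x => congrArg (fun g : sisom B => g.1 x) tt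
  have ss : s * s = 1 := by
    have := t2 e
    rw [hs, map_smul, hs, smul_smul] at this
    exact smul_left_injective F H.e_ne (this.trans (one_smul F e).symm)
  have σs : σ s = s := by rcases mul_self_eq_one_iff.1 ss with h | h <;> simp [h]
  have hb : ∀ x, B e (t.1 x) = s * B e x := fun x => by
    conv_lhs => rw [← t2 e, mem_isom.1 t.2.1, hs, form_smul_left, σs]
  refine Subtype.ext (LinearEquiv.ext fun x => ?_)
  change t.1 (z.1 x) = z.1 (t.1 x)
  rw [H.apply_eq (g := z.1) hz, H.apply_eq (g := z.1) hz, c0, hb]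
  simp only [Submodule.coe_zero, map_zero, LinearMap.zero_apply, zero_smul, add_zero, smul_zero,
    sub_zero, map_sub, map_smul, hs, smul_smul]
  congr 2
  ring

end Geo

theorem card_uR {E : Type*} [Field E] [Fintype E] {q : ℕ} (hE : Fintype.card E = q ^ 2)
    {e f : Fin 3 → E} (H : IsHyp (uForm hE 3) e f) : Nat.card (uR (uForm hE 3) e) = q ^ 3 := by
  have σσ : ∀ x, frob hE (frob hE x) = x := frob_frob hE
  obtain ⟨w, hww, hw⟩ := exists_w H (by simp)
  have hw_ne : w ≠ 0 := by rintro rfl; simp at hww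
  have hBw : ∀ p : E, uForm hE 3 (frob hE p • w : hypPerp _ e f) (frob hE p • w : hypPerp _ e f) =
      p * frob hE p := by
    intro p
    rw [Submodule.coe_smul, form_smul_left, form_smul_right, hww, σσ, mul_one]
  have hΦ : ∀ x : H85.UQ hE, ∃ g : uR (uForm hE 3) e,
      H.cu g.1.1 = frob hE x.a • w ∧ H.ca g.1.1 = x.b := fun x => by
    obtain ⟨g, hg, h⟩ := H.exists_cu_ca (frob hE x.a • w) (a := x.b) (by rw [hBw]; exact x.h)
    exact ⟨⟨g, hg⟩, h⟩
  choose Φ hΦ using hΦ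
  rw [← H85.UQ.card_eq hE]
  refine (Nat.card_congr (Equiv.ofBijective Φ ⟨fun x y h => ?_, fun g => ?_⟩)).symm
  · obtain ⟨a2, a3⟩ := hΦ x
    obtain ⟨b2, b3⟩ := hΦ y
    rw [h] at a2 a3
    exact H85.UQ.ext ((frob hE).injective (smul_left_injective E hw_ne (a2.symm.trans b2)))
      (a3.symm.trans b3)
  · obtain ⟨a, ha⟩ := hw (H.cu g.1.1)
    have h1 := H.ca_add (g := g.1.1) g.2
    rw [ha, ← σσ a, hBw] at h1
    refine ⟨⟨frob hE a, H.ca g.1.1, h1⟩, Subtype.ext (Subtype.ext (H.ext (Φ _).2 g.2 ?_ ?_))⟩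
    · rw [(hΦ _).1, σσ, ha]
    · rw [(hΦ _).2]

theorem uq_cent {E : Type*} [Field E] [Fintype E] {q : ℕ} {hE : Fintype.card E = q ^ 2}
    {x : H85.UQ hE} (hx : x ∉ center (H85.UQ hE)) :
    Nat.card (centralizer ({x} : Set (H85.UQ hE))) = q ^ 2 := by
  have hz : ∀ y, x * y * x⁻¹ * y⁻¹ ∈ center (H85.UQ hE) := fun y =>
    (H85.UQ.mem_center_iff _).2 (H85.UQ.commutator_a x y)
  let φ : H85.UQ hE →* center (H85.UQ hE) := MonoidHom.mk' (fun y => ⟨_, hz y⟩) fun a b => by
    refine Subtype.ext ?_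
    change x * (a * b) * x⁻¹ * (a * b)⁻¹ = x * a * x⁻¹ * a⁻¹ * (x * b * x⁻¹ * b⁻¹)
    rw [mul_assoc _ a⁻¹, mem_center_iff.1 (hz b) a⁻¹]
    calc _ = x * a * x⁻¹ * (x * b * x⁻¹ * b⁻¹) * a⁻¹ := by group
      _ = _ := by group
  have hs : Function.Surjective φ := fun z => by
    obtain ⟨y, hy⟩ := H85.UQ.exists_commutator_eq (x := x) (z := z.1)
      (fun h => hx ((H85.UQ.mem_center_iff _).2 h)) ((H85.UQ.mem_center_iff _).1 z.2)
    exact ⟨y, Subtype.ext hy⟩
  have hk : φ.ker = centralizer {x} := by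
    ext y
    rw [MonoidHom.mem_ker, mem_centralizer_singleton_iff, Subtype.ext_iff]
    change x * y * x⁻¹ * y⁻¹ = 1 ↔ _
    rw [mul_inv_eq_one, mul_inv_eq_iff_eq_mul, eq_comm]
  have h1 := φ.ker.card_mul_index
  rw [index_ker, MonoidHom.range_eq_top.2 hs, card_top, H85.UQ.card_center, H85.UQ.card_eq,
    hk] at h1
  have := two_le_q hE
  exact Nat.eq_of_mul_eq_mul_right (m := q) (by omega) (by rw [h1]; ring)

theorem card_inf_cent {G A : Type*} [Group G] [Group A] {P : Subgroup G} (e : P ≃* A)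
    (X : Set G) (Y : Set A) (h : ∀ g : P, (g : G) ∈ centralizer X ↔ e g ∈ centralizer Y) :
    Nat.card ↥(P ⊓ centralizer X) = Nat.card (centralizer Y) :=
  Nat.card_congr
    { toFun := fun g => ⟨e ⟨g.1, g.2.1⟩, (h _).1 g.2.2⟩
      invFun := fun a => ⟨e.symm a.1, (e.symm a.1).2, (h _).2 (by simpa using a.2)⟩
      left_inv := fun g => by simp
      right_inv := fun a => by simp }

theorem jobMU : H7.HKS.JobMU.{u} := by
  intro G _ _ F _ _ q p hp P hF _ hpq ⟨ε⟩
  obtain ⟨r, k, hr, hc, hk, rfl⟩ := exists_char_pow hF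
  obtain rfl : p = r := (Nat.prime_dvd_prime_iff_eq hp.out hr).1 (hp.out.dvd_of_dvd_pow hpq)
  let B := uForm hF 3
  have hB : IsHerm B := isHerm_uForm hF 3
  have hV : finrank F (Fin 3 → F) = 3 := by simp
  obtain ⟨e, -, he0, he⟩ := hB.exists_isotropic_mem (W := ⊤) (by rw [finrank_top, hV]; norm_num)
  obtain ⟨f, hef, hff⟩ := hB.exists_partner he he0
  have H : IsHyp B e f := ⟨hB, he, hff, hef⟩
  have : Finite (sisom B) := Finite.of_equiv _ (suEquiv hF 3).toEquiv
  obtain ⟨ψ⟩ : Nonempty ((P : Subgroup G) ≃* H85.UQ hF) := by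
    obtain ⟨m, hm, hd⟩ := H85.card_PSU_three' hF
    obtain ⟨j, hj⟩ := H85.exists_hom_PSU hF
    exact H85.nonempty_equiv_sylow_of_hom (ε.symm.toMonoidHom.comp j) (ε.symm.injective.comp hj)
      (k := k * 3) (m := m) (by rw [H85.UQ.card_eq, pow_mul])
      (by rw [Nat.card_congr ε.toEquiv, hm, pow_mul])
      (fun h => H85.not_dvd_cofactor hF p (h.trans hd)) P
  have cP : Nat.card (P : Subgroup G) = (p ^ k) ^ 3 := by
    rw [Nat.card_congr ψ.toEquiv, H85.UQ.card_eq]
  have cU := card_uR hF H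
  have pU : IsPGroup p (uR B e) := IsPGroup.of_card (n := k * 3) (by rw [cU, pow_mul])
  have cZ : Nat.card (center (sisom B)) = Nat.gcd 3 (p ^ k + 1) := by
    rw [IsHerm.card_center_sisom hF hB (by omega), hV]
  have dis : ∀ u ∈ uR B e, u ∈ center (sisom B) → u = 1 := by
    intro u hu hz
    obtain ⟨a, ha⟩ := (hB.mem_center_sisom_iff (by omega) u).1 hz
    exact eq_one_of_fix H hu (ha f)
  have ZB : center (sisom B) ≤ lineSt B e := by
    intro u hz
    obtain ⟨a, ha⟩ := (hB.mem_center_sisom_iff (by omega) u).1 hz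
    refine ⟨a, fun h => he0 ?_, ha e⟩
    have := ha e
    rwa [h, zero_smul, LinearEquiv.map_eq_zero_iff] at this
  obtain ⟨π, hπ, hker, hP⟩ : ∃ π : sisom B →* G, Function.Surjective π ∧
      (∀ g, π g = 1 ↔ g ∈ center (sisom B)) ∧ (uR B e).map π = P := by
    let π : sisom B →* G := (ε.trans (psuEquiv hF 3)).symm.toMonoidHom.comp (QuotientGroup.mk' _)
    have h1 : Function.Surjective π :=
      (ε.trans (psuEquiv hF 3)).symm.surjective.comp (QuotientGroup.mk'_surjective _)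
    have h2 : ∀ g, π g = 1 ↔ g ∈ center (sisom B) := fun g =>
      (MulEquiv.map_eq_one_iff (ε.trans (psuEquiv hF 3)).symm).trans (QuotientGroup.eq_one_iff g)
    have h3 : Nat.card ((uR B e).map π) = (p ^ k) ^ 3 := by
      rw [← cU]
      refine (Nat.card_congr (Equiv.ofBijective (π.subgroupMap (uR B e)) ⟨?_,
        π.subgroupMap_surjective _⟩)).symm
      rw [injective_iff_map_eq_one]
      intro u hu
      exact Subtype.ext (dis u.1 u.2 ((h2 _).1 (congrArg Subtype.val hu)))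
    obtain ⟨g, -, hg⟩ := (H98.isSyl_sylow P).exists_cj_le (pU.map π) le_top
    refine ⟨(MulAut.conj g).toMonoidHom.comp π, (MulAut.conj g).surjective.comp h1, fun x =>
      (MulEquiv.map_eq_one_iff (MulAut.conj g)).trans (h2 x), ?_⟩
    rw [← map_map]
    exact eq_of_le_of_card_ge hg (by rw [cP, ← h3, H98.card_cj])
  have memB : ∀ g, π g ∈ (lineSt B e).map π → g ∈ lineSt B e := by
    rintro g ⟨b, hb, h⟩
    have : b⁻¹ * g ∈ center (sisom B) := (hker _).1 (by rw [map_mul, map_inv, h, inv_mul_cancel])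
    exact (mul_mem_cancel_left (inv_mem hb)).1 (ZB this)
  have n1 : (lineSt B e).map π ≤ normalizer (P : Set G) := by
    have := H98.map_le_normalizer_map π (lineSt_le_nor (B := B) e)
    rwa [hP] at this
  have n2 : ∀ Q : Subgroup G, Q ≤ P → Q ≠ ⊥ → normalizer (Q : Set G) ≤ (lineSt B e).map π := by
    intro Q hQ Q0 g hg
    obtain ⟨g, rfl⟩ := hπ g
    obtain ⟨⟨u, hu⟩, u1⟩ := (ne_bot_iff_exists_ne_one).1 Q0
    have h1 := hQ (H98.conj_mem_of_mem_normalizer hg hu)
    have h2 := hQ hu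
    rw [← hP] at h1 h2
    obtain ⟨v, hv, rfl⟩ := h2
    refine ⟨g, ti H hV hv (fun h => u1 (Subtype.ext (by simp [h]))) (memB _ ?_), rfl⟩
    rw [map_mul, map_mul, map_inv]
    exact map_mono (uR_le e) h1
  have P0 : (P : Subgroup G) ≠ ⊥ := fun h => by
    rw [h, card_bot] at cP
    have := two_le_q hF
    have := Nat.pow_le_pow_left this 3
    omega
  have nP : normalizer (P : Set G) = (lineSt B e).map π := le_antisymm (n2 P le_rfl P0) n1
  refine ⟨cP, ?_, ?_, fun Q h1 h2 => (n2 Q h1 h2).trans n1, ?_, ?_⟩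
  · rw [card_inf_cent ψ (P : Set G) Set.univ, centralizer_univ, H85.UQ.card_center]
    intro g
    rw [mem_centralizer_iff, mem_centralizer_iff]
    constructor
    · intro h a _
      obtain ⟨a, rfl⟩ := ψ.surjective a
      rw [← map_mul, ← map_mul]
      exact congrArg ψ (Subtype.ext (h a a.2))
    · intro h a ha
      have := h (ψ ⟨a, ha⟩) trivial
      rw [← map_mul, ← map_mul] at this
      exact congrArg Subtype.val (ψ.injective this)
  · rw [nP, index_map, MonoidHom.range_eq_top.2 hπ, index_top, mul_one,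
      sup_eq_left.2 fun g hg => ZB ((hker g).1 hg), index_lineSt H hV, cU]
  · rw [nP]
    rintro _ ⟨t, ht, rfl⟩ tt z ⟨hz, hz'⟩
    rw [← hP] at hz
    obtain ⟨z, hz, rfl⟩ := hz
    have t2 : t * t ∈ center (sisom B) := (hker _).1 (by rw [map_mul, tt])
    have t6 : (t * t) ^ 3 = 1 := by
      have h1 := pow_card_eq_one' (x := (⟨t * t, t2⟩ : center (sisom B)))
      have h2 : (t * t) ^ Nat.gcd 3 (p ^ k + 1) = 1 := by
        rw [cZ] at h1; exact congrArg Subtype.val h1
      exact orderOf_dvd_iff_pow_eq_one.1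
        ((orderOf_dvd_iff_pow_eq_one.2 h2).trans (Nat.gcd_dvd_left _ _))
    have := inv_comm H hV (t := t * (t * t)) (z := z) (mul_mem ht (mul_mem ht ht))
      (by rw [← t6]; simp only [pow_succ, pow_zero, one_mul, mul_assoc]) hz fun u hu => by
        have h1 : π u * π z = π z * π u := mem_centralizer_iff.1 hz' (π u) (by
          change π u ∈ (P : Subgroup G)
          rw [← hP]; exact ⟨u, hu, rfl⟩)
        have := dis ((u * z)⁻¹ * (z * u)) (mul_mem (inv_mem (mul_mem hu hz)) (mul_mem hz hu))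
          ((hker _).1 (by rw [map_mul, map_inv, map_mul, map_mul, h1, inv_mul_cancel]))
        exact (inv_mul_eq_one.1 this).symm
    have := congrArg π this
    simpa only [map_mul, tt, mul_one] using this
  · intro u hu hu'
    rw [card_inf_cent ψ {u} {ψ ⟨u, hu⟩}, uq_cent]
    · intro h
      refine hu' (mem_centralizer_iff.2 fun a ha => ?_)
      have := mem_center_iff.1 h (ψ ⟨a, ha⟩)
      rw [← map_mul, ← map_mul] at this
      exact congrArg Subtype.val (ψ.injective this)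
    · intro g
      rw [mem_centralizer_singleton_iff, mem_centralizer_singleton_iff, ← map_mul, ← map_mul,
        ψ.injective.eq_iff, Subtype.ext_iff]
      rfl

end H83.HK
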