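import Cfsg.Agent.H57.U2CSpec
import Cfsg.Agent.H48.DP3Kit

/-! # DPV-C1: the critical pair with `z ∉ U'`, `z' ∉ U` -/

set_option autoImplicit false

namespace H83.DPVC1

open Subgroup Cfsg H98 H96 H97 H48.DP H57.DPC H48.DP2 H96.U2I H57.U2C
open scoped commutatorElement

universe u

variable {G : Type u} [Group G]

theorem zp {z x : G} (hz : z ^ 2 = 1) (hx : x ∈ zpowers z) : x = 1 ∨ x = z := by
  obtain ⟨n, rfl⟩ := mem_zpowers_iff.1 hx
  have h2 : z ^ (2 : ℤ) = 1 := by exact_mod_cast hz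
  rcases Int.even_or_odd' n with ⟨k, rfl | rfl⟩
  · left; rw [zpow_mul, h2, one_zpow]
  · right; rw [zpow_add, zpow_mul, h2, one_zpow, one_mul, zpow_one]

theorem cmL {U : Subgroup G} {b w : G} (hb : b ∈ No U) (hw : w ∈ U) : ⁅b, w⁆ ∈ U := by
  rw [commutatorElement_def]
  exact mul_mem (conj_mem_of_mem_normalizer hb hw) (inv_mem hw)

theorem cmR {U : Subgroup G} {b w : G} (hw : w ∈ No U) (hb : b ∈ U) : ⁅b, w⁆ ∈ U := by
  rw [← commutatorElement_inv]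
  exact inv_mem (cmL hw hb)

theorem no_zp {z x : G} (h : x ∈ C1 z) : x ∈ No (zpowers z) := by
  apply centralizer_le_normalizer
  rw [zpowers_eq_closure, centralizer_closure]
  exact h

theorem ea_comm {U : Subgroup G} (h : IsElementaryAbelian 2 U) {a b : G} (ha : a ∈ U)
    (hb : b ∈ U) : a * b = b * a := by
  have := h.1
  exact congrArg Subtype.val (mul_comm' (⟨a, ha⟩ : U) ⟨b, hb⟩)

theorem ea_two {U : Subgroup G} (h : IsElementaryAbelian 2 U) : IsPGroup 2 U := fun x =>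
  ⟨1, Subtype.ext (by simpa using h.2 x x.2)⟩

theorem ea_inv {U : Subgroup G} (h : IsElementaryAbelian 2 U) {a : G} (ha : a ∈ U) :
    a⁻¹ = a := by
  have := h.2 a ha
  rw [sq] at this
  exact inv_eq_of_mul_eq_one_right this

/-- In `V`, with `z ∉ V`, only the identity lies in `⟨z⟩`. -/
theorem eq_one_of {V : Subgroup G} {z x : G} (hz : z ^ 2 = 1) (hzV : z ∉ V) (hx : x ∈ V)
    (h : x ∈ zpowers z) : x = 1 := by
  rcases zp hz h with h | h
  · exact h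
  · exact absurd (h ▸ hx) hzV

theorem half {K F U K' F' U' : Subgroup G} {z z' : G} (h : Md K F U z) (h' : Md K' F' U' z')
    (hU : U ≤ K') (hU' : U' ≤ K) (hz' : z' ∉ U) :
    Qz K U U' z ∧ z ∈ U ⊓ St U' z' ∧ ∀ x ∈ U ⊓ St U' z', ∀ a ∈ U', ⁅a, x⁆ ∈ zpowers z := by
  refine ⟨⟨hU', ea_two h'.ea, fun a ha b hb w hw => ?_⟩, ⟨h.zU, no_zp (h'.Kz (hU h.zU)), ?_⟩, ?_⟩
  · have : ⁅b, w⁆ ∈ U' := cmR (h'.KU (hU hw)) hb
    rw [commutatorElement_eq_one_iff_mul_comm.2 (ea_comm h'.ea ha this)]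
    exact one_mem _
  · intro c hc
    rw [commutatorElement_eq_one_iff_mul_comm.2 (mem_C1.1 (h.Kz (hU' hc))).symm]
    exact one_mem _
  · rintro x ⟨hx, hx'⟩ a ha
    rw [eq_one_of (h'.ea.2 z' h'.zU) hz' (cmL (h.KU (hU' ha)) hx) ((mem_stab.1 hx').2 a ha)]
    exact one_mem _

theorem ord3 {E : Subgroup G} [Finite G] (hE : IsElementaryAbelian 3 E) (h9 : 9 ≤ Nat.card E) :
    ∃ e ∈ E, orderOf e = 3 := by
  have : E ≠ ⊥ := by
    rintro rfl
    simp at h9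
  obtain ⟨⟨e, he⟩, h1⟩ := (ne_bot_iff_exists_ne_one).1 this
  have h1' : e ≠ 1 := fun h => h1 (Subtype.ext h)
  haveI : Fact (Nat.Prime 3) := ⟨Nat.prime_three⟩
  exact ⟨e, he, orderOf_eq_prime (hE.2 e he) h1'⟩

theorem jobC1 : H57.U2C.JobC1.{u} := by
  intro hB hO G _ _ M K F U M' K' F' U' z z' h h' h3 hU hU' ⟨hz, hz'⟩
  obtain ⟨q, zN, cN⟩ := half h.toMd h'.toMd hU hU' hz'
  obtain ⟨q', zN', cN'⟩ := half h'.toMd h.toMd hU' hU hz
  have b1 := hB G K F U U' _ z h.toMd q inf_le_left zN cN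
  have b2 := hB G K' F' U' U _ z' h'.toMd q' inf_le_left zN' cN'
  have o1 := hO G K F U U' _ z h.toMd q inf_le_left zN cN
  have o2 := hO G K' F' U' U _ z' h'.toMd q' inf_le_left zN' cN'
  rw [inf_relIndex_left] at b1 b2 o1 o2
  have z2 := h.ea.2 z h.zU
  have z2' := h'.ea.2 z' h'.zU
  have mU : ∀ a ∈ U', ∀ w ∈ U, ⁅a, w⁆ ∈ U := fun a ha w hw => cmL (h.KU (hU' ha)) hw
  have mU' : ∀ a ∈ U', ∀ w ∈ U, ⁅a, w⁆ ∈ U' := fun a ha w hw => cmR (h'.KU (hU hw)) ha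
  intro w hw
  refine mem_stab.2 ⟨no_zp (h'.Kz (hU hw)), fun b hb => ?_⟩
  by_contra hbw
  have hbw' : ⁅b, w⁆ ∉ zpowers z := fun hh => hbw (by
    rw [eq_one_of z2 hz (mU' b hb w hw) hh]; exact one_mem _)
  obtain ⟨a, ha, hu, gu, hall⟩ := o1 b2 w hw b hb hbw'
  have u1 : ⁅a, w⁆ ≠ 1 := fun hh => hu (by rw [hh]; exact one_mem _)
  have hwa : ⁅w, a⁆ ∉ zpowers z' := fun hh => u1 (by
    rw [← commutatorElement_inv] at hh
    exact eq_one_of z2' hz' (mU a ha w hw) (by simpa using inv_mem hh))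
  obtain ⟨b', hb', hu', ⟨E, hEF, hE3, hE9, hEC⟩, -⟩ := o2 b1 a ha w hw hwa
  have e1 : ⁅b', a⁆ = ⁅a, w⁆ := by
    rcases hall b' hb' with hh | hh
    · exfalso
      apply hu'
      rw [← commutatorElement_inv, eq_one_of z2 hz (mU' a ha b' hb') hh, inv_one]
      exact one_mem _
    · have := eq_one_of z2 hz (mul_mem (mU' a ha b' hb') (mU' a ha w hw)) hh
      rw [← commutatorElement_inv]
      exact inv_eq_of_mul_eq_one_right this
  rw [e1] at hEC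
  obtain ⟨e, he, he3⟩ := ord3 hE3 hE9
  exact h3 e (h.gd _ (mU a ha w hw) u1 gu (hEC he)) (h'.KM (h'.FK (hEF he))) he3

end H83.DPVC1
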