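import Cfsg.Agent.H63.KgvSpec

/-! # KGV-JAR: the top coefficient -/

set_option autoImplicit false

namespace H83.KgvAR

open Polynomial Finset H63.Kgv

theorem mon {F : Type} [Field F] {r : ℕ} (hr : 0 < r) {f : F[X]} (h : f.Monic ∧ f.natDegree = r)
    (c : F) : (f + C c).Monic ∧ (f + C c).natDegree = r :=
  ⟨h.1.add_of_left (degree_C_le.trans_lt (natDegree_pos_iff_degree_pos.1 (h.2 ▸ hr))),
    natDegree_add_C.trans h.2⟩

theorem job : H63.Kgv.JAR := by
  intro pw1 F _ _ ψ r hr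
  classical
  have hS : {f : F[X] | f.Monic ∧ f.natDegree = r}.Finite := by
    have : Finite (degreeLT F r) := Finite.of_equiv _ (degreeLTEquiv F r).toEquiv.symm
    exact Finite.of_equiv _ (monicEquivDegreeLT (R := F) r).symm
  have mem : ∀ f : F[X], f ∈ hS.toFinset ↔ f.Monic ∧ f.natDegree = r := fun f => hS.mem_toFinset
  refine ⟨∑ f ∈ hS.toFinset.filter (fun f => f.coeff 0 = 0), ψ (pw r f), fun χ => ?_⟩
  rw [an, finsum_mem_eq_finite_toFinset_sum _ hS,
    ← sum_fiberwise hS.toFinset (fun f => f.coeff 0) (lam ψ χ r), gaussSum, mul_sum,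
    ← Equiv.sum_comp (Equiv.neg F)]
  refine sum_congr rfl fun u _ => ?_
  rw [mul_assoc, sum_mul]
  symm
  refine sum_nbij' (fun f => f + C (-u)) (fun f => f + C u) ?_ ?_ ?_ ?_ ?_
  · intro f hf
    obtain ⟨h1, h2⟩ := mem_filter.1 hf
    exact mem_filter.2 ⟨(mem _).2 (mon hr ((mem _).1 h1) _), by simp [h2]⟩
  · intro f hf
    obtain ⟨h1, h2⟩ := mem_filter.1 hf
    exact mem_filter.2 ⟨(mem _).2 (mon hr ((mem _).1 h1) _), by simp [h2]⟩
  · intro f _
    simp
  · intro f _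
    simp
  · intro f hf
    obtain ⟨h1, h2⟩ := mem_filter.1 hf
    obtain ⟨h3, h4⟩ := (mem _).1 h1
    obtain ⟨s, rfl⟩ : ∃ s, r = s + 1 := ⟨r - 1, by omega⟩
    rw [lam, (pw1 F).2.2.1 _ f (-u) hr h3 h4, natDegree_add_C, h4, coeff_add, h2, coeff_C_zero,
      zero_add, mul_neg, sub_neg_eq_add, AddChar.map_add_eq_mul, AddChar.mulShift_apply,
      show (-1 : F) ^ (s + 1) * -u = (-1) ^ s * u by ring, map_mul χ, map_pow χ,
      Nat.add_sub_cancel]
    ring

end H83.KgvAR
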