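import Cfsg.Agent.H67.SWDef

/-! STD-SP, wreath endgame: `JobNU` (a port of `H86/WRNU`). -/

set_option autoImplicit false
set_option linter.unusedSectionVars false

namespace H83.SWNU

open H64.SG (O2 Syl Cz Cs Ns cjs Is2 Inv2 UF IsO2 fx mem_Cs mem_Cz mem_fx is2_of_sq)
open H67.SA (St cI cm mem_cjs conj_mem_cjs cm_eq_one)
open H86.WR (GW FD EE pr pr_le le_EE comm_EE cj_comm dec2)
open H67.SW (WG NK)
open H59.SO Subgroup Function H98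
open scoped commutatorElement

universe u

variable {X : Type} [Group X] [Finite X] {U D A R : Subgroup X} {G : Type u} [Group G]
  [Finite G] {e e₁ e₂ : X →* G} {t n : G}

theorem pr_or (w : WG U D A) (c : CW e t e₁ e₂) {P Q : Subgroup G} (h1 : P ⊔ Q = two e₁ e₂ U)
    (h2 : P ≤ Cs Q) : pr c P ≤ Cs U ∨ pr c Q ≤ Cs U := by
  refine w.ind _ (pr_le w.ns c (le_sup_left.trans h1.le)) _ (pr_le w.ns c (le_sup_right.trans h1.le))
    (fun u hu => ?_) fun a ⟨b, ha⟩ a' ⟨b', ha'⟩ => ?_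
  · obtain ⟨p, hp, r, hr, h3⟩ := (mem_sup_left_norm (h2.trans (H64.SG.Cs_le_Ns _))).1
      (h1.ge (mem_sup_left ⟨u, hu, rfl⟩))
    obtain ⟨a, -, b, -, rfl⟩ := c.mem_two.1 (h1.le (mem_sup_left hp))
    obtain ⟨a', -, b', -, rfl⟩ := c.mem_two.1 (h1.le (mem_sup_right hr))
    rw [(c.inj2 w.ns (a := u) (b := 1) (c := a * a') (d := b * b') (by
      rw [map_one, mul_one, h3, c.mul_mul])).1]
    exact mul_mem (mem_sup_left ⟨b, hp⟩) (mem_sup_right ⟨b', hr⟩)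
  · have := h2 ha _ ha'
    rw [c.mul_mul, c.mul_mul] at this
    exact (c.inj2 w.ns this).1

theorem not_both (w : WG U D A) (c : CW e t e₁ e₂) (ht : t * t = 1) {f : X →* G}
    (hf : Injective f) (h1 : cjs n (U.map f) ≤ EE U e₁ e₂) (h2 : cjs n (U.map f) ≤ EE U e₂ e₁) :
    False := by
  obtain ⟨y, y1, y2, y3⟩ := w.exZ
  have h3 : n * f y * n⁻¹ ∈ cjs n (⁅U, U⁆.map f) := conj_mem_cjs.2 ⟨y, w.zd ⟨y1, y3⟩, rfl⟩
  have := c.eq_one w.ns (map_le_range _ _ (cj_comm c h1 h3))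
    (map_le_range _ _ (cj_comm (c.symm ht) h2 h3))
  exact y2 ((map_eq_one_iff _ hf).1 (conj_eq_one_iff.1 this))

theorem fix_EE (w : WG U D A) (c : CW e t e₁ e₂) (ht : t * t = 1) (hn : n ∈ Ns (two e₁ e₂ U))
    (ho : Odd (orderOf n)) : cjs n (U.map e₁) ≤ EE U e₁ e₂ ∧ cjs n (U.map e₂) ≤ EE U e₂ e₁ := by
  have c' := c.symm ht
  have h1 : cjs n (U.map e₁) ⊔ cjs n (U.map e₂) = two e₁ e₂ U := (cj_sup _ _ _).symm.trans (cj_eq_self hn)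
  have h2 : cjs n (U.map e₁) ≤ Cs (cjs n (U.map e₂)) := by
    rw [← H64.SG.cj_Cs]
    exact cj_mono n (((map_le_range _ _).trans c.le_Cs').trans (Cs_range_le _))
  have p1 := le_sup_left.trans h1.le
  have p2 := le_sup_right.trans h1.le
  have hT : two e₂ e₁ U = two e₁ e₂ U := two_comm U
  have k1 := (pr_or w c' (h1.trans hT.symm) h2).imp (le_EE c ht p1) (le_EE c ht p2)
  have k2 := (pr_or w c h1 h2).imp (le_EE c' ht (p1.trans hT.ge)) (le_EE c' ht (p2.trans hT.ge))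
  rcases k1 with k1 | k1 <;> rcases k2 with k2 | k2
  · exact (not_both w c ht c.inj k1 k2).elim
  · exact ⟨k1, k2⟩
  · exfalso
    have h3 := H64.SG.mem_of_sq_mem (K := Ns (⁅U, U⁆.map e₁)) (mem_normalizer_of_cj_le
      ((cj_cj _ _ _).symm.trans_le ((cj_mono n (cj_comm c' k2)).trans (cj_comm c k1)))) ho
    obtain ⟨y, y1, y2, y3⟩ := w.exZ
    exact y2 ((map_eq_one_iff _ c.inj).1 (c.eq_one w.ns ⟨y, rfl⟩ (map_le_range _ _
      (cj_comm c' k2 ((cj_eq_self h3).ge ⟨y, w.zd ⟨y1, y3⟩, rfl⟩)))))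
  · exact (not_both w c ht c.inj₂ k1 k2).elim

theorem norR (w : WG U D A) {f : X →* G} (hf : Injective f) (hn : n ∈ Ns (U.map f))
    (hR : R = D ∨ R = A) : n ∈ Ns (R.map f) := by
  classical
  have h1 : ∀ u ∈ U, ∃ a ∈ U, n * f u * n⁻¹ = f a := fun u hu => by
    obtain ⟨a, ha, h⟩ := conj_mem_of_mem_normalizer hn (show f u ∈ U.map f from ⟨u, hu, rfl⟩)
    exact ⟨a, ha, h.symm⟩
  choose! θ h2 h4 using h1
  have h6 : Set.InjOn θ U := fun u hu v hv h6 => hf (by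
    have := h4 u hu
    rw [h6, ← h4 v hv] at this
    simpa using this)
  have a : AutOn U θ := ⟨((Set.toFinite _).injOn_iff_bijOn_of_mapsTo h2).1 h6, fun a ha b hb =>
    hf (by rw [← h4 _ (mul_mem ha hb), map_mul, map_mul, ← h4 a ha, ← h4 b hb, conj_mul])⟩
  refine mem_normalizer_of_cj_le ?_
  rintro _ ⟨_, ⟨u, hu, rfl⟩, rfl⟩
  exact ⟨_, w.invR hR a u hu, (h4 u (w.leU hR hu)).symm⟩

theorem stepB (w : WG U D A) (c : CW e t e₁ e₂) (g : GW D A e t e₁ e₂) (hR : R = D ∨ R = A)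
    (h : cjs n (U.map e₁) ≤ two e₁ e₂ U) (n1 : n ∈ Ns (R.map e₁)) (n2 : n ∈ Ns (R.map e₂))
    {p u : X} (hp : p ∈ Ns R) (hu : u ∈ U) : n * e₁ (p * u * p⁻¹) * n⁻¹ ∈ G12 e₁ e₂ := by
  have tt := g.uf.inv.1
  have t1 : t⁻¹ = t := inv_eq_of_mul_eq_one_right tt
  have key : ∀ a ∈ Ns R, n * e₁ a * n⁻¹ ∈ Ns (R.map e₁) ∧ n * e₁ a * n⁻¹ ∈ Cs (R.map e₂) :=
    fun a ha => ⟨mul_mem (mul_mem n1 (map_mem_Ns ha)) (inv_mem n1), conj_mem_of_mem_normalizer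
      (normalizer_le_normalizer_centralizer _ n2) (Cs_range_le _ (c.le_Cs' ⟨a, rfl⟩))⟩
  have cM : Cs (R.map e₁) ⊓ Cs (R.map e₂) ≤ Ns (G12 e₁ e₂) :=
    (centralizer_sup _ _).ge.trans ((centralizer_le (c.map_le R)).trans (g.cu hR))
  have cc : ∀ a b : G, a ∈ Ns (R.map e₁) → a ∈ Cs (R.map e₂) → b ∈ Cs (R.map e₁) →
      b ∈ Ns (R.map e₂) → cm a b ∈ Cs (R.map e₁) ⊓ Cs (R.map e₂) := fun a b a1 a2 b1 b2 =>
    mem_inf.2 ⟨mul_mem (conj_mem_of_mem_normalizer (normalizer_le_normalizer_centralizer _ a1) b1)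
      (inv_mem b1), by
      have := mul_mem a2 (conj_mem_of_mem_normalizer
        (normalizer_le_normalizer_centralizer _ b2) (inv_mem a2))
      simpa only [cm, mul_assoc] using this⟩
  obtain ⟨r1, r2⟩ := key p hp
  obtain ⟨u1, u2⟩ := key u (w.nor hR (le_normalizer hu))
  have u3 : Is2 (n * e₁ u * n⁻¹) :=
    ((H64.SG.isPGroup_iff_is2.1 w.syl.2.1 u hu).map e₁).map (MulAut.conj n).toMonoidHom
  obtain ⟨a, -, z, -, u4⟩ := c.mem_two.1 (h (conj_mem_cjs.2 ⟨u, hu, rfl⟩))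
  rw [map_mul, map_mul, map_inv, ← conj_mul, ← conj_mul, ← conj_inv]
  generalize n * e₁ p * n⁻¹ = r at r1 r2
  generalize n * e₁ u * n⁻¹ = v at u1 u2 u3 u4
  have s1 : t * r * t⁻¹ ∈ Cs (R.map e₁) := by
    rw [← (c.symm tt).cjs_map, ← H64.SG.cj_Cs]; exact conj_mem_cj r2
  have s2 : t * r * t⁻¹ ∈ Ns (R.map e₂) := by
    rw [← c.cjs_map, ← H64.SG.cj_Ns]; exact conj_mem_cj r1
  have k1 : r * (t * r * t⁻¹) ∈ Ns (G12 e₁ e₂) := g.uf.uf _ (by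
    have : r * (t * r * t⁻¹) * t * (r * (t * r * t⁻¹))⁻¹ = cm r (t * r * t⁻¹) * t := by
      simp only [cm, mul_inv_rev, t1, mul_assoc]
      rw [← mul_assoc t t, tt, one_mul, mul_one]
    rw [this]
    exact mul_mem (cM (cc _ _ r1 r2 s1 s2)) g.uf.mem)
  generalize t * r * t⁻¹ = s at s1 s2 k1
  have k2 := inv_mem (cc _ _ u1 u2 (inv_mem s1) (inv_mem s2))
  obtain ⟨y, y1, y2, y3⟩ := w.exZ
  obtain ⟨k3, k4⟩ := (g.pm _ (cM k2)).resolve_right fun k => y2 ((map_eq_one_iff _ c.inj).1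
    (c.eq_one w.ns ⟨y, rfl⟩ (by
      rw [← k.1, mem_cjs, mul_assoc, k2.1 _ ⟨y, w.cenR hR y3, rfl⟩, inv_mul_cancel_left]
      exact ⟨y, rfl⟩)))
  obtain ⟨β₁, i1⟩ := exists_ind c.inj k3
  obtain ⟨β₂, i2⟩ := exists_ind c.inj₂ k4
  obtain ⟨ζ₁, -, -, rfl⟩ := w.ct R hR β₁ (i1.fix c.inj k2.1)
  obtain ⟨ζ₂, -, -, rfl⟩ := w.ct R hR β₂ (i2.fix c.inj₂ k2.2)
  have j1 := i1.mul (u4 ▸ c.ind₁ a z : Ind e₁ v _)
  have j2 := i2.mul (u4 ▸ c.ind₂ a z : Ind e₂ v _)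
  rw [← map_mul, show (cm v s⁻¹)⁻¹ * v = s⁻¹ * v * s⁻¹⁻¹ by unfold cm; group] at j1 j2
  have k5 := dec2 w.ns c g.odd (u3.map (MulAut.conj s⁻¹).toMonoidHom) j1 j2
  rw [show r * v * r⁻¹ = r * s * (s⁻¹ * v * s⁻¹⁻¹) * (r * s)⁻¹ by group]
  exact conj_mem_of_mem_normalizer k1 (c.mem_G12.2 ⟨_, _, k5⟩)

theorem cj_range (w : WG U D A) (c : CW e t e₁ e₂) (g : GW D A e t e₁ e₂)
    (hn : n ∈ Ns (two e₁ e₂ U)) (n1 : n ∈ Ns (U.map e₁)) (n2 : n ∈ Ns (U.map e₂)) :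
    cjs n e₁.range ≤ G12 e₁ e₂ := by
  have : closure {g | ∃ u ∈ U, ∃ p, (p ∈ Ns D ∨ p ∈ Ns A) ∧ g = p * u * p⁻¹} ≤
      (G12 e₁ e₂).comap (cje n e₁) := (closure_le _).2 (by
    have k : ∀ R, R = D ∨ R = A → ∀ p ∈ Ns R, ∀ u ∈ U, n * e₁ (p * u * p⁻¹) * n⁻¹ ∈ G12 e₁ e₂ :=
      fun R hR p hp u hu => stepB w c g hR (cj_le_of_le le_sup_left hn) (norR w c.inj n1 hR)
        (norR w c.inj₂ n2 hR) hp hu
    rintro _ ⟨u, hu, p, hp | hp, rfl⟩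
    exacts [k D (.inl rfl) p hp u hu, k A (.inr rfl) p hp u hu])
  rintro _ ⟨_, ⟨a, rfl⟩, rfl⟩
  exact this (w.top.ge (mem_top a))

theorem jobNU : H67.SW.JobNU.{u} := by
  intro X _ _ U D A w G _ _ e t b e₁ e₂ c g nk
  refine H67.SA.jobK11 g.uf (IsConj.refl t) g.uf.mem _ (c.t_mem_Ns b.inv.1 U) fun n hn ho => ?_
  obtain ⟨h1, h2⟩ := fix_EE w c b.inv.1 hn ho
  obtain ⟨n1, n2⟩ := nk n hn ho h1 h2
  refine mem_normalizer_of_cj_le ((cj_sup _ _ _).le.trans (sup_le (cj_range w c g hn n1 n2) ?_))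
  exact (cj_range w (c.symm b.inv.1) (g.symm c) (by rwa [two_comm]) n2 n1).trans G12_comm.le

end H83.SWNU
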