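import Cfsg.Agent.H64.YESpec
import Cfsg.Agent.H32.SHKit2
import Cfsg.Agent.H51.C2C

/-! STD-SP endgame, slot GC: Goldschmidt's theorem in `H / O(H)` modulo a central `2`-subgroup
(the first part follows `H32.SH.gold_z`). -/

set_option autoImplicit false

namespace H83.YEGC

open Cfsg Subgroup H98 H1.Gold H31.S2 H32.SH
open scoped commutatorElement

universe u

variable {G : Type u} [Group G] [Finite G] {L Q S V : Subgroup G}

/-- `L / V` is a component of `G / V` not centralized by `Q`. -/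
structure GY (Q S L : Subgroup G) : Prop where
  dec : ∀ q ∈ Q, ∃ b ∈ Q ⊓ L, ∃ c ∈ Q ⊓ cen L, b * c = q
  two : ∃ x ∈ Q, ∃ y ∈ Q, x ∉ cen L ∧ y ∉ cen L ∧ x⁻¹ * y ∉ cen L
  tr : ∀ a ∈ Q, ∀ a' ∈ Q, a ∉ cen L → a' ∉ cen L → ∃ g ∈ L ⊓ nor Q, g * a * g⁻¹ * a'⁻¹ ∈ cen L
  cj : ∀ g, H98.cj g L = L ∨ H98.cj g L ≤ cen L
  om : ∀ x ∈ S ⊓ L, x * x ∈ cen L → x ∈ Q
  nn : ¬ L ≤ nor (Q ⊓ L)

theorem gold_y (hO : oddCore G = ⊥) (hV : V ≤ center G) (hVQ : V ≤ Q) (hS : IsSyl 2 S ⊤)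
    (sq : ∀ x ∈ Q, x * x ∈ V) (hsc : IsStronglyClosed Q S) : Q.Normal ∨ ∃ L, GY Q S L := by
  have : Fact (Nat.Prime 2) := ⟨Nat.prime_two⟩
  have : V.Normal := ⟨fun z hz g => by rwa [mem_center_iff.1 (hV hz) g, mul_inv_cancel_right]⟩
  let f := QuotientGroup.mk' V
  have sf : Function.Surjective f := QuotientGroup.mk'_surjective _
  have one : ∀ {w : G}, f w = 1 ↔ w ∈ V := fun {w} => QuotientGroup.eq_one_iff w
  have cm : ∀ {K : Subgroup G}, V ≤ K → (K.map f).comap f = K := fun h =>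
    comap_map_eq_self (by rwa [QuotientGroup.ker_mk'])
  have mm : ∀ {K : Subgroup G} {w : G}, V ≤ K → f w ∈ K.map f → w ∈ K := fun h hw => cm h ▸ hw
  have hO' : oddCore (G ⧸ V) = ⊥ := by
    rw [← map_comap_eq_self_of_surjective sf (oddCore (G ⧸ V)), Subgroup.map_eq_bot_iff,
      QuotientGroup.ker_mk']
    simpa [hO] using le_sup_oddCore_of_map (hS.isPGroup.to_le (hVQ.trans hsc.1)) hV (map_comap_le _ _)
  have hS' : IsSyl 2 (S.map f) ⊤ := by
    have := hS.map f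
    rwa [← MonoidHom.range_eq_map, MonoidHom.range_eq_top.2 sf] at this
  have sq' : ∀ a ∈ Q.map f, a * a = 1 := by
    rintro _ ⟨a, ha, rfl⟩
    rw [← map_mul, one.2 (sq a ha)]
  have ea : IsElementaryAbelian 2 (Q.map f) := ⟨⟨⟨fun a b => Subtype.ext (by
    have := sq' _ (mul_mem a.2 b.2)
    calc (a : G ⧸ V) * b = ((a : G ⧸ V) * b)⁻¹ := (inv_eq_of_mul_eq_one_right this).symm
      _ = _ := by
        rw [mul_inv_rev, inv_eq_of_mul_eq_one_right (sq' _ a.2),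
          inv_eq_of_mul_eq_one_right (sq' _ b.2)]; rfl)⟩⟩, fun a ha => by rw [pow_two, sq' a ha]⟩
  have ast : AStar (Q.map f) := as_of H51.asch _ _ (Nat.lt_succ_self _) hO' _
    (sc_of_stronglyClosed hS'.toSylowTop ⟨map_mono hsc.1, by
      rintro _ ⟨a, ha, rfl⟩ q hq
      obtain ⟨g, rfl⟩ := sf q
      have e : f g * f a * (f g)⁻¹ = f (g * a * g⁻¹) := by simp
      rw [e] at hq ⊢
      exact mem_map_of_mem f (hsc.2 a ha g (mm (hVQ.trans hsc.1) hq))⟩) ea.1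
  by_cases hex : ∃ K, IsComponent K ∧ ¬ Q.map f ≤ cen K
  swap
  · left
    have e : normalClosure (Q.map f : Set (G ⧸ V)) = Q.map f := le_antisymm (ast.gen.trans
      (sup_le le_rfl (sSup_le fun K hK => (hex ⟨K, hK⟩).elim))) le_normalClosure
    have : (Q.map f).Normal := e ▸ normalClosure_normal
    exact cm hVQ ▸ this.comap f
  obtain ⟨K, hK, nc⟩ := hex
  have hVL : V ≤ K.comap f := fun w hw => by rw [mem_comap, one.2 hw]; exact one_mem _
  have mc := map_comap_eq_self_of_surjective sf K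
  have perf : K.comap f ≤ ⁅K.comap f, K.comap f⁆ ⊔ V := by
    have := comap_map_eq f ⁅K.comap f, K.comap f⁆
    rw [map_commutator, mc, H14.comp_perfect hK, QuotientGroup.ker_mk'] at this
    exact this.le
  have hc : ∀ {w}, f w ∈ cen K ↔ w ∈ cen (K.comap f) := fun {w} => ⟨fun h => by
    have h1 : ⁅(cen K).comap f, K.comap f⁆ ≤ V := commutator_le.2 fun x hx l hl => one.1 (by
      rw [map_commutatorElement, commutatorElement_eq_one_iff_mul_comm]; exact (hx _ hl).symm)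
    have h2 : ⁅⁅(cen K).comap f, K.comap f⁆, K.comap f⁆ = ⊥ :=
      H14.commutator_eq_bot_iff_comm.2 fun a ha b _ => (mem_center_iff.1 (hV (h1 ha)) b).symm
    have h3 := commutator_commutator_eq_bot_of_rotate (by rwa [commutator_comm (K.comap f)]) h2
    have h4 : K.comap f ≤ cen1 w := perf.trans (sup_le
      (fun a ha => mem_cen1.2 (H14.commutator_eq_bot_iff_comm.1 h3 a ha w h))
      fun a ha => mem_cen1.2 (mem_center_iff.1 (hV ha) w).symm)
    exact fun l hl => mem_cen1.1 (h4 hl), fun h k hk => by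
      obtain ⟨l, rfl⟩ := sf k
      rw [← map_mul, h l hk, map_mul]⟩
  have dec : ∀ q ∈ Q, ∃ b ∈ Q ⊓ K.comap f, ∃ c ∈ Q ⊓ cen (K.comap f), b * c = q := fun q hq => by
    obtain ⟨_, ⟨⟨b, hb, rfl⟩, hb'⟩, c, hc', e⟩ := H14.mem_sup_of_commutator_eq_bot
      (H14.commutator_eq_bot_iff_comm.2 fun a (ha : a ∈ Q.map f ⊓ K) b (hb : b ∈ Q.map f ⊓ cen K) =>
        hb.2 a ha.2)
      (ast.split K hK (mem_map_of_mem f hq))
    refine ⟨b, ⟨hb, hb'⟩, b⁻¹ * q, ⟨Q.mul_mem (Q.inv_mem hb) hq, hc.1 ?_⟩, by group⟩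
    rw [map_mul, map_inv, ← e, inv_mul_cancel_left]
    exact hc'.2
  obtain ⟨⟨_, ⟨x, hx, rfl⟩, _, ⟨y, hy, rfl⟩, n1, n2, n3⟩, tr⟩ := H55.GL.comp_tr ast ea hK nc
    (haveI := hK.2.2
     H55.GL.tr_of_gt kb (H14.quasi_quotient_not_comm hK.2) (ast.gt K hK nc))
  refine Or.inr ⟨K.comap f, dec, ⟨x, hx, y, hy, mt hc.2 n1, mt hc.2 n2, fun h => n3 ?_⟩,
    fun a ha a' ha' h1 h2 => ?_, fun g => ?_, fun x hx h => ?_, fun h => nc ?_⟩
  · rw [← map_inv, ← map_mul]; exact hc.2 h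
  · obtain ⟨q, hq, e⟩ := tr _ (mem_map_of_mem f ha) _ (mem_map_of_mem f ha') (mt hc.1 h1) (mt hc.1 h2)
    obtain ⟨g, rfl⟩ := sf q
    refine ⟨g, ⟨hq.1, mem_normalizer_of_cj_le ?_⟩, hc.1 (by simpa using e)⟩
    rintro _ ⟨a, ha, rfl⟩
    exact mm hVQ (by simpa using conj_mem_of_mem_normalizer hq.2 (mem_map_of_mem f ha))
  · rcases H14.comp_eq_or_commute (H14.comp_map_conj hK (f g)) hK with e | e
    · refine Or.inl (cj_eq_self (mem_normalizer_of_cj_le ?_))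
      rintro _ ⟨a, ha, rfl⟩
      exact e.le ⟨f a, ha, by simp⟩
    · right
      rintro _ ⟨a, ha, rfl⟩
      exact hc.1 fun k hk => (H14.commutator_eq_bot_iff_comm.1 e _ ⟨f a, ha, by simp⟩ k hk).symm
  · refine mm hVQ ((ast.omega K hK nc _ (H92.GA.isSyl_inf_comp hK hS')
      (inf_le_inf_right K (map_mono hsc.1)) _ ⟨mem_map_of_mem f hx.1, hx.2⟩).2 ?_)
    rw [pow_two, ← map_mul]; exact hc.2 h
  · have h1 : K ≤ nor (Q.map f ⊓ K) := fun k hk => by
      obtain ⟨l, rfl⟩ := sf k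
      refine mem_normalizer_of_cj_le ?_
      rintro _ ⟨_, ⟨⟨a, ha, rfl⟩, h2⟩, rfl⟩
      have := conj_mem_of_mem_normalizer (h hk) (show a ∈ Q ⊓ K.comap f from ⟨ha, h2⟩)
      exact ⟨⟨_, this.1, by simp⟩, by simpa using this.2⟩
    have h2 : ⁅K, Q.map f ⊓ K⁆ = ⊥ := (H14.comp_le_or_of_normalizes hK h1).resolve_left fun e =>
      H14.comp_commutator_ne_bot hK (H14.commutator_eq_bot_iff_comm.2 fun a ha b hb =>
        congrArg Subtype.val (ea.1.is_comm.comm ⟨a, (e ha).1⟩ ⟨b, (e hb).1⟩))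
    exact (ast.split K hK).trans (sup_le
      (fun a ha k hk => H14.commutator_eq_bot_iff_comm.1 h2 k hk a ha) inf_le_right)

open H55.GL H14 H51.C2 in
theorem jobGC : H64.YE.JobGC.{u} := by
  intro G _ _ M H T V Q hT hVQ hQT hV sq hsc hM
  have : Fact (Nat.Prime 2) := ⟨Nat.prime_two⟩
  replace hT := H64.SG.syl_iff.1 hT
  have hQH : Q ≤ H := hQT.trans hT.le
  have q2 : IsPGroup 2 Q := hT.isPGroup.to_le hQT
  have vz : ∀ v : H, (v : G) ∈ V → pq 2 H v ∈ center (Qt H) := fun v hv => mem_center_iff.2 fun y => by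
    obtain ⟨x, rfl⟩ := pq_surjective y
    rw [← map_mul, ← map_mul]
    exact congrArg _ (Subtype.ext (hV x.2 v hv).symm)
  have hS : IsSyl 2 (bar H T) ⊤ := bar_self (H := H) ▸ isSyl_bar hT le_rfl
  have sc : SC (bar H Q) := (sc_of_stronglyClosed hT.subgroupOf_top.toSylowTop
    ⟨fun _ hx => hQT hx, fun x hx g hg => hsc x hx g g.2 hg⟩).map _ pq_surjective
  have nq : ∀ y ∈ nor (bar H Q), ∃ d : H, (d : G) ∈ nor Q ∧ pq 2 H d = y := fun y hy => by
    rw [bar, nor, ← map_normalizer_of_coprime_ker _ pq_surjective coprime_ker_pq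
      (isPGroup_subgroupOf q2 H), ← subgroupOf_normalizer_eq hQH] at hy
    exact hy
  have qn : ∀ d : H, (d : G) ∈ nor Q → pq 2 H d ∈ nor (bar H Q) := fun d hd =>
    bar_le_nor (H := H) le_rfl (pq_mem_bar hd)
  rcases gold_y (V := bar H V) (opp_Qt H) (bar_le_iff_forall.2 vz) (bar_mono hVQ) hS (by
      rintro _ ⟨a, ha, rfl⟩
      rw [← map_mul]
      exact pq_mem_bar (sq _ ha)) ⟨bar_mono hQT, sc.2 _ hS.isPGroup (bar_mono hQT)⟩ with hn | ⟨L, h⟩
  · refine Or.inl ⟨opp 2 H, opp_le H, Nat.coprime_two_right.1 (coprime_card_opp H),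
      normalizer_le_normalizer_opp H, fun x hx => ?_⟩
    have := le_of_bar_normal q2 hQH hn hx
    rw [sup_comm] at this
    obtain ⟨a, ha, o, ho, e⟩ :=
      (mem_sup_left_norm (inf_le_left.trans (self_le_normalizer_opp H))).1 this
    exact ⟨a * o * a⁻¹, conj_mem_of_mem_normalizer (self_le_normalizer_opp H ha.1) ho, a, ha,
      by rw [e]; group⟩
  have mb : ∀ x : H, (x : G) ∈ Q → ((x : G) ∈ Q ⊓ pre H (cen L) ↔ pq 2 H x ∈ cen L) :=
    fun x hx => ⟨fun k => mem_pre.1 k.2, fun k => ⟨hx, mem_pre.2 k⟩⟩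
  have np : ∀ (x : H) (K : Subgroup (Qt H)), pq 2 H x ∈ nor K → (x : G) ∈ nor (pre H K) :=
    fun x K k => mem_normalizer_of_cj_le (by
      rintro _ ⟨a, ha, rfl⟩
      lift a to H using pre_le K ha
      exact (mem_pre (x := x * a * x⁻¹)).2
        (by simpa using conj_mem_of_mem_normalizer k (mem_pre.1 ha)))
  have c1 : ∀ x : H, (x : G) ∈ nor Q → cj (pq 2 H x) L = L →
      (x : G) ∈ nor (pre H L) ∧ (x : G) ∈ nor (Q ⊓ pre H (cen L)) := fun x hx e =>
    ⟨np x L (cj_eq_self_iff.1 e), inf_normalizer_le_normalizer_inf ⟨hx, np x _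
      (cj_eq_self_iff.1 (by rw [cen, cj_centralizer, e]))⟩⟩
  refine Or.inr ⟨pre H L, Q ⊓ pre H (cen L), pre_le L, fun v hv => ?_, inf_le_left, fun x hx => ?_,
    ?_, fun a ha a' ha' h1 h2 => ?_, fun x hx h1 => ?_, fun x hx => ?_, fun s hs s2 hc => ?_⟩
  · lift v to H using hQH (hVQ hv)
    exact (mb v (hVQ hv)).2 (center_le_centralizer _ (vz v hv))
  · lift x to H using hQH hx
    obtain ⟨_, ⟨⟨a, ha, rfl⟩, h1⟩, c, hc, e⟩ := h.dec _ (pq_mem_bar hx)
    refine ⟨a, ⟨ha, mem_pre.2 h1⟩, (a⁻¹ * x : H), (mb _ (Q.mul_mem (Q.inv_mem ha) hx)).2 ?_, by simp⟩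
    rw [map_mul, map_inv, ← e, inv_mul_cancel_left]
    exact hc.2
  · obtain ⟨_, ⟨x, hx, rfl⟩, _, ⟨y, hy, rfl⟩, n1, n2, n3⟩ := h.two
    refine ⟨x, hx, y, hy, mt (mb x hx).1 n1, mt (mb y hy).1 n2, fun k => n3 ?_⟩
    rw [← map_inv, ← map_mul]
    exact (mb (x⁻¹ * y) (Q.mul_mem (Q.inv_mem hx) hy)).1 k
  · lift a to H using hQH ha
    lift a' to H using hQH ha'
    obtain ⟨g, hg, e⟩ := h.tr _ (pq_mem_bar ha) _ (pq_mem_bar ha') (mt (mb a ha).2 h1)
      (mt (mb a' ha').2 h2)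
    obtain ⟨d, hd, rfl⟩ := nq g hg.2
    refine ⟨d, mem_pre.2 hg.1, hd, fun b hb => ?_, (mb (d * a * d⁻¹ * a'⁻¹)
      (Q.mul_mem (conj_mem_of_mem_normalizer hd ha) (Q.inv_mem ha'))).2 (by simpa using e)⟩
    lift b to H using hQH hb.1
    have := pq_inj q2 (a := d * b * d⁻¹) (b := b) (conj_mem_of_mem_normalizer hd hb.1) hb.1 (by
      rw [map_mul, map_mul, map_inv, (mb b hb.1).1 hb _ hg.1, mul_inv_cancel_right])
    exact (mul_inv_eq_iff_eq_mul.1 this).symm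
  · lift x to H using hT.le hx.1
    refine (mem_bar_iff hT.isPGroup hQT hx.1).1 (h.om _ ⟨pq_mem_bar hx.1, mem_pre.1 hx.2⟩ ?_)
    rw [← map_mul]
    exact center_le_centralizer _ (vz (x * x) h1)
  · lift x to H using hx.1
    refine (h.cj (pq 2 H x)).imp (c1 x hx.2) fun e => ?_
    rintro _ ⟨a, ha, rfl⟩
    lift a to H using hQH ha.1
    exact (mb (x * a * x⁻¹) (conj_mem_of_mem_normalizer hx.2 ha.1)).2
      (e (by simpa using conj_mem_cj (g := pq 2 H x) (mem_pre.1 ha.2)))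
  · lift s to H using hs
    have s2' : s * s = 1 := Subtype.ext s2
    refine c1 s (hM ⟨hc (mem_centralizer_singleton_iff.2 rfl), s.2⟩)
      ((h.cj (pq 2 H s)).resolve_right fun e => h.nn fun l hl => mem_normalizer_of_cj_le ?_)
    have l1 := e (conj_mem_cj (g := pq 2 H s) hl)
    have sb : pq 2 H s * pq 2 H s = 1 := by rw [← map_mul, s2', map_one]
    have l2 : l * (pq 2 H s * l * (pq 2 H s)⁻¹) ∈ centralizer
        (((zpowers s).map (pq 2 H) : Subgroup (Qt H)) : Set (Qt H)) := by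
      rw [MonoidHom.map_zpowers, zpowers_eq_closure, centralizer_closure,
        mem_centralizer_singleton_iff]
      calc _ = l * pq 2 H s * l := by group
        _ = pq 2 H s * (pq 2 H s * l * pq 2 H s * l) := by simp only [← mul_assoc, sb, one_mul]
        _ = _ := by rw [l1 l hl, inv_eq_of_mul_eq_one_right sb]
    rw [← map_centralizer_of_coprime_ker (p := 2) _ pq_surjective coprime_ker_pq
      (isPGroup_zpowers (k := 1) (by rw [pow_one, pow_two, s2']))] at l2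
    obtain ⟨c, hc', e'⟩ := l2
    have l3 := qn c (hM ⟨hc (mem_centralizer_singleton_iff.2
      (congrArg Subtype.val (hc' s (mem_zpowers s))).symm), c.2⟩)
    rintro _ ⟨y, hy, rfl⟩
    have := conj_mem_of_mem_normalizer l3 hy.1
    rw [e', mul_assoc l, ← l1 y hy.2, mul_inv_rev, ← mul_assoc l, ← mul_assoc,
      mul_inv_cancel_right] at this
    exact ⟨this, L.mul_mem (L.mul_mem hl hy.2) (L.inv_mem hl)⟩

end H83.YEGC
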