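import Cfsg.Agent.H83.SVSpec

/-! STD-U at `q = 2` API, ambient part: `Ind` for injective `e`, transport, `Co`, `CW`, `EG0.eg`. -/

set_option autoImplicit false
set_option linter.unusedSectionVars false

namespace H83.SV

open H64.SG (O2 Syl Cz Cs Ns cjs Is2 Inv2 UF IsO2 fx mem_Cs mem_Cz mem_fx)
open H67.SA (SLn Au x sc Root UU ZZ QQ Ml St cI cm out Gen mem_St_iff_map conj_mem_St mem_cjs
  conj_mem_cjs card_cjs cjs_inv_le cjs_swap mem_St_of_finite)
open Matrix H57 Subgroup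

universe u

section Ind

variable {Y : Type*} [Group Y] {G : Type*} [Group G] {e : Y →* G} {g g' t : G}
  {β β' : MulAut Y} {A : Subgroup Y}

theorem El.mono {A B : Subgroup G} (h : El B) (hA : A ≤ B) : El A := fun y hy => h y (hA hy)
theorem El.comm {A : Subgroup G} (h : El A) {a b : G} (ha : a ∈ A) (hb : b ∈ A) : a * b = b * a := by
  have h1 := h _ (mul_mem ha hb)
  rw [← inv_eq_of_mul_eq_one_left h1, _root_.mul_inv_rev, inv_eq_of_mul_eq_one_left (h a ha),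
    inv_eq_of_mul_eq_one_left (h b hb)]
theorem El.le_Cs {A : Subgroup G} (h : El A) : A ≤ Cs A := fun _ ha _ hb => h.comm hb ha
theorem El.isP {A : Subgroup G} (h : El A) : IsPGroup 2 A :=
  H64.SG.isPGroup_iff_is2.2 fun a ha => H64.SG.is2_of_sq (h a ha)
theorem El.map {A : Subgroup Y} (h : El A) (e : Y →* G) : El (A.map e) := by
  rintro _ ⟨a, ha, rfl⟩; rw [← map_mul, h a ha, map_one]
theorem El.sup {A B : Subgroup G} (h : El A) (h' : El B) (c : A ≤ Cs B) : El (A ⊔ B) := fun y hy => by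
  obtain ⟨a, ha, b, hb, rfl⟩ := (H98.mem_sup_right_norm
    (fun b hb => H64.SG.Cs_le_Ns A fun a ha => (c ha b hb).symm)).1 hy
  rw [mul_assoc, ← mul_assoc b, c ha b hb, mul_assoc, h' b hb, mul_one, h a ha]
theorem el_zpowers (h : t * t = 1) : El (zpowers t) := by
  rintro _ ⟨k, rfl⟩
  change t ^ k * t ^ k = 1
  rw [← Commute.mul_zpow rfl, h, _root_.one_zpow]
theorem mem_zpowers_two (h : t * t = 1) : g ∈ zpowers t ↔ g = 1 ∨ g = t := by
  refine ⟨?_, by rintro (rfl | rfl); exacts [one_mem _, mem_zpowers _]⟩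
  rintro ⟨k, rfl⟩
  obtain ⟨j, rfl | rfl⟩ := Int.even_or_odd' k
  · left; change t ^ _ = _; rw [_root_.zpow_mul, zpow_two, h, _root_.one_zpow]
  · right; change t ^ _ = _; rw [_root_.zpow_add, _root_.zpow_mul, zpow_two, h, _root_.one_zpow]; simp

theorem Ind.mul (h : Ind e g β) (h' : Ind e g' β') : Ind e (g * g') (β * β') := fun s => by
  rw [MulAut.mul_apply, ← h, ← h']; group
theorem Ind.inv (h : Ind e g β) : Ind e g⁻¹ β⁻¹ := fun s => by
  have := h (β⁻¹ s)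
  rw [MulAut.apply_inv_self] at this
  rw [← this]; group
theorem ind_one : Ind e 1 1 := fun s => by simp
theorem Ind.pow (h : Ind e g β) (k : ℕ) : Ind e (g ^ k) (β ^ k) := by
  induction k with
  | zero => simpa using ind_one
  | succ k ih => rw [pow_succ, pow_succ]; exact ih.mul h
theorem Ind.conj (h : Ind e g β) (h' : Ind e g' β') : Ind e (g * g' * g⁻¹) (β * β' * β⁻¹) :=
  (h.mul h').mul h.inv
theorem Ind.cm (h : Ind e g β) (h' : Ind e g' β') : Ind e (cm g g') (cm β β') :=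
  (h.conj h').mul h'.inv
theorem ind_conj (s : Y) : Ind e (e s) (MulAut.conj s) := fun a => by simp
theorem mem_Cs_range : g ∈ Cs e.range ↔ ∀ s, e s * g = g * e s :=
  ⟨fun h s => h _ ⟨s, rfl⟩, by rintro h _ ⟨s, rfl⟩; exact h s⟩
theorem mem_Cs_map : g ∈ Cs (A.map e) ↔ ∀ s ∈ A, e s * g = g * e s :=
  ⟨fun h s hs => h _ ⟨s, hs, rfl⟩, by rintro h _ ⟨s, hs, rfl⟩; exact h s hs⟩
theorem ind_one_iff : Ind e g 1 ↔ g ∈ Cs e.range :=
  mem_Cs_range.trans (forall_congr' fun s => by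
    rw [MulAut.one_apply, mul_inv_eq_iff_eq_mul, eq_comm]) |>.symm
theorem Ind.cjs_map (h : Ind e g β) (A : Subgroup Y) :
    cjs g (A.map e) = (A.map β.toMonoidHom).map e := by
  rw [cjs, Subgroup.map_map, Subgroup.map_map]
  congr 1
  ext s
  exact h s
theorem Ind.mem_Ns_map (h : Ind e g β) (hA : β ∈ St A) : g ∈ Ns (A.map e) := by
  rw [← conj_mem_St, mem_St_iff_map]
  exact (h.cjs_map A).trans (by rw [mem_St_iff_map.1 hA])
theorem Ind.mem_Ns (h : Ind e g β) : g ∈ Ns e.range := by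
  rw [MonoidHom.range_eq_map]
  exact h.mem_Ns_map fun _ => by simp
theorem Ind.comm (h : Ind e g β) {s : Y} (hs : β s = s) : g * e s = e s * g := by
  have := h s
  rwa [hs, mul_inv_eq_iff_eq_mul] at this
theorem Ind.map_fx_le (h : Ind e g β) : (fx β).map e ≤ Cz g := by
  rintro _ ⟨s, hs, rfl⟩; exact mem_Cz.2 (h.comm hs)
theorem ind_conj_iff {s : Y} : Ind e g (MulAut.conj s) ↔ g * (e s)⁻¹ ∈ Cs e.range := by
  rw [← ind_one_iff]
  exact ⟨fun h => by simpa using h.mul (ind_conj s).inv,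
    fun h => by simpa using h.mul (ind_conj (e := e) s)⟩
theorem map_mem_Ns {s : Y} (h : s ∈ Ns A) : e s ∈ Ns (A.map e) :=
  (ind_conj s).mem_Ns_map (conj_mem_St.2 h)
theorem map_mem_Cs {s : Y} (h : s ∈ Cs A) : e s ∈ Cs (A.map e) := by
  rintro _ ⟨a, ha, rfl⟩
  rw [← map_mul, ← map_mul, h a ha]
theorem Cs_range_le (A : Subgroup Y) : Cs e.range ≤ Cs (A.map e) :=
  centralizer_le (map_le_range e A)
theorem map_cjs (s : Y) (A : Subgroup Y) : (cjs s A).map e = cjs (e s) (A.map e) :=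
  ((ind_conj s).cjs_map A).symm

/-- `e` conjugated by `g`. -/
abbrev cje (g : G) (e : Y →* G) : Y →* G := (MulAut.conj g).toMonoidHom.comp e
theorem cje_apply (s : Y) : cje g e s = g * e s * g⁻¹ := rfl
theorem map_cje (A : Subgroup Y) : A.map (cje g e) = cjs g (A.map e) := (Subgroup.map_map _ _ _).symm
theorem range_cje : (cje g e).range = cjs g e.range := (MonoidHom.map_range _ _).symm
theorem Ind.cje (h : Ind e g β) (a : G) : Ind (cje a e) (a * g * a⁻¹) β := fun s => by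
  rw [cje_apply, cje_apply, ← h]; group
theorem cje_inj (h : Function.Injective e) (g : G) : Function.Injective (cje g e) :=
  (MulAut.conj g).injective.comp h

variable (hi : Function.Injective e)
include hi

theorem Ind.unique (h : Ind e g β) (h' : Ind e g β') : β = β' :=
  MulEquiv.ext fun s => hi ((h s).symm.trans (h' s))
theorem Ind.eq_one_iff (h : Ind e g β) : β = 1 ↔ g ∈ Cs e.range :=
  ⟨fun e1 => ind_one_iff.1 (e1 ▸ h), fun e1 => h.unique hi (ind_one_iff.2 e1)⟩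
theorem exists_ind (hg : g ∈ Ns e.range) : ∃ β, Ind e g β := by
  let ε := MonoidHom.ofInjective hi
  refine ⟨ε.trans ((e.range.normalizerMonoidHom ⟨g, hg⟩).trans ε.symm), fun s => ?_⟩
  exact (MonoidHom.apply_ofInjective_symm hi (e.range.normalizerMonoidHom ⟨g, hg⟩ (ε s))).symm

/-- The action of `N(L)`. -/
noncomputable def indH : Ns e.range →* MulAut Y :=
  MonoidHom.mk' (fun g => (exists_ind hi g.2).choose) fun a b =>
    (exists_ind hi (a * b).2).choose_spec.unique hi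
      ((exists_ind hi a.2).choose_spec.mul (exists_ind hi b.2).choose_spec)
theorem ind_indH (g : Ns e.range) : Ind e g (indH hi g) := (exists_ind hi g.2).choose_spec
theorem Ind.indH_eq (h : Ind e g β) : indH hi ⟨g, h.mem_Ns⟩ = β := (ind_indH hi _).unique hi h
theorem mem_ker_indH {g : Ns e.range} : indH hi g = 1 ↔ g.1 ∈ Cs e.range :=
  (ind_indH hi g).eq_one_iff hi
theorem Ind.pow_eq_one (h : Ind e g β) {k : ℕ} (h1 : g ^ k = 1) : β ^ k = 1 :=
  (h.pow k).unique hi (h1 ▸ ind_one)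
theorem Ind.is2 (h : Ind e g β) (h2 : Is2 g) : Is2 β := ⟨_, h.pow_eq_one hi h2.choose_spec⟩
theorem Ind.sq (h : Ind e g β) (h2 : g * g = 1) : β * β = 1 := (h.mul h).unique hi (h2 ▸ ind_one)
theorem Ind.odd (h : Ind e g β) (h2 : Odd (orderOf g)) : Odd (orderOf β) :=
  H64.SG.odd_orderOf_of_pow h2 (h.pow_eq_one hi (pow_orderOf_eq_one g))
theorem Ind.comm_of_comm (h : Ind e g β) (h' : Ind e g' β') (c : g * g' = g' * g) :
    β * β' = β' * β := (h.mul h').unique hi (c ▸ h'.mul h)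
theorem Ind.eq_iff (h : Ind e g β) {a b : Y} : g * e a * g⁻¹ = e b ↔ β a = b := by rw [h, hi.eq_iff]
theorem Ind.comm_iff (h : Ind e g β) {a : Y} : g * e a = e a * g ↔ β a = a := by
  rw [← h.eq_iff hi, mul_inv_eq_iff_eq_mul]
theorem Ind.st (h : Ind e g β) (hg : g ∈ Ns (A.map e)) : β ∈ St A := fun a => by
  rw [← mem_map_iff_mem hi, mem_normalizer_iff.1 hg, h, mem_map_iff_mem hi]
theorem Ind.fix (h : Ind e g β) (hg : g ∈ Cs (A.map e)) : ∀ a ∈ A, β a = a :=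
  fun a ha => (h.comm_iff hi).1 (hg _ ⟨a, ha, rfl⟩).symm
theorem e_mem_Cs {s : Y} : e s ∈ Cs (A.map e) ↔ s ∈ Cs A :=
  ⟨fun h a ha => hi (by simpa using h _ ⟨a, ha, rfl⟩), map_mem_Cs⟩
theorem e_mem_Ns {s : Y} : e s ∈ Ns (A.map e) ↔ s ∈ Ns A :=
  ⟨fun h => conj_mem_St.1 ((ind_conj s).st hi h), map_mem_Ns⟩
theorem eq_one_of_Cs (hc : center Y = ⊥) (h1 : g ∈ e.range) (h2 : g ∈ Cs e.range) : g = 1 := by
  obtain ⟨s, rfl⟩ := h1
  rw [mem_bot.1 (hc ▸ mem_center_iff.2 fun a => hi (by simpa using h2 _ ⟨a, rfl⟩) : s ∈ ⊥), map_one]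
theorem is2_e {s : Y} : Is2 (e s) ↔ Is2 s :=
  ⟨fun ⟨k, hk⟩ => ⟨k, hi (by rw [map_pow, hk, map_one])⟩, fun h => h.map e⟩
theorem inv2_e {s : Y} : Inv2 (e s) ↔ Inv2 s := by
  rw [Inv2, Inv2, ← map_mul, Ne, map_eq_one_iff e hi, map_eq_one_iff e hi]

omit hi in
theorem conj_inj (hc : center Y = ⊥) : Function.Injective (MulAut.conj : Y →* MulAut Y) :=
  (injective_iff_map_eq_one _).2 fun a h => mem_bot.1 (hc ▸ mem_center_iff.2 fun b => by
    have := congrArg (fun f : MulAut Y => f b) h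
    exact (mul_inv_eq_iff_eq_mul.1 this).symm)

/-- A `2`-element acting as `e s`. -/
theorem Ind.split (hc : center Y = ⊥) {s : Y} (h : Ind e g (MulAut.conj s)) (h2 : Is2 g) :
    Is2 s ∧ ∃ k ∈ Cs e.range, Is2 k ∧ g = k * e s ∧ g * k = k * g := by
  have hs : Is2 s := (is2_e (conj_inj hc)).1 (h.is2 hi h2)
  have h1 := ind_conj_iff.1 h
  have h4 : g * e s = e s * g := h.comm (by simp)
  have h5 : g * (e s)⁻¹ = (e s)⁻¹ * g := (show Commute g (e s) from h4).inv_right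
  exact ⟨hs, _, h1, h2.mul (hs.map e).inv h5, by simp, by rw [mul_assoc, ← h5]⟩

end Ind

variable {F K : Type} [Field F] [Finite F] [CharP F 2] [Field K] [Algebra F K] [StarRing K] [CharP K 2]
  [Qe F K] [Finite K] {G : Type u} [Group G] {e e₁ e₂ : X K →* G} {g t : G}

section B

theorem B1.cje (h : B1 e t) (g : G) : B1 (cje g e) (g * t * g⁻¹) where
  inj := cje_inj h.inj g
  inv := H9.UF.inv2_conj h.inv (isConj_iff.2 ⟨g, rfl⟩)
  cen := by rw [range_cje, ← H64.SG.cj_Cs]; exact conj_mem_cjs.2 h.cen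
  cz := by rw [range_cje, ← H64.SG.cj_Ns, ← H64.SG.cj_Cz]; exact map_mono h.cz

theorem B0.cje (h : B0 e t) (g : G) : B0 (cje g e) (g * t * g⁻¹) where
  toB1 := h.toB1.cje g
  cyc R h1 h2 := by
    rw [range_cje, ← H64.SG.cj_Cs] at h1
    have := h.cyc _ (cjs_inv_le h1) (h2.map _)
    exact isCyclic_of_surjective _ (R.equivMapOfInjective (MulAut.conj g⁻¹).toMonoidHom
      (MulAut.conj g⁻¹).injective).symm.surjective

theorem CE.cje (h : CE e t) (g : G) : CE (cje g e) (g * t * g⁻¹) where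
  toB1 := h.toB1.cje g
  two R h1 h2 := by
    rw [range_cje, ← H64.SG.cj_Cs] at h1
    exact card_cjs g⁻¹ R ▸ h.two _ (cjs_inv_le h1) (h2.map _)

theorem CE.b0 [Finite G] (h : CE e t) : B0 e t := by
  refine ⟨h.toB1, fun R h1 h2 => ?_⟩
  have := h.two R h1 h2
  have h0 : 0 < Nat.card R := Nat.card_pos
  exact isCyclic_of_card_dvd_prime (p := 2) (by interval_cases Nat.card R <;> simp)

theorem B1.comm (h : B1 e t) (s : X K) : t * e s = e s * t := (h.cen _ ⟨s, rfl⟩).symm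
theorem B1.conj_eq (h : B1 e t) (s : X K) : t * e s * t⁻¹ = e s := by
  rw [h.comm, mul_inv_cancel_right]
theorem B1.conj_t (h : B1 e t) (s : X K) : e s * t * (e s)⁻¹ = t := by
  rw [← h.comm, mul_inv_cancel_right]
theorem B1.mem_Cz (h : B1 e t) (s : X K) : e s ∈ Cz t := H64.SG.mem_Cz.2 (h.comm s)
theorem B1.range_le (h : B1 e t) : e.range ≤ Cz t := by rintro _ ⟨s, rfl⟩; exact h.mem_Cz s
theorem B1.inv_eq (h : B1 e t) : t⁻¹ = t := inv_eq_of_mul_eq_one_right h.inv.1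
theorem B1.card_zp (h : B1 e t) : Nat.card (zpowers t) = 2 := by
  rw [Nat.card_zpowers]; exact orderOf_eq_prime (by rw [pow_two, h.inv.1]) h.inv.2
theorem B1.not_mem (h : B1 e t) (hc : center (X K) = ⊥) : t ∉ e.range := fun h1 =>
  h.inv.2 (eq_one_of_Cs h.inj hc h1 h.cen)

theorem el_AX : El (AX K) := fun _ => sq_AX

theorem B1.mem_EE (h : B1 e t) : g ∈ EE e t ↔ ∃ v : VA F K, g = e (xa v) ∨ g = t * e (xa v) := by
  rw [H98.mem_sup_right_norm (((map_le_range _ _).trans h.range_le).trans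
    fun a ha => H64.SG.Cs_le_Ns _ (H64.SG.mem_Cs_zpowers.2 (H64.SG.mem_Cz.1 ha)))]
  constructor
  · rintro ⟨a, ha, _, ⟨b, hb, rfl⟩, rfl⟩
    obtain ⟨v, rfl⟩ := (mem_AX (F := F)).1 hb
    rcases (mem_zpowers_two h.inv.1).1 ha with rfl | rfl
    exacts [⟨v, Or.inl (one_mul _)⟩, ⟨v, Or.inr rfl⟩]
  · rintro ⟨v, rfl | rfl⟩
    exacts [⟨1, one_mem _, _, ⟨_, xa_mem_AX v, rfl⟩, (one_mul _).symm⟩,
      ⟨t, mem_zpowers _, _, ⟨_, xa_mem_AX v, rfl⟩, rfl⟩]

theorem B1.el_EE (h : B1 e t) : El (EE e t) :=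
  (el_zpowers h.inv.1).sup (el_AX.map e) (zpowers_le.2 (Cs_range_le _ h.cen))

theorem B1.card_EE [Finite G] (h : B1 e t) (hc : center (X K) = ⊥) :
    Nat.card (EE e t) = 2 * Nat.card F ^ 4 := by
  have h1 := H99.card_sup_mul_card_inf_of_le_normalizer
    ((zpowers_le.2 (Cs_range_le (AX K) h.cen)).trans (H64.SG.Cs_le_Ns _))
  have h2 : zpowers t ⊓ (AX K).map e = ⊥ := eq_bot_iff.2 fun a ha => by
    rcases (mem_zpowers_two h.inv.1).1 ha.1 with rfl | rfl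
    · exact one_mem _
    · exact absurd (map_le_range _ _ ha.2) (h.not_mem hc)
  rwa [h2, card_bot, mul_one, h.card_zp, card_map_of_injective h.inj, card_AX (F := F)] at h1

/-- An element of `C(L)` of square `1` commuting with `t` is `1` or `t`. -/
theorem B0.eq_or [Finite G] (h : B0 e t) {k : G} (hk : k ∈ Cs e.range) (h2 : k * k = 1)
    (hc : t * k = k * t) : k = 1 ∨ k = t := by
  have h3 : El (zpowers t ⊔ zpowers k) := (el_zpowers h.inv.1).sup (el_zpowers h2)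
    (zpowers_le.2 (H64.SG.mem_Cs_zpowers.2 hc.symm))
  have := h.cyc _ (sup_le (zpowers_le.2 h.cen) (zpowers_le.2 hk)) h3.isP
  obtain ⟨⟨a, ha⟩, h4⟩ := IsCyclic.exists_generator (α := ↥(zpowers t ⊔ zpowers k))
  have h5 : ∀ b ∈ zpowers t ⊔ zpowers k, b = 1 ∨ b = a := fun b hb => by
    obtain ⟨i, hi⟩ := h4 ⟨b, hb⟩
    exact (mem_zpowers_two (h3 a ha)).1 ⟨i, congrArg Subtype.val hi⟩
  rcases h5 k (mem_sup_right (mem_zpowers k)) with h6 | h6
  · exact Or.inl h6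
  · exact Or.inr (h6.trans ((h5 t (mem_sup_left (mem_zpowers t))).resolve_left h.inv.2).symm)

/-- A `2`-element of `C(L)` commuting with `t` is `1` or `t`. -/
theorem CE.eq_or [Finite G] (h : CE e t) {k : G} (hk : k ∈ Cs e.range) (h2 : Is2 k)
    (hc : t * k = k * t) : k = 1 ∨ k = t := by
  have hp : IsPGroup 2 ↥(zpowers t ⊔ zpowers k) := (H9.UF.pg_zp h.inv.1).to_sup_of_normal_left'
    h2.zpowers ((zpowers_le.2 (H64.SG.mem_Cs_zpowers.2 hc)).trans (H64.SG.Cs_le_Ns _))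
  have h3 := h.two _ (sup_le (zpowers_le.2 h.cen) (zpowers_le.2 hk)) hp
  have h5 : zpowers t = zpowers t ⊔ zpowers k := eq_of_le_of_card_ge le_sup_left (h.card_zp ▸ h3)
  exact (mem_zpowers_two h.inv.1).1 (h5 ▸ mem_sup_right (mem_zpowers k))

/-- A `2`-element `≠ 1` of `C(L)` is conjugate to `t` in `C(L)`. -/
theorem CE.conj [Finite G] (h : CE e t) {k : G} (hk : k ∈ Cs e.range) (h2 : Is2 k) (h1 : k ≠ 1) :
    ∃ c ∈ Cs e.range, k = c * t * c⁻¹ := by
  obtain ⟨S, hS, h3⟩ := H98.exists_isSyl_le (H9.UF.pg_zp h.inv.1) (zpowers_le.2 h.cen)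
  have h4 : zpowers t = S := eq_of_le_of_card_ge h3 (h.card_zp ▸ h.two S hS.1 hS.2.1)
  obtain ⟨c, hc, h5⟩ := hS.exists_cj_le h2.zpowers (zpowers_le.2 hk)
  have h6 : c * k * c⁻¹ ∈ zpowers t := h4 ▸ h5 ⟨k, mem_zpowers k, rfl⟩
  rcases (mem_zpowers_two h.inv.1).1 h6 with h7 | h7
  · exact absurd (by simpa using h7) h1
  · exact ⟨c⁻¹, inv_mem hc, by rw [← h7]; group⟩

theorem AB.cje (h : AB F e t) (g : G) : AB F (cje g e) (g * t * g⁻¹) := by
  have e1 : ∀ a, a * (g * t * g⁻¹) * a⁻¹ = a * g * t * (a * g)⁻¹ := fun a => by group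
  have e2 : ∀ (a : G) (H : Subgroup G), cjs a (cjs g H) = cjs (a * g) H := fun a H => H98.cj_cj ..
  refine ⟨fun a => ?_, fun a => ?_, fun s c => h.bd s ((isConj_iff.2 ⟨g, rfl⟩).trans c)⟩
  · rw [e1, range_cje, e2]; exact h.ol _
  · rw [e1, range_cje, e2]; exact h.pf _

/-- no element of `T` centralises an elementary group of order `> 2 q⁴` -/
theorem AB.not_conj (h : AB F e t) {s : G} {Y : Subgroup G} (h1 : Y ≤ Cz s) (h2 : El Y)
    (h3 : Nat.card F ^ 6 ≤ Nat.card Y) : ¬ IsConj t s := fun c => by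
  have h4 := h3.trans (h.bd s c Y h1 h2)
  rw [Qe.two (F := F) (K := K)] at h4
  omega

end B

section Co

variable {M : Subgroup G} {az : F × F → G} {bm : K × K → G}

theorem p2 {R : Type} [Field R] [CharP R 2] (p : R × R) : p + p = 0 := Prod.ext (k2 _) (k2 _)
theorem eq_of_add_eq_zero {R : Type} [Field R] [CharP R 2] {p p' : R × R} (h : p + p' = 0) : p = p' := by
  rw [← add_zero p, ← p2 p', ← add_assoc, h, zero_add]

namespace Co

variable (h : Co e t M az bm)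
include h

theorem az_zero : az 0 = 1 := by
  have := h.az_add 0 0
  rw [add_zero] at this
  exact left_eq_mul.1 this
theorem bm_zero : bm 0 = 1 := by
  have := h.bm_add 0 0
  rw [add_zero] at this
  exact left_eq_mul.1 this
theorem al_zero : al e az 0 = 1 := by simp [al, h.az_zero]
theorem bs_zero : bs e bm 0 = 1 := by simp [bs, h.bm_zero]
theorem al_add (p p' : F × F) : al e az (p + p') = al e az p * al e az p' := by
  rw [al, h.az_add, conj_mul]
theorem bs_add (v v' : K × K) : bs e bm (v + v') = bs e bm v * bs e bm v' := by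
  rw [bs, h.bm_add, conj_mul]
theorem az_mem (p : F × F) : az p ∈ M := (h.mem _).2 ⟨p, 0, 0, by simp [h.bm_zero, h.az_zero]⟩
theorem bm_mem (v : K × K) : bm v ∈ M := (h.mem _).2 ⟨0, v, 0, by simp [h.az_zero]⟩
theorem al_mem (p : F × F) : al e az p ∈ M := (h.mem _).2 ⟨0, 0, p, by simp [h.bm_zero, h.az_zero]⟩
theorem comm {a b : G} (ha : a ∈ M) (hb : b ∈ M) : a * b = b * a := h.sq.comm ha hb
theorem inv_eq {a : G} (ha : a ∈ M) : a⁻¹ = a := inv_eq_of_mul_eq_one_left (h.sq a ha)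
theorem bs_sq (v : K × K) : bs e bm v * bs e bm v = 1 := by rw [← h.bs_add, p2, h.bs_zero]
theorem al0 (d : F) : al e az (d, 0) = e (xa (0, 0, d)) := by
  rw [al, h.az0, ← map_inv, ← map_mul, ← map_mul, ws_xa]; simp [aW]
theorem bs0 (a : K) : bs e bm (a, 0) = e (xs a) := by
  rw [bs, h.bm0, ← xm_eq, ← map_inv, ← map_mul, ← map_mul, wn_xm]
theorem xa_eq (v : VA F K) : e (xa v) = az (v.1, 0) * bm (v.2.1, 0) * al e az (v.2.2, 0) := by
  rw [h.az0, h.bm0, h.al0, ← map_mul, ← map_mul, ← xa_add, ← xa_add]; simp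
theorem xa_mem (v : VA F K) : e (xa v) ∈ M := (h.mem _).2 ⟨_, _, _, h.xa_eq v⟩
theorem le : (AX K).map e ≤ M := by
  rintro _ ⟨a, ha, rfl⟩
  obtain ⟨v, rfl⟩ := (mem_AX (F := F)).1 ha
  exact h.xa_mem v
theorem cen : M ≤ Cs ((AX K).map e) := h.ab.trans (centralizer_le h.le)
theorem mul3 (p p' r r' : F × F) (v v' : K × K) : az p * bm v * al e az r * (az p' * bm v' * al e az r') =
    az (p + p') * bm (v + v') * al e az (r + r') := by
  rw [h.az_add, h.bm_add, h.al_add]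
  have := h.sq.isP
  have c1 := h.comm (h.az_mem p') (mul_mem (h.bm_mem v) (h.al_mem r))
  have c2 := h.comm (h.bm_mem v') (h.al_mem r)
  calc _ = az p * (bm v * al e az r * az p') * bm v' * al e az r' := by group
    _ = az p * az p' * bm v * (al e az r * bm v') * al e az r' := by rw [← c1]; group
    _ = _ := by rw [← c2]; group
theorem hal (y : Kˣ) (r : Fˣ) (p : F × F) :
    e (ht y r) * al e az p * (e (ht y r))⁻¹ = al e az ((r : F) • p) := by
  have h1 : e (ht y r) * e ws = e ws * e (ht y⁻¹ (r * nu F y)) := by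
    rw [← ws_ht, ← map_mul, ← map_mul, ← mul_assoc, ← mul_assoc, ws_sq, one_mul, ws_inv]
  have h2 : ((r * nu F y : Fˣ) : F) * nm F ((y⁻¹ : Kˣ) : K) = r := by
    simp [nm_inv, nm_ne]
  rw [al, al, ← h2, ← h.haz]
  calc _ = (e (ht y r) * e ws) * az p * (e (ht y r) * e ws)⁻¹ := by group
    _ = _ := by rw [h1]; group
theorem hbs (y : Kˣ) (r : Fˣ) (v : K × K) :
    e (ht y r) * bs e bm v * (e (ht y r))⁻¹ = bs e bm ((y : K) • v) := by
  have h1 : e (ht y r) * e wn = e wn * e (ht (iu K r * y) r⁻¹) := by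
    rw [← wn_ht, ← map_mul, ← map_mul, ← mul_assoc, ← mul_assoc, wn_sq, one_mul, wn_inv]
  have h2 : algebraMap F K ((r⁻¹ : Fˣ) : F) * ((iu K r * y : Kˣ) : K) = y := by simp
  rw [bs, bs, ← h2, ← h.hbm]
  calc _ = (e (ht y r) * e wn) * bm v * (e (ht y r) * e wn)⁻¹ := by group
    _ = _ := by rw [h1]; group

variable (b : B1 e t)
include b

theorem tal (p : F × F) : al e az p * t * (al e az p)⁻¹ = t * e (xa (0, 0, p.2)) := by
  have h1 : (e ws)⁻¹ * t * e ws = t := by rw [mul_assoc, b.comm]; group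
  calc _ = e ws * (az p * ((e ws)⁻¹ * t * e ws) * (az p)⁻¹) * (e ws)⁻¹ := by rw [al]; group
    _ = e ws * t * (e ws)⁻¹ * e (ws * xa (p.2, 0, 0) * ws⁻¹) := by
      rw [h1, h.taz, map_mul, map_mul, map_inv]; group
    _ = _ := by rw [b.conj_t, ws_xa]; simp [aW]
theorem tbs (v : K × K) : bs e bm v * t * (bs e bm v)⁻¹ = t * e (xs v.2) := by
  have h1 : (e wn)⁻¹ * t * e wn = t := by rw [mul_assoc, b.comm]; group
  calc _ = e wn * (bm v * ((e wn)⁻¹ * t * e wn) * (bm v)⁻¹) * (e wn)⁻¹ := by rw [bs]; group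
    _ = e wn * t * (e wn)⁻¹ * e (wn * xm v.2 * wn⁻¹) := by
      rw [h1, h.tbm, ← xm_eq, map_mul, map_mul, map_inv]; group
    _ = _ := by rw [b.conj_t, wn_xm]
/-- the map `θ` in coordinates -/
theorem th (p p' : F × F) (v : K × K) : az p * bm v * al e az p' * t * (az p * bm v * al e az p')⁻¹ =
    t * e (xa (p.2, v.2, p'.2)) := by
  have c : ∀ m ∈ M, ∀ w : VA F K, m * (t * e (xa w)) * m⁻¹ = m * t * m⁻¹ * e (xa w) := fun m hm w => by
    rw [mul_assoc _ m⁻¹, h.comm (inv_mem hm) (h.xa_mem w)]; group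
  calc _ = az p * (bm v * (al e az p' * t * (al e az p')⁻¹) * (bm v)⁻¹) * (az p)⁻¹ := by group
    _ = _ := by
      rw [h.tal b, c _ (h.bm_mem v), h.tbm, mul_assoc t, ← map_mul, ← xa_add, c _ (h.az_mem p), h.taz,
        mul_assoc t, ← map_mul, ← xa_add]
      simp
theorem tx (v : VA F K) : IsConj t (t * e (xa v)) :=
  isConj_iff.2 ⟨_, h.th b (0, v.1) (0, v.2.2) (0, v.2.1)⟩
theorem uniq0 {p p' : F × F} {v : K × K} (h1 : az p * bm v * al e az p' = 1) :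
    p = 0 ∧ v = 0 ∧ p' = 0 := by
  have h2 := h.th b p p' v
  rw [h1, one_mul, inv_one, mul_one, left_eq_mul, map_eq_one_iff _ b.inj, xa_eq_one] at h2
  obtain ⟨c, c'⟩ := p
  obtain ⟨a, a'⟩ := v
  obtain ⟨d, d'⟩ := p'
  obtain ⟨rfl, rfl, rfl⟩ : c' = 0 ∧ a' = 0 ∧ d' = 0 := by simpa using h2
  rw [← h.xa_eq (c, a, d), map_eq_one_iff _ b.inj, xa_eq_one] at h1
  simpa using h1
theorem uniq {p p' r r' : F × F} {v v' : K × K}
    (h1 : az p * bm v * al e az r = az p' * bm v' * al e az r') : p = p' ∧ v = v' ∧ r = r' := by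
  have h2 := h.uniq0 b (p := p + p') (v := v + v') (p' := r + r') (by
    rw [← h.mul3, h1, h.mul3, p2, p2, p2, h.az_zero, h.bm_zero, h.al_zero]; simp)
  exact ⟨eq_of_add_eq_zero h2.1, eq_of_add_eq_zero h2.2.1, eq_of_add_eq_zero h2.2.2⟩
theorem az_inj : Function.Injective az := fun _ _ h1 =>
  (h.uniq b (v := 0) (v' := 0) (r := 0) (r' := 0) (by rw [h1])).1
theorem bm_inj : Function.Injective bm := fun _ _ h1 =>
  (h.uniq b (p := 0) (p' := 0) (r := 0) (r' := 0) (by rw [h1])).2.1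
theorem card : Nat.card M = Nat.card F ^ 8 := by
  rw [← Nat.card_eq_of_bijective (fun w : (F × F) × (K × K) × F × F =>
    (⟨az w.1 * bm w.2.1 * al e az w.2.2, (h.mem _).2 ⟨_, _, _, rfl⟩⟩ : M))
    ⟨fun _ _ h1 => by
      have := h.uniq b (congrArg Subtype.val h1)
      exact Prod.ext this.1 (Prod.ext this.2.1 this.2.2),
    fun ⟨_, h1⟩ => by obtain ⟨p, v, p', rfl⟩ := (h.mem _).1 h1; exact ⟨(p, v, p'), rfl⟩⟩]
  simp only [Nat.card_prod, Qe.card (F := F) (K := K)]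
  ring
theorem t_conj {m a : G} (hm : m ∈ M) (ha : a ∈ M) (h1 : m * t * m⁻¹ = t * a) :
    t * m * t⁻¹ = m * a := by
  rw [h.comm hm ha, b.inv_eq, mul_assoc, mul_inv_eq_iff_eq_mul.1 h1, ← mul_assoc, ← mul_assoc,
    b.inv.1, one_mul]
theorem t_az (p : F × F) : t * az p * t⁻¹ = az (tt p) := by
  rw [h.t_conj b (h.az_mem p) (h.xa_mem _) (h.taz p), ← h.az0, ← h.az_add]
  exact congrArg _ (Prod.ext rfl (add_zero _))
theorem t_bm (v : K × K) : t * bm v * t⁻¹ = bm (tt v) := by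
  rw [h.t_conj b (h.bm_mem v) (h.xa_mem _) (h.tbm v), ← h.bm0, ← h.bm_add]
  exact congrArg _ (Prod.ext rfl (add_zero _))
theorem t_al (p : F × F) : t * al e az p * t⁻¹ = al e az (tt p) := by
  rw [al, al, ← h.t_az b, ← conj_mul, ← conj_mul, ← map_inv, b.conj_eq, b.conj_eq]
theorem t_bs (v : K × K) : t * bs e bm v * t⁻¹ = bs e bm (tt v) := by
  rw [bs, bs, ← h.t_bm b, ← conj_mul, ← conj_mul, ← map_inv, b.conj_eq, b.conj_eq]
theorem t_mem_Ns [Finite G] : t ∈ Ns M := conj_mem_St.1 (mem_St_of_finite fun m hm => by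
  obtain ⟨p, v, p', rfl⟩ := (h.mem _).1 hm
  rw [map_mul, map_mul, MulAut.conj_apply, MulAut.conj_apply, MulAut.conj_apply, h.t_az b, h.t_bm b,
    h.t_al b]
  exact (h.mem _).2 ⟨_, _, _, rfl⟩)
theorem h3 (y : Kˣ) (r : Fˣ) (p p' : F × F) (v : K × K) :
    e (ht y r) * (az p * bm v * al e az p') * (e (ht y r))⁻¹ =
    az (((r : F) * nm F (y : K)) • p) * bm ((algebraMap F K r * y) • v) * al e az ((r : F) • p') := by
  rw [← h.haz, ← h.hbm, ← h.hal, conj_mul, conj_mul]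

omit h b in
theorem smul_fix {R : Type} [Field R] {c : R} (hc : c ≠ 1) {p : R × R} (h : c • p = p) : p = 0 := by
  have : (c - 1) • p = 0 := by rw [sub_smul, h, one_smul, sub_self]
  exact (smul_eq_zero.1 this).resolve_left (sub_ne_zero.2 hc)

theorem not_conj (a : AB F e t) {m : G} (hm : m ∈ M) : ¬ IsConj t m :=
  a.not_conj (fun _ hy => mem_Cz.2 (h.comm hm hy)) h.sq (by
    rw [h.card b]; exact Nat.pow_le_pow_right Nat.card_pos (by decide))

end Co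

end Co

section Cases

variable {A B : Subgroup (X K)} {Φ : SLn 3 K →* G}

theorem CF.le (h : CF e t Φ) : e.range ≤ Φ.range := by rintro _ ⟨s, rfl⟩; exact ⟨_, h.res s⟩
theorem CF.map_eq (h : CF e t Φ) (A : Subgroup (X K)) :
    A.map e = (A.map (SUs K).subtype).map Φ := by
  rw [Subgroup.map_map]; congr 1; ext s; exact (h.res s).symm
theorem CF.map_le (h : CF e t Φ) (P : Subgroup (SLn 3 K)) : (P.subgroupOf (SUs K)).map e ≤ P.map Φ := by
  rintro _ ⟨s, hs, rfl⟩; exact ⟨_, hs, h.res s⟩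
theorem CF.cje (h : CF e t Φ) (g : G) : CF (cje g e) (g * t * g⁻¹) (cje g Φ) :=
  ⟨cje_inj h.inj g, fun s => by rw [cje_apply, cje_apply, h.res], h.act.cje g⟩
theorem out_tau : out 3 K (tau K) = (sg K, Multiplicative.ofAdd 1) := by
  rw [tau, map_mul, H67.SA.out_gam (by decide), H67.SA.out_slField (by decide)]; simp

theorem CW.eq (h : CW e t e₁ e₂) : e₂ = cje t e₁ := MonoidHom.ext fun a => (h.sw a).symm
theorem CW.inj₂ (h : CW e t e₁ e₂) : Function.Injective e₂ := h.eq ▸ cje_inj h.inj t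
theorem CW.symm (h : CW e t e₁ e₂) (ht : t * t = 1) : CW e t e₂ e₁ :=
  ⟨h.inj₂, fun a b => (h.comm b a).symm, fun a => by rw [h.diag, h.comm], fun a => by
    rw [← h.sw, show t * (t * e₁ a * t⁻¹) * t⁻¹ = t * t * e₁ a * (t * t)⁻¹ by group, ht]; simp⟩
theorem CW.cje (h : CW e t e₁ e₂) (g : G) : CW (cje g e) (g * t * g⁻¹) (cje g e₁) (cje g e₂) :=
  ⟨cje_inj h.inj g, fun a b => by simp only [cje_apply, conj_mul, h.comm],
    fun a => by simp only [cje_apply, conj_mul, h.diag],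
    fun a => by rw [cje_apply, cje_apply, ← h.sw]; group⟩
theorem CW.cjs_map (h : CW e t e₁ e₂) (A : Subgroup (X K)) : cjs t (A.map e₁) = A.map e₂ := by
  rw [h.eq, map_cje]
theorem CW.cjs_range (h : CW e t e₁ e₂) : cjs t e₁.range = e₂.range := by rw [h.eq, range_cje]
theorem CW.le_Cs (h : CW e t e₁ e₂) : e₂.range ≤ Cs e₁.range := by
  rintro _ ⟨b, rfl⟩ _ ⟨a, rfl⟩; exact h.comm a b
theorem CW.le_Cs' (h : CW e t e₁ e₂) : e₁.range ≤ Cs e₂.range := by
  rintro _ ⟨a, rfl⟩ _ ⟨b, rfl⟩; exact (h.comm a b).symm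
theorem CW.mem_pr (h : CW e t e₁ e₂) : g ∈ pr e₁ e₂ A B ↔ ∃ a ∈ A, ∃ b ∈ B, g = e₁ a * e₂ b := by
  rw [H98.mem_sup_right_norm (((map_le_range _ _).trans h.le_Cs).trans
    ((Cs_range_le A).trans (H64.SG.Cs_le_Ns _)))]
  constructor
  · rintro ⟨_, ⟨a, ha, rfl⟩, _, ⟨b, hb, rfl⟩, rfl⟩; exact ⟨a, ha, b, hb, rfl⟩
  · rintro ⟨a, ha, b, hb, rfl⟩; exact ⟨_, ⟨a, ha, rfl⟩, _, ⟨b, hb, rfl⟩, rfl⟩
theorem pr_top : pr e₁ e₂ ⊤ ⊤ = G12 e₁ e₂ := by simp only [pr, G12, MonoidHom.range_eq_map]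
theorem pr_le (A B : Subgroup (X K)) : pr e₁ e₂ A B ≤ G12 e₁ e₂ :=
  sup_le_sup (map_le_range _ _) (map_le_range _ _)
theorem pr_mono {A' B' : Subgroup (X K)} (h : A ≤ A') (h' : B ≤ B') : pr e₁ e₂ A B ≤ pr e₁ e₂ A' B' :=
  sup_le_sup (map_mono h) (map_mono h')
theorem pr_comm (A B : Subgroup (X K)) : pr e₂ e₁ A B = pr e₁ e₂ B A := sup_comm _ _
theorem G12_comm : G12 e₂ e₁ = G12 e₁ e₂ := sup_comm _ _
theorem CW.mem_G12 (h : CW e t e₁ e₂) : g ∈ G12 e₁ e₂ ↔ ∃ a b, g = e₁ a * e₂ b := by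
  rw [← pr_top, h.mem_pr]; simp
theorem CW.map_le (h : CW e t e₁ e₂) (A : Subgroup (X K)) : A.map e ≤ pr e₁ e₂ A A := by
  rintro _ ⟨a, ha, rfl⟩; exact h.mem_pr.2 ⟨a, ha, a, ha, h.diag a⟩
theorem CW.le (h : CW e t e₁ e₂) : e.range ≤ G12 e₁ e₂ := by
  rintro _ ⟨a, rfl⟩; exact h.mem_G12.2 ⟨a, a, h.diag a⟩
theorem CW.mul_mul (h : CW e t e₁ e₂) (a b c d : X K) :
    e₁ a * e₂ b * (e₁ c * e₂ d) = e₁ (a * c) * e₂ (b * d) := by
  rw [map_mul, map_mul, mul_assoc, ← mul_assoc (e₂ b), ← h.comm]; group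
theorem CW.G12_le_Ns (h : CW e t e₁ e₂) : G12 e₁ e₂ ≤ Ns e₁.range :=
  sup_le le_normalizer (h.le_Cs.trans (H64.SG.Cs_le_Ns _))
theorem CW.G12_le_Ns' (h : CW e t e₁ e₂) : G12 e₁ e₂ ≤ Ns e₂.range :=
  sup_le (h.le_Cs'.trans (H64.SG.Cs_le_Ns _)) le_normalizer
theorem CW.ind₁ (h : CW e t e₁ e₂) (a b : X K) : Ind e₁ (e₁ a * e₂ b) (MulAut.conj a) := by
  simpa using (ind_conj a).mul (ind_one_iff.2 (h.le_Cs ⟨b, rfl⟩))
theorem CW.ind₂ (h : CW e t e₁ e₂) (a b : X K) : Ind e₂ (e₁ a * e₂ b) (MulAut.conj b) := by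
  simpa using (ind_one_iff.2 (h.le_Cs' ⟨a, rfl⟩)).mul (ind_conj b)
theorem CW.cjs_pr (h : CW e t e₁ e₂) (ht : t * t = 1) (A B : Subgroup (X K)) :
    cjs t (pr e₁ e₂ A B) = pr e₁ e₂ B A := by
  rw [cjs, Subgroup.map_sup]
  exact (congrArg₂ _ (h.cjs_map A) ((h.symm ht).cjs_map B)).trans (sup_comm _ _)
theorem CW.t_mem_Ns (h : CW e t e₁ e₂) (ht : t * t = 1) (A : Subgroup (X K)) :
    t ∈ Ns (pr e₁ e₂ A A) := conj_mem_St.1 (mem_St_iff_map.2 (h.cjs_pr ht A A))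
theorem CW.isP_pr (h : CW e t e₁ e₂) (hA : IsPGroup 2 A) (hB : IsPGroup 2 B) :
    IsPGroup 2 (pr e₁ e₂ A B) :=
  (hA.map e₁).to_sup_of_normal_left' (hB.map e₂) (((map_le_range _ _).trans h.le_Cs).trans
    ((Cs_range_le A).trans (H64.SG.Cs_le_Ns _)))
theorem CW.el_pr (h : CW e t e₁ e₂) (hA : El A) (hB : El B) : El (pr e₁ e₂ A B) :=
  (hA.map e₁).sup (hB.map e₂) (((map_le_range _ _).trans h.le_Cs').trans (Cs_range_le B))
theorem mem_Cs_G12 : g ∈ Cs (G12 e₁ e₂) ↔ g ∈ Cs e₁.range ∧ g ∈ Cs e₂.range :=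
  ⟨fun h => ⟨centralizer_le (SetLike.coe_subset_coe.2 le_sup_left) h,
    centralizer_le (SetLike.coe_subset_coe.2 le_sup_right) h⟩, fun h a ha => mem_Cz.1
      ((sup_le (fun b hb => mem_Cz.2 (h.1 b hb).symm) (fun b hb => mem_Cz.2 (h.2 b hb).symm) :
        G12 e₁ e₂ ≤ Cz g) ha) |>.symm⟩
theorem mem_Ns_G12 (h1 : g ∈ Ns e₁.range) (h2 : g ∈ Ns e₂.range) : g ∈ Ns (G12 e₁ e₂) :=
  H98.le_normalizer_sup (zpowers_le.2 h1) (zpowers_le.2 h2) (mem_zpowers g)

theorem GW.symm (h : GW e t e₁ e₂) : GW e t e₂ e₁ := by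
  have hG : G12 e₂ e₁ = G12 e₁ e₂ := G12_comm
  refine ⟨by rw [hG]; exact h.toEG, fun m hm => ?_, fun s hs c' => ?_⟩
  · rw [hG] at hm
    rcases h.pm m hm with h1 | h1
    exacts [Or.inl h1.symm, Or.inr h1.symm]
  · rw [hG] at hs
    exact cjs_swap (H9.UF.inv2_conj h.uf.inv c').1 (h.sw s hs c')

variable (hc : center (X K) = ⊥)
include hc

theorem CW.inj2 (h : CW e t e₁ e₂) {a b c d : X K} (h1 : e₁ a * e₂ b = e₁ c * e₂ d) : a = c ∧ b = d :=
  ⟨conj_inj hc ((h.ind₁ a b).unique h.inj (h1 ▸ h.ind₁ c d)),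
    conj_inj hc ((h.ind₂ a b).unique h.inj₂ (h1 ▸ h.ind₂ c d))⟩
theorem CW.eq_one (h : CW e t e₁ e₂) (h1 : g ∈ e₁.range) (h2 : g ∈ e₂.range) : g = 1 :=
  eq_one_of_Cs h.inj hc h1 (h.le_Cs h2)
theorem CW.mem_pr' (h : CW e t e₁ e₂) {a b : X K} : e₁ a * e₂ b ∈ pr e₁ e₂ A B ↔ a ∈ A ∧ b ∈ B :=
  h.mem_pr.trans ⟨fun ⟨_, h1, _, h2, h3⟩ => ⟨(h.inj2 hc h3).1 ▸ h1, (h.inj2 hc h3).2 ▸ h2⟩,
    fun h1 => ⟨a, h1.1, b, h1.2, rfl⟩⟩
/-- `G₁ = X × X` -/
theorem CW.cop_inj (h : CW e t e₁ e₂) : Function.Injective (e₁.noncommCoprod e₂ h.comm) :=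
  fun _ _ h1 => Prod.ext (h.inj2 hc h1).1 (h.inj2 hc h1).2
omit hc in
theorem CW.map_cop (h : CW e t e₁ e₂) (A B : Subgroup (X K)) :
    (A.prod B).map (e₁.noncommCoprod e₂ h.comm) = pr e₁ e₂ A B := by
  ext a
  rw [h.mem_pr]
  exact ⟨fun ⟨p, h1, h2⟩ => ⟨p.1, h1.1, p.2, h1.2, h2.symm⟩,
    fun ⟨a, h1, b, h2, h3⟩ => ⟨(a, b), ⟨h1, h2⟩, h3.symm⟩⟩
theorem CW.card_pr (h : CW e t e₁ e₂) (A B : Subgroup (X K)) :
    Nat.card (pr e₁ e₂ A B) = Nat.card A * Nat.card B := by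
  rw [← h.map_cop, card_map_of_injective (h.cop_inj hc), Nat.card_congr (A.prodEquiv B).toEquiv,
    Nat.card_prod]
omit hc in
theorem CW.syl [Finite G] (h : CW e t e₁ e₂) (hs : Syl (UX K) ⊤) :
    Syl (pr e₁ e₂ (UX K) (UX K)) (G12 e₁ e₂) := by
  have h1 : Syl ((UX K).prod (UX K)) ⊤ := ⟨le_top, H64.SG.isPGroup_iff_is2.2 fun p hp => by
    have := ((is2_of_UX hp.1).map (MonoidHom.inl _ (X K))).mul
      ((is2_of_UX hp.2).map (MonoidHom.inr _ _)) (by simp)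
    simpa using this, by
    have := hs.2.2
    rw [relIndex_top_right] at this ⊢
    rw [index_prod]; exact this.mul this⟩
  rw [← pr_top, ← h.map_cop, ← h.map_cop, top_prod_top]
  exact H64.SG.syl_iff.2 ((H64.SG.syl_iff.1 h1).map _)

end Cases

/-- `P ⊔ P^w` is generated by its involutions. -/
theorem sup_cjs_le {w : X K} {N : Subgroup (X K)} (l : FL F K) (h1 : UX K ≤ N) (h2 : w ∈ N) :
    UX K ⊔ cjs w (UX K) ≤ closure {u | u ∈ N ∧ u * u = 1} := by
  refine sup_le (l.invU.trans (closure_mono fun u hu => ⟨h1 hu.1, hu.2⟩)) ?_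
  refine (map_mono l.invU).trans ?_
  rw [MonoidHom.map_closure]
  refine closure_mono ?_
  rintro _ ⟨u, hu, rfl⟩
  exact ⟨mul_mem (mul_mem h2 (h1 hu.1)) (inv_mem h2), by rw [← map_mul, hu.2, map_one]⟩

/-- CU -/
theorem EG0.eg [Finite G] {G₁ : Subgroup G} (h : EG0 e t G₁) (l : FL F K) (b : B1 e t) : EG e t G₁ := by
  let A : Option Bool → Subgroup (X K) := fun j => j.elim (UX K) fun i => cond i (AX K) (QX K)
  let S : Option Bool → Set G := fun j => e '' {u | u ∈ Ns (A j) ∧ u * u = 1}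
  have hA : ∀ j, A j ≤ UX K := by rintro (_ | _ | _); exacts [le_rfl, QX_le_UX, AX_le_UX]
  have hN : ∀ j, UX K ≤ Ns (A j) := by
    rintro (_ | _ | _); exacts [le_normalizer, UX_le_Ns_QX, UX_le_Ns_AX]
  have hS : ∀ j, (closure {u | u ∈ Ns (A j) ∧ u * u = 1}).map e = closure (S j) := fun j =>
    MonoidHom.map_closure _ _
  have key := H64.SG.jobK9 h.uf (Cs G₁) e.range none (fun j => (A j).map e) S h.odd
    (H64.SG.Cs_le_Ns _) (h.le.trans le_normalizer) b.range_le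
    (fun l hl g hg => (hg l (h.le hl)).symm) (fun j => map_mono (hA j)) (map_le_range _ _)
    (isP_UX.map e) (by
      rintro j _ ⟨u, hu, rfl⟩
      exact ⟨⟨_, rfl⟩, by rw [← map_mul, hu.2, map_one], map_mem_Ns hu.1, h.tx _ hu.2⟩)
    (fun j => hS j ▸ map_mono (l.invU.trans (closure_mono fun u hu => ⟨hN j hu.1, hu.2⟩))) (by
      rw [MonoidHom.range_eq_map, ← l.genP, Subgroup.map_sup]
      exact sup_le ((map_mono (sup_cjs_le l UX_le_Ns_QX wn_mem_Ns_QX)).trans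
        ((hS (some false)).le.trans (closure_mono (Set.subset_iUnion S _))))
        ((map_mono (sup_cjs_le l UX_le_Ns_AX (Lv_le_Ns (ws_mem_Lv (F := F))))).trans
        ((hS (some true)).le.trans (closure_mono (Set.subset_iUnion S _))))) (by
      rintro (_ | _ | _) m h1 h2
      · have := h.cMQ m h1 (centralizer_le (map_mono QX_le_UX) h2)
        exact ⟨fun h3 => map_mono ZX_le_UX (this.1 h3), this.2⟩
      · have := h.cMQ m h1 h2
        exact ⟨fun h3 => map_mono ZX_le_QX (this.1 h3), this.2⟩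
      · exact h.cMA m h1 h2) h.gen
  exact ⟨h.toEB, key (some true), key (some false)⟩

end H83.SV
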