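/- Tower EA (S4546, S4577), job Q2: the norm of a virtual projective character modulo two. -/
import Cfsg.Agent.H68.EaSpec
import Cfsg.Agent.H37.Cyc9

set_option autoImplicit false

namespace H83.EA

open Cfsg H28 H35

universe u

variable {G : Type u} [Group G] [Fintype G]

/-- The order of the centraliser. -/
noncomputable def cz (x : G) : ℕ := Nat.card (Subgroup.centralizer ({x} : Set G))

open Classical in
/-- The number of solutions of `s * s = 1` that invert `x`. -/
noncomputable def ai (x : G) : ℕ :=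
  (Finset.univ.filter fun s : G => s * s = 1 ∧ s * x * s⁻¹ = x⁻¹).card

theorem cz_ne (x : G) : cz x ≠ 0 := Nat.card_pos.ne'

theorem cz_mul (x : G) : cz x * (Subgroup.centralizer ({x} : Set G)).index = Nat.card G :=
  Subgroup.card_mul_index _

theorem cz_conj {x y : G} (h : IsConj x y) : cz x = cz y := by
  have h1 := cz_mul x
  rw [index_centralizer_eq_of_isConj h, ← cz_mul y] at h1
  exact Nat.eq_of_mul_eq_mul_right (Nat.pos_of_ne_zero Subgroup.index_ne_zero_of_finite) h1

omit [Fintype G] in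
theorem cz_inv (x : G) : cz x⁻¹ = cz x := by
  have : Subgroup.centralizer ({x⁻¹} : Set G) = Subgroup.centralizer {x} := by
    ext g
    rw [Subgroup.mem_centralizer_singleton_iff, Subgroup.mem_centralizer_singleton_iff]
    exact Commute.inv_right_iff
  rw [cz, this, cz]

theorem ai_conj {x y : G} (h : IsConj x y) : ai x = ai y := by
  classical
  obtain ⟨g, rfl⟩ := isConj_iff.1 h
  refine Finset.card_equiv (MulAut.conj g).toEquiv fun s => ?_
  simp only [Finset.mem_filter, Finset.mem_univ, true_and, MulEquiv.toEquiv_eq_coe,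
    EquivLike.coe_coe]
  rw [← MulAut.conj_apply g x, ← map_mul, ← map_mul, ← map_inv, ← map_mul, ← map_inv,
    EmbeddingLike.map_eq_one_iff, EmbeddingLike.apply_eq_iff_eq]

theorem ai_inv (x : G) : ai x⁻¹ = ai x := by
  classical
  refine congrArg Finset.card (Finset.filter_congr fun s _ => and_congr_right fun _ => ?_)
  rw [← conj_inv, inv_inj]

theorem real_of_ai {x : G} (h : ai x ≠ 0) : IsConj x x⁻¹ := by
  classical
  obtain ⟨s, hs⟩ := Finset.card_ne_zero.1 h
  exact isConj_iff.2 ⟨s, (Finset.mem_filter.1 hs).2.2⟩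

theorem cz_eq_ai {k : Type*} [Field k] [CharP k 2] {x : G} (h : IsConj x x⁻¹) :
    (cz x : k) = ai x := by
  classical
  have h1 : cz x = (Finset.univ.filter fun s : G => s * x * s⁻¹ = x⁻¹).card := by
    rw [cz, ← card_conjugators h, Nat.card_eq_fintype_card, Fintype.card_subtype]
  have h2 := Finset.card_filter_add_card_filter_not (s := Finset.univ.filter fun s : G =>
    s * x * s⁻¹ = x⁻¹) (fun s => s * s = 1)
  have h3 : ((Finset.univ.filter fun s : G => s * x * s⁻¹ = x⁻¹).filter fun s => s * s = 1).card =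
      ai x := by
    rw [Finset.filter_filter]
    exact congrArg Finset.card (by ext s; simp [and_comm])
  have h4 : ∑ s ∈ (Finset.univ.filter fun s : G => s * x * s⁻¹ = x⁻¹).filter fun s => ¬ s * s = 1,
      (1 : k) = 0 := by
    refine Finset.sum_involution (fun s _ => s⁻¹) (fun _ _ => CharTwo.add_self_eq_zero 1)
      (fun s hs _ e => (Finset.mem_filter.1 hs).2 (inv_eq_iff_mul_eq_one.1 e)) (fun s hs => ?_)
      fun s _ => inv_inv s
    simp only [Finset.mem_filter, Finset.mem_univ, true_and] at hs ⊢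
    refine ⟨?_, fun e => hs.2 (by rwa [← mul_inv_rev, inv_eq_one] at e)⟩
    have e : s * x⁻¹ * s⁻¹ = x := by rw [← conj_inv, hs.1, inv_inv]
    calc s⁻¹ * x * s⁻¹⁻¹ = s⁻¹ * (s * x⁻¹ * s⁻¹) * s⁻¹⁻¹ := by rw [e]
      _ = x⁻¹ := by group
  rw [Finset.sum_const, nsmul_one] at h4
  rw [h1, ← h2, Nat.cast_add, h3, h4, add_zero]

theorem avg_eq [Fintype (ConjClasses G)] (f : G → ℂ) (hf : ∀ a b, IsConj a b → f a = f b) :
    (Nat.card G : ℂ)⁻¹ * ∑ g, f g = ∑ C : ConjClasses G, f C.out / cz C.out := by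
  rw [sum_eq_sum_conjClasses f hf, Finset.mul_sum]
  refine Finset.sum_congr rfl fun C _ => ?_
  have h1 : (cz C.out : ℂ) ≠ 0 := Nat.cast_ne_zero.2 (cz_ne _)
  have h2 : ((Subgroup.centralizer ({C.out} : Set G)).index : ℂ) ≠ 0 :=
    Nat.cast_ne_zero.2 Subgroup.index_ne_zero_of_finite
  rw [← cz_mul C.out, nsmul_eq_mul, Nat.cast_mul]
  field_simp

open Classical in
theorem sum_pairs (Φ : G → ℂ) :
    ∑ s : G with s * s = 1, ∑ t : G with t * t = 1, Φ (s * t) = ∑ g, ai g * Φ g := by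
  have h1 : ∀ s : G, s * s = 1 → ∑ t : G with t * t = 1, Φ (s * t) =
      ∑ g : G with s * g * s⁻¹ = g⁻¹, Φ g := fun s hs => by
    refine Finset.sum_equiv (Equiv.mulLeft s) (fun t => ?_) fun _ _ => rfl
    simp only [Finset.mem_filter, Finset.mem_univ, true_and, Equiv.coe_mulLeft]
    rw [← mul_assoc, hs, one_mul, mul_inv_rev, mul_left_inj, eq_inv_iff_mul_eq_one]
  rw [Finset.sum_congr rfl fun s hs => h1 s (Finset.mem_filter.1 hs).2]
  simp only [Finset.sum_filter]
  simp only [ai, Finset.card_filter, Nat.cast_sum, Finset.sum_mul]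
  rw [Finset.sum_comm]
  refine Finset.sum_congr rfl fun s _ => ?_
  by_cases hs : s * s = 1
  · rw [if_pos hs]
    refine Finset.sum_congr rfl fun g _ => ?_
    by_cases hg : s * g * s⁻¹ = g⁻¹ <;> simp [hs, hg]
  · simp [hs]

theorem jobQ2 : H68.EA.JobQ2.{u} := by
  intro G _ _ M _ Φ hM hΦ h0 hL
  classical
  haveI := Fintype.ofFinite (ConjClasses G)
  haveI := charP_F hM
  have hc : ∀ a b, IsConj a b → Φ a = Φ b := fun a b h => hΦ.isClassFunction.eq_of_isConj h
  have ht : ∀ x, Φ x / cz x ∈ S M := H37.div_card_cen_mem hM hΦ h0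
  let τ : G → F M := fun x => red M (Φ x / cz x)
  have hτ : ∀ a b, IsConj a b → τ a = τ b := fun a b h => by
    simp only [τ, hc a b h, cz_conj h]
  rw [sum_pairs, avg_eq _ fun a b h => by rw [ai_conj h, hc a b h]] at hL
  have h1 : ∑ C : ConjClasses G, (ai C.out : F M) * τ C.out = 0 := by
    rw [← red_eq_zero_of_P hL, red_sum _ _ fun C _ => by
      rw [mul_div_assoc]; exact mul_mem (natCast_mem _ _) (ht _)]
    refine Finset.sum_congr rfl fun C _ => ?_
    rw [mul_div_assoc, red_mul (natCast_mem _ _) (ht _), red_natCast]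
  have h2 : ∑ C : ConjClasses G, (ai C.out : F M) * τ C.out ^ 2 = 0 := by
    have := congrArg (· ^ 2) h1
    simp only [CharTwo.sum_sq, mul_pow, zero_pow two_ne_zero] at this
    rw [← this]
    refine Finset.sum_congr rfl fun C _ => ?_
    rw [show (ai C.out : F M) ^ 2 = ai C.out from map_natCast (frobenius (F M) 2) _]
  have e : ∀ x : G, Φ x * (starRingEnd ℂ) (Φ x) / cz x =
      cz x * ((Φ x / cz x) * (Φ x⁻¹ / cz x⁻¹)) := fun x => by
    have h1 : (cz x : ℂ) ≠ 0 := Nat.cast_ne_zero.2 (cz_ne _)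
    rw [hΦ.apply_inv, cz_inv]
    field_simp
  have hS : ∀ x : G, (cz x : ℂ) * ((Φ x / cz x) * (Φ x⁻¹ / cz x⁻¹)) ∈ S M := fun x =>
    mul_mem (natCast_mem _ _) (mul_mem (ht _) (ht _))
  rw [classInner, avg_eq _ fun a b h => by rw [hc a b h]]
  simp only [e]
  refine (red_eq_zero_iff (sum_mem fun C _ => hS _)).1 ((red_sum _ _ fun C _ => hS _).trans ?_)
  have h3 : ∀ x : G, red M ((cz x : ℂ) * ((Φ x / cz x) * (Φ x⁻¹ / cz x⁻¹))) =
      cz x * (τ x * τ x⁻¹) := fun x => by
    rw [red_mul (natCast_mem _ _) (mul_mem (ht _) (ht _)), red_mul (ht _) (ht _), red_natCast]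
  simp only [h3]
  let f : G → F M := fun x => cz x * (τ x * τ x⁻¹) + ai x * τ x ^ 2
  have hf : ∀ a b, IsConj a b → f a = f b := fun a b h => by
    simp only [f, cz_conj h, ai_conj h, hτ a b h, hτ _ _ (isConj_iff.2 (by
      obtain ⟨g, rfl⟩ := isConj_iff.1 h
      exact ⟨g, conj_inv.symm⟩ : ∃ g, g * a⁻¹ * g⁻¹ = b⁻¹))]
  have hi : ∀ x, f x⁻¹ = f x := fun x => by
    simp only [f, cz_inv, ai_inv, inv_inv, mul_comm (τ x⁻¹) (τ x)]
    by_cases h : ai x = 0
    · simp [h]
    · rw [← hτ _ _ (real_of_ai h)]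
  have ho : ∀ x : G, IsConj x (ConjClasses.mk x).out := fun x =>
    ConjClasses.mk_eq_mk_iff_isConj.1 (Quotient.out_eq (ConjClasses.mk x)).symm
  have h4 : ∑ C : ConjClasses G, f C.out = 0 := by
    refine Finset.sum_ninvolution (fun C => ConjClasses.mk C.out⁻¹) (fun C => ?_) (fun C hC e => hC ?_)
      (fun _ => Finset.mem_univ _) fun C => ?_
    · rw [← hf _ _ (ho _), hi]
      exact CharTwo.add_self_eq_zero _
    · have hr : IsConj C.out C.out⁻¹ :=
        ConjClasses.mk_eq_mk_iff_isConj.1 ((Quotient.out_eq C).trans e.symm)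
      simp only [f]
      rw [← hτ _ _ hr, cz_eq_ai hr, sq]
      exact CharTwo.add_self_eq_zero _
    · refine Eq.trans (ConjClasses.mk_eq_mk_iff_isConj.2 ?_) (Quotient.out_eq C)
      obtain ⟨g, hg⟩ := isConj_iff.1 (ho C.out⁻¹)
      exact (isConj_iff.2 ⟨g, by rw [← hg, conj_inv, inv_inv]⟩).symm
  simp only [f] at h4
  rwa [Finset.sum_add_distrib, h2, add_zero] at h4

end H83.EA
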