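import Cfsg.Agent.H83.SVBasic

/-! STD-U at `q = 2` (row S3138, case `M = 2⁸`), spec (port of `H81/SUSpec`): facts on `X = SU₄(q)` and `SL₄(q²)`, the ambient configurations and the
slots.  Proof notes: `blueprints/STDU.md` and `blueprints/U42E.md`.  `q = |F|`, `L = e.range`, `T` = class of `t`.
A slot may take the `Job` Props named in the notes as hypotheses. -/

set_option autoImplicit false

namespace H83.SV

open H64.SG (O2 Syl Cz Cs Ns cjs Is2 Inv2 UF IsO2 fx)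
open H67.SA (SLn Au x sc Root UU ZZ QQ Ml St cI cm out Gen)
open Matrix H57 Subgroup

universe u

/-- `Y` has exponent at most `2`. -/
def El {G : Type*} [Group G] (Y : Subgroup G) : Prop := ∀ y ∈ Y, y * y = 1

/-- `g` induces `β` on the image of `e`. -/
def Ind {Y G : Type*} [Group Y] [Group G] (e : Y →* G) (g : G) (β : MulAut Y) : Prop :=
  ∀ s, g * e s * g⁻¹ = e (β s)

/-- the action of `t` on the coordinates of `az`, `bm` -/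
def tt {R : Type} [Add R] (p : R × R) : R × R := (p.1 + p.2, p.2)

section Facts

variable (F K : Type) [Field F] [Field K] [Algebra F K] [StarRing K] [CharP K 2] [Qe F K] [Finite K]

/-- `z` -/
abbrev zX : X K := xa ((1, 0, 0) : VA F K)
/-- `w` -/
abbrev wX : X K := xa ((0, 1, 0) : VA F K)

/-- Order, simplicity, automorphisms. -/
structure FO : Prop where
  simple : IsSimpleGroup (X K)
  cen : center (X K) = ⊥
  card : Nat.card (X K) =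
    Nat.card F ^ 6 * (Nat.card F ^ 2 - 1) * (Nat.card F ^ 3 + 1) * (Nat.card F ^ 4 - 1)
  iso : Nonempty (X K ≃* Cfsg.PSU 4 K (Nat.card F))
  syl : Syl (UX K) ⊤
  outc : ∀ g, oX K (MulAut.conj g) = 1
  outf : ∀ τ, oX K (fld K τ) = τ
  dec : ∀ β, ∃ g, β = MulAut.conj g * fld K (oX K β)

/-- The multiplier has no odd part. -/
def FM : Prop := ∀ (H : Type u) [Group H] [Finite H] (π : H →* X K), Function.Surjective π →
  π.ker ≤ center H → commutator H = ⊤ → Odd (Nat.card π.ker) → Function.Injective π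

/-- Normalisers and centralisers. -/
structure FN : Prop where
  nU : ∀ g ∈ Ns (UX K), ∃ u ∈ UX K, ∃ (y : Kˣ) (r : Fˣ), g = u * ht y r
  exU : ∀ β ∈ St (UX K), ∃ u ∈ UX K, ∃ (y : Kˣ) (r : Fˣ),
    β = MulAut.conj (u * ht y r) * fld K (oX K β)
  nu : ∀ β ∈ St (UX K), β ∈ St (AX K) ∧ β ∈ St (QX K) ∧ β ∈ St (ZX K)
  zw : ∀ (β : MulAut (X K)) (v w : VA F K), dt v = 0 → β (xa v) = xa w → dt w = 0
  nw : ∀ β : MulAut (X K), β (wX F K) = wX F K → β ∈ St (AX K)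
  nz : ∀ β : MulAut (X K), β (zX F K) = zX F K → β ∈ St (QX K)
  ctA : ∀ β : MulAut (X K), (∀ a ∈ AX K, β a = a) → β ∈ cI (AX K)
  ctQ : ∀ β : MulAut (X K), (∀ a ∈ QX K, β a = a) → β ∈ cI (ZX K)
  ctA3 : ∀ β : MulAut (X K), (∀ a ∈ AX K ⊓ QX K, β a = a) → β ∈ cI (AX K)

/-- The Levi subgroup on `A`; generation. -/
structure FL : Prop where
  trS : ∀ v : VA F K, v ≠ 0 → dt v = 0 → ∃ l ∈ Lv F K, l * zX F K * l⁻¹ = xa v
  trN : ∀ v : VA F K, dt v ≠ 0 → ∃ l ∈ Lv F K, l * wX F K * l⁻¹ = xa v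
  cS : Nat.card {v : VA F K // dt v = 0} + Nat.card F ^ 2 = Nat.card F ^ 3 + Nat.card F
  genA : AX K ⊔ cjs w0 (AX K) = ⊤
  genP : P0X K ⊔ P2X K = ⊤
  invU : UX K ≤ closure {u | u ∈ UX K ∧ u * u = 1}
  invQ : QX K = closure {u | u ∈ UX K ∧ u ∉ AX K ∧ u * u = 1}
  cU : ⁅UX K, UX K⁆ = AX K ⊓ QX K
  zU : UX K ⊓ Cs (UX K) = ZX K

/-- Involutions of `X` and of `Aut X`. -/
structure FI : Prop where
  ic : ∀ g : X K, g * g = 1 → ∃ (h : X K) (v : VA F K), h * g * h⁻¹ = xa v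
  ic2 : ∀ g : X K, Inv2 g → IsConj g (zX F K) ∨ IsConj g (wX F K)
  f3 : ∀ β : MulAut (X K), β * β = 1 → ∃ Y ≤ fx β, El Y ∧ Nat.card F ^ 3 ≤ Nat.card Y
  jU : ∀ Y ≤ UX K, El Y → Nat.card F ^ 3 < Nat.card Y → Y ≤ AX K
  r4 : ∀ Y : Subgroup (MulAut (X K)), El Y → Nat.card Y ≤ Nat.card F ^ 4

/-- New facts for `q = 2`. -/
structure FS : Prop where
  aut2 : ∀ τ : RingAut K, τ * τ = 1
  ivL : Lv F K ≤ closure {u | u ∈ Ns (AX K) ∧ u * u = 1}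
  s5 : ∀ φ : VA F K ≃+ VA F K, (∀ v, dt v = 0 → dt (φ v) = 0) →
    ∃ β ∈ St (AX K), ∀ v, β (xa v) = xa (φ v)
  fr : ∀ T ≤ St (UX K), IsPGroup 2 T → (∃ a, ⁅T, T⁆ ≤ cI (AX K ⊓ QX K ⊔ zpowers (xs a))) ∧
    ∃ b : K, b ≠ 0 ∧ ∀ β ∈ T, β (xm b) * (xm b)⁻¹ ∈ ZX K
  fr2 : ∀ (a : K) (R : Subgroup (X K)) (θ : X K → X K), AX K ⊓ QX K ≤ R →
    R ≤ AX K ⊓ QX K ⊔ zpowers (xs a) → Set.BijOn θ R R →
    (∀ x ∈ R, ∀ y ∈ R, θ (x * y) = θ x * θ y) → ∀ x ∈ AX K ⊓ QX K, θ (θ x) ∈ AX K ⊓ QX K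

/-- `SL₄(K)`: matrices. -/
structure FK : Prop where
  cen : center (SLn 3 K) = ⊥
  inn : ∀ β : Au 3 K, out 3 K β = 1 → ∃ g, β = MulAut.conj g
  lin : ∀ (g : SLn 3 K) (β : Au 3 K) (c : K), g * g = 1 →
    β (sc c g) = sc ((out 3 K β).1 c) (β g)
  roota : ∀ (g : SLn 3 K) (β : Au 3 K), Root g → Root (β g)
  ic : ∀ g : SLn 3 K, Inv2 g → IsConj g (zX F K).1 ∨ IsConj g (wX F K).1
  nw : ∀ β : Au 3 K, β (wX F K).1 = (wX F K).1 → β ∈ St (Ml 3 K 2)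
  nz : ∀ β : Au 3 K, β (zX F K).1 = (zX F K).1 → β ∈ St (QQ 3 K)
  cA : ∀ β : Au 3 K, (∀ a ∈ AX K, β a.1 = a.1) →
    ∃ ζ ∈ Ml 3 K 2, β = MulAut.conj ζ ∨ β = MulAut.conj ζ * tau K
  cQ : ∀ β : Au 3 K, (∀ a ∈ QX K, β a.1 = a.1) →
    ∃ ζ ∈ ZZ 3 K, β = MulAut.conj ζ ∨ β = MulAut.conj ζ * tau K
  jM : ∀ Y ≤ UU 3 K, El Y → Nat.card K ^ 4 ≤ Nat.card Y → Y = Ml 3 K 2
  gen : ∀ η : K, η + star η = 1 → SUs K ⊔ cjs (x 0 3 η) (SUs K) = ⊤

/-- `SL₄(K)`: involutions of `Aut`. -/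
structure FT : Prop where
  fi : ∀ y : SLn 3 K, y * tau K y = 1 → ∃ h, y = h * (tau K h)⁻¹
  uf : ∀ β : Au 3 K, β * β = 1 → (∃ Y ≤ fx β, El Y ∧ Nat.card K ^ 3 ≤ Nat.card Y) ∨
    (∃ N ≤ fx β, N ≤ ⁅N, N⁆ ∧ ¬ Nat.card N ∣ Nat.card (X K)) ∨ out 3 K β = out 3 K (tau K)

/-- Hua's theorem for `2 × 2` matrices. -/
def FH : Prop := ∀ θ : SLn 3 K → SLn 3 K, Set.BijOn θ (Ml 3 K 2) (Ml 3 K 2) →
  (∀ a ∈ Ml 3 K 2, ∀ b ∈ Ml 3 K 2, θ (a * b) = θ a * θ b) →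
  (∀ a ∈ Ml 3 K 2, Root a ↔ Root (θ a)) → ∃ β : Au 3 K, ∀ a ∈ Ml 3 K 2, θ a = β a

/-- All facts. -/
structure Fa : Prop where
  o : FO F K
  m : FM.{u} K
  n : FN F K
  l : FL F K
  i : FI F K
  k : FK F K
  t : FT K
  h : FH K
  s : FS F K

end Facts

section Alg

variable {F K : Type} [Field F] [Field K] [Algebra F K] [StarRing K] [Qe F K]

/-- Input of `JobA1`: an abelian group `M`, an extension of `A` by `A`, with operators. -/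
structure A1 {M : Type u} [AddCommGroup M] (ι : VA F K →+ M) (θ : M →+ VA F K)
    (h : Kˣ → Fˣ → M →+ M) (s : K → M →+ M) (w : M →+ M) : Prop where
  inj : Function.Injective ι
  surj : Function.Surjective θ
  ker : ∀ m, θ m = 0 ↔ ∃ v, m = ι v
  two : ∀ m : M, m + m = 0
  h_mul : ∀ y y' r r' m, h (y * y') (r * r') m = h y r (h y' r' m)
  h_one : ∀ m, h 1 1 m = m
  s_add : ∀ a b m, s (a + b) m = s a (s b m)
  s_zero : ∀ m, s 0 m = m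
  hs : ∀ y r a m, h y r (s a m) = s (y * a) (h y r m)
  wh : ∀ y r m, w (h y r m) = h y⁻¹ (r * nu F y) (w m)
  ww : ∀ m, w (w m) = m
  br : ∀ m, w (s 1 (w m)) = s 1 (w (s 1 m))
  hι : ∀ y r v, h y r (ι v) = ι (aH y r v)
  hθ : ∀ y r m, θ (h y r m) = aH y r (θ m)
  sι : ∀ a v, s a (ι v) = ι (aS a v)
  sθ : ∀ a m, θ (s a m) = aS a (θ m)
  wι : ∀ v, w (ι v) = ι (aW v)
  wθ : ∀ m, θ (w m) = aW (θ m)

/-- Output of `JobA1`. -/
structure A1c {M : Type u} [AddCommGroup M] (ι : VA F K →+ M) (θ : M →+ VA F K)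
    (h : Kˣ → Fˣ → M →+ M) (s : K → M →+ M) (w : M →+ M) (az : F × F →+ M) (bm : K × K →+ M) :
    Prop where
  two : ∀ m : M, m + m = 0
  dec : ∀ m, ∃ p v p', m = az p + bm v + w (az p')
  azι : ∀ c, az (c, 0) = ι (c, 0, 0)
  bmι : ∀ a, bm (a, 0) = ι (0, a, 0)
  azθ : ∀ p, θ (az p) = (p.2, 0, 0)
  bmθ : ∀ v, θ (bm v) = (0, v.2, 0)
  haz : ∀ y r p, h y r (az p) = az (((r : F) * nm F (y : K)) • p)
  hbm : ∀ y r v, h y r (bm v) = bm ((algebraMap F K r * y) • v)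
  saz : ∀ a p, s a (az p) = az p

variable (γ : K × K → K × K → F × F) (β : K × K → F × F → K × K) (κ : K × K → F × F → F × F)
  (σ : K × K → K × K)

/-- The identities of the commutator maps. -/
structure Al2 : Prop where
  γ_add : ∀ u v v', γ u (v + v') = γ u v + γ u v'
  γ_symm : ∀ u v, γ u v = γ v u
  γ_ses : ∀ (a : K) u v, γ (a • u) v = γ u (star a • v)
  γ_lin : ∀ (c : F) u v, γ u (algebraMap F K c • v) = c • γ u v
  β_addu : ∀ u u' p, β (u + u') p = β u p + β u' p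
  β_smul : ∀ (a : K) u p, β (a • u) p = a • β u p
  β_addp : ∀ u p p', β u (p + p') = β u p + β u p'
  β_lin : ∀ (c : F) u p, β u (c • p) = algebraMap F K c • β u p
  β_one : ∀ u, β u (1, 0) = u
  β_t : ∀ u p, β (tt u) (tt p) = tt (β u p)
  κ_addu : ∀ u u' p, κ (u + u') p = κ u p + κ u' p + γ u (β u' p)
  κ_smul : ∀ (a : K) u p, κ (a • u) p = nm F a • κ u p
  κ_addp : ∀ u p p', κ u (p + p') = κ u p + κ u p'
  κ_lin : ∀ (c : F) u p, κ u (c • p) = c • κ u p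
  κ_one : ∀ p, κ (1, 0) p = p
  σ_add : ∀ u u', σ (u + u') = σ u + σ u'
  σ_smul : ∀ (a : K) u, σ (a • u) = star a • σ u
  σ_fix : ∀ p, σ (β (1, 0) p) = β (1, 0) p

/-- Field data. -/
structure Fd (p p' : K →+ K × K) (ψ : K →+ F × F) : Prop where
  sum : ∀ a, p a + p' (star a) = (a, 0)
  res : ∀ c, ψ (algebraMap F K c) = (c, 0)
  span : ∀ v, ∃ a b, v = p a + p' b
  surj : ∀ y, ∃ c, y = ψ c
  γ11 : ∀ a b, γ (p a) (p b) = 0
  γ22 : ∀ a b, γ (p' a) (p' b) = 0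
  γ12 : ∀ a b, γ (p a) (p' b) = ψ (a * b)
  γ21 : ∀ a b, γ (p' a) (p b) = ψ (a * b)
  β1 : ∀ a c, β (p a) (ψ c) = p (a * c)
  β2 : ∀ a c, β (p' a) (ψ c) = p' (a * c)
  κ1 : ∀ a y, κ (p a) y = 0
  κ2 : ∀ a y, κ (p' a) y = 0
  σ1 : ∀ a, σ (p a) = p' a
  σ2 : ∀ a, σ (p' a) = p a
  t1 : ∀ a, tt (p a) = p' (star a)
  t2 : ∀ a, tt (p' a) = p (star a)
  t3 : ∀ c, tt (ψ c) = ψ (star c)

/-- Wreath data. -/
structure Wd (u : K × K) (y : F × F) : Prop where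
  su : u.2 = 1
  sy : y.2 = 1
  γ11 : ∀ a b : K, γ (a • u) (b • u) = tr F (a * star b) • y
  γ12 : ∀ a b : K, γ (a • u) (b • tt u) = 0
  γ21 : ∀ a b : K, γ (a • tt u) (b • u) = 0
  β11 : ∀ (a : K) (c : F), β (a • u) (c • y) = (algebraMap F K c * a) • u
  β12 : ∀ (a : K) (c : F), β (a • u) (c • tt y) = 0
  β21 : ∀ (a : K) (c : F), β (a • tt u) (c • y) = 0
  κ11 : ∀ (a : K) (c : F), κ (a • u) (c • y) = (nm F a * c) • y
  κ12 : ∀ (a : K) (c : F), κ (a • u) (c • tt y) = 0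
  κ21 : ∀ (a : K) (c : F), κ (a • tt u) (c • y) = 0
  σ1 : ∀ a : K, σ (a • u) = star a • u

end Alg

section Amb

variable {F K : Type} [Field F] [Field K] [Algebra F K] [StarRing K] [CharP K 2] [Qe F K] [Finite K]
  {G : Type u} [Group G]

/-- The basic configuration. -/
structure B1 (e : X K →* G) (t : G) : Prop where
  inj : Function.Injective e
  inv : Inv2 t
  cen : t ∈ Cs e.range
  cz : Cz t ≤ Ns e.range

/-- `C(L)` has cyclic Sylow `2`-subgroups. -/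
structure B0 (e : X K →* G) (t : G) : Prop extends B1 e t where
  cyc : ∀ R ≤ Cs e.range, IsPGroup 2 R → IsCyclic R

/-- `⟨t⟩` is a Sylow `2`-subgroup of `C(L)`. -/
structure CE (e : X K →* G) (t : G) : Prop extends B1 e t where
  two : ∀ R ≤ Cs e.range, IsPGroup 2 R → Nat.card R ≤ 2

/-- `E = ⟨t⟩ A` -/
abbrev EE (e : X K →* G) (t : G) : Subgroup G := zpowers t ⊔ (AX K).map e

variable (F) in
/-- The structure of the centralisers of the elements of `T`. -/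
structure AB (e : X K →* G) (t : G) : Prop where
  ol : ∀ g, ∀ y ∈ O2 (Cz (g * t * g⁻¹)), Is2 y → y ∈ cjs g e.range
  pf : ∀ g, ∀ N ≤ Cz (g * t * g⁻¹), N ≤ ⁅N, N⁆ → N ≤ cjs g e.range
  bd : ∀ s, IsConj t s → ∀ Y ≤ Cz s, El Y → Nat.card Y ≤ 2 * Nat.card F ^ 4

/-- The group `M` of order `q⁸`. -/
structure M0 (e : X K →* G) (t : G) (M : Subgroup G) (θ : G → VA F K) : Prop where
  le : (AX K).map e ≤ M
  cen : M ≤ Cs ((AX K).map e)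
  th : ∀ m ∈ M, m * t * m⁻¹ = t * e (xa (θ m))
  onto : ∀ v, ∃ m ∈ M, θ m = v
  fix : ∀ m ∈ M, θ m = 0 → m ∈ (AX K).map e
  sq : El M
  nor : ∀ l ∈ Lv F K, e l ∈ Ns M
  big : ∀ k ∈ Cs ((AX K).map e), k * k = 1 → (∃ v : VA F K, k * t * k⁻¹ = t * e (xa v)) →
    k ∈ M ∨ ∃ v : VA F K, k = t * e (xa v)

/-- the big long root subgroup for `x_12` -/
abbrev al (e : X K →* G) (az : F × F → G) (p : F × F) : G := e ws * az p * (e ws)⁻¹
/-- the big short root subgroup for `x_01 x_23` -/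
abbrev bs (e : X K →* G) (bm : K × K → G) (v : K × K) : G := e wn * bm v * (e wn)⁻¹

/-- Coordinates on `M`. -/
structure Co (e : X K →* G) (t : G) (M : Subgroup G) (az : F × F → G) (bm : K × K → G) : Prop where
  mem : ∀ m, m ∈ M ↔ ∃ p v p', m = az p * bm v * al e az p'
  ab : M ≤ Cs M
  sq : El M
  az_add : ∀ p p', az (p + p') = az p * az p'
  bm_add : ∀ v v', bm (v + v') = bm v * bm v'
  az0 : ∀ c, az (c, 0) = e (xa (c, 0, 0))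
  bm0 : ∀ a, bm (a, 0) = e (xa ((0, a, 0) : VA F K))
  taz : ∀ p, az p * t * (az p)⁻¹ = t * e (xa (p.2, 0, 0))
  tbm : ∀ v, bm v * t * (bm v)⁻¹ = t * e (xa ((0, v.2, 0) : VA F K))
  haz : ∀ (y : Kˣ) (r : Fˣ) p, e (ht y r) * az p * (e (ht y r))⁻¹ = az (((r : F) * nm F (y : K)) • p)
  hbm : ∀ (y : Kˣ) (r : Fˣ) v, e (ht y r) * bm v * (e (ht y r))⁻¹ = bm ((algebraMap F K r * y) • v)
  saz : ∀ a p, e (xs a) * az p = az p * e (xs a)
  nor : ∀ l ∈ Lv F K, e l ∈ Ns M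
  big : ∀ k ∈ Cs ((AX K).map e), k * k = 1 → (∃ v : VA F K, k * t * k⁻¹ = t * e (xa v)) →
    k ∈ M ∨ ∃ v : VA F K, k = t * e (xa v)

/-- The commutator maps. -/
structure Tri (e : X K →* G) (az : F × F → G) (bm : K × K → G)
    (γ : K × K → K × K → F × F) (β : K × K → F × F → K × K) (κ : K × K → F × F → F × F)
    (σ : K × K → K × K) : Prop where
  naz : ∀ p, e wn * az p = az p * e wn
  gam : ∀ u v, bs e bm u * bm v * (bs e bm u)⁻¹ = bm v * az (γ u v)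
  bet : ∀ u p, bs e bm u * al e az p * (bs e bm u)⁻¹ = al e az p * bm (β u p) * az (κ u p)
  sig : ∀ v, e ws * bm v * (e ws)⁻¹ = bm (σ v)

/-- The field case. -/
structure CF (e : X K →* G) (t : G) (Φ : SLn 3 K →* G) : Prop where
  inj : Function.Injective Φ
  res : ∀ s : X K, Φ s.1 = e s
  act : Ind Φ t (tau K)

/-- The wreath case. -/
structure CW (e : X K →* G) (t : G) (e₁ e₂ : X K →* G) : Prop where
  inj : Function.Injective e₁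
  comm : ∀ a b, e₁ a * e₂ b = e₂ b * e₁ a
  diag : ∀ a, e a = e₁ a * e₂ a
  sw : ∀ a, t * e₁ a * t⁻¹ = e₂ a

/-- `A₁ B₂` -/
abbrev pr (e₁ e₂ : X K →* G) (A B : Subgroup (X K)) : Subgroup G := A.map e₁ ⊔ B.map e₂
/-- `G₁ = L₁ L₂` -/
abbrev G12 (e₁ e₂ : X K →* G) : Subgroup G := e₁.range ⊔ e₂.range

/-- Common part of both endgames, `𝓜 = N(G₁)`. -/
structure EB (e : X K →* G) (t : G) (G₁ : Subgroup G) : Prop where
  uf : UF (Ns G₁) t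
  le : e.range ≤ G₁
  odd : Odd (Nat.card (Cs G₁))
  tx : ∀ g, g * g = 1 → IsConj t (t * e g)

/-- Input of `EG0.eg` (`SUInd`). -/
structure EG0 (e : X K →* G) (t : G) (G₁ : Subgroup G) : Prop extends EB e t G₁ where
  cMA : ∀ m ∈ Ns G₁, m ∈ Cs ((AX K).map e) →
    (Is2 (cm m t) → cm m t ∈ (AX K).map e) ∧ (Odd (orderOf m) → m ∈ Cs G₁)
  cMQ : ∀ m ∈ Ns G₁, m ∈ Cs ((QX K).map e) →
    (Is2 (cm m t) → cm m t ∈ (ZX K).map e) ∧ (Odd (orderOf m) → m ∈ Cs G₁)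
  gen : ∀ o ∈ Cs e.range, (∀ ζ ∈ Ns G₁, ζ ∈ Cs ((UX K).map e) → ζ * o * ζ⁻¹ ∈ Cs e.range) →
    o ∈ Ns G₁

/-- Output of `EG0.eg`. -/
structure EG (e : X K →* G) (t : G) (G₁ : Subgroup G) : Prop extends EB e t G₁ where
  cA : Cs ((AX K).map e) ≤ Ns G₁
  cQ : Cs ((QX K).map e) ≤ Ns G₁

/-- Field case: unique fixed point. -/
structure GF (e : X K →* G) (t : G) (Φ : SLn 3 K →* G) : Prop extends EG e t Φ.range where
  ft : ∀ s ∈ Ns Φ.range, IsConj t s →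
    ∃ m ∈ Ns Φ.range, (∃ β, Ind Φ m β ∧ out 3 K β = 1) ∧ s = m * t * m⁻¹
  fi : ∀ y, Φ y * t * (Φ y * t) = 1 → ∃ h, Φ y * t = Φ h * t * (Φ h)⁻¹

/-- Wreath case: unique fixed point; the elements of `T ∩ 𝓜` swap. -/
structure GW (e : X K →* G) (t : G) (e₁ e₂ : X K →* G) : Prop extends EG e t (G12 e₁ e₂) where
  pm : ∀ m ∈ Ns (G12 e₁ e₂), m ∈ Ns e₁.range ∧ m ∈ Ns e₂.range ∨
    cjs m e₁.range = e₂.range ∧ cjs m e₂.range = e₁.range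
  sw : ∀ s ∈ Ns (G12 e₁ e₂), IsConj t s → cjs s e₁.range = e₂.range

/-- `d = Φ y t` of order `4` -/
def DF (t : G) (Φ : SLn 3 K →* G) : Prop := ∀ y, (Φ y * t) ^ 4 = 1 → (Φ y * t) ^ 2 ≠ 1 →
  (∃ s ∈ Ns Φ.range, IsConj t s ∧ s * (Φ y * t) * s⁻¹ = (Φ y * t)⁻¹) ∧
  ((∀ m, Is2 m → ∀ β, Ind Φ m β → out 3 K β = 1 ∨ out 3 K β = out 3 K (tau K)) →
    Ns (zpowers (Φ y * t)) ≤ Ns Φ.range)

/-- Case I, first half. -/
def W1a (e₁ e₂ : X K →* G) : Prop := ∀ W : Subgroup G, IsPGroup 2 W → W ≤ Ns (G12 e₁ e₂) →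
  pr e₁ e₂ (UX K) (UX K) ≤ W → ∀ n ∈ Ns W, Odd (orderOf n) →
    n ∈ Ns ((AX K).map e₁) ∧ n ∈ Ns ((AX K).map e₂)

/-- Case I, second half. -/
def W1b (e₁ e₂ : X K →* G) : Prop := ∀ n ∈ Ns ((AX K).map e₁), n ∈ Ns ((AX K).map e₂) →
  Odd (orderOf n) → n ∈ Ns (G12 e₁ e₂)

/-- Case II: centralisers of elements of order `4`. -/
def W3 (t : G) (e₁ e₂ : X K →* G) : Prop := ∀ s ∈ Ns (G12 e₁ e₂), IsConj t s →
  ∀ y, Inv2 y → Cz (e₁ y * s) ≤ Ns (G12 e₁ e₂)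

end Amb

/-- A statement for all parameters. -/
def All (P : ∀ (F K : Type) [Field F] [Field K] [Algebra F K] [StarRing K] [CharP K 2] [Qe F K]
    [Finite K], Prop) : Prop :=
  ∀ (F K : Type) [Field F] [Finite F] [CharP F 2] [Field K] [Algebra F K] [StarRing K] [CharP K 2]
    [Qe F K] [Finite K], P F K

def JobFO : Prop := All fun F K _ _ _ _ _ _ _ => FO F K ∧ FM.{u} K
def JobFN : Prop := All fun F K _ _ _ _ _ _ _ => FO F K → FN F K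
def JobFL : Prop := All fun F K _ _ _ _ _ _ _ => FO F K → FL F K
def JobFI : Prop := All fun F K _ _ _ _ _ _ _ => FO F K → FN F K → FL F K → FI F K
def JobFK : Prop := All fun F K _ _ _ _ _ _ _ => FK F K
def JobFT : Prop := All fun F K _ _ _ _ _ _ _ => FO F K → FK F K → FT K
def JobFH : Prop := All fun _ K _ _ _ _ _ _ _ => FH K
def JobFS : Prop := All fun F K _ _ _ _ _ _ _ => FO F K → FN F K → FL F K → FS F K

def JobA1 : Prop := All fun F K _ _ _ _ _ _ _ => ∀ (M : Type u) [AddCommGroup M] (ι : VA F K →+ M)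
  θ h s w, A1 ι θ h s w → ∃ az bm, A1c ι θ h s w az bm

def JobA2 : Prop := All fun F K _ _ _ _ _ _ _ => ∀ (γ : K × K → K × K → F × F) β κ σ,
  Al2 γ β κ σ → (∃ p p' ψ, Fd γ β κ σ p p' ψ) ∨ ∃ u y, Wd γ β κ σ u y

/-- A statement for all parameters and all `e`, `t`; all facts are available. -/
def AllG (P : ∀ (F K : Type) [Field F] [Field K] [Algebra F K] [StarRing K] [CharP K 2] [Qe F K]
    [Finite K] (G : Type u) [Group G], (X K →* G) → G → Prop) : Prop :=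
  All fun F K _ _ _ _ _ _ _ => Fa.{u} F K →
    ∀ (G : Type u) [Group G] [Finite G] (e : X K →* G) (t : G), P F K G e t

def JobAB : Prop := AllG.{u} fun F _ _ _ _ _ _ _ _ _ _ e t => B0 e t → AB F e t

def JobCo : Prop := JobA1.{u} → AllG.{u} fun F K _ _ _ _ _ _ _ G _ e t => B1 e t →
  ∀ (M : Subgroup G) (θ : G → VA F K), M0 e t M θ → ∃ (az : F × F → G) (bm : K × K → G), Co e t M az bm

def JobN : Prop := AllG.{u} fun F _ _ _ _ _ _ _ _ G _ e t => CE e t → AB F e t →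
  ∀ M (az : F × F → G) bm, Co e t M az bm → ∃ γ β κ σ, Tri e az bm γ β κ σ

def JobR : Prop := AllG.{u} fun F _ _ _ _ _ _ _ _ G _ e t => B1 e t →
  ∀ M (az : F × F → G) bm γ β κ σ, Co e t M az bm → Tri e az bm γ β κ σ → Al2 γ β κ σ

def JobSF : Prop := AllG.{u} fun F _ _ _ _ _ _ _ _ G _ e t => CE e t → AB F e t →
  ∀ M (az : F × F → G) bm γ β κ σ p p' ψ, Co e t M az bm → Tri e az bm γ β κ σ →
    Fd γ β κ σ p p' ψ → ∃ Φ, CF e t Φ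

def JobSW : Prop := AllG.{u} fun F _ _ _ _ _ _ _ _ G _ e t => CE e t → AB F e t →
  ∀ M (az : F × F → G) bm γ β κ σ u y, Co e t M az bm → Tri e az bm γ β κ σ →
    Wd γ β κ σ u y → ∃ e₁ e₂, CW e t e₁ e₂

/-- A statement in the field case. -/
def AllF (P : ∀ (K : Type) [Field K] [StarRing K] [CharP K 2] [Finite K] (G : Type u) [Group G],
    (X K →* G) → G → (SLn 3 K →* G) → Prop) : Prop :=
  AllG.{u} fun F K _ _ _ _ _ _ _ G _ e t => ∀ Φ : SLn 3 K →* G, CE e t → AB F e t → CF e t Φ →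
    P K G e t Φ

def JobFU : Prop := AllF.{u} fun _ _ _ _ _ _ _ e t Φ => GF e t Φ
def JobNF : Prop := AllF.{u} fun K _ _ _ _ _ _ e t Φ => GF e t Φ →
  Ns ((Ml 3 K 2).map Φ) ≤ Ns Φ.range
def JobDF : Prop := AllF.{u} fun _ _ _ _ _ _ _ e t Φ => GF e t Φ → DF t Φ
def JobEF : Prop := AllF.{u} fun K _ _ _ _ _ _ e t Φ => GF e t Φ →
  Ns ((Ml 3 K 2).map Φ) ≤ Ns Φ.range → DF t Φ → Gen t → Ns Φ.range = ⊤

/-- A statement in the wreath case. -/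
def AllW (P : ∀ (K : Type) [Field K] [StarRing K] [CharP K 2] (G : Type u) [Group G],
    (X K →* G) → G → (X K →* G) → (X K →* G) → Prop) : Prop :=
  AllG.{u} fun F K _ _ _ _ _ _ _ G _ e t => ∀ e₁ e₂ : X K →* G, CE e t → AB F e t → CW e t e₁ e₂ →
    P K G e t e₁ e₂

def JobWU : Prop := AllW.{u} fun _ _ _ _ _ _ e t e₁ e₂ => GW e t e₁ e₂
def JobW1a : Prop := AllW.{u} fun _ _ _ _ _ _ e t e₁ e₂ => GW e t e₁ e₂ → W1a e₁ e₂
def JobW1b : Prop := AllW.{u} fun _ _ _ _ _ _ e t e₁ e₂ => GW e t e₁ e₂ → W1b e₁ e₂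
def JobW3 : Prop := AllW.{u} fun _ _ _ _ _ _ e t e₁ e₂ => GW e t e₁ e₂ → W3 t e₁ e₂

/-- Case II, pure `2`-group theory: the odd part of `t b` centralises `W`. -/
def JobW2 : Prop := ∀ {G : Type u} [Group G] [Finite G] (L₁ L₂ W : Subgroup G) (t b y : G) (k : ℕ),
  L₁ ≤ Cs L₂ → Odd (Nat.card ↥(Cs L₁ ⊓ Cs L₂)) → t * t = 1 → cjs t L₁ = L₂ →
  (∀ w ∈ W, w ∈ Ns L₁ ∧ w ∈ Ns L₂ ∨ cjs w L₁ = L₂ ∧ cjs w L₂ = L₁) → IsPGroup 2 W → t ∈ Ns W →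
  b ∈ Ns W → b * b = 1 → Odd k → (t * b) ^ k ∈ W → y ∈ L₁ → y * y ∈ W → y⁻¹ * t ∈ W →
  (y * y = 1 ∨ 2 < Nat.card ↥(W ⊓ L₁)) → ∀ o ∈ zpowers (t * b), Odd (orderOf o) → o ∈ Cs W

def JobWE : Prop := JobW2.{u} → AllW.{u} fun _ _ _ _ _ _ e t e₁ e₂ => GW e t e₁ e₂ → W1a e₁ e₂ →
  W1b e₁ e₂ → W3 t e₁ e₂ → Ns (G12 e₁ e₂) = ⊤

end H83.SV
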