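import Cfsg.Agent.H82.FSSpec2
import Cfsg.Agent.H31.JFin
import Cfsg.Agent.H92.MW6
import Cfsg.Agent.H92.JFusS

/-! Tower FS, slot J: the centraliser of a central involution for Sylow type `J₂`. -/

set_option autoImplicit false
set_option maxRecDepth 100000

namespace H83.FsJ

open Cfsg Subgroup H14 H98 H1.Gold H31 H31.S2 H31.MJ

universe u

variable {G : Type u} [Group G] [Finite G] {φ : MJ →* G}

theorem card_cen [IsSimpleGroup G] (hφ : Function.Injective φ) (hS : IsSyl 2 φ.range ⊤) :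
    Nat.card (cen1 (φ z)) = 1920 := by
  have hG : GoldLoc.{u} := H92.JS.goldLoc
  obtain ⟨h2, hO, hZ⟩ := simple_facts hφ
  have h := jl_of hG hφ hS h2
  have z2 := order_two hφ (s := z) (by decide +kernel) (by decide +kernel)
  have hz : IsConj (φ e) (φ z) := h.conj_ez (by
    by_contra hc
    push Not at hc
    have := le_opp_sup_cen hS (Z := zpowers (φ z)) (zpowers_le.2 ⟨z, rfl⟩) fun x hx g _ hg => by
      rcases H55.W.eq_or_eq_of_mem_zpowers z2 hx with rfl | rfl
      · simp
      · exact hc g hg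
    rw [opp_top, show pPrimeCore 2 G = ⊥ from hO, bot_sup_eq, top_inf_eq, ← cen1_eq] at this
    exact h.ne_one (s := z) (by decide +kernel) (hZ.le (mem_center_iff.2 fun g =>
      mem_cen1.1 (this (mem_top g)))))
  have hO' : oddCore (cen1 (φ z)) = ⊥ := (Subgroup.map_eq_bot_iff_of_injective _
    (subtype_injective _)).1 (le_bot_iff.1 (hO ▸ h.oc_le_oddCore hz))
  obtain ⟨m, h0⟩ := ctx0_of hφ hS h2
  have c := h0.ctx hG hO'
  have := c.normal
  obtain ⟨π, hπ⟩ := c.exists_act
  have e5 : cen1 (φ z) ⧸ E.map (φ.codRestrict _ m) ≃* alternatingGroup (Fin 5) :=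
    (QuotientGroup.quotientMulEquivOfEq (c.ker_eq hπ hO').symm).trans
      ((QuotientGroup.quotientKerEquivRange π).trans (MulEquiv.subgroupCongr (c.range_eq' hπ h0.ae)))
  have c32 := (card_map_inj c.inj E).trans card_E
  have c60 : Nat.card (alternatingGroup (Fin 5)) = 60 := by
    have := two_mul_nat_card_alternatingGroup (α := Fin 5)
    rw [Nat.card_perm, Nat.card_fin] at this
    norm_num [Nat.factorial] at this ⊢
    omega
  rw [card_eq_card_quotient_mul_card_subgroup (E.map (φ.codRestrict _ m)), c32,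
    Nat.card_congr e5.toEquiv, c60]

theorem jobJ : H82.FS.JobJ.{u} := by
  intro G _ _ _ h3 S hc y hy hS hz
  obtain ⟨φ, hφ, hs⟩ := H92.MW.j2Type_of_not_connected h3 S hc
  obtain ⟨g, -, h1⟩ := hs.exists_cj_le S.isPGroup' le_top
  have h2 : cj g (S : Subgroup G) = φ.range :=
    (((isSyl_sylow S).cj g).eq_of_le hs.isPGroup h1 (by rw [H98.cj_top]; exact le_top)).symm
  obtain ⟨s, e1⟩ := h1 (conj_mem_cj hS)
  have f : ∀ s : MJ, s * s = 1 → (∀ r : MJ, r * s = s * r) → s = 1 ∨ s = z := by decide +kernel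
  rcases f s (hφ (by rw [map_mul, e1, conj_mul, ← pow_two, ← hy, pow_orderOf_eq_one]; simp))
    (fun r => hφ (by
      have k := hz _ (mem_cj.1 (h2.ge ⟨r, rfl⟩))
      rw [map_mul, map_mul, e1]
      calc φ r * (g * y * g⁻¹) = g * (g⁻¹ * φ r * g * y) * g⁻¹ := by group
        _ = _ := by rw [k]; group)) with rfl | rfl
  · rw [map_one, eq_comm, conj_eq_one_iff] at e1
    simp [e1] at hy
  · rw [← card_cen hφ hs, e1, ← cj_cen1, card_cj]

end H83.FsJ
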