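import Cfsg.Agent.H82.FSSpec2
import Cfsg.Agent.H82.HRMain
import Cfsg.Agent.H66.HrModel
import Cfsg.Agent.H72.HRU3
import Cfsg.Agent.H99.BenderB
import Cfsg.Agent.H82.Hub

/-! Tower FS, slot RkB: in a Bender group no element of odd order centralises a Sylow `2`-subgroup. -/

set_option autoImplicit false

namespace H83.FsRkB

open Cfsg Subgroup H14 H98 H82.HR

universe u

variable {G : Type u} [Group G] [Finite G] {U V : Subgroup G} {q : ℕ} {x : G}

theorem core [IsSimpleGroup G] (b : BF ⊤ U V q) (hx : x ∈ cen U) (ho : Odd (orderOf x)) : x = 1 := by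
  obtain ⟨h, -, h1⟩ := b.sylV.exists_cj_le b.sylU.isPGroup le_top
  have h2 : cj h U = V := ((b.sylU.cj h).eq_of_le b.sylV.isPGroup h1 (by rw [H98.cj_top]; exact le_top)).symm
  have ne : V ≠ U := fun e => by
    have k : ZZ U = ⊥ := le_bot_iff.1 fun z hz => b.ti.le ⟨hz.1, e ▸ le_normalizer hz.1⟩
    have := b.card
    rw [k, card_bot] at this
    have := b.q4
    omega
  have xU : x ∈ nor U := centralizer_le_normalizer _ hx
  have xV : x ∈ nor V := by
    rcases b.bru (x * h) (mem_top _) with k | ⟨v, hv, k⟩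
    · refine absurd ?_ ne
      rw [← h2]
      exact cj_eq_self ((mul_mem_cancel_left xU).1 k)
    · have c : Commute v⁻¹ x := (show Commute v x from hx v hv).inv_left
      have k1 : v⁻¹ * x ∈ nor V := cj_eq_self_iff.1 (by
        rw [← cj_cj, ← h2, cj_cj x, k, h2, cj_inv_cj])
      have k2 := pow_mem k1 (orderOf x)
      rw [c.mul_pow, pow_orderOf_eq_one, mul_one] at k2
      have k3 := mem_bot.1 (b.ti.le ⟨pow_mem (inv_mem hv) _, k2⟩)
      obtain ⟨n, hn⟩ := isPGroup_iff_forall.1 b.sylU.isPGroup _ (inv_mem hv)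
      have k4 : v⁻¹ = 1 := orderOf_eq_one_iff.1 (Nat.eq_one_of_dvd_coprimes
        (Nat.Coprime.pow_left n (Nat.coprime_two_left.2 ho)) (orderOf_dvd_of_pow_eq_one hn)
        (orderOf_dvd_of_pow_eq_one k3))
      rwa [k4, one_mul] at k1
  have m : x ∈ (nor U).normalCore := fun g => by
    have k : cj x (cj g⁻¹ U) = cj g⁻¹ U := by
      rcases b.bru g⁻¹ (mem_top _) with k | ⟨v, hv, k⟩
      · rw [cj_eq_self k, cj_eq_self xU]
      · rw [k, cj_cj, ← hx v hv, ← cj_cj, cj_eq_self xV]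
    exact cj_eq_self_iff.1 (by rw [← cj_cj, ← cj_cj, k, cj_cj_inv])
  rcases (normalCore_normal (nor U)).eq_bot_or_eq_top with e | e
  · exact mem_bot.1 (e ▸ m)
  · exact absurd (h2.symm.trans (cj_eq_self (normalCore_le _ (e.ge (mem_top h))))) ne

theorem jobRkB : H82.FS.JobRkB.{u} := by
  rintro G _ _ _ ⟨H, hH⟩ S x hx ho
  obtain ⟨q, U, V, b⟩ := jobBG H66.HR.jobL2 H66.HR.jobSz H72.HRU.jobU3 G ⊤
    ((H99.bender_simple H82.hub hH).of_equiv topEquiv)
  obtain ⟨g, -, h1⟩ := (isSyl_sylow S).exists_cj_le b.sylU.isPGroup le_top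
  refine conj_eq_one_iff.1 (core (x := g⁻¹ * x * g⁻¹⁻¹) b (fun y hy => ?_) ?_)
  · have k := hx _ (h1 (conj_mem_cj hy))
    calc y * (g⁻¹ * x * g⁻¹⁻¹) = g⁻¹ * (g * y * g⁻¹ * x) * g := by group
      _ = _ := by rw [k]; group
  · rwa [show g⁻¹ * x * g⁻¹⁻¹ = MulAut.conj g⁻¹ x from rfl, MulEquiv.orderOf_eq]

end H83.FsRkB
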