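import Cfsg.Agent.H96.U2CenSpec

/-! Chapter U2F (row S3275), central case, slot `Pair`. -/

set_option autoImplicit false

namespace H83.DPW

open Subgroup Cfsg H98 H48.DP H96.U2I H96.Cen
open scoped commutatorElement

universe u

variable {G : Type u} [Group G]

theorem relIndex_inf_cj (g : G) (U Q : Subgroup G) :
    (U ⊓ cj g⁻¹ Q).relIndex U = (cj g U ⊓ Q).relIndex (cj g U) := by
  have e : cj g U ⊓ Q = cj g (U ⊓ cj g⁻¹ Q) := by
    ext x
    simp only [mem_inf, mem_cj, inv_inv]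
    rw [show g * (g⁻¹ * x * g) * g⁻¹ = x by group]
  rw [e]
  exact (relIndex_map_map_of_injective _ _ (MulAut.conj g).injective).symm

theorem le_cj {g : G} {U Q : Subgroup G} (h : cj g⁻¹ U ≤ Q) : U ≤ cj g Q := fun x hx =>
  mem_cj.2 (h (by simpa using conj_mem_cj (g := g⁻¹) hx))

theorem jobPair : JobPair.{u} := by
  intro fx trg hqg p1 G _ _ M M0 Q Q0 F U z
  have ne0 : ∀ A B : Subgroup G, A.relIndex B ≠ 0 := fun A B => index_ne_zero_of_finite
  have S : ∀ g : G, Vx M M0 Q Q0 F U z → g ∉ M → cj g U ≤ M0 → cj g⁻¹ U ≤ M0 → ¬ cj g U ≤ Q0 →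
      (U ⊓ cj g Q0).relIndex U ≤ (cj g U ⊓ Q0).relIndex (cj g U) → False := by
    intro g v hg h1 h2 h3 h4
    have el : ∀ a ∈ cj g U, a * a = 1 := by
      rintro _ ⟨a, ha, rfl⟩
      rw [← map_mul, v.el a ha, map_one]
    have cm : ∀ a ∈ cj g U, ∀ b ∈ U ⊓ cj g Q0, ⁅a, b⁆ = 1 ∨ ⁅a, b⁆ = g * z * g⁻¹ := by
      rintro _ ⟨a, ha, rfl⟩ _ ⟨-, b, hb, rfl⟩
      rw [← map_commutatorElement, ← commutatorElement_inv]
      rcases v.cQ b hb a ha with h | h
      · exact .inl (by rw [h, inv_one, map_one])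
      · exact .inr (by rw [h, inv_eq_of_mul_eq_one_right (v.el z v.zU)]; rfl)
    by_cases hc : ∀ a ∈ cj g U, ∀ b ∈ U ⊓ cj g Q0, Commute a b
    · by_cases h5 : cj g⁻¹ U ≤ Q0
      · have h6 := (trg G M M0 Q Q0 F U _ _ z v h1 el inf_le_left hc h4).1
        rw [inf_eq_left.2 (le_cj h5), relIndex_self] at h6
        have h7 := ne0 (cj g U ⊓ Q0) (cj g U)
        exact h3 ((relIndex_eq_one.1 (le_antisymm h6 (Nat.pos_of_ne_zero h7))).trans inf_le_right)
      · exact p1 G M M0 Q Q0 F U z g v hg h1 h2 h3 h5 h4 hc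
    push Not at hc
    obtain ⟨a, ha, b, hb, hab⟩ := hc
    have e := (cm a ha b hb).resolve_left fun h => hab (commutatorElement_eq_one_iff_commute.1 h)
    refine hqg G M M0 Q Q0 F U _ _ z _ v h1 el ?_ inf_le_left ?_ (fx G M M0 Q Q0 F U z g v hg).1
      (fx G M M0 Q Q0 F U z g v hg).2 cm ⟨a, ha, b, hb, e⟩ h4
    · rintro _ ⟨c, hc, rfl⟩ _ ⟨c', hc', rfl⟩ d hd
      obtain ⟨m, hm, rfl⟩ := le_cj h2 hd
      rw [← map_commutatorElement]
      refine (v.ab c' hc' _ ?_).map _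
      rw [commutatorElement_def, mul_assoc, mul_assoc, ← mul_assoc m]
      exact mul_mem hc (conj_mem_of_mem_normalizer (v.nU hm) (inv_mem hc))
    · rw [← e, commutatorElement_def]
      exact mul_mem (conj_mem_of_mem_normalizer (v.nU (h1 ha)) hb.1) (inv_mem hb.1)
  intro g v hg h1 h2
  by_contra h3
  by_cases h4 : (U ⊓ cj g Q0).relIndex U ≤ (cj g U ⊓ Q0).relIndex (cj g U)
  · exact S g v hg h1 h2 h3 h4
  refine S g⁻¹ v (fun h => hg (inv_mem_iff.1 h)) h2 (by rwa [inv_inv]) (fun h => ?_) ?_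
  · rw [inf_eq_left.2 (le_cj h), relIndex_self] at h4
    have := ne0 (cj g U ⊓ Q0) (cj g U)
    omega
  · rw [relIndex_inf_cj, ← relIndex_inf_cj g⁻¹, inv_inv]
    omega

end H83.DPW
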