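import Cfsg.Agent.H14.FESpec

/-! Tower FE (row S1308), slot `KEY`. -/

set_option autoImplicit false

namespace H83.FE

open Cfsg Subgroup MulAction H14 H98 H1.Gold H31.S2 H14.GC H14.FE

universe u

variable {G : Type u} [Group G] [Finite G] {A B B' P : Subgroup G} {d e g : G}

omit [Finite G] in
theorem vx_cj (h : Vx A B) (g : G) : Vx A (cj g B) := by
  obtain ⟨k, rfl⟩ := h
  refine ⟨g * k, Subgroup.ext fun x => ?_⟩
  simp only [mem_cj, mul_inv_rev, mul_assoc]

/-- an element commuting with an involution of a vertex normalises the vertex -/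
theorem mem_nor (h : MN A) (hB : Vx A B) (hd : d ∈ B) (hi : Inv d) (hc : g * d = d * g) :
    g ∈ nor B := by
  by_contra hn
  refine h.ti B (cj g B) hB (vx_cj hB g) (fun e => hn (mem_normalizer_of_cj_le e.ge)) d
    ⟨hd, mem_cj.2 ?_⟩ hi
  rwa [mul_assoc, ← hc, inv_mul_cancel_left]

/-- involutions of distinct vertices in a common 2-subgroup commute -/
theorem comm (h : MC A) (hB : Vx A B) (hB' : Vx A B') (hne : B ≠ B') (hd : d ∈ B) (he : e ∈ B')
    (hi : Inv d) (hi' : Inv e) (hP : IsPGroup 2 P) (hdP : d ∈ P) (heP : e ∈ P) : d * e = e * d := by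
  have h1 := h.f3 B B' hB hB' d hd e he hi hi' P hP hdP heP hd
  have h2 := h.f3 B' B hB' hB e he d hd hi' hi P hP heP hdP he
  have m1 : d * e * d⁻¹ * e⁻¹ ∈ B' := B'.mul_mem (conj_mem_of_mem_normalizer h1 he) (B'.inv_mem he)
  have m2 : d * e * d⁻¹ * e⁻¹ ∈ B := by
    have := B.mul_mem hd (conj_mem_of_mem_normalizer h2 (B.inv_mem hd))
    simpa only [mul_assoc] using this
  have m3 : d * e * d⁻¹ * e⁻¹ ∈ P :=
    P.mul_mem (P.mul_mem (P.mul_mem hdP heP) (P.inv_mem hdP)) (P.inv_mem heP)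
  have key : ∀ (n : ℕ) (x : G), x ∈ B ⊓ B' → x ^ 2 ^ n = 1 → x = 1 := by
    intro n
    induction n with
    | zero => exact fun x _ hx => by simpa using hx
    | succ n ih =>
      intro x hx e'
      have h3 := ih (x * x) (mul_mem hx hx) (by rw [← sq, ← pow_mul, ← pow_succ', e'])
      by_contra h4
      exact h.ti B B' hB hB' hne x hx ⟨h4, h3⟩
  obtain ⟨n, hn⟩ := hP ⟨_, m3⟩
  have h5 := key n _ ⟨m2, m1⟩ (congrArg Subtype.val hn)
  calc d * e = d * e * d⁻¹ * e⁻¹ * (e * d) := by group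
    _ = e * d := by rw [h5, one_mul]

theorem jobKEY : JobKEY.{u} := by
  intro G _ _ A h B hB r hr hi y yy hy P hP hrP hyP P' hP' hle hmem
  haveI : Fact (Nat.Prime 2) := ⟨Nat.prime_two⟩
  have yi : y⁻¹ = y := inv_eq_of_mul_eq_one_right yy
  have ri : r⁻¹ = r := hi.inv_eq
  have hs : r * (y * r * y) = y * r * y * r := by
    have := comm h hB (vx_cj hB y) (fun e => hy (mem_normalizer_of_cj_le e.ge)) hr (conj_mem_cj hr)
      hi (hi.conj y) hP hrP (P.mul_mem (P.mul_mem hyP hrP) (P.inv_mem hyP))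
    rwa [yi] at this
  obtain ⟨u, hu⟩ : ∃ u, u = r * (y * r * y) := ⟨_, rfl⟩
  rw [← hu] at hle
  have e1 : r * y * r = y * u := by
    rw [hu, hs]
    calc r * y * r = 1 * (r * y * r) := (one_mul _).symm
      _ = y * y * (r * y * r) := by rw [yy]
      _ = _ := by group
  have e2 : r * u * r = u := by
    calc r * u * r = r * r * (y * r * y * r) := by rw [hu]; group
      _ = u := by rw [hi.2, one_mul, ← hs, hu]
  have hC : ∀ g : G, g ∈ cen1 y ⊓ cen1 u ↔ g * y = y * g ∧ g * u = u * g := fun g => by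
    rw [mem_inf, mem_centralizer_singleton_iff, mem_centralizer_singleton_iff]
  have tr : ∀ g x : G, g * (r * x * r) = r * x * r * g → r * g * r⁻¹ * x = x * (r * g * r⁻¹) :=
    fun g x e => by
      calc r * g * r⁻¹ * x = r * (g * (r⁻¹ * x * r)) * r⁻¹ := by group
        _ = r * (r⁻¹ * x * r * g) * r⁻¹ := by rw [ri, e]
        _ = _ := by group
  have rn : r ∈ nor (cen1 y ⊓ cen1 u) := mem_normalizer_of_cj_le (by
    rintro _ ⟨g, hg, rfl⟩
    obtain ⟨h1, h2⟩ := (hC g).1 hg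
    refine (hC _).2 ⟨tr g y ?_, tr g u (by rw [e2, h2])⟩
    rw [e1, ← mul_assoc, h1, mul_assoc, h2, mul_assoc])
  obtain ⟨P₁, h1, h2⟩ := exists_isSyl_le (p := 2) (H := (cen1 y ⊓ cen1 u) ⊔ zpowers r) hi.isPGroup
    le_sup_right
  have h3 := h1.inf_of_le_normalizer le_sup_left
    (h1.le.trans (sup_le le_normalizer (zpowers_le.2 rn)))
  obtain ⟨c, hc, h4⟩ := h3.exists_cj_le hP' hle
  have h5 : VS A P' ≤ cj c⁻¹ (cen1 r) := (closure_le _).2 (by
    rintro d ⟨hd, hdi, B', hB', hdB⟩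
    have m := h4 (conj_mem_cj (g := c) hd)
    refine mem_cj.2 (mem_centralizer_singleton_iff.2 ?_)
    rw [inv_inv]
    refine (comm h hB (vx_cj hB' c) (fun e => hy ?_) hr (conj_mem_cj hdB) hi (hdi.conj c)
      h1.isPGroup (h2 (mem_zpowers r)) m.1).symm
    exact mem_nor h.toMN hB (e ▸ conj_mem_cj hdB) (hdi.conj c) ((hC _).1 m.2).1.symm)
  have h6 := mem_centralizer_singleton_iff.1 (mem_cj.1 (h5 hmem))
  rw [inv_inv, ((hC c).1 hc).1, mul_inv_cancel_right] at h6
  exact hy (mem_nor h.toMN hB hr hi h6)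

end H83.FE
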