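import Cfsg.Agent.H83.FEKey

/-! Tower FE (row S1308), slot `ST`. -/

set_option autoImplicit false

namespace H83.FE

open Cfsg Subgroup MulAction H14 H98 H1.Gold H31.S2 H14.GC H14.FE

universe u

variable {G : Type u} [Group G] {A P P' : Subgroup G} {d g : G}

theorem ds_conj (hd : d ∈ DS A P) (hP : g * d * g⁻¹ ∈ P') : g * d * g⁻¹ ∈ DS A P' := by
  obtain ⟨-, hi, B, hB, hdB⟩ := hd
  exact ⟨hP, hi.conj g, _, vx_cj hB g, conj_mem_cj hdB⟩

theorem ds_cj (g : G) : DS A (cj g P) = MulAut.conj g '' DS A P := by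
  ext d
  constructor
  · intro hd
    refine ⟨g⁻¹ * d * g⁻¹⁻¹, ds_conj hd (by rw [inv_inv]; exact mem_cj.1 hd.1), ?_⟩
    rw [MulAut.conj_apply]
    group
  · rintro ⟨e, he, rfl⟩
    exact ds_conj he (conj_mem_cj he.1)

theorem jobST : JobST.{u} := by
  intro G _ _ A h hc S' hS' y hy X hX hXy
  haveI : Fact (Nat.Prime 2) := ⟨Nat.prime_two⟩
  have h1 : ∀ d ∈ DS A S', ∀ e ∈ DS A S', d * e = e * d := by
    rintro d ⟨hd, hi, B, hB, hdB⟩ e ⟨he, hi', B', hB', heB⟩
    by_cases hBB : B = B'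
    · subst hBB
      exact hc B hB (S' ⊓ B) inf_le_right hS'.isPGroup.to_inf_left d ⟨hd, hdB⟩ e ⟨he, heB⟩ hi.2
    · exact comm h hB hB' hBB hdB heB hi hi' hS'.isPGroup hd he
  have h2 : VS A S' ≤ cen1 y := (closure_le _).2 fun d hd => by
    have h3 : VS A S' ≤ cen1 d := (closure_le _).2 fun e he =>
      mem_centralizer_singleton_iff.2 (h1 e he d hd)
    exact mem_centralizer_singleton_iff.2 (mem_centralizer_singleton_iff.1 (h3 hy)).symm
  have h3 : VS A S' ≤ S' := (closure_le _).2 fun d hd => hd.1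
  obtain ⟨P, hP, hXP⟩ := exists_isSyl_le (p := 2) (H := cen1 y) hX hXy
  obtain ⟨c, hcy, h4⟩ := hP.exists_cj_le (hS'.isPGroup.to_le h3) h2
  obtain ⟨S'', hS'', h5⟩ := exists_isSyl_le (p := 2) (H := ⊤) hP.isPGroup le_top
  refine ⟨S'', hS'', hXP.trans h5, c, hcy, fun d => ?_⟩
  obtain ⟨g, -, h6⟩ := hS'.exists_le_cj hS''.isPGroup le_top
  have h7 : cj g S' = S'' := hS''.eq_of_le (hS'.cj g).isPGroup h6 le_top
  have h8 : MulAut.conj c '' DS A S' = DS A S'' := by
    refine Set.eq_of_subset_of_ncard_le ?_ ?_ (Set.toFinite _)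
    · rintro _ ⟨e, he, rfl⟩
      exact ds_conj he (h5 (h4 (conj_mem_cj (subset_closure he))))
    · rw [← h7, ds_cj, Set.ncard_image_of_injective _ (MulAut.conj g).injective,
        Set.ncard_image_of_injective _ (MulAut.conj c).injective]
  rw [← h8]
  constructor
  · rintro ⟨e, he, rfl⟩
    rw [MulAut.conj_apply]
    convert he using 1
    group
  · intro hd
    refine ⟨_, hd, ?_⟩
    rw [MulAut.conj_apply]
    group

end H83.FE
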