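/- Tower ND (S4780), job Ab4: the end of the case `N / L` abelian. -/
import Cfsg.Agent.H23.NDSpec
import Cfsg.Agent.H5.ThompsonFpf
import Cfsg.Agent.H2.Fitting

set_option autoImplicit false

open Cfsg H28 H93.DG H23.ND

namespace H83.ND

universe u

variable {G : Type u} [Group G] [Finite G]

/-- A fixed point free action passes to sections. -/
theorem fpf_sec {M K : Subgroup G} [hK : K.Normal] (hKM : K ≤ M) {c : G}
    (hc : ∀ y ∈ M, c * y = y * c → y = 1) {a : G} (ha : a ∈ M) (h : a⁻¹ * (c * a * c⁻¹) ∈ K) :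
    a ∈ K := by
  let f : K → K := fun y => ⟨y.1 * (c * y.1⁻¹ * c⁻¹), mul_mem y.2 (hK.conj_mem _ (inv_mem y.2) c)⟩
  have hf : Function.Injective f := fun y z e => by
    have e1 : y.1 * (c * y.1⁻¹ * c⁻¹) = z.1 * (c * z.1⁻¹ * c⁻¹) := congrArg Subtype.val e
    have := hc (z.1⁻¹ * y.1) (hKM (mul_mem (inv_mem z.2) y.2)) (by
      calc c * (z.1⁻¹ * y.1) = z.1⁻¹ * (z.1 * (c * z.1⁻¹ * c⁻¹)) * c * y.1 := by group
        _ = z.1⁻¹ * (y.1 * (c * y.1⁻¹ * c⁻¹)) * c * y.1 := by rw [e1]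
        _ = z.1⁻¹ * y.1 * c := by group)
    exact Subtype.ext (inv_mul_eq_one.1 this).symm
  obtain ⟨y, hy⟩ := Finite.surjective_of_injective hf ⟨_, h⟩
  have e1 : y.1 * (c * y.1⁻¹ * c⁻¹) = a⁻¹ * (c * a * c⁻¹) := congrArg Subtype.val hy
  have := hc (a * y.1) (mul_mem ha (hKM y.2)) (by
    calc c * (a * y.1) = a * (a⁻¹ * (c * a * c⁻¹)) * c * y.1 := by group
      _ = a * (y.1 * (c * y.1⁻¹ * c⁻¹)) * c * y.1 := by rw [e1]
      _ = a * y.1 * c := by group)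
  rw [eq_inv_of_mul_eq_one_left this]
  exact inv_mem y.2

theorem nilp {M Γ : Subgroup G} [M.Normal] {B : Subgroup Γ} [hB : B.Normal]
    (ab : ∀ a ∈ B, ∀ b ∈ B, a * b = b * a)
    (fq : ∀ g, g ∉ B → ∀ b ∈ B, g * b * g⁻¹ * b⁻¹ ∈ Subgroup.center Γ → b ∈ Subgroup.center Γ)
    (bt : B ≠ ⊤) (ne : ¬ B ≤ Subgroup.center Γ)
    (fp : ∀ b ∈ B, b ∉ Subgroup.center Γ → ∀ y ∈ M, (b : G) * y = y * b → y = 1) :
    Group.IsNilpotent M := by
  obtain ⟨g, -, hg⟩ := SetLike.exists_of_lt (lt_top_iff_ne_top.2 bt)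
  obtain ⟨b, hb, hbz⟩ := SetLike.not_le_iff_exists.1 ne
  have hw : g * b * g⁻¹ * b⁻¹ ∈ B := mul_mem (hB.conj_mem b hb g) (inv_mem hb)
  have hc : Commute (g * b * g⁻¹) b⁻¹ := ab _ (hB.conj_mem b hb g) _ (inv_mem hb)
  refine H5.isNilpotent_of_fpf_subgroup (H := Subgroup.zpowers ((g * b * g⁻¹ * b⁻¹ : Γ) : G))
    (fun e => hbz (fq g hg b hb ?_)) Subgroup.le_normalizer_of_normal ?_
  · rw [show g * b * g⁻¹ * b⁻¹ = 1 from Subtype.ext (Subgroup.zpowers_eq_bot.1 e)]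
    exact one_mem _
  · rintro _ ⟨k, rfl⟩ h1
    have e : (g * b * g⁻¹ * b⁻¹) ^ k = g * b ^ k * g⁻¹ * (b ^ k)⁻¹ := by
      rw [hc.mul_zpow, conj_zpow, inv_zpow]
    have hz : (g * b * g⁻¹ * b⁻¹) ^ k ∉ Subgroup.center Γ := fun hz => h1 (by
      have := fq g hg _ (zpow_mem hb k) (e ▸ hz)
      change (((g * b * g⁻¹ * b⁻¹) ^ k : Γ) : G) = 1
      rw [e, Subgroup.mem_center_iff.1 this g]
      simp)
    rw [eq_bot_iff]
    rintro y ⟨hy, hy'⟩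
    exact fp _ (zpow_mem hw k) hz y hy (Subgroup.mem_centralizer_singleton_iff.1 hy').symm

theorem jobAb4 (CW : JobCW.{u}) : JobAb4.{u} := by
  intro G _ _ M Γ hM B hB ab fq bt ne fp hlt hcen
  by_contra h0
  have nil := nilp ab fq bt ne fp
  have l2 : ⁅M, M⁆ ≤ M := Subgroup.commutator_le_left M M
  have l3 : ⁅⁅M, M⁆, M⁆ ≤ ⁅M, M⁆ := Subgroup.commutator_le_left _ _
  have n3 : ¬ ⁅M, M⁆ ≤ ⁅⁅M, M⁆, M⁆ := fun h => h0 (H2.eq_bot_of_le_commutator_of_isNilpotent l2 h)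
  have n2 : ¬ M ≤ ⁅M, M⁆ := fun h => n3 (Subgroup.commutator_mono h le_rfl)
  have c3 : ⁅M, ⁅M, M⁆⁆ ≤ ⁅⁅M, M⁆, M⁆ := (Subgroup.commutator_comm _ _).le
  haveI : Fact (⁅M, M⁆ ≤ ⁅M, M⁆) := ⟨le_rfl⟩
  haveI : Fact (⁅⁅M, M⁆, ⁅M, M⁆⁆ ≤ ⁅⁅M, M⁆, M⁆) := ⟨Subgroup.commutator_mono le_rfl l2⟩
  obtain ⟨β, hβ⟩ := bil (A := M) (A' := ⁅M, M⁆) (B := M) (B' := ⁅M, M⁆) (D := ⁅M, M⁆)
    (D' := ⁅⁅M, M⁆, M⁆) le_rfl (Subgroup.commutator_mono inf_le_left le_rfl)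
    ((Subgroup.commutator_mono le_rfl inf_le_left).trans c3) c3 c3
  haveI := Sec.nontrivial (A := M) (A' := ⁅M, M⁆) n2
  have mc : ∀ z : M, z ∈ commutator M ↔ z.1 ∈ ⁅M, M⁆ := fun z => by
    rw [← Subgroup.map_subtype_commutator]
    exact (Subgroup.mem_map_iff_mem M.subtype_injective).symm
  have hcw := CW (Sec M ⁅M, M⁆) (Sec ⁅M, M⁆ ⁅⁅M, M⁆, M⁆) β
    (fun s => by
      obtain ⟨x, hx, rfl⟩ := Sec.surj s
      rw [hβ, Sec.mk_zero]
      simp)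
    (fun s hs t => by
      obtain ⟨x, hx, rfl⟩ := Sec.surj s
      obtain ⟨a, ha, rfl⟩ := Sec.surj t
      by_contra hna
      let J : Subgroup M :=
        { carrier := {z | ∃ hz : z.1 ∈ ⁅M, M⁆,
            Sec.mk ⁅M, M⁆ ⁅⁅M, M⁆, M⁆ z.1 hz ∈ (β (Sec.mk M ⁅M, M⁆ x hx)).range}
          one_mem' := ⟨one_mem _, zero_mem _⟩
          mul_mem' := fun ⟨h1, k1⟩ ⟨h2, k2⟩ => ⟨mul_mem h1 h2, add_mem k1 k2⟩
          inv_mem' := fun ⟨h1, k1⟩ => ⟨inv_mem h1, neg_mem k1⟩ }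
      haveI : J.Normal := ⟨fun z ⟨h1, k1⟩ m =>
        ⟨(inferInstance : (⁅M, M⁆).Normal).conj_mem _ h1 m.1, by
          rw [(Sec.mk_eq _ h1).2 (by
            have := c3 (Subgroup.commutator_mem_commutator m.2 (inv_mem h1))
            convert this using 1
            simp only [commutatorElement_def, Subgroup.coe_mul, Subgroup.coe_inv]
            group)]
          exact k1⟩⟩
      obtain ⟨θ, hθ, hJ, haθ⟩ := exists_irr_le_charKer_not_mem J (g := ⟨a, l2 ha⟩)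
        fun ⟨_, k1⟩ => hna k1
      have hd : charDegree θ ≠ 1 := fun e => haθ (hθ.degree_one_iff.1
        (by rw [← hθ.cast_charDegree, e, Nat.cast_one]) ((mc _).2 ha))
      refine hs ((Sec.mk_zero hx).2 ((mc ⟨x, hx⟩).1 (hcen θ hθ hd
        (hθ.mem_charCenter_iff_commutator.2 fun y => hJ ?_))))
      exact ⟨Subgroup.commutator_mem_commutator hx y.2, ⟨_, hβ x hx y.1 y.2⟩⟩)
  have hV : Nat.card (Sec M ⁅M, M⁆) = Nat.card (Lin M) := by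
    rw [Sec.card, card_lin, ← Subgroup.map_subtype_commutator, Subgroup.relIndex,
      Subgroup.subgroupOf, Subgroup.comap_map_eq_self_of_injective M.subtype_injective]
  obtain ⟨a, ha, ha3⟩ := SetLike.not_le_iff_exists.1 n3
  let f : B ⧸ (Subgroup.center Γ).subgroupOf B → Sec ⁅M, M⁆ ⁅⁅M, M⁆, M⁆ := fun s =>
    Sec.mk _ _ ((s.out.1 : G) * a * (s.out.1 : G)⁻¹)
      ((inferInstance : (⁅M, M⁆).Normal).conj_mem _ ha _)
  have hf : Function.Injective f := fun s t e => by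
    rw [← s.out_eq', ← t.out_eq', QuotientGroup.eq, Subgroup.mem_subgroupOf]
    by_contra hz
    refine ha3 (fpf_sec (l3.trans l2) (fp _ (s.out⁻¹ * t.out).2 hz) (l2 ha) ?_)
    have := (inferInstance : (⁅⁅M, M⁆, M⁆).Normal).conj_mem' _ ((Sec.mk_eq _ _).1 e) (s.out.1 : G)
    convert this using 1
    simp only [Subgroup.coe_mul, Subgroup.coe_inv]
    group
  have h1 : (Subgroup.center Γ).relIndex B ≤ Nat.card (Sec ⁅M, M⁆ ⁅⁅M, M⁆, M⁆) :=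
    Nat.card_le_card_of_injective f hf
  have h2 := Nat.pow_le_pow_left h1 2
  omega

end H83.ND
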