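import Cfsg.Agent.H88.Sharp3b
import Cfsg.Agent.S0051

/-! Abstract lemmas for the complement in the normaliser of `M` (job Sg3 of `LOCAL3C.md`). -/

set_option autoImplicit false

namespace H83.P4

open MulAction Subgroup

/-- A permutation group on the projective line whose point stabiliser is the affine group. -/
theorem pgl_of_affine {F R : Type*} [Field F] [Fintype F] [Group R] [Finite R]
    [MulAction R (Option F)] [FaithfulSMul R (Option F)]
    (ex : ∀ (b : F) (l : Fˣ), ∃ g : R, g • (none : Option F) = none ∧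
      ∀ x, g • some x = some (b + l * x))
    (aff : ∀ g : R, g • (none : Option F) = none →
      ∃ (b : F) (l : Fˣ), ∀ x, g • some x = some (b + l * x))
    (sw : ∃ g : R, g • (none : Option F) ≠ none) :
    Nonempty (R ≃* Matrix.ProjGenLinGroup (Fin 2) F) := by
  classical
  have tr : ∀ i : Option F, ∃ g : R, g • none = i := by
    rintro (_ | x)
    · exact ⟨1, one_smul _ _⟩
    obtain ⟨g, e⟩ := sw
    obtain ⟨y, hy⟩ := Option.ne_none_iff_exists'.1 e
    obtain ⟨t, -, e⟩ := ex (x - y) 1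
    exact ⟨t * g, by simp [mul_smul, hy, e]⟩
  let x₀ : Fin 3 ↪ Option F := ⟨![none, some 0, some 1], fun i j => by
    fin_cases i <;> fin_cases j <;> simp⟩
  have key : ∀ x : Fin 3 ↪ Option F, ∃ g : R, g • x₀ = x := fun x => by
    obtain ⟨g, e⟩ := tr (x 0)
    have n : ∀ i, i ≠ 0 → ∃ a, g⁻¹ • x i = some a := fun i hi =>
      Option.ne_none_iff_exists'.1 fun k => hi (x.injective (by rw [← e, ← k, smul_inv_smul]))
    obtain ⟨a, ha⟩ := n 1 (by decide)
    obtain ⟨c, hc⟩ := n 2 (by decide)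
    have ac : c - a ≠ 0 := fun k => absurd (x.injective (MulAction.injective g⁻¹
      (by simp only [ha, hc, sub_eq_zero.1 k]) : x 1 = x 2)) (by decide)
    obtain ⟨t, t0, t1⟩ := ex a (Units.mk0 _ ac)
    refine ⟨g * t, Function.Embedding.ext fun i => ?_⟩
    change (g * t) • x₀ i = x i
    rw [mul_smul]
    fin_cases i
    · exact (congrArg (g • ·) t0).trans e
    · change g • t • some 0 = x 1
      rw [t1, mul_zero, add_zero, ← ha, smul_inv_smul]
    · change g • t • some 1 = x 2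
      rw [t1, mul_one, Units.val_mk0, add_sub_cancel, ← hc, smul_inv_smul]
  have h3 : IsMultiplyPretransitive R (Option F) 3 := ⟨fun x y => by
    obtain ⟨g, rfl⟩ := key x
    obtain ⟨k, rfl⟩ := key y
    exact ⟨k * g⁻¹, by rw [mul_smul, inv_smul_smul]⟩⟩
  have h0 : stabilizer R x₀ = ⊥ := eq_bot_iff.2 fun g hg => by
    have e : ∀ i, g • x₀ i = x₀ i := fun i => congrArg (fun x : Fin 3 ↪ Option F => x i) hg
    obtain ⟨b, l, k⟩ := aff g (e 0)
    have e1 : g • some (0 : F) = some 0 := e 1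
    have e2 : g • some (1 : F) = some 1 := e 2
    have b0 : b = 0 := by simpa [k] using e1
    have l1 : (l : F) = 1 := by simpa [b0, k] using e2
    refine eq_of_smul_eq_smul (α := Option F) ?_
    rintro (_ | x)
    · exact (e 0).trans (one_smul _ _).symm
    · simp [k, b0, l1]
  have hs : ∀ x : Fin 3 ↪ Option F, stabilizer R x = ⊥ := fun x => by
    obtain ⟨g, rfl⟩ := key x
    rw [stabilizer_smul_eq_stabilizer_map_conj, h0, Subgroup.map_bot]
  have hc : Nat.card (Option F) = Fintype.card F + 1 := by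
    rw [Nat.card_eq_fintype_card, Fintype.card_option]
  have hZ := H88.preZ_of_sharp_three h3 hs (by have := Fintype.one_lt_card (α := F); omega)
  have ab : (none : Option F) ≠ some 0 := by simp
  refine H88.preZ_nonempty_equiv_pgl_of_comm hZ ab (H88.preZ_card_of_three_trans hZ h3 ab)
    (fun g hg k hk => ?_) F hc.symm
  have g0 : g • (none : Option F) = none := hg.1
  have k0 : k • (none : Option F) = none := hk.1
  obtain ⟨b, l, e⟩ := aff g g0
  obtain ⟨c, m, f⟩ := aff k k0
  have b0 : b = 0 := by simpa using (e 0).symm.trans hg.2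
  have c0 : c = 0 := by simpa using (f 0).symm.trans hk.2
  refine eq_of_smul_eq_smul (α := Option F) ?_
  rintro (_ | x)
  · simp only [mul_smul, g0, k0]
  · simp only [mul_smul, e, f, b0, c0, zero_add, mul_left_comm]

/-- A central kernel which splits off in a subgroup of coprime index is a direct factor. -/
theorem prod_of_central {X Y : Type*} [Group X] [Finite X] [Group Y] (ρ : X →* Y)
    (hc : ρ.ker ≤ center X) {U A : Subgroup X} (hU : ρ.ker ≤ U)
    (hcop : (Nat.card ρ.ker).Coprime U.index) (hA : A ≤ U) (h1 : A ⊓ ρ.ker = ⊥)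
    (h2 : ρ.ker ⊔ A = U) : Nonempty (X ≃* ρ.range × ρ.ker) := by
  have : IsMulCommutative ρ.ker := ⟨⟨fun a b => Subtype.ext (mem_center_iff.1 (hc b.2) a)⟩⟩
  obtain ⟨T, hT⟩ := Cfsg.Agent.S0051.result ρ.ker U hU hcop A hA h1 h2
  let f : T × ρ.ker →* X := T.subtype.noncommCoprod ρ.ker.subtype fun a b =>
    mem_center_iff.1 (hc b.2) a
  have hf : Function.Bijective f := hT.symm
  exact ⟨(MulEquiv.ofBijective f hf).symm.trans (MulEquiv.prodCongr
    (hT.symm.QuotientMulEquiv.symm.trans (QuotientGroup.quotientKerEquivRange ρ))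
    (MulEquiv.refl _))⟩

theorem quot_prod {N Y F : Type*} [Group N] [Finite N] [Group Y] [Field F] [Fintype F]
    (h2 : (-1 : Fˣ) ≠ 1) (M : Subgroup N) [M.Normal] (ρ : N →* Y) (hM : M ≤ ρ.ker) (a : Fˣ →* N)
    (ha : ∀ l, ρ (a l) = 1) (hk : ∀ k, ρ k = 1 → ∃ m ∈ M, ∃ l, k = m * a l)
    (h1 : ∀ l, a l ∈ M ↔ l = 1 ∨ l = -1) (hc : ∀ g l, g * a l * g⁻¹ * (a l)⁻¹ ∈ M)
    {S T : Subgroup N} (hS : ρ.ker ≤ S) (hT : M ≤ T) (hTS : T ≤ S) (hTK : T ⊓ ρ.ker ≤ M)
    (hKT : S ≤ ρ.ker ⊔ T) (hcop : ((Fintype.card F - 1) / 2).Coprime S.index) :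
    Nonempty (N ⧸ M ≃* ρ.range × Multiplicative (ZMod ((Fintype.card F - 1) / 2))) := by
  classical
  let π := QuotientGroup.mk' M
  have sj : Function.Surjective π := QuotientGroup.mk'_surjective M
  have kπ : π.ker = M := QuotientGroup.ker_mk' M
  let σ : N ⧸ M →* Y := QuotientGroup.lift M ρ hM
  have kσ : σ.ker = ρ.ker.map π := QuotientGroup.ker_lift M ρ hM
  have kr : σ.ker = (π.comp a).range := by
    rw [kσ]
    apply le_antisymm
    · rintro _ ⟨k, e, rfl⟩
      obtain ⟨m, hm, l, rfl⟩ := hk k e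
      exact ⟨l, by rw [map_mul, show π m = 1 from (QuotientGroup.eq_one_iff m).2 hm, one_mul]; rfl⟩
    · rintro _ ⟨l, rfl⟩
      exact ⟨a l, ha l, rfl⟩
  have ck : Nat.card σ.ker = (Fintype.card F - 1) / 2 := by
    have e := (π.comp a).ker.card_mul_index
    have k : (π.comp a).ker = zpowers (-1) := by
      ext l
      rw [MonoidHom.mem_ker, MonoidHom.comp_apply, QuotientGroup.mk'_apply,
        QuotientGroup.eq_one_iff, h1]
      constructor
      · rintro (rfl | rfl)
        exacts [one_mem _, mem_zpowers _]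
      · rintro ⟨j, rfl⟩
        exact (Int.even_or_odd j).imp (·.neg_one_zpow) (·.neg_one_zpow)
    have : Fact (Nat.Prime 2) := ⟨Nat.prime_two⟩
    rw [index_ker, k, Nat.card_zpowers, orderOf_eq_prime (neg_one_sq (R := Fˣ)) h2,
      ← kr, Nat.card_units, Nat.card_eq_fintype_card (α := F)] at e
    omega
  obtain ⟨e⟩ := prod_of_central σ (U := S.map π) (A := T.map π) (by
      rw [kr]
      rintro _ ⟨l, rfl⟩
      refine mem_center_iff.2 fun g => ?_
      obtain ⟨g, rfl⟩ := sj g
      have := (QuotientGroup.eq_one_iff _).2 (hc g l)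
      rw [mul_inv_eq_iff_eq_mul.symm, ← mul_inv_eq_one]
      exact this)
    (kσ ▸ map_mono hS) (by rwa [ck, index_map_eq _ sj (kπ.le.trans (hT.trans hTS))]) (map_mono hTS)
    (by
      rw [kσ, eq_bot_iff]
      rintro _ ⟨⟨t, ht, rfl⟩, k, hk, e⟩
      have m := QuotientGroup.eq.1 e
      exact (QuotientGroup.eq_one_iff t).2 (hTK ⟨ht, (mul_mem_cancel_left (inv_mem hk)).1 (hM m)⟩))
    (by rw [kσ, ← Subgroup.map_sup, le_antisymm (sup_le hS hTS) hKT])
  have : IsCyclic σ.ker := kr ▸ isCyclic_of_surjective _ (π.comp a).rangeRestrict_surjective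
  have r : σ.range = ρ.range := by
    ext y
    exact ⟨fun ⟨x, e⟩ => by obtain ⟨x, rfl⟩ := sj x; exact ⟨x, e⟩, fun ⟨x, e⟩ => ⟨π x, e⟩⟩
  exact ⟨e.trans (MulEquiv.prodCongr (MulEquiv.subgroupCongr r)
    (ck ▸ zmodCyclicMulEquiv this).symm)⟩

end H83.P4
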