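import Cfsg.Agent.H47.P4Sp
import Cfsg.Agent.H83.P4SgA

/-! Job Sg3 of `LOCAL3C.md`: the complement of `M` in its normaliser. -/

set_option autoImplicit false

namespace H83.P4

open Subgroup H47.P4C H56.L3

universe u v

variable {G : Type u} [Group G] {F : Type v} [Field F] {h : F → F → F → G} {ι : SL2 F →* G}
  (κ : Cen h ι)

include κ

theorem coord_ext {a b c a' b' c' : F} {A A' : SL2 F} (e : h a b c * ι A = h a' b' c' * ι A') :
    b = b' ∧ A = A' := by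
  have := κ.inj _ _ _ (A * A'⁻¹) (by
    rw [← κ.mul (-a') (-b') (-c') a b c, ← κ.inv, map_mul, map_inv, mul_assoc, ← mul_assoc (h a b c),
      e]
    group)
  exact ⟨(neg_add_eq_zero.1 this.2.1).symm, mul_inv_eq_one.1 this.2.2.2⟩

/-- the elements `y_b` -/
def yH : Multiplicative F →* G :=
  MonoidHom.mk' (fun b => h 0 b.toAdd 0) fun a b => by rw [κ.mul]; simp

theorem y_add (a b : F) : h 0 a 0 * h 0 b 0 = h 0 (a + b) 0 := by rw [κ.mul]; simp

theorem y_mem (b : F) : h 0 b 0 ∈ κ.P := ⟨0, b, 0, 0, by rw [uM_zero, map_one, mul_one]⟩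

theorem y_zero {b : F} (hb : h 0 b 0 ∈ κ.M) : b = 0 := by
  obtain ⟨a, c, s, e⟩ := hb
  exact (coord_ext κ (A := 1) (((congrArg _ (map_one ι)).trans (mul_one _)).trans e)).1

theorem M_le_P : κ.M ≤ κ.P := fun _ ⟨a, c, s, e⟩ => ⟨a, 0, c, s, e⟩

theorem P_le_C : κ.P ≤ κ.C := fun _ ⟨a, b, c, _, e⟩ => ⟨a, b, c, _, e⟩

theorem D_le_M : κ.D ≤ κ.M := fun _ ⟨c, s, e⟩ => ⟨0, c, s, e⟩

theorem d_mem (l : Fˣ) : ι (dM l) ∈ κ.C := ⟨0, 0, 0, _, by rw [κ.one, one_mul]⟩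

theorem C_comm {g : G} (hg : g ∈ κ.C) (c : F) : g * h 0 0 c = h 0 0 c * g := by
  by_cases hc : c = 0
  · rw [hc, κ.one, mul_one, one_mul]
  · exact mem_centralizer_singleton_iff.1 ((κ.cen c hc g).2 hg)

theorem C_le : κ.C ≤ Nr κ.Z := fun _ hg => centralizer_le_normalizer _ (by
  rintro _ ⟨c, rfl⟩
  exact (C_comm κ hg c).symm)

theorem P_dec {u : G} (hu : u ∈ κ.P) : ∃ b, ∃ m ∈ κ.M, u = h 0 b 0 * m := by
  obtain ⟨a, b, c, s, rfl⟩ := hu
  exact ⟨b, _, ⟨a, c + a * b, s, rfl⟩, by rw [← mul_assoc, κ.mul]; simp⟩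

theorem d_conj (l : Fˣ) (a b c : F) :
    ι (dM l) * h a b c = h (l * a) ((l⁻¹ : Fˣ) * b) c * ι (dM l) := by
  rw [κ.comm]; simp [dM]

omit κ in
theorem dM_uM (l : Fˣ) (s : F) : dM l * uM s = uM (l ^ 2 * s) * dM l := by
  ext i j; rw [Matrix.SpecialLinearGroup.coe_mul, Matrix.SpecialLinearGroup.coe_mul]
  fin_cases i <;> fin_cases j <;> simp [dM, uM, Matrix.mul_apply, Fin.sum_univ_two]
  field_simp

omit κ in
theorem dM_neg : dM (-1 : Fˣ) = -1 := by
  ext i j; fin_cases i <;> fin_cases j <;> simp [dM]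

theorem d_nM [Finite G] (l : Fˣ) : ι (dM l) ∈ Nr κ.M := mem_normalizer_fintype (by
  rintro _ ⟨a, c, s, rfl⟩
  refine ⟨l * a, c, l ^ 2 * s, ?_⟩
  rw [← mul_assoc, d_conj κ, mul_zero, mul_assoc (h _ _ _), ← map_mul, dM_uM, map_mul, ← mul_assoc,
    mul_inv_cancel_right])

variable [Fintype F] {p : ℕ} {κ} {n : G}

theorem P_le (L : Loc κ p) : κ.P ≤ Nr κ.M := le_normalizer.trans (L.nP.trans inf_le_left)

theorem y_sep (hp : (p : F) = 0) (L : Loc κ p) (W : Om κ n) {c : F}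
    (hc : n⁻¹ * h 0 c 0 * n ∈ Nr κ.Z) : c = 0 := by
  by_contra c0
  have h1 := L.pel _ (mem_inf.2
    ⟨mul_mem (mul_mem (inv_mem W.nM) (P_le L (y_mem κ c))) W.nM, hc⟩) 1 (by
    have : h 0 c 0 ^ p = 1 := by
      change yH κ (Multiplicative.ofAdd c) ^ p = 1
      rw [← map_pow, ← ofAdd_nsmul, nsmul_eq_mul, hp, zero_mul, ofAdd_zero, map_one]
    rw [pow_one, ← inv_inv n, inv_inv n⁻¹, conj_pow, this, mul_one, mul_inv_cancel])
  have h2 := C_comm κ (P_le_C κ h1) 1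
  obtain ⟨y, hy⟩ := L.cMu _ (y_mem κ c) (fun k => c0 (y_zero κ k)) _ (D_le_M κ (W.ZD 1)) (by
    calc _ = n * (n⁻¹ * h 0 c 0 * n * h 0 0 1) * n⁻¹ := by group
      _ = _ := by rw [h2]; group)
  exact W.nZ (L.ti n 1 y one_ne_zero hy)

/-- coset representatives -/
def rp (h : F → F → F → G) (n : G) : Option F → G
  | none => 1
  | some b => h 0 b 0 * n

theorem rp_mem (L : Loc κ p) (W : Om κ n) : ∀ i, rp h n i ∈ Nr κ.M
  | none => one_mem _
  | some b => mul_mem (P_le L (y_mem κ b)) W.nM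

theorem exists_rho (hp : (p : F) = 0) (L : Loc κ p) (W : Om κ n) :
    ((Nr κ.Z).subgroupOf (Nr κ.M)).index = Fintype.card F + 1 ∧
    ∃ ρ : Nr κ.M →* Equiv.Perm (Option F), ∀ g i j,
      ρ g i = j ↔ (rp h n j)⁻¹ * g * rp h n i ∈ Nr κ.Z := by
  let e : Option F → Nr κ.M ⧸ (Nr κ.Z).subgroupOf (Nr κ.M) := fun i =>
    QuotientGroup.mk ⟨_, rp_mem L W i⟩
  have yZ : ∀ b, h 0 b 0 ∈ Nr κ.Z := fun b => C_le κ (P_le_C κ (y_mem κ b))
  have he : Function.Bijective e := ⟨fun i j k => by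
      have k' := QuotientGroup.eq.1 k
      have k : (rp h n i)⁻¹ * rp h n j ∈ Nr κ.Z := k'
      rcases i with _ | a <;> rcases j with _ | b
      · rfl
      · exact absurd ((mul_mem_cancel_left (yZ b)).1 (by simpa [rp] using k)) W.nZ
      · exact absurd ((mul_mem_cancel_left (yZ a)).1 (by simpa [rp] using inv_mem k)) W.nZ
      · have := y_sep hp L W (c := -a + b) (by
          rw [← y_add κ, show h 0 (-a) 0 = (h 0 a 0)⁻¹ by rw [κ.inv, neg_zero]]
          simpa only [rp, mul_inv_rev, mul_assoc] using k)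
        rw [neg_add_eq_zero.1 this],
    fun x => by
      obtain ⟨g, rfl⟩ := QuotientGroup.mk_surjective x
      rcases W.om g g.2 with k | ⟨b, k⟩
      · exact ⟨none, QuotientGroup.eq.2 (by simpa [rp, mem_subgroupOf] using k)⟩
      · exact ⟨some b, QuotientGroup.eq.2 (by simpa [rp, mem_subgroupOf] using k)⟩⟩
  refine ⟨by rw [index, ← Nat.card_eq_of_bijective e he, Nat.card_eq_fintype_card,
    Fintype.card_option], (Equiv.ofBijective e he).symm.permCongrHom.toMonoidHom.comp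
      (MulAction.toPermHom _ _), fun g i j => ?_⟩
  change (Equiv.ofBijective e he).symm (g • e i) = j ↔ _
  rw [Equiv.symm_apply_eq, eq_comm]
  exact QuotientGroup.eq.trans (by rw [mul_assoc]; rfl)

omit κ in
theorem jobSg3 : JobSg3.{u, v} := by
  intro G _ _ F _ _ p _ h ι κ n hp h4 L W
  classical
  obtain ⟨hi, ρ, hρ⟩ := exists_rho hp L W.toOm
  have ni : n⁻¹ = n := inv_eq_of_mul_eq_one_right W.nn
  let Y : F → Nr κ.M := fun b => ⟨h 0 b 0, P_le L (y_mem κ b)⟩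
  let d : Fˣ →* Nr κ.M := MonoidHom.mk' (fun l => ⟨ι (dM l), d_nM κ l⟩) fun a b =>
    Subtype.ext ((congrArg ι (dM_mul a b).symm).trans (map_mul ι _ _))
  let ν : Nr κ.M := ⟨n, W.nM⟩
  let d' : Fˣ →* Nr κ.M := (MulAut.conj ν).toMonoidHom.comp d
  have dd : ∀ l k, d l * d' k = d' k * d l := fun l k => Subtype.ext (W.HH l k)
  have r0 : ∀ g, ρ g none = none ↔ (g : G) ∈ Nr κ.Z := fun g => by simp [hρ, rp]
  have rY : ∀ b x, ρ (Y b) (some x) = some (b + x) := fun b x => (hρ _ _ _).2 (by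
    change (h 0 _ 0 * n)⁻¹ * h 0 b 0 * (h 0 x 0 * n) ∈ _
    rw [mul_assoc, ← mul_assoc (h 0 b 0), y_add κ, inv_mul_cancel]
    exact one_mem _)
  have rd : ∀ l x, ρ (d l) (some x) = some ((l⁻¹ : Fˣ) * x) := fun l x => (hρ _ _ _).2 (by
    have := W.HZ l
    change (h 0 _ 0 * n)⁻¹ * ι (dM l) * (h 0 x 0 * n) ∈ _
    rw [mul_assoc, ← mul_assoc (ι _), d_conj κ, mul_zero, mul_inv_rev, mul_assoc, mul_assoc,
      inv_mul_cancel_left, ← mul_assoc, ni]
    rwa [ni] at this)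
  have rM : ∀ m : Nr κ.M, (m : G) ∈ κ.M → ρ m = 1 := fun m hm => Equiv.ext fun i =>
    (hρ _ _ _).2 (C_le κ (P_le_C κ (M_le_P κ (by
      simpa using (mem_normalizer_iff.1 (inv_mem (rp_mem L W.toOm i)) _).1 hm))))
  have d0 : ∀ l, ρ (d l) none = none := fun l => (r0 _).2 (C_le κ (d_mem κ l))
  have di : ∀ l, ρ (d l) = 1 → l = 1 := fun l e => by
    have := rd l 1
    rw [e] at this
    simpa [eq_comm] using this
  have hμ : ∀ l, ∃ k, ρ (d' l * d k) = 1 := fun l => by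
    have e0 : ρ (d' l) none = none := (r0 _).2 (W.HZ l)
    have e1 : ρ (d' l) (some 0) = some 0 := (hρ _ _ _).2 (by
      change (h 0 0 0 * n)⁻¹ * (n * ι (dM l) * n⁻¹) * (h 0 0 0 * n) ∈ _
      simpa [κ.one, mul_assoc] using C_le κ (d_mem κ l))
    obtain ⟨c, hc⟩ := Option.ne_none_iff_exists'.1
      (fun k : ρ (d' l) (some 1) = none => by simpa using (ρ (d' l)).injective (k.trans e0.symm))
    have c0 : c ≠ 0 := fun k => by
      rw [k] at hc
      simpa using (ρ (d' l)).injective (hc.trans e1.symm)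
    refine ⟨Units.mk0 c c0, Equiv.ext ?_⟩
    rintro (_ | x)
    · rw [map_mul, Equiv.Perm.mul_apply, d0, e0]; rfl
    by_cases x0 : x = 0
    · rw [map_mul, Equiv.Perm.mul_apply, rd, x0, mul_zero, e1]; rfl
    have e2 : some x = ρ (d (Units.mk0 x x0)⁻¹) (some 1) := by rw [rd]; simp
    rw [← dd, Equiv.Perm.one_apply, e2, ← Equiv.Perm.mul_apply, ← map_mul, mul_assoc, ← dd,
      map_mul, map_mul, Equiv.Perm.mul_apply, Equiv.Perm.mul_apply, hc, rd, rd, rd]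
    simp [c0, mul_left_comm]
  choose μ hμ using hμ
  have μu : ∀ l k, ρ (d' l * d k) = 1 → μ l = k := fun l k e => by
    refine mul_inv_eq_one.1 (di _ ?_)
    have := (hμ l).trans e.symm
    rw [map_mul, map_mul, mul_right_inj] at this
    rw [map_mul, map_mul, this, ← map_mul, ← map_mul, mul_inv_cancel, map_one, map_one]
  have sw : ∀ l l' k k', d' l * d k * (d' l' * d k') = d' (l * l') * d (k * k') := by
    intro l l' k k'
    rw [mul_assoc, ← mul_assoc (d k), dd, map_mul, map_mul]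
    simp only [mul_assoc]
  let a : Fˣ →* Nr κ.M := MonoidHom.mk' (fun l => d' l * d (μ l)) fun l l' => by
    rw [sw, μu _ (μ l * μ l') (by rw [← sw, map_mul, hμ, hμ, mul_one])]
  have ha : ∀ l, ρ (a l) = 1 := hμ
  have decC : ∀ g : Nr κ.M, (g : G) ∈ κ.C → ∃ m : Nr κ.M, (m : G) ∈ κ.M ∧ ∃ b l,
      g = Y b * m * d l := fun g hg => by
    obtain ⟨u, hu, l, e⟩ := L.nCM g ⟨hg, g.2⟩
    obtain ⟨b, m, hm, rfl⟩ := P_dec κ hu
    exact ⟨⟨m, le_normalizer hm⟩, hm, b, l, Subtype.ext e⟩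
  have decS : ∀ g : Nr κ.M, (g : G) ∈ Nr κ.Z → ∃ c : Nr κ.M, (c : G) ∈ κ.C ∧ ∃ l, g = c * a l := by
    intro g hg
    obtain ⟨c, hc, l, e⟩ := W.NZ g hg
    refine ⟨g * (a l)⁻¹, ?_, l, by rw [inv_mul_cancel_right]⟩
    change (g : G) * (n * ι (dM l) * n⁻¹ * ι (dM (μ l)))⁻¹ ∈ κ.C
    rw [← W.HH, mul_inv_rev, e, mul_assoc, mul_inv_cancel_left]
    exact mul_mem hc (inv_mem (d_mem κ _))
  have rC : ∀ (m : Nr κ.M) b l x, (m : G) ∈ κ.M →
      ρ (Y b * m * d l) (some x) = some (b + (l⁻¹ : Fˣ) * x) := fun m b l x hm => by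
    rw [map_mul, map_mul, rM m hm, mul_one, Equiv.Perm.mul_apply, rd, rY]
  have KC : ∀ g : Nr κ.M, (g : G) ∈ κ.C → ρ g = 1 → (g : G) ∈ κ.M := fun g hg e => by
    obtain ⟨m, hm, b, l, rfl⟩ := decC g hg
    have b0 : b = 0 := by simpa [e, eq_comm] using rC m b l 0 hm
    have l1 : l = 1 := by
      have := rC m b l 1 hm
      rw [e, b0] at this
      simpa [eq_comm] using this
    simpa [b0, l1, Y, κ.one] using hm
  let M' := κ.M.subgroupOf (Nr κ.M)
  have hk : ∀ k, ρ k = 1 → ∃ m ∈ M', ∃ l, k = m * a l := fun k e => by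
    obtain ⟨c, hc, l, rfl⟩ := decS k ((r0 k).1 (by rw [e]; rfl))
    exact ⟨c, KC c hc (by rwa [map_mul, ha, mul_one] at e), l, rfl⟩
  let π := QuotientGroup.mk' M'
  have : (ρ.ker.map π).Normal := Normal.map inferInstance π (QuotientGroup.mk'_surjective _)
  let V : Subgroup (Nr κ.M) := (centralizer (ρ.ker.map π : Set _)).comap π
  have nV : V.Normal := inferInstance
  have mV : ∀ g, (∀ l, π (a l) * π g = π g * π (a l)) → g ∈ V := fun g hg => by
    rintro _ ⟨k, e, rfl⟩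
    obtain ⟨m, hm, l, rfl⟩ := hk k e
    rw [map_mul, show π m = 1 from (QuotientGroup.eq_one_iff m).2 hm, one_mul, hg]
  have PV : ∀ g : Nr κ.M, (g : G) ∈ κ.P → g ∈ V := fun g hg => mV g fun l => by
    have h1 : (a l : G) ∈ Nr κ.P := L.nMZ ⟨(a l).2, (r0 _).1 (by rw [ha]; rfl)⟩
    have h2 := KC (a l * g * (a l)⁻¹ * g⁻¹)
      (P_le_C κ (mul_mem ((mem_normalizer_iff.1 h1 _).1 hg) (inv_mem hg)))
      (by simp only [map_mul, map_inv, ha, one_mul, inv_one, mul_one, mul_inv_cancel])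
    have h3 : π (a l * g * (a l)⁻¹ * g⁻¹) = 1 := (QuotientGroup.eq_one_iff _).2 h2
    rwa [map_mul, map_mul, map_mul, map_inv, map_inv, mul_inv_eq_one, mul_inv_eq_iff_eq_mul] at h3
  have dV : ∀ k k', d' k * d k' ∈ V := fun k k' => mV _ fun l => by
    change π (d' l * _) * _ = _ * π (d' l * _)
    rw [← map_mul, ← map_mul, sw, sw, mul_comm l, mul_comm k']
  have SV : ∀ g : Nr κ.M, (g : G) ∈ Nr κ.Z → g ∈ V := fun g hg => by
    obtain ⟨c, hc, l, rfl⟩ := decS g hg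
    obtain ⟨m, hm, b, k, rfl⟩ := decC c hc
    refine mul_mem (mul_mem (mul_mem (PV _ (y_mem κ b)) (PV _ (M_le_P κ hm))) ?_) (dV _ _)
    simpa using dV 1 k
  have νV : ν ∈ V := by
    have h1 := nV.conj_mem _ (PV (Y 1) (y_mem κ 1)) ν
    obtain ⟨b, k⟩ := (W.om _ (ν * Y 1 * ν⁻¹).2).resolve_left fun k =>
      one_ne_zero (y_sep hp L W.toOm (c := 1) (by
        change n * h 0 1 0 * n⁻¹ ∈ _ at k
        rw [ni] at k ⊢
        exact k))
    have h2 := SV (ν⁻¹ * (Y b)⁻¹ * (ν * Y 1 * ν⁻¹)) k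
    rwa [mul_mem_cancel_right h1, mul_mem_cancel_right (inv_mem (PV (Y b) (y_mem κ b))),
      inv_mem_iff] at h2
  have hc : ∀ g l, g * a l * g⁻¹ * (a l)⁻¹ ∈ M' := fun g l => by
    have gV : g ∈ V := by
      rcases W.om g g.2 with k | ⟨b, k⟩
      · exact SV g k
      · exact (mul_mem_cancel_left (mul_mem (inv_mem νV) (inv_mem (PV (Y b) (y_mem κ b))))).1
          (SV (ν⁻¹ * (Y b)⁻¹ * g) k)
    refine (QuotientGroup.eq_one_iff _).1 (show π _ = 1 from ?_)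
    rw [map_mul, map_mul, map_mul, map_inv, map_inv, mul_inv_eq_one, mul_inv_eq_iff_eq_mul]
    exact (gV _ ⟨a l, ha l, rfl⟩).symm
  have h2 : (-1 : Fˣ) ≠ 1 := fun e => Ring.neg_one_ne_one_of_char_ne_two (R := F) (fun k => by
    have := FiniteField.even_card_iff_char_two.1 k
    omega) (congrArg Units.val e)
  obtain ⟨e1⟩ := quot_prod h2 M' ρ (fun m hm => rM m hm) a ha hk (fun l => ⟨fun k =>
      W.ker l ((mul_mem_cancel_right (d_mem κ (μ l))).1 (P_le_C κ (M_le_P κ k))), by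
      rintro (rfl | rfl)
      · rw [map_one]; exact one_mem _
      · have e : d' (-1) * d (-1) = 1 := Subtype.ext (by
          change n * ι (dM (-1)) * n⁻¹ * ι (dM (-1)) = 1
          rw [dM_neg, mem_centralizer_singleton_iff.1 W.ct, mul_inv_cancel_right, ← map_mul,
            neg_mul_neg, one_mul, map_one])
        change d' (-1) * d (μ (-1)) ∈ _
        rw [μu _ (-1) (by rw [e, map_one]), e]
        exact one_mem _⟩) hc (S := (Nr κ.Z).subgroupOf (Nr κ.M)) (T := κ.C.subgroupOf (Nr κ.M))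
    (fun k e => (r0 k).1 (by rw [MonoidHom.mem_ker.1 e]; rfl))
    (fun m hm => P_le_C κ (M_le_P κ hm)) (fun c hc => C_le κ hc) (fun g hg => KC g hg.1 hg.2)
    (fun g hg => by
      obtain ⟨c, hc, l, rfl⟩ := decS g hg
      exact mul_mem (mem_sup_right hc) (mem_sup_left (ha l)))
    (by
      rw [hi, show Fintype.card F + 1 = 2 + (Fintype.card F - 1) / 2 * 2 by omega,
        Nat.coprime_add_mul_left_right, Nat.coprime_two_right, Nat.odd_iff]
      omega)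
  obtain ⟨e2⟩ := pgl_of_affine (F := F) (R := ρ.range)
    (fun b l => ⟨⟨_, Y b * 1 * d l⁻¹, rfl⟩, (r0 _).2 (mul_mem (mul_mem
      (C_le κ (P_le_C κ (y_mem κ b))) (one_mem _)) (C_le κ (d_mem κ _))),
      fun x => (rC 1 b l⁻¹ x (one_mem _)).trans (by rw [inv_inv])⟩)
    (by
      rintro ⟨_, g, rfl⟩ hg
      obtain ⟨c, hc, l, rfl⟩ := decS g ((r0 g).1 hg)
      obtain ⟨m, hm, b, k, rfl⟩ := decC c hc
      refine ⟨b, k⁻¹, fun x => ?_⟩
      change ρ _ (some x) = _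
      rw [map_mul, ha, mul_one, rC m b k x hm])
    ⟨⟨_, ν, rfl⟩, mt (r0 ν).1 W.nZ⟩
  have : IsMulCommutative M' := ⟨⟨fun x y => Subtype.ext (Subtype.ext (L.commM _ x.2 _ y.2))⟩⟩
  obtain ⟨J, hJ⟩ := Cfsg.Agent.S0051.result M' (κ.P.subgroupOf (Nr κ.M))
    (fun m hm => M_le_P κ hm) (by
      have : CharP F p := (CharP.charP_iff_prime_eq_zero Fact.out).2 hp
      obtain ⟨k, p1, hk⟩ := FiniteField.card F p
      rw [Nat.card_congr (subgroupOfEquivOfLe le_normalizer).toEquiv, L.cM, hk, ← pow_mul]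
      exact Nat.Coprime.pow_left _ (p1.coprime_iff_not_dvd.2 fun k =>
        L.syl (k.trans (relIndex_dvd_index_of_le (P_le L))))) ((yH κ).range.subgroupOf (Nr κ.M)) (by
      rintro g ⟨b, e⟩
      exact mem_subgroupOf.2 (show (g : G) ∈ κ.P from (show _ = (g : G) from e) ▸ y_mem κ _)) (by
      rw [eq_bot_iff]
      rintro g ⟨⟨b, e⟩, hg⟩
      have e : h 0 b.toAdd 0 = g := e
      have b0 := y_zero κ (show h 0 b.toAdd 0 ∈ κ.M from e ▸ hg)
      exact Subtype.ext (by rw [← e, b0, κ.one]; rfl)) (by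
      refine le_antisymm (sup_le (fun m hm => M_le_P κ hm) ?_) fun g hg => ?_
      · rintro g ⟨b, e⟩
        exact mem_subgroupOf.2 (show (g : G) ∈ κ.P from (show _ = (g : G) from e) ▸ y_mem κ _)
      · obtain ⟨b, m, hm, e⟩ := P_dec κ hg
        rw [show g = Y b * ⟨m, le_normalizer hm⟩ from Subtype.ext e]
        exact mul_mem (mem_sup_right ⟨Multiplicative.ofAdd b, rfl⟩) (mem_sup_left hm))
  refine ⟨J.map (Nr κ.M).subtype, map_subtype_le _, ?_, ?_,
    ⟨(J.equivMapOfInjective _ (Nr κ.M).subtype_injective).symm.trans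
      (hJ.symm.QuotientMulEquiv.symm.trans (e1.trans (MulEquiv.prodCongr e2 (MulEquiv.refl _))))⟩⟩
  · have := congrArg (map (Nr κ.M).subtype) hJ.sup_eq_top
    rwa [Subgroup.map_sup, map_subgroupOf_eq_of_le le_normalizer, ← MonoidHom.range_eq_map,
      range_subtype] at this
  · rw [eq_bot_iff]
    rintro _ ⟨hm, g, hg, rfl⟩
    exact congrArg Subtype.val (disjoint_def.1 hJ.disjoint (x := g) hm hg)

end H83.P4
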