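import Cfsg.Agent.H83.SVInd
import Cfsg.Agent.H58.QNormal

/-! STD-U at `q = 2`, slot A2: the eigenvalues of `β`. -/

set_option autoImplicit false
set_option linter.unusedSectionVars false

namespace H83.SV.A2

variable {F K : Type} [Field F] [Finite F] [CharP F 2] [Field K] [Algebra F K] [StarRing K] [CharP K 2]
  [Qe F K] [Finite K]

theorem exists_eta : ∃ η : K, star η = η + 1 ∧ tr F η = 1 := by
  obtain ⟨η, h⟩ := tr_surj K (1 : F)
  have := io_tr (F := F) η
  rw [h, map_one] at this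
  exact ⟨η, by linear_combination -this - k2 η, h⟩

theorem exists_root (δ : F) : ∃ ω : K, ω ^ 2 + ω = algebraMap F K δ := by
  by_cases h : ∀ c : F, c ^ 2 + c ≠ δ
  swap
  · push Not at h
    obtain ⟨c, rfl⟩ := h
    exact ⟨algebraMap F K c, by simp⟩
  obtain ⟨η, h1, h2⟩ := exists_eta (F := F) (K := K)
  have h3 : algebraMap F K (nm F η) = η ^ 2 + η := by rw [io_nm, h1]; ring
  obtain ⟨c, hc⟩ := H58.exists_artin_schreier (two0 F) h (b := nm F η) fun c hc => by
    have h4 : (η + algebraMap F K c) * (η + algebraMap F K (c + 1)) = 0 := by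
      rw [← hc, map_add, map_pow] at h3
      rw [map_add, map_one]
      linear_combination -h3 + k2 (η * algebraMap F K c) + k2 (algebraMap F K c ^ 2) +
        k2 (algebraMap F K c)
    rcases mul_eq_zero.1 h4 with h | h <;> rw [CharTwo.add_eq_zero] at h <;>
      rw [h, tr_io] at h2 <;> exact zero_ne_one h2
  refine ⟨η + algebraMap F K c, ?_⟩
  have := congrArg (algebraMap F K) hc
  simp only [map_add, map_pow, h3] at this
  linear_combination this + k2 (η * algebraMap F K c) + k2 (η ^ 2) + k2 η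

theorem tt_tt {R : Type} [Field R] [CharP R 2] (p : R × R) : tt (tt p) = p :=
  Prod.ext (by simp [tt, add_assoc, k2]) rfl
theorem tt_smul {R : Type} [Field R] (a : R) (p : R × R) : tt (a • p) = a • tt p :=
  Prod.ext (by simp [tt, mul_add]) rfl
theorem canc {R : Type} [Field R] {a b : R × R} (h : a = a + b) : b = 0 := left_eq_add.1 h

variable {γ : K × K → K × K → F × F} {β : K × K → F × F → K × K} {κ : K × K → F × F → F × F}
  {σ : K × K → K × K} (h : Al2 γ β κ σ)
include h

theorem γ_addu (u u' v : K × K) : γ (u + u') v = γ u v + γ u' v := by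
  rw [h.γ_symm, h.γ_add, h.γ_symm v, h.γ_symm v]
theorem γ_zero (u : K × K) : γ u 0 = 0 := canc (a := γ u 0) (by rw [← h.γ_add, add_zero])
theorem β_eq (u : K × K) (p : F × F) :
    β u p = algebraMap F K p.1 • u + algebraMap F K p.2 • β u (0, 1) := by
  rw [← h.β_lin, ← h.β_one u, ← h.β_lin, h.β_one, ← h.β_addp]; simp
theorem adj (u v : K × K) (p : F × F) : γ u (β v p) = γ (β u p) v := by
  have := h.κ_addu u v p
  rw [add_comm u, h.κ_addu, add_comm (κ v p), add_right_inj] at this
  rw [← this, h.γ_symm]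
theorem st (a b : K) (p : F × F) : γ (a • (1, 0)) (β (b • (1, 0)) p) = tr F (a * star b) • p := by
  have := h.κ_addu (a • (1, 0)) (b • (1, 0)) p
  rw [← add_smul, h.κ_smul, h.κ_smul, h.κ_smul, h.κ_one, nm_add, add_smul, add_smul,
    add_right_inj] at this
  exact this.symm
theorem κ0 {x : K × K} {y : F × F} (h0 : ∀ a : K, γ (a • x) (β x y) = 0) (a : K) : κ (a • x) y = 0 := by
  obtain ⟨η, -, h2⟩ := exists_eta (F := F) (K := K)
  have := h.κ_addu (η • x) x y
  rw [h0, add_zero, ← one_smul K x, smul_smul, ← add_smul, h.κ_smul, h.κ_smul, h.κ_smul, mul_one,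
    nm_add, star_one, mul_one, h2, add_smul, add_smul, one_smul, add_eq_left] at this
  rw [h.κ_smul, this, smul_zero]

/-- The eigenvectors. -/
theorem eig : ∃ (ω : K) (u : K × K), u.2 = 1 ∧ u + tt u = (1, 0) ∧ β u (0, 1) = ω • u ∧
    β (tt u) (0, 1) = (ω + 1) • tt u ∧ (star ω = ω ∨ star ω = ω + 1) := by
  have ρt : ∀ u, β (tt u) (0, 1) = tt (β u (0, 1)) + tt u := fun u => by
    rw [← h.β_t, β_eq h _ (tt _)]
    simp [tt, add_comm, ← add_assoc, p2]
  obtain ⟨⟨a, c⟩, h0⟩ : ∃ v, β (1, 0) (0, 1) = v := ⟨_, rfl⟩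
  obtain ⟨⟨b, d⟩, h1⟩ : ∃ v, β (0, 1) (0, 1) = v := ⟨_, rfl⟩
  have lin : ∀ x y : K, β (x, y) (0, 1) = (a * x + b * y, c * x + d * y) := fun x y => by
    rw [show (x, y) = x • ((1 : K), (0 : K)) + y • ((0 : K), (1 : K)) by simp, h.β_addu, h.β_smul,
      h.β_smul, h0, h1]
    simp [mul_comm]
  have e0 := congrArg Prod.fst (ρt (1, 0))
  have e1 := congrArg Prod.fst (ρt (0, 1))
  simp only [tt, lin, Prod.fst_add] at e0 e1
  obtain rfl : c = 1 := by linear_combination -e0 - k2 (1 : K)
  obtain rfl : d = a + 1 := by linear_combination -e1 - k2 (1 : K)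
  have ρ2 : ∀ u, β (β u (0, 1)) (0, 1) = β u (0, 1) + (a * (a + 1) + b) • u := fun ⟨x, y⟩ => by
    simp only [lin, Prod.smul_mk, Prod.mk_add_mk, smul_eq_mul, Prod.mk.injEq]
    exact ⟨by linear_combination k2 (a * b * y) - k2 (a * x),
      by linear_combination k2 (a * x) + k2 (a * y) - k2 (a * y)⟩
  obtain ⟨δ, hδ⟩ := (Qe.fix (F := F) (a * (a + 1) + b)).1 (by
    generalize a * (a + 1) + b = δ at ρ2
    by_contra hne
    obtain ⟨η, -, h2⟩ := exists_eta (F := F) (K := K)
    have h3 : δ + star δ ≠ 0 := fun e => hne (CharTwo.add_eq_zero.1 e).symm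
    have h4 := adj h (1, 0) (β (star (η / (δ + star δ)) • (1, 0)) (0, 1)) (0, 1)
    rw [adj h (β _ _), ρ2, ρ2, h.γ_add, γ_addu h, adj h, add_right_inj, ← star_star δ, ← h.γ_ses,
      star_star] at h4
    have h5 := st h (δ + star δ) (star (η / (δ + star δ))) (1, 0)
    rw [h.β_one, add_smul, γ_addu h, h4, p2, star_star, mul_div_cancel₀ _ h3, h2] at h5
    simpa using congrArg Prod.fst h5)
  obtain ⟨ω, hω⟩ := exists_root (K := K) δ
  rw [hδ] at hω
  refine ⟨ω, (a + ω + 1, 1), rfl, ?_, ?_, ?_, ?_⟩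
  · simp only [tt, Prod.mk_add_mk, k2, Prod.mk.injEq, and_true]
    linear_combination k2 (a + ω + 1)
  · simp only [lin, Prod.smul_mk, smul_eq_mul, Prod.mk.injEq]
    exact ⟨by linear_combination -hω, by linear_combination k2 (a + 1)⟩
  · simp only [tt, lin, Prod.smul_mk, smul_eq_mul, Prod.mk.injEq]
    exact ⟨by linear_combination -hω - k2 (ω + 1), by linear_combination k2 (a + 1)⟩
  · have h2 := congrArg star hω
    rw [← hδ, star_io, hδ, ← hω, star_add, star_pow] at h2
    have h3 : (star ω - ω) * (star ω - (ω + 1)) = 0 := by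
      linear_combination h2 + k2 (ω ^ 2 + ω - ω * star ω - star ω)
    exact (mul_eq_zero.1 h3).imp sub_eq_zero.1 sub_eq_zero.1

section E

variable {ω : K} {u : K × K} (h2 : u.2 = 1) (hs : u + tt u = (1, 0)) (h1 : β u (0, 1) = ω • u)
  (h1' : β (tt u) (0, 1) = (ω + 1) • tt u)

omit h in
theorem cancel {x : K × K} {a : K} {f : K × K → F × F} (hf : ∀ x y, f (x + y) = f x + f y)
    (e : f (a • x) = f ((a + 1) • x)) : f x = 0 := by
  rw [add_smul, one_smul, hf] at e; exact canc e

include hs h1 h1' in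
theorem sig : σ (tt u) = σ u + (1, 0) ∧ σ u + star ω • ((1 : K), (0 : K)) = (ω + 1) • tt u + ω • u + (1, 0) := by
  have e0 := h.σ_fix (1, 0)
  have e1 := h.σ_fix (0, 1)
  rw [h.β_one] at e0
  have e2 : σ (tt u) = σ u + (1, 0) := by rw [← e0, ← hs, h.σ_add, ← add_assoc, p2, zero_add]
  rw [← hs, h.β_addu, h1, h1', h.σ_add, h.σ_smul, h.σ_smul, e2, star_add, star_one, add_smul, one_smul,
    smul_add, ← add_assoc, ← add_assoc, ← add_assoc, p2, zero_add] at e1
  refine ⟨e2, ?_⟩
  rw [add_comm (_ • tt u), ← e1, add_assoc, p2, add_zero, add_comm]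

include h2 hs h1 h1' in
theorem wreath (hω : star ω = ω) : ∃ y, Wd γ β κ σ u y := by
  obtain ⟨o, rfl⟩ := (Qe.fix (F := F) ω).1 hω
  have b11 : β u (o + 1, 1) = u := by
    rw [β_eq h, h1, map_one, one_smul, ← add_smul, map_add, map_one, add_right_comm, k2, zero_add,
      one_smul]
  have b21 : β (tt u) (o + 1, 1) = 0 := by rw [β_eq h, h1', map_one, one_smul, map_add, map_one, p2]
  have b12 : β u (tt (o + 1, 1)) = 0 := by
    rw [β_eq h, h1]; simp [tt, add_assoc, k2, p2]
  have g12 : ∀ a b : K, γ (a • u) (b • tt u) = 0 := fun a b => by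
    have := adj h (a • u) (b • tt u) (0, 1)
    rw [h.β_smul, h.β_smul, h1, h1', smul_comm b, smul_comm a, ← star_star (_ + 1), ← h.γ_ses, star_add,
      hω, star_one] at this
    exact cancel (f := fun x => γ x (b • tt u)) (fun _ _ => γ_addu h ..) this.symm
  have g21 : ∀ a b : K, γ (a • tt u) (b • u) = 0 := fun a b => by rw [h.γ_symm, g12]
  have k21 := κ0 h (x := tt u) (y := (o + 1, 1)) fun a => by rw [b21, γ_zero h]
  refine ⟨(o + 1, 1), h2, rfl, fun a b => ?_, g12, g21, fun a c => ?_, fun a c => ?_, fun a c => ?_,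
    fun a c => ?_, fun a c => ?_, fun a c => ?_, fun a => ?_⟩
  · rw [← st h, ← hs, h.β_smul, h.β_addu, b11, b21, add_zero, smul_add, γ_addu h, g21, add_zero]
  · rw [h.β_lin, h.β_smul, b11, mul_smul]
  · rw [h.β_lin, h.β_smul, b12, smul_zero, smul_zero]
  · rw [h.β_lin, h.β_smul, b21, smul_zero, smul_zero]
  · have := h.κ_one (o + 1, 1)
    rw [← hs, h.κ_addu, b21, γ_zero h, ← one_smul K (tt u), k21, add_zero, add_zero] at this
    rw [h.κ_lin, h.κ_smul, this, smul_smul, mul_comm]
  · rw [h.κ_lin, κ0 h fun a => by rw [b12, γ_zero h], smul_zero]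
  · rw [h.κ_lin, k21, smul_zero]
  · have := (sig h hs h1 h1').2
    rw [hω, ← hs, smul_add, add_smul, one_smul] at this
    rw [h.σ_smul]
    congr 1
    linear_combination (exp := 1) this + p2 (tt u)

include h2 hs h1 h1' in
theorem field (hω : star ω = ω + 1) : ∃ p p' ψ, Fd γ β κ σ p p' ψ := by
  let φ : F × F →+ K := AddMonoidHom.mk' (fun y => algebraMap F K y.1 + algebraMap F K y.2 * ω)
    fun _ _ => by simp; ring
  have φs : ∀ y, star (φ y) = φ (tt y) := fun y => by simp [φ, tt, hω]; ring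
  have φb : Function.Bijective φ := (Nat.bijective_iff_injective_and_card φ).2
    ⟨(injective_iff_map_eq_zero φ).2 fun y hy => by
      have e := φs y
      rw [hy, star_zero, show tt y = y + (y.2, 0) from Prod.ext rfl (add_zero _).symm, map_add, hy] at e
      have e2 : y.2 = 0 := by simpa [φ] using e.symm
      exact Prod.ext (by simpa [φ, e2] using hy) e2, by
      rw [Nat.card_prod, Qe.card (F := F) (K := K), pow_two]⟩
  let ψ := (AddEquiv.ofBijective φ φb).symm
  have φψ : ∀ c, φ (ψ c) = c := ψ.symm_apply_apply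
  have ψφ : ∀ y, ψ (φ y) = y := ψ.apply_symm_apply
  have b1 : ∀ y, β u y = φ y • u := fun y => by rw [β_eq h, h1, smul_smul, ← add_smul]; rfl
  have b2 : ∀ y, β (tt u) y = star (φ y) • tt u := fun y => by
    rw [β_eq h, h1', smul_smul, ← add_smul]; simp [φ, hω]
  have g11 : ∀ a b : K, γ (a • u) (b • u) = 0 := fun a b => by
    have := adj h (a • u) (b • u) (0, 1)
    rw [h.β_smul, h.β_smul, h1, smul_comm b, smul_comm a, ← star_star ω, ← h.γ_ses, star_star, hω] at this
    exact cancel (f := fun x => γ x (b • u)) (fun _ _ => γ_addu h ..) this.symm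
  have g22 : ∀ a b : K, γ (a • tt u) (b • tt u) = 0 := fun a b => by
    have := adj h (a • tt u) (b • tt u) (0, 1)
    rw [h.β_smul, h.β_smul, h1', smul_comm b, smul_comm a, ← hω, ← h.γ_ses, hω] at this
    exact cancel (f := fun x => γ x (b • tt u)) (fun _ _ => γ_addu h ..) this
  have g12 : ∀ a b : K, γ (a • u) (star b • tt u) = ψ (a * b) := fun a b => by
    obtain ⟨η, e1, e2⟩ := exists_eta (F := F) (K := K)
    have := st h η 1 (ψ (a * b))
    rw [star_one, mul_one, e2, one_smul, one_smul, ← hs, h.β_addu, b1, b2, φψ, smul_add, γ_addu h,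
      h.γ_add, h.γ_add, g11, g22, zero_add, add_zero, ← h.γ_ses, h.γ_symm (η • _), ← star_star η,
      ← h.γ_ses, star_star, e1, smul_comm (a * b) η, ← γ_addu h, add_smul, one_smul, ← add_assoc, p2,
      zero_add] at this
    rw [← h.γ_ses, smul_smul, mul_comm b, this]
  have s1 : σ u = tt u := by
    have := (sig h hs h1 h1').2
    rw [hω, ← hs, smul_add, add_smul, add_smul, one_smul, one_smul] at this
    linear_combination (exp := 1) this
  have s2 : σ (tt u) = u := by rw [(sig h hs h1 h1').1, s1, ← hs, add_left_comm, p2, add_zero]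
  refine ⟨AddMonoidHom.mk' (· • u) fun _ _ => add_smul .., AddMonoidHom.mk' (star · • tt u)
    fun _ _ => by rw [star_add, add_smul], ψ, ?_⟩
  constructor <;> simp only [AddMonoidHom.mk'_apply, AddMonoidHom.coe_coe, star_star]
  · intro a; rw [← smul_add, hs]; simp
  · intro c; rw [← ψφ (c, 0)]; simp [φ]
  · intro v
    refine ⟨v.2 + (v.1 + v.2 * u.1), star (v.1 + v.2 * u.1), ?_⟩
    rw [star_star, add_smul, add_assoc, ← smul_add, hs]
    exact Prod.ext (by simp [← add_assoc, add_right_comm _ v.1, k2]) (by simp [h2])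
  · exact fun y => ⟨φ y, (ψφ y).symm⟩
  · exact g11
  · exact fun a b => g22 _ _
  · exact g12
  · intro a b; rw [h.γ_symm, g12, mul_comm]
  · intro a c; rw [h.β_smul, b1, φψ, smul_smul]
  · intro a c; rw [h.β_smul, b2, φψ, smul_smul, star_mul']
  · exact fun a y => κ0 h (fun a => by rw [b1, g11]) a
  · exact fun a y => κ0 h (fun a => by rw [b2, g22]) _
  · intro a; rw [h.σ_smul, s1]
  · intro a; rw [h.σ_smul, s2, star_star]
  · exact fun a => tt_smul a u
  · intro a; rw [tt_smul, tt_tt]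
  · intro c; rw [← ψφ (tt _), ← φs, φψ]

end E

omit h in
theorem jobA2 : JobA2 := fun _ _ _ _ _ _ _ _ _ _ _ _ _ _ _ h => by
  obtain ⟨ω, u, h2, hs, h1, h1', hω | hω⟩ := eig h
  exacts [Or.inr ⟨u, wreath h h2 hs h1 h1' hω⟩, Or.inl (field h h2 hs h1 h1' hω)]

end H83.SV.A2
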