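import Cfsg.Agent.H83.SVInd
import Cfsg.Agent.H67.SAAB

/-! STD-U at `q = 2`, slot AB: the centralisers of the conjugates of `t`. -/

set_option autoImplicit false
set_option linter.unusedSectionVars false

namespace H83.SVAB

open H64.SG (O2 Syl Cz Cs Ns cjs Is2 Inv2 UF IsO2 fx mem_Cs mem_Cz mem_fx)
open H67.SA (St cI cm mem_cI eq_bot_of_odd le_O2_of_perfect card_cjs conj_mem_cjs)
open H83.SV H57 Subgroup

universe u

variable {F K : Type} [Field F] [Finite F] [CharP F 2] [Field K] [Algebra F K] [StarRing K] [CharP K 2]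
  [Qe F K] [Finite K] {G : Type u} [Group G] [Finite G] {e : X K →* G} {g t y : G}
  {β : MulAut (X K)}

/-- The elements `g` with `oX (ind g) ∈ B`. -/
def oi (e : X K →* G) (B : Subgroup (RingAut K)) : Subgroup G where
  carrier := {g | ∃ β, Ind e g β ∧ oX K β ∈ B}
  one_mem' := ⟨1, ind_one, by simp⟩
  mul_mem' := fun ⟨_, a, b⟩ ⟨_, c, d⟩ => ⟨_, a.mul c, by rw [map_mul]; exact mul_mem b d⟩
  inv_mem' := fun ⟨_, a, b⟩ => ⟨_, a.inv, by rw [map_inv]; exact inv_mem b⟩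

theorem out_of_O2 (hi : Function.Injective e) (h : Ind e g β) (hg : g ∈ O2 (Ns e.range)) :
    Odd (orderOf (oX K β)) := by
  let B : Subgroup (RingAut K) :=
    { carrier := {a | Odd (orderOf a)}
      one_mem' := by simp
      mul_mem' := fun a b => H64.SG.odd_orderOf_mul a b (H67.SA.ringAut_comm _ _)
      inv_mem' := fun a => by simpa using a }
  obtain ⟨α, h1, h2⟩ : g ∈ oi e B := (closure_le _).2 (fun a ha => by
    obtain ⟨α, h1⟩ := exists_ind hi ha.1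
    exact ⟨α, h1, (h1.odd hi ha.2).of_dvd_nat (orderOf_map_dvd _ _)⟩) hg
  exact h.unique hi h1 ▸ h2

theorem inn (o : FO F K) (h : oX K β = 1) : ∃ s, β = MulAut.conj s := by
  obtain ⟨s, hs⟩ := o.dec β
  exact ⟨s, by rwa [h, map_one, mul_one] at hs⟩

theorem map_O2 (e : X K →* G) {A : Subgroup (X K)} {B : Subgroup G} (h : A.map e ≤ B) {s : X K}
    (hs : s ∈ O2 A) : e s ∈ O2 B := by
  refine H64.SG.O2_mono h ?_
  rw [H64.SG.O2_eq, ← H98.map_res, ← H64.SG.O2_eq]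
  exact mem_map_of_mem _ hs

variable (o : FO F K) (h : B0 e t)
include o h

theorem cyclic [(e.range.subgroupOf (Cz t)).Normal]
    {S : Subgroup (Cz t)} (hS : IsPGroup 2 S) (h1 : ∀ s ∈ S, s.1 ∈ oi e ⊥) :
    IsCyclic (S.map (QuotientGroup.mk' (e.range.subgroupOf (Cz t)))) := by
  let φ := QuotientGroup.mk' (e.range.subgroupOf (Cz t))
  obtain ⟨T, hT⟩ := H98.exists_isSyl 2 ((Cs e.range).subgroupOf (Cz t))
  have h2 : IsCyclic T := (equivMapOfInjective _ _ (Cz t).subtype_injective).isCyclic.2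
    (h.cyc _ (map_le_iff_le_comap.2 hT.le) (hT.isPGroup.map _))
  refine H64.SG.isCyclic_of_syl (hT.map φ)
    (isCyclic_of_surjective _ (φ.subgroupMap_surjective T)) (hS.map φ) ?_
  rintro _ ⟨s, hs, rfl⟩
  obtain ⟨β, h3, h4⟩ := h1 s hs
  obtain ⟨l, rfl⟩ := inn o h4
  refine ⟨s * ⟨e l, h.mem_Cz l⟩⁻¹, ind_conj_iff.1 h3, ?_⟩
  rw [map_mul, map_inv, show φ ⟨e l, h.mem_Cz l⟩ = 1 from (QuotientGroup.eq_one_iff _).2 ⟨l, rfl⟩,
    inv_one, mul_one]

theorem odd [(e.range.subgroupOf (Cz t)).Normal] :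
    Odd (Nat.card (((O2 (Cz t)).subgroupOf (Cz t)).map
      (QuotientGroup.mk' (e.range.subgroupOf (Cz t))))) := by
  obtain ⟨S, hS⟩ := H98.exists_isSyl 2 ((O2 (Cz t)).subgroupOf (Cz t))
  have h3 := H64.SG.odd_O2 (hS.map _) (cyclic o h hS.isPGroup fun s hs => by
    obtain ⟨β, h1⟩ := exists_ind h.inj (h.cz s.2)
    exact ⟨β, h1, ((h1.is2 h.inj ((H64.SG.isPGroup_iff_is2.1 hS.isPGroup s hs).map
      (Cz t).subtype)).map (oX K)).eq_one (out_of_O2 h.inj h1 (H64.SG.O2_mono h.cz (hS.le hs)))⟩)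
  rwa [H64.SG.O2_eq, H64.SG.O2_eq, H98.res_subgroupOf, ← H98.res_top, H98.map_res, H98.res_res,
    ← H98.map_res, H98.res_top, ← H98.res_subgroupOf, ← H64.SG.O2_eq] at h3

theorem ol0 (hy : y ∈ O2 (Cz t)) (y2 : Is2 y) : y ∈ e.range := by
  have : (e.range.subgroupOf (Cz t)).Normal := normal_subgroupOf_of_le_normalizer h.cz
  have y1 := H64.SG.O2_le _ hy
  exact (QuotientGroup.eq_one_iff (⟨y, y1⟩ : Cz t)).1 (Is2.eq_one
    (Is2.map (g := (⟨y, y1⟩ : Cz t)) (y2.imp fun _ e => Subtype.ext e) (QuotientGroup.mk' _))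
    (H64.SG.odd_orderOf_of_mem (odd o h) (mem_map_of_mem _ hy)))

theorem pf0 {N : Subgroup G} (n1 : N ≤ Cz t) (n2 : N ≤ ⁅N, N⁆) : N ≤ e.range := fun a ha => by
  have : (e.range.subgroupOf (Cz t)).Normal := normal_subgroupOf_of_le_normalizer h.cz
  have h2 := eq_bot_of_odd (N := (N.subgroupOf (Cz t)).map
    (QuotientGroup.mk' (e.range.subgroupOf (Cz t)))) (by
      rw [← map_commutator]
      refine map_mono ?_
      rw [← map_le_map_iff_of_injective (subtype_injective _), map_commutator,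
        subgroupOf_map_subtype, inf_eq_left.2 n1]
      exact n2) ((odd o h).of_dvd_nat (card_dvd_of_le (map_mono (comap_mono
        ((le_O2_of_perfect n2).trans (H64.SG.O2_mono n1))))))
  exact (QuotientGroup.eq_one_iff (⟨a, n1 ha⟩ : Cz t)).1
    (mem_bot.1 (h2.le (mem_map_of_mem (QuotientGroup.mk' _) ha)))

theorem bd0 (i : FI F K) {Y : Subgroup G} (y1 : Y ≤ Cz t) (y2 : El Y) :
    Nat.card Y ≤ 2 * Nat.card F ^ 4 := by
  let ψ := (indH h.inj).comp (inclusion (y1.trans h.cz))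
  have i0 : ∀ a : Y, Ind e a (ψ a) := fun a => ind_indH h.inj (inclusion (y1.trans h.cz) a)
  have h1 : Nat.card ψ.ker ≤ 2 := by
    rw [← card_map_of_injective Y.subtype_injective, ← h.card_zp]
    refine card_le_of_le ?_
    rintro _ ⟨a, ha, rfl⟩
    exact (mem_zpowers_two h.inv.1).2 (h.eq_or (((i0 a).eq_one_iff h.inj).1 ha) (y2 _ a.2)
      (mem_Cz.1 (y1 a.2)))
  have h2 := ψ.ker.card_mul_index
  rw [index_ker] at h2
  have h3 := i.r4 ψ.range (by rintro _ ⟨a, rfl⟩; exact (i0 a).sq h.inj (y2 _ a.2))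
  rw [← h2]
  exact Nat.mul_le_mul h1 h3

theorem ab (i : FI F K) : AB F e t :=
  ⟨fun g y h1 h2 => range_cje (e := e) (g := g) ▸ ol0 o (h.cje g) h1 h2,
    fun g N h1 h2 => range_cje (e := e) (g := g) ▸ pf0 o (h.cje g) h1 h2, fun s c Y h1 h2 => by
      obtain ⟨g, rfl⟩ := isConj_iff.1 c
      exact bd0 o (h.cje g) i h1 h2⟩

omit o h in
theorem jobAB : JobAB.{u} := fun _ _ _ _ _ _ _ _ _ _ _ f _ _ _ _ _ h =>
  ab f.o h f.i

end H83.SVAB
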