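import Cfsg.Agent.H83.SVInd

/-! STD-U at `q = 2`, slot Co: coordinates on `M`. -/

set_option autoImplicit false
set_option linter.unusedSectionVars false

namespace H83.SVCo

open H64.SG (O2 Syl Cz Cs Ns cjs Is2 Inv2 UF IsO2 fx mem_Cs mem_Cz mem_fx)
open H67.SA (St cI cm cm_eq_one)
open H83.SV H57 Subgroup

universe u

variable {F K : Type} [Field F] [Finite F] [CharP F 2] [Field K] [Algebra F K] [StarRing K] [CharP K 2]
  [Qe F K] [Finite K] {G : Type u} [Group G] [Finite G] {e : X K →* G} {g g' t m m' : G} {v w : VA F K}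
  {M : Subgroup G} {θ : G → VA F K}

theorem ea_inj (h : B1 e t) {v w : VA F K} (c : e (xa v) = e (xa w)) : v = w := xa_inj (h.inj c)

theorem map_conj (l s : X K) : e l * e s * (e l)⁻¹ = e (l * s * l⁻¹) := by simp

/-- `g` centralises `A` and moves `t` by `v`. -/
def Th (e : X K →* G) (t g : G) (v : VA F K) : Prop :=
  g ∈ Cs ((AX K).map e) ∧ g * t * g⁻¹ = t * e (xa v)

theorem ea_mem (v : VA F K) : e (xa v) ∈ (AX K).map e := ⟨_, xa_mem_AX v, rfl⟩
theorem mem_eA : g ∈ (AX K).map e ↔ ∃ v : VA F K, g = e (xa v) :=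
  ⟨by rintro ⟨a, ha, rfl⟩; obtain ⟨v, rfl⟩ := (mem_AX (F := F)).1 ha; exact ⟨v, rfl⟩,
    by rintro ⟨v, rfl⟩; exact ea_mem v⟩

theorem cA (hg : g ∈ Cs ((AX K).map e)) (v : VA F K) : g * e (xa v) * g⁻¹ = e (xa v) :=
  mul_inv_eq_iff_eq_mul.2 (hg _ (ea_mem v)).symm

theorem Th.mul (h : Th e t g v) (h' : Th e t g' w) : Th e t (g * g') (v + w) :=
  ⟨mul_mem h.1 h'.1, by
    calc _ = g * (g' * t * g'⁻¹) * g⁻¹ := by group
      _ = _ := by rw [h'.2, ← conj_mul, h.2, cA h.1, xa_add, map_mul, mul_assoc]⟩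

theorem Th.inv (h : Th e t g v) : Th e t g⁻¹ v :=
  ⟨inv_mem h.1, by
    have h1 : g * (t * e (xa v)) * g⁻¹ = t := by
      rw [← conj_mul, h.2, cA h.1, mul_assoc, ← map_mul, xa_sq, map_one, mul_one]
    conv_lhs => rw [← h1]
    group⟩

theorem Th.uniq (b : B1 e t) (h : Th e t g v) (h' : Th e t g w) : v = w :=
  ea_inj b (mul_left_cancel (h.2.symm.trans h'.2))

theorem th_zero : Th e t g (0 : VA F K) ↔ g ∈ Cs ((AX K).map e) ∧ g ∈ Cz t := by
  rw [Th, xa_zero, map_one, mul_one, mul_inv_eq_iff_eq_mul, mem_Cz, eq_comm]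

theorem th_ea (b : B1 e t) (v : VA F K) : Th e t (e (xa v)) (0 : VA F K) :=
  th_zero.2 ⟨map_mem_Cs (AX_le_Cs (xa_mem_AX v)), b.mem_Cz _⟩

theorem th_t (b : B1 e t) : Th e t t (0 : VA F K) :=
  th_zero.2 ⟨Cs_range_le _ b.cen, mem_Cz.2 rfl⟩

theorem Th.conj (b : B1 e t) (h : Th e t g v) {l : X K} (hl : l ∈ Lv F K)
    (c : l * xa v * l⁻¹ = xa w) : Th e t (e l * g * (e l)⁻¹) w := by
  refine ⟨fun a ha => ?_, ?_⟩
  · have h1 := h.1 _ ((mem_normalizer_iff.1 (inv_mem (map_mem_Ns (e := e) (Lv_le_Ns hl))) a).1 ha)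
    calc _ = e l * ((e l)⁻¹ * a * (e l)⁻¹⁻¹ * g) * (e l)⁻¹ := by group
      _ = _ := by rw [h1]; group
  · calc _ = e l * (g * ((e l)⁻¹ * t * (e l)⁻¹⁻¹) * g⁻¹) * (e l)⁻¹ := by group
      _ = _ := by rw [← map_inv, b.conj_t, h.2, map_inv, ← conj_mul, b.conj_t, map_conj, c]

theorem lv_xa {l : X K} (hl : l ∈ Lv F K) (v : VA F K) : ∃ w : VA F K, l * xa v * l⁻¹ = xa w :=
  mem_AX.1 ((mem_normalizer_iff.1 (Lv_le_Ns hl) _).1 (xa_mem_AX v))

variable (b : B1 e t) (h : M0 e t M θ)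
include h

theorem th (hm : m ∈ M) : Th e t m (θ m) := ⟨h.cen hm, h.th m hm⟩

theorem nor {l : X K} (hl : l ∈ Lv F K) (hm : m ∈ M) : e l * m * (e l)⁻¹ ∈ M :=
  (mem_normalizer_iff.1 (h.nor l hl) m).1 hm

include b

theorem th_mul (hm : m ∈ M) (hm' : m' ∈ M) : θ (m * m') = θ m + θ m' :=
  (th h (mul_mem hm hm')).uniq b ((th h hm).mul (th h hm'))

theorem th_conj {l : X K} (hl : l ∈ Lv F K) (hm : m ∈ M) {w : VA F K}
    (c : l * xa (θ m) * l⁻¹ = xa w) : θ (e l * m * (e l)⁻¹) = w :=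
  (th h (nor h hl hm)).uniq b ((th h hm).conj b hl c)

theorem co (j : JobA1.{u}) :
    ∃ (az : F × F → G) (bm : K × K → G), Co e t M az bm := by
  letI : CommGroup M := { (inferInstance : Group M) with
    mul_comm := fun a c => Subtype.ext (h.sq.comm a.2 c.2) }
  let val : Additive M → G := fun a => (a.toMul : G)
  have vi : ∀ {a c : Additive M}, val a = val c → a = c := fun c => Subtype.ext c
  have vm : ∀ a, val a ∈ M := fun a => a.toMul.2
  have va : ∀ a c, val (a + c) = val a * val c := fun _ _ => rfl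
  let op : ∀ p ∈ Lv F K, Additive M →+ Additive M := fun p hp => AddMonoidHom.mk'
    (fun a => Additive.ofMul ⟨e p * val a * (e p)⁻¹, nor h hp (vm a)⟩) fun a c =>
      vi (conj_mul (a := val a) (c := val c) (b := e p)).symm
  have vo : ∀ p hp a, val (op p hp a) = e p * val a * (e p)⁻¹ := fun _ _ _ => rfl
  let ι : VA F K →+ Additive M := AddMonoidHom.mk'
    (fun v => Additive.ofMul ⟨e (xa v), h.le (ea_mem v)⟩) fun v w =>
      vi (by rw [va]; change e _ = e _ * e _; rw [xa_add, map_mul])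
  have vι : ∀ v, val (ι v) = e (xa v) := fun _ => rfl
  let θ' : Additive M →+ VA F K := AddMonoidHom.mk' (fun a => θ (val a)) fun a c =>
    th_mul b h (vm a) (vm c)
  have oo : ∀ p hp q hq p' hp' q' hq' a, p * q = p' * q' →
      op p hp (op q hq a) = op p' hp' (op q' hq' a) := fun p hp q hq p' hp' q' hq' a c => vi (by
    have := congrArg e c
    rw [map_mul, map_mul] at this
    simp only [vo]
    calc _ = e p * e q * val a * (e p * e q)⁻¹ := by group
      _ = _ := by rw [this]; group)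
  obtain ⟨az, bm, c⟩ := j F K (Additive M) ι θ' (fun y r => op _ (ht_mem_Lv y r))
    (fun a => op _ (xs_mem_Lv a)) (op _ ws_mem_Lv)
    { inj := fun _ _ c => ea_inj b (congrArg val c)
      surj := fun v => by
        obtain ⟨m, hm, c⟩ := h.onto v
        exact ⟨Additive.ofMul ⟨m, hm⟩, c⟩
      ker := fun a => ⟨fun c => (mem_eA.1 (h.fix _ (vm a) c)).imp fun _ => vi, by
        rintro ⟨v, rfl⟩
        exact (th h (vm _)).uniq b (th_ea b v)⟩
      two := fun a => vi (h.sq _ (vm a))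
      h_mul := fun y y' r r' a => vi (by simp only [vo]; rw [ht_mul, map_mul]; group)
      h_one := fun a => vi (by simp [vo])
      s_add := fun y y' a => vi (by simp only [vo]; rw [xs_add, map_mul]; group)
      s_zero := fun a => vi (by simp [vo])
      hs := fun y r a m => oo _ (ht_mem_Lv _ _) _ (xs_mem_Lv _) _ (xs_mem_Lv _) _ (ht_mem_Lv _ _) m
        (by rw [← ht_xs y r, inv_mul_cancel_right])
      wh := fun y r m => oo _ ws_mem_Lv _ (ht_mem_Lv _ _) _ (ht_mem_Lv _ _) _ ws_mem_Lv m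
        (by rw [← ws_ht y r, inv_mul_cancel_right])
      ww := fun a => vi (by
        simp only [vo]
        calc _ = e (ws * ws) * val a * (e (ws * ws))⁻¹ := by rw [map_mul]; group
          _ = _ := by rw [ws_sq]; simp)
      br := fun a => vi (by
        have h1 : (ws * xs 1 * ws : X K) = xs 1 * ws * xs 1 := by
          have h2 := ws_braid (K := K)
          generalize (ws * xs 1 * ws : X K) = c at h2 ⊢
          rw [h2, ← mul_assoc, ← mul_assoc, xs_sq, one_mul, mul_assoc, xs_sq, mul_one]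
        have := congrArg e h1
        simp only [map_mul] at this
        simp only [vo]
        calc _ = e ws * e (xs 1) * e ws * val a * (e ws * e (xs 1) * e ws)⁻¹ := by group
          _ = _ := by rw [this]; group)
      hι := fun y r v => vi (by simp only [vo, vι]; rw [map_conj, ht_xa])
      hθ := fun y r a => th_conj b h (ht_mem_Lv y r) (vm a) (ht_xa ..)
      sι := fun y v => vi (by simp only [vo, vι]; rw [map_conj, xs_xa])
      sθ := fun y a => th_conj b h (xs_mem_Lv y) (vm a) (xs_xa ..)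
      wι := fun v => vi (by simp only [vo, vι]; rw [map_conj, ws_xa])
      wθ := fun a => th_conj b h ws_mem_Lv (vm a) (ws_xa ..) }
  have sq : El M := h.sq
  refine ⟨fun p => val (az p), fun v => val (bm v), fun m => ⟨fun hm => ?_, ?_⟩, sq.le_Cs, sq,
    fun p p' => by rw [map_add, va], fun p p' => by rw [map_add, va],
    fun p => congrArg val (c.azι p), fun p => congrArg val (c.bmι p),
    fun p => (h.th _ (vm _)).trans (by rw [← c.azθ]; rfl),
    fun p => (h.th _ (vm _)).trans (by rw [← c.bmθ]; rfl),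
    fun y r p => congrArg val (c.haz y r p), fun y r p => congrArg val (c.hbm y r p),
    fun a p => mul_inv_eq_iff_eq_mul.1 (congrArg val (c.saz a p)), h.nor, h.big⟩
  · obtain ⟨p, v, p', c1⟩ := c.dec (Additive.ofMul ⟨m, hm⟩)
    exact ⟨p, v, p', congrArg val c1⟩
  · rintro ⟨p, v, p', rfl⟩
    exact vm (az p + bm v + op _ ws_mem_Lv (az p'))

omit h b in
theorem jobCo : JobCo.{u} := fun j _ _ _ _ _ _ _ _ _ _ _ _ _ _ _ _ _ b _ _ h => co b h j

end H83.SVCo
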