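import Cfsg.Agent.H66.SOEF
import Cfsg.Agent.H83.SVInd

/-! STD-U at `q = 2`, field case: `JobDF` and `JobEF`. -/

set_option autoImplicit false
set_option linter.unusedSectionVars false

namespace H83.SVE

open H64.SG (O2 Syl Cz Cs Ns cjs Is2 Inv2 UF IsO2 fx mem_Cz is2_of_sq isPGroup_iff_is2)
open H67.SA (SLn Au sc UU ZZ QQ Ml St out Gen Ns_le_of_cj mem_sup_zp sc_one sc_add sc_sq sc_conj
  sc_comm out_conj out_comm isP_UU QQ_le_UU Ml_le_UU UU_le_Cs Ml_le_Cs sq_Ml UU_le_Ns_Ml card_Ml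
  syl_map_UU hom_eq_one mem_St_Pat x_mem_Pat)
open H59.SO (Iv mem_Iv)
open H66.SO (df_core two_lam exists_eta)
open H83.SV H98 Subgroup

universe u

theorem jobDF : JobDF.{u} := by
  intro F K _ _ _ _ _ _ _ _ _ A G _ _ e t Φ h _ c f y d4 d0
  have hk := c.inj
  obtain ⟨η, h1, h2⟩ := exists_eta (sg_mul_self (K := K)) (sg_ne_one F K)
  have i := (ind_conj y).mul c.act
  have d2 : Φ (y * tau K y) = (Φ y * t) ^ 2 := by rw [map_mul, ← c.act, h.inv_eq, pow_two]; group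
  obtain ⟨g, hg⟩ : ∃ g, g = y * tau K y := ⟨_, rfl⟩
  obtain ⟨d, hd⟩ : ∃ d, d = Φ y * t := ⟨_, rfl⟩
  rw [← hg] at d2
  rw [← hd] at d4 d0 d2 i ⊢
  have g1 : g * g = 1 := hk (by rw [map_mul, d2, ← pow_add, d4, map_one])
  have g2 := (i.comm_iff hk (a := g)).1 (by rw [d2, ← pow_succ, ← pow_succ'])
  have w1 := i (sc η g)
  rw [A.k.lin _ _ _ g1, g2, map_mul, out_conj (by omega), out_tau, one_mul] at w1
  have w2 : Φ (sc η g) * Φ (sc η g) = 1 := by rw [← map_mul, sc_sq g1, map_one]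
  have w3 : Φ (sc η g) * d * Φ (sc η g) = d⁻¹ := by
    rw [mul_assoc, eq_mul_of_mul_inv_eq w1, ← mul_assoc, ← map_mul, ← sc_add g1, h1, sc_one g1, d2,
      eq_inv_iff_mul_eq_one, ← d4]; group
  have w0 : Φ (y * tau K (sc η g)) * t = d * Φ (sc η g) := by rw [map_mul, ← c.act, hd]; group
  obtain ⟨l, hl⟩ := f.fi (y * tau K (sc η g)) (by
    rw [w0, mul_assoc, ← mul_assoc (Φ _), w3, mul_inv_cancel])
  rw [w0] at hl
  have l1 : Φ l ∈ Ns Φ.range := le_normalizer ⟨l, rfl⟩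
  have w4 : d * Φ (sc η g) * d * (d * Φ (sc η g))⁻¹ = d⁻¹ := by
    rw [_root_.mul_inv_rev, inv_eq_of_mul_eq_one_right w2, mul_assoc d, mul_assoc d,
      ← mul_assoc _ _ d⁻¹, w3, mul_inv_cancel_left]
  refine ⟨⟨_, hl ▸ mul_mem (mul_mem l1 f.uf.mem) (inv_mem l1), isConj_iff.2 ⟨_, hl.symm⟩, w4⟩,
    fun h3 => ?_⟩
  obtain ⟨u, hu⟩ : ∃ u : X K, u.1 = l⁻¹ * g * l := ⟨⟨_, mem_SUs.2 ((c.act.comm_iff hk).1 (by
    have : d * Φ (sc η g) * d ^ 2 * (d * Φ (sc η g))⁻¹ = d ^ 2 := by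
      rw [← conj_pow, w4, inv_pow, inv_eq_iff_mul_eq_one, ← pow_add, d4]
    rw [hl, ← d2] at this
    rw [map_mul, map_mul, map_inv]
    nth_rewrite 2 [← this]
    group))⟩, rfl⟩
  have g0 : g ≠ 1 := fun h => d0 (by rw [← d2, h, map_one])
  have key : ∀ w : X K, IsConj u w → ∀ (N : Subgroup (X K)) (N' : Subgroup (SLn 3 K)),
      (∀ β : Au 3 K, β w.1 = w.1 → β ∈ St N') → N ≤ Iv N → Cs (N.map e) ≤ Ns Φ.range →
      N.map e ≤ N'.map Φ → N' ≤ UU 3 K → (∀ a ∈ N', w.1 * a = a * w.1) →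
      Ns (zpowers d) ≤ Ns Φ.range := fun w w5 N N' a0 a1 a2 a3 a4 a5 => by
    obtain ⟨p, w6⟩ := isConj_iff.1 w5
    have w8 : p.1 * l⁻¹ * g * (p.1 * l⁻¹)⁻¹ = w.1 := by
      rw [← w6, coe_mul, coe_mul, hu, coe_inv]; group
    have w7 : w.1 * w.1 = 1 := by rw [← w8, conj_mul, g1]; simp
    refine Ns_le_of_cj (mul_mem (le_normalizer (c.le ⟨p, rfl⟩)) (inv_mem l1)) ?_
    convert df_core (φ := (MonoidHom.fst _ _).comp (out 3 K)) (s := fun c => sc c w.1) hk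
      ⟨h.inj, h.inv, h.cen, h.cz⟩ ⟨f.uf, f.le, f.odd, f.tx⟩ c.act
      (by rwa [MonoidHom.comp_apply, out_tau]) h2
      (fun m m2 β i => (h3 m m2 β i).imp (congrArg Prod.fst) (congrArg Prod.fst)) (sc_add w7)
      (by rwa [sc_one w7, ← w8, Ne, conj_eq_one_iff]) (by rw [sc_one w7]; exact mem_SUs.1 w.2)
      (fun β b => by
        rw [sc_one w7] at b; exact ⟨a0 β b, fun c => by rw [A.k.lin _ _ _ w7, b]; rfl⟩)
      a1 a2 a3 (isP_UU.to_le a4) (fun a ha => sc_comm w7 (a5 a ha).symm η) using 3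
    rw [← w8, ← sc_conj g1, ← h.conj_t p, eq_mul_inv_of_mul_eq hl, inv_eq_of_mul_eq_one_right w2]
    simp only [map_mul, map_inv, c.res]
    group
  rcases A.i.ic2 u ⟨Subtype.ext (by rw [coe_mul, hu]; simp [mul_assoc, ← mul_assoc g, g1]), by
    rintro rfl
    exact g0 (by simpa [mul_assoc] using congrArg (fun a => l * a * l⁻¹) hu.symm)⟩ with h5 | h5
  · exact key _ h5 (QX K) _ A.k.nz (A.l.invQ.le.trans (closure_mono fun a ha =>
      ⟨A.l.invQ.ge (subset_closure ha), ha.2.2⟩)) f.cQ (c.map_le _) QQ_le_UU fun a ha =>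
      UU_le_Cs (QQ_le_UU ha) _ ((mem_ZX (F := F)).2 ⟨1, rfl⟩)
  · exact key _ h5 (AX K) _ A.k.nw (fun a ha => mem_Iv ha (sq_AX ha)) f.cA (c.map_le _)
      (Ml_le_UU _) fun a ha => Ml_le_Cs _ ha _ (xa_mem_AX _)

theorem jobEF : JobEF.{u} := by
  intro F K _ _ _ _ _ _ _ _ _ A G _ _ e t Φ h _ c f hN hD gen
  have hk := c.inj
  by_contra hM
  let _ : CommGroup (RingAut K × Multiplicative (ZMod 2)) :=
    { (inferInstance : Group _) with mul_comm := out_comm }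
  have : Finite (RingAut K) := Finite.of_injective _ DFunLike.coe_injective
  let lam := (out 3 K).comp (indH hk)
  have l0 : ∀ {m β} (i : Ind Φ m β), lam ⟨m, i.mem_Ns⟩ = out 3 K β := fun i =>
    congrArg (out 3 K) (i.indH_eq hk)
  have h3 : ∀ m, Is2 m → ∀ β, Ind Φ m β → out 3 K β = 1 ∨ out 3 K β = out 3 K (tau K) :=
    fun m m2 β i => by
      rw [← l0 i, ← l0 c.act]
      exact two_lam f.uf gen lam (fun s s1 s2 => by
        obtain ⟨m, -, ⟨β, i, b⟩, m2⟩ := f.ft s s1 s2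
        exact ⟨m, i.mem_Ns, (l0 i).trans b, m2⟩) _ (l0 i ▸ (i.is2 hk m2).map _)
  have t1 : t ∈ Ns ((UU 3 K).map Φ) := c.act.mem_Ns_map (mem_St_Pat fun i j _ hs a => by
    rw [tau_x]; exact x_mem_Pat (Fin.rev_lt_rev.2 hs) _)
  have t2 : t ∈ Ns ((Ml 3 K 2).map Φ) := c.act.mem_Ns_map (mem_St_Pat fun i j _ hs a => by
    rw [tau_x]; exact x_mem_Pat (by simp only [Fin.val_rev]; omega) _)
  have S1 : IsSyl 2 ((UU 3 K).map Φ ⊔ zpowers t) (Ns Φ.range) := by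
    refine ⟨sup_le ((map_le_range _ _).trans le_normalizer) (zpowers_le.2 f.uf.mem),
      H64.SG.isPGroup_sup_zpowers (isP_UU.map Φ) t1 (is2_of_sq h.inv.1),
      fun P p1 p2 p3 => le_antisymm (fun a ha => ?_) p2⟩
    have h2 := (H64.SG.syl_iff.1 syl_map_UU).eq_of_le (p1.to_le inf_le_left)
      (le_inf (le_sup_left.trans p2) (map_le_range _ _)) inf_le_right
    have key : ∀ a ∈ P, ∀ β, Ind Φ a β → out 3 K β = 1 → a ∈ P ⊓ Φ.range := fun a ha β i i' => by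
      obtain ⟨y, rfl⟩ := A.k.inn β i'
      obtain ⟨-, k, k1, k2, k3, -⟩ := i.split hk A.k.cen (isPGroup_iff_is2.1 p1 a ha)
      rw [k2.eq_one (H64.SG.odd_orderOf_of_mem f.odd k1), one_mul] at k3
      exact ⟨ha, y, k3.symm⟩
    rw [mem_sup_zp t1 h.inv.1, ← h2]
    obtain ⟨β, i⟩ := exists_ind hk (p3 ha)
    exact (h3 a (isPGroup_iff_is2.1 p1 a ha) β i).imp (key a ha β i) fun i' =>
      key _ (mul_mem ha (p2 (mem_sup_right (mem_zpowers t)))) _ (i.mul c.act)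
        (by rw [map_mul, i', ← map_mul, tau_mul_self, map_one])
  obtain ⟨V, hV⟩ := H9.UF.jobK3 f.uf lam
  have v1 : V t ≠ 1 := by
    rw [hV t f.uf.mem t (IsConj.refl t) f.uf.mem rfl (Or.inl h.inv.1), l0 c.act, out_tau]
    exact fun e => sg_ne_one F K (congrArg Prod.fst e)
  have v2 : ∀ y, V (Φ y) = 1 := hom_eq_one (by omega) (V.comp Φ) fun _ _ => mul_comm _ _
  have v3 : ∀ a ∈ (UU 3 K).map Φ ⊔ zpowers t, V a ≠ 1 → ∃ y, a = Φ y * t := fun a a1 a2 => by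
    rcases (mem_sup_zp t1 h.inv.1).1 a1 with ⟨y, -, rfl⟩ | ⟨y, -, hy⟩
    · exact absurd (v2 y) a2
    · exact ⟨y, by rw [hy, mul_assoc, h.inv.1, mul_one]⟩
  obtain ⟨W, a, b, w1, -, a1, -, -, b2, b3, -, w2, -, w3, -⟩ := H9.UF.jobK4 f.uf hM _
    (H64.SG.syl_iff.2 S1)
  have B3 : El ((Ml 3 K 2).map Φ) := El.map (fun _ => sq_Ml) Φ
  by_cases hl : (Ml 3 K 2).map Φ ≤ W
  · have k1 : cj b ((Ml 3 K 2).map Φ) ≤ (UU 3 K).map Φ := by
      rintro _ ⟨_, ⟨u, hu, rfl⟩, rfl⟩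
      refine ((mem_sup_zp t1 h.inv.1).1 (w1 (conj_mem_of_mem_normalizer b2
        (hl (mem_map_of_mem Φ hu))))).resolve_right ?_
      rintro ⟨y, -, hy⟩
      have := congrArg V hy
      rw [map_mul, map_mul, map_mul, v2, v2, mul_one, map_inv, mul_inv_cancel, one_mul] at this
      exact v1 this.symm
    have k2 := map_comap_eq_self (k1.trans (map_le_range _ _))
    refine b3 (hN (cj_eq_self_iff.1 ?_))
    rw [← k2, A.k.jM _ ((comap_mono k1).trans (comap_map_eq_self_of_injective hk _).le)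
      (fun y ⟨z, z1, z2⟩ => hk (by
        rw [map_mul, ← z2, ← map_mul, B3 z z1, map_one, map_one]))
      (by rw [← card_map_of_injective hk, k2, card_cj, card_map_of_injective hk, card_Ml (by omega)])]
  have B1 : (UU 3 K).map Φ ⊔ zpowers t ≤ Ns ((Ml 3 K 2).map Φ) := sup_le (by
    rintro _ ⟨u, hu, rfl⟩; exact map_mem_Ns (UU_le_Ns_Ml 2 hu)) (zpowers_le.2 t2)
  have B2 : (Ml 3 K 2).map Φ ≤ (UU 3 K).map Φ ⊔ zpowers t := (map_mono (Ml_le_UU 2)).trans le_sup_left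
  obtain ⟨s, ⟨s1, s2⟩, s3⟩ := SetLike.exists_of_lt (lt_inf_normalizer
    (S1.isPGroup.to_le (sup_le w1 B2)) (left_lt_sup.2 hl))
  obtain ⟨w, hw, u, hu, rfl⟩ := (mem_sup_left_norm (w1.trans B1)).1 s1
  obtain ⟨d, d1, m, -, d2⟩ := w3 u ((mul_mem_cancel_left (le_normalizer hw)).1 s2)
    (fun h => s3 (mul_mem hw h)) (B3 u hu ▸ one_mem W)
  have c1 : IsConj t (u * d) := d2 ▸ a1.trans (isConj_iff.2 ⟨m, rfl⟩)
  have d3 : V d ≠ 1 := by
    obtain ⟨r, hr⟩ := isConj_iff.1 c1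
    obtain ⟨u, -, rfl⟩ := hu
    have := congrArg V hr
    rw [map_mul, map_mul, map_mul, v2, one_mul, map_inv, mul_inv_cancel_comm] at this
    exact this ▸ v1
  have d4 : d ^ 4 = 1 := by
    have k1 := (H9.UF.inv2_conj h.inv c1).1
    have k2 : d * d = u * (u * d * u * (u * d)⁻¹) := by
      rw [inv_eq_of_mul_eq_one_right k1, ← mul_assoc u, ← mul_assoc u, ← mul_assoc u, B3 u hu, one_mul,
        mul_assoc d, ← mul_assoc u, B3 u hu, one_mul]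
    have := B3 _ (k2 ▸ mul_mem hu (conj_mem_of_mem_normalizer (B1 (mul_mem (B2 hu) (w1 d1))) hu))
    rw [← this, show 4 = 2 + 2 from rfl, pow_add, pow_two]
  have key : ∀ d ∈ W, V d ≠ 1 → d ^ 4 = 1 → (∃ s ∈ Ns Φ.range, IsConj t s ∧ s ∈ Ns (zpowers d)) ∧
      Ns (zpowers d) ≤ Ns Φ.range := fun d d1 d3 d4 => by
    obtain ⟨y, rfl⟩ := v3 d (w1 d1) d3
    obtain ⟨⟨s, s1, s2, s3⟩, k⟩ := hD y d4 fun d5 => by
      obtain ⟨r, hr⟩ := f.fi y (pow_two (Φ y * t) ▸ d5)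
      exact w2 _ d1 (isConj_iff.2 ⟨_, hr.symm⟩)
    exact ⟨⟨s, s1, s2, H9.UF.mem_nor_zp s3⟩, k h3⟩
  obtain ⟨⟨s, s1, s2, s3⟩, k1⟩ := key d d1 d3 d4
  obtain ⟨⟨s', s4, s5, s6⟩, -⟩ := key _ (conj_mem_of_mem_normalizer b2 d1)
    (by rwa [map_mul, map_mul, map_inv, mul_inv_cancel_comm]) (by rw [conj_pow, d4]; simp)
  obtain ⟨m, m1, r, r1, rfl⟩ := (H9.UF.jobK2 f.uf s2 s1).2 (zpowers d) b s' s3 s5 s4
    (by rwa [cjs, MonoidHom.map_zpowers])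
  exact b3 (mul_mem m1 (k1 r1))

end H83.SVE
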