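/- SU-FH: Hua's theorem for `2 × 2` matrices. -/
import Cfsg.Agent.H83.SVSpec
import Cfsg.Agent.H76.SAFB

set_option autoImplicit false
set_option linter.unusedSectionVars false
set_option linter.unusedSimpArgs false

namespace H83.SVFH

open H83.SV H67.SA Matrix H57

variable {K : Type} [Field K]

/-- `2 × 2` matrices -/
abbrev M2 (K : Type) : Type := Matrix (Fin 2) (Fin 2) K

/-- the polar form of the determinant -/
def bb (Y Z : M2 K) : K := Y 0 0 * Z 1 1 + Z 0 0 * Y 1 1 - Y 0 1 * Z 1 0 - Z 0 1 * Y 1 0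

/-- the determinant of two vectors -/
def dd (v w : Fin 2 → K) : K := v 0 * w 1 - v 1 * w 0

theorem det_add' (Y Z : M2 K) : (Y + Z).det = Y.det + Z.det + bb Y Z := by
  simp only [det_fin_two, Matrix.add_apply, bb]; ring

theorem bb_vec (v w v' w' : Fin 2 → K) : bb (vecMulVec v w) (vecMulVec v' w') = dd v v' * dd w w' := by
  simp only [bb, dd, vecMulVec_apply]; ring

theorem det_vec (v w : Fin 2 → K) : (vecMulVec v w).det = 0 := by
  simp only [det_fin_two, vecMulVec_apply]; ring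

theorem exists_vec {Y : M2 K} (h : Y.det = 0) : ∃ v w, Y = vecMulVec v w := by
  rw [det_fin_two] at h
  by_cases h0 : Y 0 0 = 0
  · rw [h0, zero_mul, zero_sub, neg_eq_zero, mul_eq_zero] at h
    rcases h with h | h
    · exact ⟨![0, 1], Y 1, by ext i j; fin_cases i <;> fin_cases j <;> simp [vecMulVec_apply, h0, h]⟩
    · exact ⟨![Y 0 1, Y 1 1], ![0, 1], by
        ext i j; fin_cases i <;> fin_cases j <;> simp [vecMulVec_apply, h0, h]⟩
  · refine ⟨![1, Y 1 0 / Y 0 0], Y 0, ?_⟩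
    ext i j
    fin_cases i <;> fin_cases j <;> simp [vecMulVec_apply] <;> field_simp
    linear_combination h

theorem dd_zero {v w : Fin 2 → K} (hv : v ≠ 0) (h : dd v w = 0) : ∃ s : K, w = s • v := by
  rw [dd] at h
  by_cases h0 : v 0 = 0
  · have h1 : v 1 ≠ 0 := fun e => hv (by ext i; fin_cases i <;> simp [h0, e])
    refine ⟨w 1 / v 1, ?_⟩
    ext i
    fin_cases i
    · simpa [h0, h1] using h
    · simp [h1]
  · refine ⟨w 0 / v 0, ?_⟩
    ext i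
    fin_cases i
    · simp [h0]
    · simp only [Fin.mk_one, Pi.smul_apply, smul_eq_mul]
      field_simp
      linear_combination h

theorem dd_ne {v : Fin 2 → K} (hv : v ≠ 0) : ∃ w, dd v w ≠ 0 := by
  by_contra! h
  exact hv (by ext i; fin_cases i; exacts [by simpa [dd] using h ![0, 1], by simpa [dd] using h ![1, 0]])

theorem line {U V : M2 K} (hU : U.det = 0) (hV : V.det = 0) (h0 : U ≠ 0)
    (h : ∀ W : M2 K, W.det = 0 → bb U W = 0 → bb V W = 0) : ∃ s : K, V = s • U := by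
  obtain ⟨v, w, rfl⟩ := exists_vec hU
  obtain ⟨v', w', rfl⟩ := exists_vec hV
  rw [Ne, vecMulVec_eq_zero, not_or] at h0
  by_cases a : v' = 0
  · exact ⟨0, by simp [a]⟩
  by_cases b : w' = 0
  · exact ⟨0, by simp [b]⟩
  obtain ⟨x, hx⟩ := dd_ne a
  obtain ⟨y, hy⟩ := dd_ne b
  have h1 := h _ (det_vec v y) (by rw [bb_vec]; simp [dd, mul_comm])
  have h2 := h _ (det_vec x w) (by rw [bb_vec]; simp [dd, mul_comm])
  rw [bb_vec, mul_eq_zero] at h1 h2
  obtain ⟨s, rfl⟩ := dd_zero h0.1 (show dd v v' = 0 by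
    have := h1.resolve_right hy
    simp only [dd] at this ⊢
    linear_combination -this)
  obtain ⟨t, rfl⟩ := dd_zero h0.2 (show dd w w' = 0 by
    have := h2.resolve_left hx
    simp only [dd] at this ⊢
    linear_combination -this)
  exact ⟨s * t, by ext i j; simp only [vecMulVec_apply, Pi.smul_apply, Matrix.smul_apply, smul_eq_mul]; ring⟩

theorem bb_lin (s t : K) (U V W : M2 K) : bb (s • U + t • V) W = s * bb U W + t * bb V W := by
  simp only [bb, Matrix.add_apply, Matrix.smul_apply, smul_eq_mul]; ring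

theorem frame {v₁ w₁ v₂ w₂ v₃ w₃ v₄ w₄ : Fin 2 → K} (h : dd v₁ v₂ = 0) (h13 : dd v₁ v₃ * dd w₁ w₃ = 0)
    (h24 : dd v₂ v₄ * dd w₂ w₄ = 0) (h34 : dd v₃ v₄ * dd w₃ w₄ = 0) (h14 : dd v₁ v₄ * dd w₁ w₄ ≠ 0)
    (h23 : dd v₂ v₃ * dd w₂ w₃ ≠ 0)
    (h1 : (vecMulVec v₁ w₁ + vecMulVec v₂ w₂ + vecMulVec v₃ w₃ + vecMulVec v₄ w₄).det = 0) :
    ∃ P R : M2 K, P.det ≠ 0 ∧ R.det ≠ 0 ∧ ∀ a b c d : K, a • vecMulVec v₁ w₁ + b • vecMulVec v₂ w₂ +
      c • vecMulVec v₃ w₃ + d • vecMulVec v₄ w₄ = P * !![a, b; c, d] * R := by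
  have z : ∀ {v w : Fin 2 → K}, dd v w ≠ 0 → v ≠ 0 := fun h e => h (by simp [e, dd])
  have l : ∀ (s : K) (v w : Fin 2 → K), dd (s • v) w = s * dd v w := fun s v w => by
    simp only [dd, Pi.smul_apply, smul_eq_mul]; ring
  have r : ∀ (s : K) (v w : Fin 2 → K), dd v (s • w) = s * dd v w := fun s v w => by
    simp only [dd, Pi.smul_apply, smul_eq_mul]; ring
  obtain ⟨a1, a2⟩ := mul_ne_zero_iff.1 h14
  obtain ⟨a3, a4⟩ := mul_ne_zero_iff.1 h23
  obtain ⟨s, rfl⟩ := dd_zero (z a1) h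
  rw [l] at a3 h24
  obtain ⟨s0, a3⟩ := mul_ne_zero_iff.1 a3
  obtain ⟨t, rfl⟩ := dd_zero (z a2) ((mul_eq_zero.1 h13).resolve_left a3)
  obtain ⟨k, rfl⟩ := dd_zero (z a4) ((mul_eq_zero.1 h24).resolve_left (mul_ne_zero s0 a1))
  rw [r] at a2 a4
  have t0 := left_ne_zero_of_mul a4
  have a5 := right_ne_zero_of_mul a2
  have n3 : v₃ ≠ 0 := fun e => a3 (by simp [e, dd])
  obtain ⟨m, rfl⟩ := dd_zero n3 ((mul_eq_zero.1 h34).resolve_right (by
    rw [l, r]; exact mul_ne_zero t0 a2))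
  have e : m * k = s * t := by
    refine mul_left_cancel₀ (mul_ne_zero a3 a5) ?_
    simp only [det_fin_two, Matrix.add_apply, vecMulVec_apply, Pi.smul_apply, smul_eq_mul, dd] at h1 ⊢
    linear_combination h1
  refine ⟨!![v₁ 0, t * v₃ 0; v₁ 1, t * v₃ 1], !![w₁ 0, w₁ 1; s * w₂ 0, s * w₂ 1], ?_, ?_,
    fun a b c d => ?_⟩
  · refine fun e => mul_ne_zero t0 a3 ?_
    rw [det_fin_two_of] at e
    rw [dd]
    linear_combination e
  · refine fun e => mul_ne_zero s0 a5 ?_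
    rw [det_fin_two_of] at e
    rw [dd]
    linear_combination e
  · ext i j
    fin_cases i <;> fin_cases j <;> simp [vecMulVec_apply, mul_apply, Fin.sum_univ_two]
    · linear_combination d * v₃ 0 * w₂ 0 * e
    · linear_combination d * v₃ 0 * w₂ 1 * e
    · linear_combination d * v₃ 1 * w₂ 0 * e
    · linear_combination d * v₃ 1 * w₂ 1 * e

theorem hua [Finite K] (φ : M2 K →+ M2 K) (hb : Function.Bijective φ)
    (hd : ∀ Y, Y.det = 0 ↔ (φ Y).det = 0) : ∃ (f : RingAut K) (P R : M2 K), P.det ≠ 0 ∧ R.det ≠ 0 ∧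
      ((∀ Y, φ Y = P * Y.map f * R) ∨ ∀ Y, φ Y = P * Yᵀ.map f * R) := by
  have hB : ∀ U V : M2 K, U.det = 0 → V.det = 0 → (bb U V = 0 ↔ bb (φ U) (φ V) = 0) :=
    fun U V hU hV => by
      have := hd (U + V)
      rwa [map_add, det_add', det_add', hU, hV, (hd U).1 hU, (hd V).1 hV, zero_add, zero_add, zero_add]
        at this
  have ds : ∀ (c : K) (U : M2 K), U.det = 0 → (c • U).det = 0 := fun c U h => by
    rw [det_smul, h, mul_zero]
  have hL : ∀ (c : K) (U : M2 K), U.det = 0 → ∃ s : K, φ (c • U) = s • φ U := fun c U hU => by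
    by_cases h0 : U = 0
    · exact ⟨0, by simp [h0]⟩
    refine line ((hd U).1 hU) ((hd _).1 (ds c U hU)) (fun e => h0 (hb.1 (e.trans φ.map_zero.symm)))
      fun W hW h => ?_
    obtain ⟨W, rfl⟩ := hb.2 W
    rw [← hd] at hW
    refine (hB _ _ (ds c U hU) hW).1 ?_
    simpa [(hB _ _ hU hW).2 h] using bb_lin c 0 U U W
  have hM : ∀ (U V W W' : M2 K), U.det = 0 → V.det = 0 → W.det = 0 → W'.det = 0 → bb U V = 0 →
      bb U W = 0 → bb V W ≠ 0 → bb U W' ≠ 0 → bb V W' = 0 → ∀ c s : K, φ (c • U) = s • φ U →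
      φ (c • V) = s • φ V := fun U V W W' h1 h2 h3 h4 a1 a2 a3 a4 a5 c s e => by
    obtain ⟨s', e'⟩ := hL c V h2
    obtain ⟨t, e''⟩ := hL c (U + V) (by rw [det_add', h1, h2, a1]; simp)
    rw [smul_add, map_add, map_add, smul_add, e, e'] at e''
    have b1 := congrArg (bb · (φ W)) e''
    have b2 := congrArg (bb · (φ W')) e''
    simp only [bb_lin, (hB _ _ h1 h3).1 a2, (hB _ _ h2 h4).1 a5, mul_zero, zero_add, add_zero] at b1 b2
    rw [e', mul_right_cancel₀ (mt (hB _ _ h2 h3).2 a3) b1, mul_right_cancel₀ (mt (hB _ _ h1 h4).2 a4) b2]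
  let E₁ : M2 K := !![1, 0; 0, 0]
  let E₂ : M2 K := !![0, 1; 0, 0]
  let E₃ : M2 K := !![0, 0; 1, 0]
  let E₄ : M2 K := !![0, 0; 0, 1]
  have d1 : E₁.det = 0 := by simp [E₁]
  have d2 : E₂.det = 0 := by simp [E₂]
  have d3 : E₃.det = 0 := by simp [E₃]
  have d4 : E₄.det = 0 := by simp [E₄]
  choose f f1 using fun c => hL c E₁ d1
  have f2 := fun c => hM E₁ E₂ E₃ E₄ d1 d2 d3 d4 (by simp [bb, E₁, E₂]) (by simp [bb, E₁, E₃])
    (by simp [bb, E₂, E₃]) (by simp [bb, E₁, E₄]) (by simp [bb, E₂, E₄]) c _ (f1 c)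
  have f3 := fun c => hM E₁ E₃ E₂ E₄ d1 d3 d2 d4 (by simp [bb, E₁, E₃]) (by simp [bb, E₁, E₂])
    (by simp [bb, E₂, E₃]) (by simp [bb, E₁, E₄]) (by simp [bb, E₃, E₄]) c _ (f1 c)
  have f4 := fun c => hM E₂ E₄ E₁ E₃ d2 d4 d1 d3 (by simp [bb, E₂, E₄]) (by simp [bb, E₁, E₂])
    (by simp [bb, E₁, E₄]) (by simp [bb, E₂, E₃]) (by simp [bb, E₃, E₄]) c _ (f2 c)
  have n1 : E₁ ≠ 0 := fun e => by simpa [E₁] using congrFun (congrFun e 0) 0
  have n2 : φ E₁ ≠ 0 := fun e => n1 (hb.1 (e.trans φ.map_zero.symm))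
  let g : K →+* K :=
    { toFun := f
      map_one' := smul_left_injective K n2 (by simp only [← f1, one_smul])
      map_zero' := smul_left_injective K n2 (by simp only [← f1, zero_smul, map_zero])
      map_add' := fun a b => smul_left_injective K n2 (by simp only [← f1, add_smul, map_add])
      map_mul' := fun a b => smul_left_injective K n2 (by
        simp only [← f1, mul_smul]
        by_cases h : b = 0
        · simp [h]
        · exact hM E₂ (b • E₁) E₄ E₃ d2 (ds _ _ d1) d4 d3 (by simp [bb, E₁, E₂]) (by simp [bb, E₂, E₄])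
            (by simp [bb, E₁, E₄, h]) (by simp [bb, E₂, E₃]) (by simp [bb, E₁, E₃]) a _ (f2 a)) }
  let τ : RingAut K := RingEquiv.ofBijective g (Finite.injective_iff_bijective.1 g.injective)
  have hφ : ∀ Y : M2 K, φ Y = τ (Y 0 0) • φ E₁ + τ (Y 0 1) • φ E₂ + τ (Y 1 0) • φ E₃ +
      τ (Y 1 1) • φ E₄ := fun Y => by
    refine Eq.trans ?_ (congrArg₂ _ (congrArg₂ _ (congrArg₂ _ (f1 _) (f2 _)) (f3 _)) (f4 _))
    rw [← map_add, ← map_add, ← map_add]
    congr 1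
    ext i j
    fin_cases i <;> fin_cases j <;> simp [E₁, E₂, E₃, E₄]
  have b12 := (hB _ _ d1 d2).1 (by simp [bb, E₁, E₂])
  have b13 := (hB _ _ d1 d3).1 (by simp [bb, E₁, E₃])
  have b24 := (hB _ _ d2 d4).1 (by simp [bb, E₂, E₄])
  have b34 := (hB _ _ d3 d4).1 (by simp [bb, E₃, E₄])
  have b14 := mt (hB _ _ d1 d4).2 (by simp [bb, E₁, E₄])
  have b23 := mt (hB _ _ d2 d3).2 (by simp [bb, E₂, E₃])
  have b32 := mt (hB _ _ d3 d2).2 (by simp [bb, E₂, E₃])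
  have b1 := (hd (E₁ + E₂ + E₃ + E₄)).1 (by simp [E₁, E₂, E₃, E₄])
  rw [map_add, map_add, map_add] at b1
  obtain ⟨v₁, w₁, e₁⟩ := exists_vec ((hd _).1 d1)
  obtain ⟨v₂, w₂, e₂⟩ := exists_vec ((hd _).1 d2)
  obtain ⟨v₃, w₃, e₃⟩ := exists_vec ((hd _).1 d3)
  obtain ⟨v₄, w₄, e₄⟩ := exists_vec ((hd _).1 d4)
  simp only [e₁, e₂, e₃, e₄, bb_vec] at hφ b12 b13 b24 b34 b14 b23 b32 b1
  by_cases h : dd v₁ v₂ = 0
  · obtain ⟨P, R, hP, hR, e⟩ := frame h b13 b24 b34 b14 b23 b1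
    refine ⟨τ, P, R, hP, hR, Or.inl fun Y => ?_⟩
    rw [hφ, e, eta_fin_two (Y.map τ)]
    rfl
  · have h' : dd v₁ v₃ = 0 := by
      by_contra h'
      have z : w₁ ≠ 0 := fun e => b14 (by simp [e, dd])
      obtain ⟨s, rfl⟩ := dd_zero z ((mul_eq_zero.1 b12).resolve_left h)
      obtain ⟨t, rfl⟩ := dd_zero z ((mul_eq_zero.1 b13).resolve_left h')
      exact b23 (by simp only [dd, Pi.smul_apply, smul_eq_mul]; ring)
    obtain ⟨P, R, hP, hR, e⟩ := frame h' b12 b34 b24 b14 b32 (by rwa [add_right_comm (vecMulVec v₁ w₁)])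
    refine ⟨τ, P, R, hP, hR, Or.inr fun Y => ?_⟩
    rw [hφ, add_right_comm (τ (Y 0 0) • vecMulVec v₁ w₁), e, eta_fin_two (Yᵀ.map τ)]
    rfl

/-- the element with upper right block `Y` -/
def mm (Y : M2 K) : SLn 3 K := x 0 2 (Y 0 0) * x 0 3 (Y 0 1) * x 1 2 (Y 1 0) * x 1 3 (Y 1 1)

theorem mm_val (Y : M2 K) :
    (mm Y).1 = !![1, 0, Y 0 0, Y 0 1; 0, 1, Y 1 0, Y 1 1; 0, 0, 1, 0; 0, 0, 0, 1] := by
  rw [mm, val_mul, val_mul, val_mul, eta4 (x 0 2 _).1, eta4 (x 0 3 _).1, eta4 (x 1 2 _).1,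
    eta4 (x 1 3 _).1]
  simp [x_apply, mul4]

theorem mm_add (Y Z : M2 K) : mm (Y + Z) = mm Y * mm Z :=
  Subtype.ext (by simp [val_mul, mm_val, mul4, add_comm])

theorem mm_inj {Y Z : M2 K} (h : mm Y = mm Z) : Y = Z := by
  have := congrArg Subtype.val h
  rw [mm_val, mm_val, ext4] at this
  rw [eta_fin_two Y, eta_fin_two Z, this.1.2.2.1, this.1.2.2.2, this.2.1.2.2.1, this.2.1.2.2.2]

theorem mem_mm {g : SLn 3 K} : g ∈ Ml 3 K 2 ↔ ∃ Y, g = mm Y := by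
  refine ⟨fun h => ⟨!![g.1 0 2, g.1 0 3; g.1 1 2, g.1 1 3], Subtype.ext ?_⟩, ?_⟩
  · obtain ⟨h1, h2⟩ := mem_Ml.1 h
    rw [mm_val, eta4 g.1]
    simp [h1, h2]
  · rintro ⟨Y, rfl⟩
    exact mul_mem (mul_mem (mul_mem (x_mem_Pat (by decide) _) (x_mem_Pat (by decide) _))
      (x_mem_Pat (by decide) _)) (x_mem_Pat (by decide) _)

theorem root_mm (Y : M2 K) : Root (mm Y) ↔ Y ≠ 0 ∧ Y.det = 0 := by
  rw [H76.SAFB.root_iff (by omega)]
  refine ⟨fun h => ⟨?_, ?_⟩, fun h => ?_⟩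
  · rintro rfl
    rw [show mm (0 : M2 K) = 1 by simp [mm], val_one, sub_self, rank_zero] at h
    exact zero_ne_one h
  · obtain ⟨v, w, e⟩ := exists_vecMulVec_of_rank_le_one h.le
    have h1 := fun i j => congrFun (congrFun e i) j
    have a := h1 0 2
    have b := h1 0 3
    have c := h1 1 2
    have d := h1 1 3
    simp [mm_val, vecMulVec_apply] at a b c d
    rw [det_fin_two, a, b, c, d]
    ring
  · obtain ⟨v, w, rfl⟩ := exists_vec h.2
    have h1 := h.1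
    rw [Ne, vecMulVec_eq_zero, not_or] at h1
    rw [show (mm (vecMulVec v w)).1 - 1 = vecMulVec ![v 0, v 1, 0, 0] ![0, 0, w 0, w 1] by
      ext i j
      fin_cases i <;> fin_cases j <;> simp [mm_val, vecMulVec_apply]]
    refine rank_vecMulVec_eq_one (fun e => h1.1 ?_) fun e => h1.2 ?_
    · ext i
      fin_cases i
      exacts [congrFun e 0, congrFun e 1]
    · ext i
      fin_cases i
      exacts [congrFun e 2, congrFun e 3]

/-- block diagonal matrices -/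
def blk (P S : M2 K) : Matrix (Fin 4) (Fin 4) K :=
  !![P 0 0, P 0 1, 0, 0; P 1 0, P 1 1, 0, 0; 0, 0, S 0 0, S 0 1; 0, 0, S 1 0, S 1 1]

theorem blk_mul (P S P' S' : M2 K) : blk P S * blk P' S' = blk (P * P') (S * S') := by
  simp [blk, mul4, mul_apply, Fin.sum_univ_two]

theorem blk_one : blk (1 : M2 K) 1 = 1 := by
  rw [eta4 1]
  simp [blk]

theorem exists_diag {P R : M2 K} (hP : P.det ≠ 0) (hR : R.det ≠ 0) :
    ∃ β : Au 3 K, ∀ Y, β (mm Y) = mm (P * Y * R) := by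
  refine ⟨slDiag _ K ⟨blk P R⁻¹, blk P⁻¹ R, ?_, ?_⟩, fun Y => Subtype.ext ?_⟩
  · rw [blk_mul, mul_nonsing_inv _ hP.isUnit, nonsing_inv_mul _ hR.isUnit, blk_one]
  · rw [blk_mul, mul_nonsing_inv _ hR.isUnit, nonsing_inv_mul _ hP.isUnit, blk_one]
  · change blk P R⁻¹ * (mm Y).1 * blk P⁻¹ R = _
    have h1 := mul_nonsing_inv _ hP.isUnit
    have h2 := nonsing_inv_mul _ hR.isUnit
    rw [eta_fin_two (P * P⁻¹), one_fin_two] at h1
    rw [eta_fin_two (R⁻¹ * R), one_fin_two] at h2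
    simp only [mul_apply, Fin.sum_univ_two, EmbeddingLike.apply_eq_iff_eq, vecCons_inj, and_true] at h1 h2
    simp [mm_val, blk, mul4, mul_apply, Fin.sum_univ_two, h1, h2]

theorem jobFH : H83.SV.JobFH := by
  intro F K _ _ _ _ _ _ _ _ _ θ hb hm hr
  choose φ hφ using fun Y : M2 K => mem_mm.1 (hb.1 (mem_mm.2 ⟨Y, rfl⟩))
  have inj : Function.Injective φ := fun Y Z h =>
    mm_inj (hb.2.1 (mem_mm.2 ⟨Y, rfl⟩) (mem_mm.2 ⟨Z, rfl⟩) (by rw [hφ, hφ, h]))
  let ψ : M2 K →+ M2 K := AddMonoidHom.mk' φ fun Y Z => mm_inj (by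
    rw [← hφ, mm_add, mm_add, hm _ (mem_mm.2 ⟨Y, rfl⟩) _ (mem_mm.2 ⟨Z, rfl⟩), hφ, hφ])
  obtain ⟨f, P, R, hP, hR, h⟩ := hua ψ (Finite.injective_iff_bijective.1 inj) fun Y => by
    have := hr _ (mem_mm.2 ⟨Y, rfl⟩)
    rw [hφ, root_mm, root_mm] at this
    by_cases e : Y = 0
    · simp [e]
    · exact ⟨fun h => (this.1 ⟨e, h⟩).2, fun h =>
        (this.2 ⟨fun e' => e (inj (e'.trans ψ.map_zero.symm)), h⟩).2⟩
  have hf : ∀ Y : M2 K, slField _ K f (mm Y) = mm (Y.map f) := fun Y => by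
    simp only [mm, map_mul, slField_x, map_apply]
  rcases h with h | h
  · obtain ⟨β, hβ⟩ := exists_diag hP hR
    refine ⟨β * slField _ K f, fun a ha => ?_⟩
    obtain ⟨Y, rfl⟩ := mem_mm.1 ha
    rw [hφ, MulAut.mul_apply, hf, hβ]
    exact congrArg mm (h Y)
  · obtain ⟨β, hβ⟩ := exists_diag (P := P * !![0, 1; 1, 0]) (R := !![0, 1; 1, 0] * R) (by simpa using hP)
      (by rw [det_mul]; simpa using hR)
    refine ⟨β * slField _ K f * gam 3 K, fun a ha => ?_⟩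
    obtain ⟨Y, rfl⟩ := mem_mm.1 ha
    have hg : gam 3 K (mm Y) = mm !![Y 1 1, Y 0 1; Y 1 0, Y 0 0] := by
      rw [mm, map_mul, map_mul, map_mul, gam_x, gam_x, gam_x, gam_x]
      refine Subtype.ext ?_
      rw [mm_val, val_mul, val_mul, val_mul, eta4 (x _ _ (Y 0 0)).1, eta4 (x _ _ (Y 0 1)).1,
        eta4 (x _ _ (Y 1 0)).1, eta4 (x _ _ (Y 1 1)).1]
      simp [x_apply, mul4, Fin.rev]
    rw [hφ, MulAut.mul_apply, MulAut.mul_apply, hg, hf, hβ]
    refine congrArg mm ((h Y).trans ?_)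
    simp only [← Matrix.mul_assoc]
    congr 1
    simp only [Matrix.mul_assoc]
    congr 1
    ext i j
    fin_cases i <;> fin_cases j <;> simp [mul_apply, Fin.sum_univ_two]

end H83.SVFH
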