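import Cfsg.Agent.H83.SVInd

/-! STD-U at `q = 2`, slot FI: involutions of `X = SU₄(q)` and of `Aut X`. -/

set_option autoImplicit false
set_option linter.unusedSectionVars false

namespace H83.SVFI

open H83.SV

open H64.SG (O2 Syl Cz Cs Ns cjs Is2 Inv2 fx mem_Cs mem_Cz mem_fx)
open H67.SA (St cI mem_St_iff_map conj_mem_St mem_cjs conj_mem_cjs card_cjs mem_St_of_finite mem_cI)
open Subgroup
open scoped Pointwise

section Gen

variable {G : Type*} [Group G] {A : Subgroup G} {g h u : G} {α β : MulAut G}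

theorem O2_le (A : Subgroup G) : O2 A ≤ A := (closure_le _).2 fun _ h => h.1

theorem O2_map (α : MulAut G) {B : Subgroup G} (e : ∀ g ∈ A, α g ∈ B) (hg : g ∈ O2 A) : α g ∈ O2 B := by
  refine (show O2 A ≤ (O2 B).comap α.toMonoidHom from (closure_le _).2 fun x hx => subset_closure
    ⟨e x hx.1, ?_⟩) hg
  rw [orderOf_injective α.toMonoidHom α.injective]
  exact hx.2

theorem O2_cm (hg : g ∈ O2 A) (hu : u ∈ A) : g * u * g⁻¹ * u⁻¹ ∈ O2 A := by
  have := O2_map (MulAut.conj u) (fun g hg => mul_mem (mul_mem hu hg) (inv_mem hu)) (inv_mem hg)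
  simpa [mul_assoc] using mul_mem hg this

theorem O2_odd (hh : h ∈ A) (o : Odd (orderOf h)) : h ∈ O2 A := subset_closure ⟨hh, o⟩

theorem fx_cj (hg : g ∈ fx β) : α g ∈ fx (α * β * α⁻¹) := mem_fx.2 (by simp [mem_fx.1 hg])

theorem fx_cj' (hg : α g ∈ fx (α * β * α⁻¹)) : g ∈ fx β := mem_fx.2 (by simpa using mem_fx.1 hg)

theorem mem_of_sq {u' h' : G} (hu : u ∈ A) (hu' : u' ∈ A) (hh : h ∈ Ns A) (e : u * h * (u' * h') = 1) :
    h * h' ∈ A := by
  rw [eq_inv_of_mul_eq_one_right (show u * (h * u' * h⁻¹) * (h * h') = 1 by rw [← e]; group)]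
  exact inv_mem (mul_mem hu ((mem_normalizer_iff.1 hh _).1 hu'))

theorem conj_cj (α : MulAut G) (g : G) : α * MulAut.conj g * α⁻¹ = MulAut.conj (α g) := by
  ext x; simp

theorem card_fx (hα : α ∈ St A) (β : MulAut G) :
    Nat.card ↥(A ⊓ fx (α * β * α⁻¹)) = Nat.card ↥(A ⊓ fx β) := by
  rw [← card_map_of_injective (K := A ⊓ fx β) (f := α.toMonoidHom) α.injective]
  congr 2
  refine le_antisymm (fun g hg => ⟨α⁻¹ g, ⟨((St A).inv_mem hα g).1 hg.1, by
    simpa [mul_assoc] using fx_cj (α := α⁻¹) hg.2⟩, by simp⟩) ?_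
  · rintro _ ⟨g, hg, rfl⟩
    exact ⟨(hα g).1 hg.1, fx_cj hg.2⟩

theorem exists_St [Finite G] {U : Subgroup G} (s : Syl U ⊤) {Y : Subgroup (MulAut G)}
    (hY : IsPGroup 2 Y) : ∃ g, ∀ β ∈ Y, (MulAut.conj g)⁻¹ * β * MulAut.conj g ∈ St U := by
  have hs := H64.SG.syl_iff.1 s
  obtain ⟨P, hP⟩ := hY.nonempty_fixed_point_of_prime_not_dvd_card (Sylow 2 G) (fun h => by
    have := card_sylow_modEq_one 2 G
    unfold Nat.ModEq at this
    omega)
  obtain ⟨g, -, e⟩ := hs.exists_cj_eq (H98.isSyl_sylow P)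
  refine ⟨g, fun β hβ => mem_St_of_finite fun x hx => ?_⟩
  have h1 : (β • (P : Subgroup G)) = P := congrArg Sylow.toSubgroup (hP ⟨β, hβ⟩)
  have h2 : β (g * x * g⁻¹) ∈ H98.cj g U := by
    rw [e, ← h1]
    exact smul_mem_pointwise_smul _ _ _ (e ▸ H98.conj_mem_cj hx)
  simpa using H98.mem_cj.1 h2

end Gen

variable {F K : Type} [Field F] [Finite F] [CharP F 2] [Field K] [Algebra F K] [StarRing K] [CharP K 2]
  [Qe F K] [Finite K]

theorem xs_xa' (a : K) (v : VA F K) : xs a * xa v = xa (aS a v) * xs a := by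
  rw [← xs_xa, inv_mul_cancel_right]

theorem u_mul (v w : VA F K) (a b : K) : xa v * xs a * (xa w * xs b) = xa (v + aS a w) * xs (a + b) := by
  rw [mul_assoc, ← mul_assoc (xs a), xs_xa', xa_add, xs_add]; group

theorem u_cj (v w w' : VA F K) (a : K) : xa w * (xa v * xs a) * xa w' = xa (w + v + aS a w') * xs a := by
  rw [mul_assoc, mul_assoc, xs_xa', xa_add, xa_add]; group

theorem u_one {v : VA F K} {a : K} (h : xa v * xs a = 1) : v = 0 ∧ a = 0 :=
  xa_xs_inj (h.trans (by simp))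

theorem va_eq {v w : VA F K} (h : v + w = 0) : v = w := by
  rw [← add_zero v, ← va2 w, ← add_assoc, h, zero_add]

theorem fixS {a : K} (ha : a ≠ 0) {w : VA F K} :
    aS a w = w ↔ ∃ c f : F, w = (c, algebraMap F K f * a, 0) := by
  obtain ⟨c, b, d⟩ := w
  refine ⟨fun h => ?_, ?_⟩
  · simp only [aS, Prod.mk.injEq, add_eq_left, mul_eq_zero, ha, false_or, map_eq_zero, and_true] at h
    obtain ⟨h, rfl⟩ := h
    rw [mul_zero, add_zero, add_eq_left, tr_eq_zero] at h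
    obtain ⟨f, h⟩ := h
    refine ⟨c, f / nm F a, Prod.ext rfl (Prod.ext ?_ rfl)⟩
    have h1 := congrArg star h
    have h2 : star a ≠ 0 := by simpa using ha
    simp only [star_io, star_mul', star_star] at h1
    simp only [map_div₀, io_nm, h1]
    field_simp
  · rintro ⟨c', f, h⟩
    rw [h]
    refine Prod.ext (io_inj (K := K) ?_) (by simp [aS])
    simp only [aS, map_add, io_tr, star_mul', star_io, star_star, mul_zero, add_zero]
    linear_combination k2 (a * algebraMap F K f * star a)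

theorem cm_xs (a : K) (v : VA F K) : xs a * xa v * (xs a)⁻¹ * (xa v)⁻¹ = xa (aS a v + v) := by
  rw [xs_xa, xa_inv, xa_add]

theorem ht_U {y : Kˣ} {r : Fˣ} (h : ht y r ∈ UX K) : y = 1 ∧ r = 1 := by
  have e := (is2_of_UX h).eq_one (odd_ht y r)
  have h1 := ht_xs y r 1
  have h2 := ht_xa y r (0, 0, 1)
  rw [e, one_mul, inv_one, mul_one] at h1 h2
  exact ⟨Units.ext (by simpa using (xs_inj h1).symm),
    Units.ext (by simpa [aH] using (congrArg (·.2.2) (xa_inj h2)).symm)⟩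

theorem fld_ht (y : Kˣ) (r : Fˣ) : fld K (sg K) (ht y r) = ht (star y) r := by
  have h1 : hb (star y) r = star (hb y r) := sq_inj (sq_inj (by
    have := congrArg star (hb_pow y r)
    rw [hb_pow, ← star_pow, ← star_pow, this]; simp))
  refine X_ext ?_
  rw [fld_val, ht_val, ht_val, map4, h1]
  simp

variable (o : FO F K) (n : FN F K) (l : FL F K)

section
include o

theorem ic (g : X K) (h : g * g = 1) : ∃ (h : X K) (v : VA F K), h * g * h⁻¹ = xa v := by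
  obtain ⟨k, -, e⟩ := (H64.SG.syl_iff.1 o.syl).exists_cj_le (H64.SG.is2_of_sq h).zpowers le_top
  obtain ⟨v, a, e⟩ := (mem_UX (F := F)).1 (e (H98.conj_mem_cj (mem_zpowers g)))
  by_cases ha : a = 0
  · exact ⟨k, v, by simpa [ha] using e⟩
  have h2 : xa v * xs a * (xa v * xs a) = 1 := by rw [← e, conj_mul, h]; simp
  rw [u_mul] at h2
  obtain ⟨c, f, rfl⟩ := (fixS ha).1 (va_eq (u_one h2).1).symm
  refine ⟨wn * xa (0, 0, f) * k, (c + nm F a * f, a, 0), ?_⟩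
  calc _ = wn * (xa (0, 0, f) * (k * g * k⁻¹) * (xa (0, 0, f))⁻¹) * wn⁻¹ := by group
    _ = wn * (xz (c + nm F a * f) * xs a) * wn⁻¹ := by
      rw [e, xa_inv, u_cj, xz_eq]
      congr 4
      simp [aS, k2, mul_comm]
    _ = _ := by rw [← conj_mul, wn_xz, wn_xs, xz_eq, xm_eq (F := F), ← xa_add]; simp

theorem conj_one {g : X K} (h : MulAut.conj g = 1) : g = 1 :=
  conj_inj o.cen (h.trans (map_one _).symm)

theorem o_sq {β : MulAut (X K)} (h : β * β = 1) : oX K β = 1 ∨ oX K β = sg K :=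
  H67.SA.out_sq_eq_one (sg_ne_one F K) sg_mul_self (by rw [← map_mul, h, map_one])

include l in
theorem ic2 (g : X K) (h : Inv2 g) : IsConj g (zX F K) ∨ IsConj g (wX F K) := by
  obtain ⟨k, v, e⟩ := ic o g h.1
  have c : IsConj g (xa v) := isConj_iff.2 ⟨k, e⟩
  by_cases hd : dt v = 0
  · obtain ⟨m, -, e'⟩ := l.trS v (fun h0 => h.2 (by simpa [h0] using c)) hd
    exact .inl (c.trans (isConj_iff.2 ⟨m, e'⟩).symm)
  · obtain ⟨m, -, e'⟩ := l.trN v hd
    exact .inr (c.trans (isConj_iff.2 ⟨m, e'⟩).symm)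

end

theorem add_ne {R : Type} [Field R] [CharP R 2] {y : R} (h : y ≠ 1) : y + 1 ≠ 0 :=
  fun e => h (by linear_combination e - k2 (1 : R))

theorem aS_zero (v : VA F K) : aS 0 v = v := by simp [aS]

/-- twisted conjugacy under `N(U)` -/
def Tw (g g' : X K) : Prop := ∃ m ∈ Ns (UX K), g' = m * g * (fld K (sg K) m)⁻¹

theorem Tw.trans {g g' g'' : X K} (h : Tw g g') (h' : Tw g' g'') : Tw g g'' := by
  obtain ⟨m, hm, rfl⟩ := h
  obtain ⟨m', hm', rfl⟩ := h'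
  exact ⟨m' * m, mul_mem hm' hm, by rw [map_mul]; group⟩

theorem Tw.sq {g g' : X K} (h : Tw g g') (e : g * fld K (sg K) g = 1) : g' * fld K (sg K) g' = 1 := by
  obtain ⟨m, -, rfl⟩ := h
  have : fld K (sg K) (fld K (sg K) m) = m := by
    rw [← MulAut.mul_apply, ← map_mul, sg_mul_self, map_one, MulAut.one_apply]
  rw [map_mul, map_mul, map_inv, this]
  calc _ = m * (g * fld K (sg K) g) * m⁻¹ := by group
    _ = 1 := by rw [e]; group

theorem tw_s (a' a : K) (v : VA F K) : Tw (xa v * xs a) (xa (aS a' v) * xs (a + (a' + star a'))) :=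
  ⟨xs a', le_normalizer (xs_mem_UX a'), by
    rw [fld_xs, xs_inv, ← mul_assoc, xs_xa', mul_assoc, mul_assoc, ← xs_add, ← xs_add]
    congr 2
    change _ = a' + (a + star a')
    ring⟩

theorem tw_m (c d f : F) : Tw (xa (c, algebraMap F K f, d)) (xa (c, (0 : K), d)) := by
  obtain ⟨b, rfl⟩ := tr_surj K f
  refine ⟨xa ((0 : F), b, (0 : F)), le_normalizer (xa_mem_UX _), ?_⟩
  rw [fld_xa, xa_inv, ← xa_add, ← xa_add]
  congr 1
  refine Prod.ext (by simp) (Prod.ext ?_ (by simp))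
  simp only [Prod.mk_add_mk, io_tr]
  linear_combination -k2 (b + star b)

theorem tw_U {u : X K} (hu : u ∈ UX K) (e : u * fld K (sg K) u = 1) :
    ∃ c d : F, c * d = 0 ∧ Tw u (xa (c, (0 : K), d)) := by
  obtain ⟨v, a, rfl⟩ := (mem_UX (F := F)).1 hu
  have e1 := e
  rw [map_mul, fld_xa, fld_xs, u_mul] at e1
  obtain ⟨f, rfl⟩ := (tr_eq_zero (F := F)).1 (io_inj (K := K) ((io_tr a).trans ((u_one e1).2.trans (map_zero _).symm)))
  obtain ⟨a', rfl⟩ := tr_surj K f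
  have t1 := tw_s a' (algebraMap F K (tr F a')) v
  rw [io_tr, k2, xs_zero, mul_one, ← io_tr (F := F)] at t1
  have e2 := t1.sq e
  generalize aS a' v = w at t1 e2
  obtain ⟨c, b, d⟩ := w
  rw [fld_xa, ← xa_add, xa_eq_one] at e2
  obtain ⟨f, rfl⟩ := (tr_eq_zero (F := F)).1 (io_inj (K := K) ((io_tr b).trans
    ((congrArg (·.2.1) e2).trans (map_zero _).symm)))
  have t2 := t1.trans (tw_m c d f)
  by_cases hd : d = 0
  · exact ⟨c, d, by rw [hd, mul_zero], t2⟩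
  obtain ⟨s, hs⟩ := exists_sq (c / d)
  have t3 := tw_s (algebraMap F K s) 0 (c, 0, d)
  have e3 : aS (algebraMap F K s) (c, 0, d) = (0, algebraMap F K (s * d), d) := by
    simp [aS, nm_io, hs, hd, k2]
  rw [star_io, k2, add_zero, xs_zero, mul_one, mul_one, e3] at t3
  exact ⟨0, d, zero_mul d, (t2.trans t3).trans (tw_m 0 d _)⟩

/-- the normal forms of outer involutions -/
noncomputable abbrev nf (c d : F) : MulAut (X K) := MulAut.conj (xa (c, (0 : K), d)) * fld K (sg K)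

include o n in
theorem red {β : MulAut (X K)} (hβ : β ∈ St (UX K)) (h : β * β = 1) (h1 : oX K β ≠ 1) :
    ∃ c d : F, c * d = 0 ∧ ∃ m ∈ Ns (UX K), β = MulAut.conj m * nf c d * (MulAut.conj m)⁻¹ := by
  obtain ⟨u, hu, y, r, e⟩ := n.exU β hβ
  rw [(o_sq o h).resolve_left h1] at e
  have e1 : u * ht y r * fld K (sg K) (u * ht y r) = 1 := conj_one o (by
    rw [map_mul MulAut.conj, ← conj_cj, inv_eq_of_mul_eq_one_right (a := fld K (sg K)) (by
      rw [← map_mul, sg_mul_self, map_one]), ← h]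
    conv_rhs => rw [e]
    group)
  have hy : y * star y = 1 ∧ r * r = 1 := ht_U (by
    rw [map_mul, fld_ht] at e1
    exact ht_mul y (star y) r r ▸ mem_of_sq hu ((fld_UX (sg K) u).1 hu) (ht_mem_Ns_UX y r) e1)
  obtain rfl : r = 1 := Units.ext (sq_inj (by simpa [pow_two] using congrArg Units.val hy.2))
  obtain ⟨m, hm⟩ : ∃ m : Kˣ, m * y = star m := by
    by_cases e : y = 1
    · exact ⟨1, by simp [e]⟩
    have h2 : (y : K) * star (y : K) = 1 := congrArg Units.val hy.1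
    refine ⟨Units.mk0 (star (y + 1 : K)) (star_ne_zero.2 (add_ne fun e' => e (Units.ext e'))), Units.ext ?_⟩
    simp only [Units.val_mul, Units.val_mk0, Units.coe_star, star_add, star_one, star_star]
    linear_combination h2
  have t1 : Tw (u * ht y (1 : Fˣ)) (ht m (1 : Fˣ) * u * (ht m (1 : Fˣ))⁻¹) := ⟨_, ht_mem_Ns_UX m (1 : Fˣ), by
    rw [fld_ht, ← hm, show ht (m * y) (1 : Fˣ) = ht y (1 : Fˣ) * ht m (1 : Fˣ) by
      rw [← ht_mul, mul_comm, mul_one]]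
    rw [ht_comm y]; group⟩
  obtain ⟨c, d, cd, t2⟩ := tw_U (F := F) ((mem_normalizer_iff.1 (ht_mem_Ns_UX m (1 : Fˣ)) _).1 hu) (t1.sq e1)
  obtain ⟨k, hk, e2⟩ := t1.trans t2
  refine ⟨c, d, cd, k⁻¹, inv_mem hk, ?_⟩
  rw [nf, e2, e, map_mul MulAut.conj (k * _), map_mul MulAut.conj k, map_inv, map_inv, ← conj_cj]
  group

theorem nf_xa (c d : F) (v : VA F K) : nf c d (xa v) = xa (v.1, star v.2.1, v.2.2) := by
  rw [MulAut.mul_apply, fld_xa, MulAut.conj_apply, xa_comm, mul_inv_cancel_right]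

theorem nf_fix {c d : F} {v : VA F K} : xa v ∈ fx (nf c d) ↔ ∃ f, algebraMap F K f = v.2.1 := by
  rw [mem_fx, nf_xa, ← Qe.fix]
  exact ⟨fun h => congrArg (·.2.1) (xa_inj h), fun h => by rw [h]⟩

theorem card_nf (c d : F) : Nat.card ↥(AX K ⊓ fx (nf c d)) = Nat.card F ^ 3 := by
  rw [← Nat.card_eq_of_bijective (fun p : F × F × F => (⟨xa (p.1, algebraMap F K p.2.1, p.2.2),
    xa_mem_AX _, nf_fix.2 ⟨_, rfl⟩⟩ : ↥(AX K ⊓ fx (nf c d)))) ⟨fun p q h => ?_, fun ⟨x, h1, h2⟩ => ?_⟩]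
  · simp only [Nat.card_prod]; ring
  · have := xa_inj (congrArg Subtype.val h)
    simp only [Prod.mk.injEq] at this
    exact Prod.ext this.1 (Prod.ext (io_inj this.2.1) this.2.2)
  · obtain ⟨⟨a, b, e⟩, rfl⟩ := (mem_AX (F := F)).1 h1
    obtain ⟨f, rfl⟩ : ∃ f, algebraMap F K f = b := nf_fix.1 h2
    exact ⟨(a, f, e), rfl⟩

theorem card_fixS {a : K} (ha : a ≠ 0) (v : VA F K) :
    Nat.card ↥(AX K ⊓ Cz (xa v * xs a)) = Nat.card F ^ 2 ∧
    ∀ w : VA F K, xa w ∈ Cz (xa v * xs a) ↔ ∃ c f : F, w = (c, algebraMap F K f * a, 0) := by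
  have k : ∀ w : VA F K, xa w ∈ Cz (xa v * xs a) ↔ ∃ c f : F, w = (c, algebraMap F K f * a, 0) := fun w => by
    rw [← fixS ha, mem_Cz, mul_assoc, xs_xa', ← mul_assoc, ← mul_assoc, mul_left_inj, xa_comm v, mul_left_inj]
    exact ⟨xa_inj, congrArg _⟩
  refine ⟨?_, k⟩
  rw [← Nat.card_eq_of_bijective (fun p : F × F => (⟨xa (p.1, algebraMap F K p.2 * a, 0),
    xa_mem_AX _, (k _).2 ⟨_, _, rfl⟩⟩ : ↥(AX K ⊓ Cz (xa v * xs a)))) ⟨fun p q h => ?_, fun ⟨x, h1, h2⟩ => ?_⟩]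
  · simp only [Nat.card_prod]; ring
  · have := xa_inj (congrArg Subtype.val h)
    simp only [Prod.mk.injEq] at this
    exact Prod.ext this.1 (io_inj (mul_right_cancel₀ ha this.2.1))
  · obtain ⟨w, rfl⟩ := (mem_AX (F := F)).1 h1
    obtain ⟨c, f, rfl⟩ := (k w).1 h2
    exact ⟨(c, f), rfl⟩

theorem mt01 (v : VA F K) (a : K) : mt (xa v * xs a) 0 1 = a := by rw [xa_xs_val]; rfl

/-- the image in `U / A` -/
theorem card_U {Y : Subgroup (X K)} (hY : Y ≤ UX K) {S : Set K}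
    (h : ∀ (v : VA F K) (a : K), xa v * xs a ∈ Y → a ∈ S) :
    Nat.card Y ≤ Nat.card ↥(Y ⊓ AX K) * Nat.card S := by
  let π : Y →* Multiplicative K := MonoidHom.mk' (fun g => .ofAdd (mt g.1 0 1)) fun a b => by
    obtain ⟨v, x, e⟩ := (mem_UX (F := F)).1 (hY a.2)
    obtain ⟨w, y, e'⟩ := (mem_UX (F := F)).1 (hY b.2)
    rw [coe_mul, e, e', u_mul, mt01, mt01, mt01]; rfl
  have h1 : π.ker = (Y ⊓ AX K).subgroupOf Y := Subgroup.ext fun g => by
    obtain ⟨v, x, e⟩ := (mem_UX (F := F)).1 (hY g.2)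
    rw [inf_subgroupOf_left, mem_subgroupOf, MonoidHom.mem_ker]
    change mt g.1 0 1 = 0 ↔ _
    rw [e, mt01, mem_AX_iff]
  rw [← π.ker.card_mul_index, index_ker, h1, Nat.card_congr (subgroupOfEquivOfLe inf_le_left).toEquiv]
  refine Nat.mul_le_mul_left _ (Nat.card_le_card_of_injective (fun x : π.range => (⟨x.1.toAdd, ?_⟩ : S))
    fun a b e => Subtype.ext (Subtype.ext_iff.1 e :))
  obtain ⟨_, g, rfl⟩ := x
  obtain ⟨v, x, e⟩ := (mem_UX (F := F)).1 (hY g.2)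
  change mt g.1 0 1 ∈ S
  rw [e, mt01]
  exact h v x (e ▸ g.2)

theorem card_range (f : F → K) : Nat.card (Set.range f) ≤ Nat.card F := Finite.card_range_le f

theorem jU (Y : Subgroup (X K)) (hY : Y ≤ UX K) (el : El Y) (c : Nat.card F ^ 3 < Nat.card Y) : Y ≤ AX K := by
  intro u hu
  obtain ⟨v, a, rfl⟩ := (mem_UX (F := F)).1 (hY hu)
  by_contra ha
  rw [mem_AX_iff] at ha
  refine c.not_ge ?_
  by_cases h : ∀ (w : VA F K) (b : K), xa w * xs b ∈ Y → b ∈ Set.range fun f : F => algebraMap F K f * a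
  · refine (card_U hY h).trans ((Nat.mul_le_mul (card_le_of_le (show Y ⊓ AX K ≤ AX K ⊓ Cz (xa v * xs a) from
      fun x hx => ⟨hx.2, mem_Cz.2 (el.comm hu hx.1)⟩)) (card_range _)).trans ?_)
    rw [(card_fixS ha v).1, ← pow_succ]
  simp only [not_forall] at h
  obtain ⟨w, b, hb, nb⟩ := h
  have h1 : Y ⊓ AX K ≤ ZX K := fun x hx => by
    obtain ⟨x, rfl⟩ := (mem_AX (F := F)).1 hx.2
    obtain ⟨c, f, rfl⟩ := ((card_fixS ha v).2 x).1 (mem_Cz.2 (el.comm hu hx.1))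
    obtain ⟨c', f', e⟩ := ((card_fixS (fun e => nb ⟨0, by simp [e]⟩) w).2 _).1 (mem_Cz.2 (el.comm hb hx.1))
    have e' : algebraMap F K f * a = algebraMap F K f' * b := congrArg (·.2.1) e
    refine xa_mem_ZX.2 ⟨?_, rfl⟩
    by_contra n0
    have : algebraMap F K f' ≠ 0 := fun e => n0 (by rw [← zero_mul b, ← e]; exact e')
    exact nb ⟨f / f', by simp only [map_div₀]; field_simp; exact e'⟩
  refine (card_U (F := F) hY (S := Set.univ) fun _ _ _ => trivial).trans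
    ((Nat.mul_le_mul_right _ (card_le_of_le h1)).trans ?_)
  rw [card_ZX (F := F), Nat.card_univ, Qe.card (F := F) (K := K), ← pow_succ']

section
include o n

theorem ix (β : MulAut (X K)) (hβ : β ∈ St (UX K)) (h : β * β = 1) : β ∈ cI (AX K) ∨
    (β ∈ cI (UX K) ∧ Nat.card ↥(AX K ⊓ fx β) = Nat.card F ^ 2) ∨
    (oX K β ≠ 1 ∧ Nat.card ↥(AX K ⊓ fx β) = Nat.card F ^ 3 ∧
      ∀ B ≤ UX K ⊓ fx β, B ⊓ AX K = ⊥ → Nat.card B ≤ Nat.card F) := by
  by_cases h1 : oX K β = 1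
  · obtain ⟨u, hu, y, r, e⟩ := n.exU β hβ
    rw [h1, map_one, mul_one] at e
    have e1 : u * ht y r * (u * ht y r) = 1 := conj_one o (by rw [map_mul, ← e, h])
    have hy : y * y = 1 ∧ r * r = 1 := ht_U (ht_mul y y r r ▸ mem_of_sq hu hu (ht_mem_Ns_UX y r) e1)
    obtain rfl : r = 1 := Units.ext (sq_inj (by simpa [pow_two] using congrArg Units.val hy.2))
    obtain rfl : y = 1 := Units.ext (sq_inj (by simpa [pow_two] using congrArg Units.val hy.1))
    rw [ht_one, mul_one] at e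
    obtain ⟨v, a, rfl⟩ := (mem_UX (F := F)).1 hu
    by_cases ha : a = 0
    · exact .inl (mem_cI.2 ⟨_, mem_AX_iff.2 ha, e⟩)
    · exact .inr (.inl ⟨mem_cI.2 ⟨_, hu, e⟩, by rw [e, H64.SG.fx_conj, (card_fixS ha v).1]⟩)
  obtain ⟨c, d, -, m, hm, e⟩ := red o n hβ h h1
  have mA := (n.nu _ (conj_mem_St.2 hm)).1
  refine .inr (.inr ⟨h1, by rw [e, card_fx mA, card_nf], fun B hB h0 => ?_⟩)
  have h2 : cjs m⁻¹ B ⊓ AX K = ⊥ := eq_bot_iff.2 fun x hx => by
    have : m * x * m⁻¹ ∈ B ⊓ AX K := ⟨by simpa using mem_cjs.1 hx.1, (mA x).1 hx.2⟩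
    simpa [h0] using this
  have := card_U (F := F) (Y := cjs m⁻¹ B) (S := Set.range (algebraMap F K)) (by
    rintro _ ⟨x, hx, rfl⟩
    exact (mem_normalizer_iff.1 (inv_mem hm) _).1 (hB hx).1) fun v a hv => by
      have h3 : m * (xa v * xs a) * m⁻¹ ∈ B := by simpa using mem_cjs.1 hv
      have h4 := mem_fx.1 (fx_cj' (α := MulAut.conj m) (g := xa v * xs a) (e ▸ (hB h3).2))
      rw [MulAut.mul_apply, map_mul (fld K (sg K)), fld_xa, fld_xs, MulAut.conj_apply, xa_inv, u_cj] at h4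
      exact (Qe.fix a).1 (xa_xs_inj h4).2
  rw [h2, card_bot, one_mul, card_cjs] at this
  exact this.trans (card_range _)

theorem red' {β : MulAut (X K)} (h : β * β = 1) (h1 : oX K β ≠ 1) :
    ∃ c d : F, c * d = 0 ∧ ∃ α : MulAut (X K), β = α * nf c d * α⁻¹ := by
  obtain ⟨g, hg⟩ := exists_St o.syl (H64.SG.is2_of_sq h).zpowers
  obtain ⟨c, d, cd, m, -, e⟩ := red o n (hg β (mem_zpowers β)) (by
    calc _ = (MulAut.conj g)⁻¹ * (β * β) * MulAut.conj g := by group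
      _ = 1 := by rw [h]; group) (by rwa [map_mul, map_mul, map_inv, o.outc, inv_one, one_mul, mul_one])
  refine ⟨c, d, cd, MulAut.conj g * MulAut.conj m, ?_⟩
  calc β = MulAut.conj g * ((MulAut.conj g)⁻¹ * β * MulAut.conj g) * (MulAut.conj g)⁻¹ := by group
    _ = _ := by rw [e]; group

theorem f3 (β : MulAut (X K)) (h : β * β = 1) : ∃ Y ≤ fx β, El Y ∧ Nat.card F ^ 3 ≤ Nat.card Y := by
  by_cases h1 : oX K β = 1
  · obtain ⟨g, e⟩ := o.dec β
    rw [h1, map_one, mul_one] at e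
    obtain ⟨k, v, e'⟩ := ic o g (conj_one o (by rw [map_mul, ← e, h]))
    refine ⟨cjs k⁻¹ (AX K), fun x hx => ?_, el_AX.map _, ?_⟩
    · rw [e, H64.SG.fx_conj, show g = k⁻¹ * xa v * k⁻¹⁻¹ by rw [← e']; group, ← H64.SG.cj_Cz]
      exact map_mono (fun a ha => mem_Cz.2 (el_AX.comm (xa_mem_AX v) ha)) hx
    · rw [card_cjs, card_AX (F := F)]
      exact Nat.pow_le_pow_right Nat.card_pos (by norm_num)
  obtain ⟨c, d, -, α, rfl⟩ := red' o n h h1
  refine ⟨(AX K ⊓ fx (nf c d)).map α.toMonoidHom, ?_, (el_AX.mono inf_le_left).map _, ?_⟩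
  · rintro _ ⟨x, hx, rfl⟩
    exact fx_cj hx.2
  · rw [card_map_of_injective α.injective, card_nf]

theorem fj0 (Y : Subgroup (MulAut (X K))) (hY : Y ≤ St (UX K)) (el : El Y)
    (c : 2 * Nat.card F ^ 3 < Nat.card Y) : Y ≤ cI (AX K) := by
  classical
  let π := (oX K).comp Y.subtype
  have h1 : Nat.card π.range ≤ 2 := by
    have : (π.range : Set (RingAut K)) ⊆ {1, sg K} := by
      rintro _ ⟨β, rfl⟩
      exact o_sq o (el _ β.2)
    exact (Set.ncard_le_ncard this).trans ((Set.ncard_insert_le _ _).trans (by simp))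
  have h2 := π.ker.card_mul_index
  rw [index_ker] at h2
  have inn : ∀ β ∈ Y, oX K β = 1 → β ∈ cI (UX K) := fun β hβ e =>
    (ix o n β (hY hβ) (el β hβ)).elim (fun h => map_mono AX_le_UX h) fun h => h.elim (·.1) (absurd e ·.1)
  let Y₁ : Subgroup (X K) := Y.comap MulAut.conj
  have h3 : Nat.card π.ker ≤ Nat.card Y₁ := by
    refine Nat.card_le_card_of_surjective (fun g : Y₁ => (⟨⟨_, g.2⟩, o.outc g⟩ : π.ker)) fun β => ?_
    obtain ⟨g, -, e⟩ := mem_cI.1 (inn _ β.1.2 β.2)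
    exact ⟨⟨g, show MulAut.conj g ∈ Y from e ▸ β.1.2⟩, Subtype.ext (Subtype.ext e.symm)⟩
  have h4 : Nat.card F ^ 3 < Nat.card Y₁ := by nlinarith
  have h5 := jU Y₁ (fun g hg => by
    obtain ⟨u, hu, e⟩ := mem_cI.1 (inn _ hg (o.outc g))
    rwa [conj_inj o.cen e]) (fun g hg => conj_one o (by rw [map_mul]; exact el _ hg)) h4
  intro β hβ
  by_cases e : oX K β = 1
  · obtain ⟨g, -, rfl⟩ := mem_cI.1 (inn β hβ e)
    exact mem_cI.2 ⟨g, h5 hβ, rfl⟩
  have h6 : Y₁ ≤ AX K ⊓ fx β := fun g hg => ⟨h5 hg, mem_fx.2 (conj_inj o.cen (by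
    rw [← conj_cj, el.comm hβ hg, mul_inv_cancel_right]))⟩
  rcases ix o n β (hY hβ) (el β hβ) with h | h | h
  · exact h
  · obtain ⟨g, -, rfl⟩ := mem_cI.1 h.1
    exact absurd (o.outc g) e
  · exact absurd (h.2.1 ▸ card_le_of_le h6) h4.not_ge

theorem fj (Y : Subgroup (MulAut (X K))) (el : El Y) (c : 2 * Nat.card F ^ 3 < Nat.card Y) :
    ∃ g, Y ≤ cI (cjs g (AX K)) := by
  obtain ⟨g, hg⟩ := exists_St o.syl el.isP
  have := fj0 o n (cjs (MulAut.conj g)⁻¹ Y) (by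
    rintro _ ⟨β, hβ, rfl⟩
    simpa using hg β hβ) (el.map _) (by rwa [card_cjs])
  refine ⟨g, fun β hβ => ?_⟩
  obtain ⟨a, ha, e⟩ := mem_cI.1 (this (conj_mem_cjs.2 hβ))
  refine mem_cI.2 ⟨_, conj_mem_cjs.2 ha, ?_⟩
  rw [map_mul, map_mul, map_inv, ← e]; group

theorem r4 (Y : Subgroup (MulAut (X K))) (el : El Y) : Nat.card Y ≤ Nat.card F ^ 4 := by
  by_cases c : 2 * Nat.card F ^ 3 < Nat.card Y
  · obtain ⟨g, hg⟩ := fj o n Y el c
    refine (card_le_of_le hg).trans ?_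
    rw [← card_AX (F := F) (K := K), ← card_cjs g (AX K)]
    exact Nat.card_le_card_of_surjective _ (MonoidHom.subgroupMap_surjective _ _)
  · rw [Qe.two (F := F) (K := K)] at c ⊢
    omega

end

theorem jobFI : JobFI := fun _ _ _ _ _ _ _ _ _ _ _ o n l =>
  ⟨ic o, ic2 o l, f3 o n, jU, r4 o n⟩

end H83.SVFI
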