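/- SU-FK: matrix facts on `SL₄(K)`. -/
import Cfsg.Agent.H83.SVFH
import Cfsg.Agent.H83.SVInd

set_option autoImplicit false
set_option linter.unusedSectionVars false
set_option linter.unusedSimpArgs false

namespace H83.SVFK

open H64.SG (O2 Syl Cz Cs Ns cjs Is2 Inv2 fx mem_fx mem_Cz)
open H83.SV H67.SA Matrix H57 Subgroup H83.SVFH

variable {F K : Type} [Field F] [Finite F] [CharP F 2] [Field K] [Algebra F K] [StarRing K] [CharP K 2]
  [Qe F K] [Finite K]

theorem cen : center (SLn 3 K) = ⊥ := by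
  refine eq_bot_iff.2 fun g hg => ?_
  obtain ⟨r, h1, h2⟩ := Matrix.SpecialLinearGroup.mem_center_iff.1 hg
  have : r = 1 := sq_inj (sq_inj (by rw [← pow_mul, one_pow, one_pow]; simpa using h1))
  exact Subtype.ext (by rw [← h2, this, map_one]; rfl)

theorem dg_conj (g : GL (Fin 4) K) : ∃ s : SLn 3 K, slDiag _ K g = MulAut.conj s := by
  have h0 : rt (rt g.1.det) ≠ 0 := rt_ne (rt_ne g.det_ne_zero)
  refine ⟨⟨(rt (rt g.1.det))⁻¹ • g.1, ?_⟩, dg_eq_conj (a := rt (rt g.1.det)) (by simp [h0])⟩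
  have h1 : ∀ d : K, rt (rt d) ^ (3 + 1) = d := fun d => by
    rw [show 3 + 1 = 2 * 2 from rfl, pow_mul, rt_sq, rt_sq]
  rw [det_smul, Fintype.card_fin, inv_pow, h1, inv_mul_cancel₀ g.det_ne_zero]

theorem xa_mm (v : VA F K) :
    (xa v).1 = mm !![v.2.1, algebraMap F K v.1; algebraMap F K v.2.2, star v.2.1] :=
  Subtype.ext (by rw [mm_val]; exact xa_val v)

theorem z_eq : (zX F K).1 = x 0 3 1 := by simp [xa_mm, mm]

theorem z_xk : (zX F K).1 = xk K 3 1 := Subtype.ext (by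
  rw [xa_mm, mm_val, eta4 (xk K 3 1).1]
  simp [xk_apply])

theorem w_xk : (wX F K).1 = xk K 3 2 := Subtype.ext (by
  rw [xa_mm, mm_val, eta4 (xk K 3 2).1]
  simp [xk_apply])

theorem w_eq : (wX F K).1 = x 0 2 1 * x 1 3 1 := by simp [xa_mm, mm]

theorem nw (β : Au 3 K) (h : β (wX F K).1 = (wX F K).1) : β ∈ St (Ml 3 K 2) := by
  have key : ∀ g : GL (Fin 4) K, slDiag _ K g (wX F K).1 = (wX F K).1 → slDiag _ K g ∈ St (Ml 3 K 2) :=
    fun g h => by
      obtain ⟨s, hs⟩ := dg_conj g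
      rw [hs, w_xk] at h
      have h' : s ∈ Cz (xk K 3 2) := mem_Cz.2 (by
        rw [MulAut.conj_apply, mul_inv_eq_iff_eq_mul] at h; exact h.symm)
      have := H76.SAFB.C_le_Ns (k := 2) (by omega) h'
      rw [show Qk 3 K 2 = Ml 3 K 2 from sup_idem _] at this
      rw [hs]
      exact conj_mem_St.2 this
  have h1 : ∀ τ, slField _ K τ (wX F K).1 = (wX F K).1 := fun τ => by
    rw [w_eq, map_mul, slField_x, slField_x, map_one]
  have h2 : gam 3 K (wX F K).1 = (wX F K).1 := by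
    rw [w_eq, map_mul, gam_x, gam_x]
    exact x_comm (by decide) (by decide) _ _
  obtain ⟨g, ⟨-, e⟩ | ⟨-, e⟩⟩ := exists_dfgam (by omega) β <;> rw [e] at h ⊢
  · rw [MulAut.mul_apply, h1] at h
    exact mul_mem (key g h) (slField_St _ _)
  · rw [MulAut.mul_apply, MulAut.mul_apply, h2, h1] at h
    exact mul_mem (mul_mem (key g h) (slField_St _ _)) (gam_Ml (by omega)).1

theorem lin_x {β : Au 3 K} {i j : Fin 4} (h : β (x i j 1) = x i j 1) (c : K) :
    β (x i j c) = x i j ((out 3 K β).1 c) := by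
  have := lin (by omega) _ β c (x_mul_self i j 1)
  rwa [h, sc_x, sc_x, mul_one, mul_one] at this

theorem nz (β : Au 3 K) (h : β (zX F K).1 = (zX F K).1) : β ∈ St (QQ 3 K) := by
  refine (fa_nz (by omega) β (mem_St_of_finite fun g hg => ?_)).1
  obtain ⟨c, rfl⟩ := mem_ZZ.1 hg
  rw [z_eq] at h
  exact mem_ZZ.2 ⟨_, lin_x h c⟩

include F in
theorem span_pair {D : Subgroup (SLn 3 K)} {i j k l : Fin 4} (h1 : j ≠ k) (h2 : i ≠ l)
    (h : ∀ b c : K, x i j (c * b) * x k l (c * star b) ∈ D) (a : K) : x i j a ∈ D ∧ x k l a ∈ D := by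
  obtain ⟨η, hη⟩ := exists_star_ne F K
  have h0 : η + star η ≠ 0 := fun e => hη (by linear_combination e - k2 η)
  have h3 : ∀ a, x i j a ∈ D := fun a => by
    have := mul_mem (h η (a / (η + star η))) (h 1 (a / (η + star η) * star η))
    rwa [star_one, mul_one, mul_assoc, ← mul_assoc (x k l _), ← x_comm h1 h2, mul_assoc, x_mul_self,
      mul_one, ← x_add, ← mul_add, div_mul_cancel₀ _ h0] at this
  refine ⟨h3 a, ?_⟩
  simpa using (D.mul_mem_cancel_left (h3 _)).1 (h 1 a)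

include F in
theorem pairfix {β : Au 3 K} (h0 : (out 3 K β).1 = 1) {i j k l : Fin 4} (hij : i ≠ j) (hkl : k ≠ l)
    (h1 : j ≠ k) (h2 : i ≠ l) (h : ∀ b, β (x i j b * x k l (star b)) = x i j b * x k l (star b))
    (a : K) : β (x i j a) = x i j a ∧ β (x k l a) = x k l a := by
  refine (span_pair (F := F) (D := fx β) h1 h2 (fun b c => mem_fx.2 ?_) a).imp mem_fx.1 mem_fx.1
  have h3 := x_comm h1 h2 b (star b)
  have := lin (by omega) (x i j b * x k l (star b)) β c (by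
    rw [mul_assoc, ← mul_assoc (x k l _), ← h3, mul_assoc, x_mul_self, mul_one, x_mul_self])
  rwa [h, h0, show (1 : RingAut K) c = c from rfl, sc_mul (x_mul_self _ _ _) (x_mul_self _ _ _) (by
    rw [x_coe hij, x_coe hkl, add_sub_cancel_left, add_sub_cancel_left, single_mul_single_of_ne _ _ _ _ h1])
    h3, sc_x, sc_x] at this

include F in
theorem red {A : Subgroup (X K)} {B P : Subgroup (SLn 3 K)} (hz : ZX K ≤ A)
    (h : ∀ β : Au 3 K, (out 3 K β).1 = 1 → (∀ a ∈ A, β a.1 = a.1) → ∀ u ∈ P, β u = u)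
    (h' : ∀ β : Au 3 K, (∀ u ∈ P, β u = u) → β ∈ cI B) (β : Au 3 K) (hβ : ∀ a ∈ A, β a.1 = a.1) :
    ∃ ζ ∈ B, β = MulAut.conj ζ ∨ β = MulAut.conj ζ * tau K := by
  have h1 : ∀ c : F, β (x 0 3 (algebraMap F K c)) = x 0 3 (algebraMap F K c) := fun c =>
    hβ (xz c) (hz (mem_ZX.2 ⟨c, xz_eq c⟩))
  have h2 : ∀ c : F, (out 3 K β).1 (algebraMap F K c) = algebraMap F K c := fun c =>
    x_inj (by decide) ((lin_x (by simpa using h1 1) _).symm.trans (h1 c))
  have h3 : (out 3 K β).1 * (out 3 K β).1 = 1 := RingEquiv.ext fun a => by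
    have a1 := h2 (tr F a)
    have a2 := h2 (nm F a)
    rw [io_tr, map_add, aut_star] at a1
    rw [io_nm, map_mul, aut_star] at a2
    have a3 : ((out 3 K β).1 a - a) * ((out 3 K β).1 a - star a) = 0 := by
      linear_combination (out 3 K β).1 a * a1 - a2
    change (out 3 K β).1 ((out 3 K β).1 a) = a
    rcases mul_eq_zero.1 a3 with e | e <;> rw [sub_eq_zero] at e
    · rw [e, e]
    · rw [e, aut_star, e, star_star]
  rcases out_sq_eq_one (sg_ne_one F K) sg_mul_self h3 with e | e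
  · obtain ⟨ζ, h4, h5⟩ := mem_cI.1 (h' β (h β e hβ))
    exact ⟨ζ, h4, Or.inl h5⟩
  · obtain ⟨ζ, h4, h5⟩ := mem_cI.1 (h' _ (h (β * tau K) (by
      rw [map_mul, out_tau, Prod.fst_mul, e, sg_mul_self]) fun a ha => by
        rw [MulAut.mul_apply, mem_SUs.1 a.2, hβ a ha]))
    exact ⟨ζ, h4, Or.inr (by rw [← h5, mul_assoc, tau_mul_self, mul_one])⟩

theorem fix_x {β : Au 3 K} (h0 : (out 3 K β).1 = 1) {i j : Fin 4}
    (h : β (x i j (algebraMap F K 1)) = x i j (algebraMap F K 1)) (c : K) : β (x i j c) = x i j c := by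
  rw [map_one] at h
  rw [lin_x h, h0]
  rfl

include F in
theorem cA (β : Au 3 K) (hβ : ∀ a ∈ AX K, β a.1 = a.1) :
    ∃ ζ ∈ Ml 3 K 2, β = MulAut.conj ζ ∨ β = MulAut.conj ζ * tau K := by
  refine red (F := F) (ZX_le_AX) (fun β h0 h u hu => ?_) (fa_ctM (by omega) 2 (by omega) (by omega)) β hβ
  obtain ⟨Y, rfl⟩ := mem_mm.1 hu
  have h1 := pairfix (F := F) h0 (i := 0) (j := 2) (k := 1) (l := 3) (by decide) (by decide) (by decide)
    (by decide) fun b => h (xm b) (xm_eq (F := F) b ▸ xa_mem_AX _)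
  rw [mm, map_mul, map_mul, map_mul, (h1 _).1, (h1 _).2, fix_x (F := F) (i := 0) (j := 3) h0
    (h (xz (1 : F)) (xz_eq (K := K) (1 : F) ▸ xa_mem_AX _)), fix_x (F := F) (i := 1) (j := 2) h0
    (h (xl (1 : F)) (xl_eq (K := K) (1 : F) ▸ xa_mem_AX _))]

include F in
theorem cQ (β : Au 3 K) (hβ : ∀ a ∈ QX K, β a.1 = a.1) :
    ∃ ζ ∈ ZZ 3 K, β = MulAut.conj ζ ∨ β = MulAut.conj ζ * tau K := by
  refine red (F := F) (P := QQ 3 K) ZX_le_QX (fun β h0 h => ?_)
    (fun β h => Mk_one (n := 3) (F := K) ▸ fa_ctK (by omega) 1 (by omega) (by omega) β (Qk_one (n := 3) (F := K) ▸ h)) β hβ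
  have h1 := pairfix (F := F) h0 (i := 0) (j := 2) (k := 1) (l := 3) (by decide) (by decide) (by decide)
    (by decide) fun b => h (xm b) (xm_eq (F := F) b ▸ xa_mem_QX.2 rfl)
  have h2 := pairfix (F := F) h0 (i := 0) (j := 1) (k := 2) (l := 3) (by decide) (by decide) (by decide)
    (by decide) fun b => h (xs b) (xs_mem_QX b)
  have h3 := fix_x (F := F) (i := 0) (j := 3) h0
    (h (xz (1 : F)) (xz_eq (K := K) (1 : F) ▸ xa_mem_QX.2 rfl))
  change QQ 3 K ≤ fx β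
  rw [QQ_eq, Pat_le]
  intro i j hij hs c
  rw [mem_fx]
  fin_cases i <;> fin_cases j <;> first | exact absurd rfl hij | exact absurd hs (by decide) | skip
  exacts [(h2 c).1, (h1 c).1, h3 c, (h1 c).2, (h2 c).2]

theorem ent {u : SLn 3 K} (h : u ∈ UU 3 K) : u.1 = !![1, u.1 0 1, u.1 0 2, u.1 0 3;
    0, 1, u.1 1 2, u.1 1 3; 0, 0, 1, u.1 2 3; 0, 0, 0, 1] := by
  obtain ⟨h1, h2⟩ := mem_UU.1 h
  have h4 := eta4 u.1
  rwa [h1, h1, h1, h1, h2 1 0 (by decide), h2 2 0 (by decide), h2 2 1 (by decide), h2 3 0 (by decide),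
    h2 3 1 (by decide), h2 3 2 (by decide)] at h4

theorem jM (Y : Subgroup (SLn 3 K)) (hY : Y ≤ UU 3 K) (h2 : El Y)
    (hc : Nat.card K ^ 4 ≤ Nat.card Y) : Y = Ml 3 K 2 := by
  have c : ∀ y ∈ Y, ∀ z ∈ Y, y.1 0 1 * z.1 1 2 = z.1 0 1 * y.1 1 2 ∧
      y.1 1 2 * z.1 2 3 = z.1 1 2 * y.1 2 3 ∧
      y.1 0 1 * z.1 1 3 + y.1 0 2 * z.1 2 3 = z.1 0 1 * y.1 1 3 + z.1 0 2 * y.1 2 3 := fun y hy z hz => by
    have := congrArg Subtype.val (h2.comm hy hz)
    rw [val_mul, val_mul, ent (hY hy), ent (hY hz), mul4, mul4, ext4] at this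
    exact ⟨by linear_combination this.1.2.2.1, by linear_combination this.2.1.2.2.2,
      by linear_combination this.1.2.2.2⟩
  have s : ∀ y ∈ Y, y.1 0 1 * y.1 1 2 = 0 ∧ y.1 1 2 * y.1 2 3 = 0 := fun y hy => by
    have := congrArg Subtype.val (h2 y hy)
    rw [val_mul, ent (hY hy), mul4, show (1 : SLn 3 K).1 = _ from one_val (K := K), ext4] at this
    exact ⟨by linear_combination this.1.2.2.1 - k2 (y.1 0 2),
      by linear_combination this.2.1.2.2.2 - k2 (y.1 1 3)⟩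
  by_cases h0 : ∀ y ∈ Y, y.1 0 1 = 0 ∧ y.1 2 3 = 0
  · refine eq_of_le_of_card_ge (fun y hy => mem_mm.2 ⟨!![y.1 0 2, y.1 0 3; y.1 1 2, y.1 1 3],
      Subtype.ext ?_⟩) (by rw [card_Ml (by omega)]; exact hc)
    rw [mm_val, ent (hY hy), (h0 y hy).1, (h0 y hy).2]
    rfl
  exfalso
  simp only [not_forall, not_and_or] at h0
  obtain ⟨u, hu, h0⟩ := h0
  have h12 : ∀ z ∈ Y, z.1 1 2 = 0 := fun z hz => by
    rcases h0 with h0 | h0
    · have := (c u hu z hz).1
      rw [(mul_eq_zero.1 (s u hu).1).resolve_left h0, mul_zero] at this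
      exact (mul_eq_zero.1 this).resolve_left h0
    · have := (c u hu z hz).2.1
      rw [(mul_eq_zero.1 (s u hu).2).resolve_right h0, zero_mul] at this
      exact (mul_eq_zero.1 this.symm).resolve_right h0
  have key : ∀ i j k l : Fin 4, (∀ y ∈ Y, ∀ z ∈ Y, y.1 i j = z.1 i j → y.1 k l = z.1 k l →
      y.1 0 1 = z.1 0 1 ∧ y.1 0 2 = z.1 0 2 ∧ y.1 1 3 = z.1 1 3 ∧ y.1 2 3 = z.1 2 3) → False :=
    fun i j k l h => by
      have := Nat.card_le_card_of_injective (fun y : Y => (y.1.1 i j, y.1.1 k l, y.1.1 0 3))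
        fun y z e => by
          simp only [Prod.mk.injEq] at e
          obtain ⟨a1, a2, a3, a4⟩ := h _ y.2 _ z.2 e.1 e.2.1
          refine Subtype.ext (Subtype.ext ?_)
          rw [ent (hY y.2), ent (hY z.2), a1, a2, a3, a4, e.2.2, h12 _ y.2, h12 _ z.2]
      rw [Nat.card_prod, Nat.card_prod] at this
      have h1 := one_lt_card (F := K)
      have h3 := Nat.pow_lt_pow_right h1 (show 3 < 4 by omega)
      rw [pow_three] at h3
      omega
  by_cases h1 : ∃ v ∈ Y, u.1 0 1 * v.1 2 3 - u.1 2 3 * v.1 0 1 ≠ 0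
  · obtain ⟨v, hv, h1⟩ := h1
    refine key 0 1 2 3 fun y hy z hz e1 e2 => ⟨e1, mul_left_cancel₀ h1 ?_, mul_left_cancel₀ h1 ?_, e2⟩
    all_goals
      have a1 := (c u hu y hy).2.2
      have a2 := (c u hu z hz).2.2
      have a3 := (c v hv y hy).2.2
      have a4 := (c v hv z hz).2.2
      rw [e1, e2] at a1 a3
    · linear_combination v.1 0 1 * (a1 - a2) - u.1 0 1 * (a3 - a4)
    · linear_combination v.1 2 3 * (a1 - a2) - u.1 2 3 * (a3 - a4)
  push Not at h1
  rcases h0 with h0 | h0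
  · refine key 0 1 0 2 fun y hy z hz e1 e2 => ?_
    have e3 : y.1 2 3 = z.1 2 3 := mul_left_cancel₀ h0 (by
      linear_combination h1 y hy - h1 z hz + u.1 2 3 * e1)
    refine ⟨e1, e2, mul_left_cancel₀ h0 ?_, e3⟩
    linear_combination (c u hu y hy).2.2 - (c u hu z hz).2.2 - u.1 0 2 * e3 + u.1 1 3 * e1 + u.1 2 3 * e2
  · refine key 2 3 1 3 fun y hy z hz e1 e2 => ?_
    have e3 : y.1 0 1 = z.1 0 1 := mul_left_cancel₀ h0 (by
      linear_combination h1 z hz - h1 y hy + u.1 0 1 * e1)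
    refine ⟨e3, mul_left_cancel₀ h0 ?_, e2, e1⟩
    linear_combination (c u hu z hz).2.2 - (c u hu y hy).2.2 + u.1 0 2 * e1 - u.1 1 3 * e3 + u.1 0 1 * e2

include F in
theorem five {η : K} (hη : η + star η = 1) : (x 0 3 η : SLn 3 K) =
    x 3 0 1 * (x 0 3 η * x 3 0 1 * (x 0 3 η)⁻¹) * (x 3 0 1 * (x 0 3 η * x 3 0 1 * (x 0 3 η)⁻¹)) *
      x 3 0 1 := by
  have h0 : η ≠ 0 := by rintro rfl; simp at hη
  have h1 : η * star η = 1 := by rw [← io_nm (F := F), nm_eq_one h0, map_one]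
  have h2 : η * η = η + 1 := by linear_combination η * hη - h1 - k2 (1 : K)
  have a : (x 0 3 η : SLn 3 K).1 = !![1, 0, 0, η; 0, 1, 0, 0; 0, 0, 1, 0; 0, 0, 0, 1] := by
    ext i j; fin_cases i <;> fin_cases j <;> simp [x_apply]
  have b : (x 3 0 (1 : K) : SLn 3 K).1 = !![1, 0, 0, 0; 0, 1, 0, 0; 0, 0, 1, 0; 1, 0, 0, 1] := by
    ext i j; fin_cases i <;> fin_cases j <;> simp [x_apply]
  have c : (x 3 0 1 * (x 0 3 η * x 3 0 1 * (x 0 3 η)⁻¹) : SLn 3 K).1 =
      !![η + 1, 0, 0, η + 1; 0, 1, 0, 0; 0, 0, 1, 0; η, 0, 0, 0] := by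
    rw [x_inv, val_mul, val_mul, val_mul, a, b, mul4, mul4, mul4, ext4]
    simp only [mul_zero, zero_mul, mul_one, one_mul, add_zero, zero_add, true_and, and_true]
    refine ⟨⟨by ring, by linear_combination h2 + k2 η⟩, by linear_combination k2 (1 : K),
      by linear_combination h2 + k2 η + k2 η + k2 (1 : K)⟩
  refine Subtype.ext ?_
  rw [val_mul, val_mul, c, a, b]
  rw [mul4, mul4, ext4]
  simp only [mul_zero, zero_mul, mul_one, one_mul, add_zero, zero_add, true_and, and_true]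
  refine ⟨⟨?_, ?_⟩, ?_, ?_⟩
  · linear_combination -3 * h2 - 4 * k2 η - 2 * k2 (1 : K)
  · linear_combination -h2 - k2 η - k2 (1 : K)
  · linear_combination -k2 (η * (η + 1))
  · linear_combination -h2 - k2 η

include F in
theorem gen (η : K) (hη : η + star η = 1) : SUs K ⊔ cjs (x 0 3 η) (SUs K) = ⊤ := by
  set D := SUs K ⊔ cjs (x 0 3 η) (SUs K)
  have hX : ∀ g : X K, g.1 ∈ D := fun g => mem_sup_left g.2
  have hc : ∀ (g : X K) {a}, a ∈ D → g.1 * a * g.1⁻¹ ∈ D := fun g a h =>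
    mul_mem (mul_mem (hX g) h) (inv_mem (hX g))
  have h2 : x 0 3 η ∈ D := by
    have hb : x 3 0 (1 : K) ∈ SUs K := mem_SUs.2 (by rw [tau_x, star_one]; rfl)
    have hu : x 0 3 η * x 3 0 1 * (x 0 3 η)⁻¹ ∈ D := mem_sup_right (conj_mem_cjs.2 hb)
    have hb' : x 3 0 (1 : K) ∈ D := mem_sup_left hb
    rw [five (F := F) hη]
    exact mul_mem (mul_mem (mul_mem hb' hu) (mul_mem hb' hu)) hb'
  have h4 : ∀ a, x 0 3 a ∈ D := fun a => by
    obtain ⟨f, hf⟩ := (Qe.fix (F := F) (a + η * algebraMap F K (tr F a))).1 (by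
      rw [star_add, star_mul', star_io, io_tr]
      linear_combination (a + star a) * hη - k2 (η * (a + star a)) + k2 (star a))
    have h5 : x 0 3 (η * algebraMap F K (tr F a)) ∈ D := by
      by_cases e : tr F a = 0
      · simp [e]
      rwa [(F_cases K _).resolve_left e, map_one, mul_one]
    have := mul_mem (hX (xz f)) h5
    rwa [xz, ← x_add, hf, add_assoc, k2, add_zero] at this
  have hp : ∀ {i j : Fin 4} (g : X K) (π : Equiv.Perm (Fin 4)), g.1 = pm π → (∀ a, x i j a ∈ D) →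
      ∀ a, x (π i) (π j) a ∈ D := fun g π e h a => by
    rw [← pm_conj, ← e]; exact hc g (h a)
  have h12 : ∀ a, x 1 2 a ∈ D := hp ws _ rfl h4
  have h6 : ∀ b c : K, mm !![0, b; c, 0] ∈ D := fun b c => by
    simpa [mm] using mul_mem (h4 b) (h12 c)
  have h7 := span_pair (F := F) (D := D) (i := 0) (j := 2) (k := 1) (l := 3) (by decide) (by decide)
    fun b c => by
      have := mul_mem (hc (xs b) (h6 0 c)) (h6 (c * b * star b) c)
      rw [← Subgroup.coe_inv, xs_inv] at this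
      convert this using 1
      rw [show x 0 2 (c * b) * x 1 3 (c * star b) = mm !![c * b, 0; 0, c * star b] by simp [mm]]
      refine Subtype.ext ?_
      simp only [val_mul, mm_val, show (xs b).1.1 = _ from xs_val b, of_apply, cons_val',
        cons_val_zero, cons_val_one, cons_val_fin_one]
      rw [mul4, mul4, mul4, ext4]
      simp only [mul_zero, zero_mul, mul_one, one_mul, add_zero, zero_add, k2, true_and, and_true]
      exact ⟨mul_comm _ _, by linear_combination -k2 (c * b * star b)⟩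
  have h02 := fun a => (h7 a).1
  have h13 := fun a => (h7 a).2
  have h01 : ∀ a, x 0 1 a ∈ D := hp wn _ rfl h02
  have h23 : ∀ a, x 2 3 a ∈ D := hp wn _ rfl h13
  rw [eq_top_iff, ← Pat_top, Pat_le]
  intro i j hij _
  fin_cases i <;> fin_cases j <;> first | exact absurd rfl hij | skip
  exacts [h01, h02, h4, hp w0 _ rfl h23, h12, h13, hp w0 _ rfl h13, hp w0 _ rfl h12, h23,
    hp w0 _ rfl h4, hp w0 _ rfl h02, hp w0 _ rfl h01]

theorem jobFK : H83.SV.JobFK := by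
  intro F K _ _ _ _ _ _ _ _ _
  refine ⟨cen, fun β h => ?_, lin (by omega), H76.SAFB.roota (by omega), fun g hg => ?_, nw, nz,
    cA (F := F), cQ (F := F), jM, gen (F := F)⟩
  · obtain ⟨g, rfl⟩ := (out_eq_one_iff (by omega)).1 h
    exact dg_conj g
  · obtain ⟨h, k, h1, h2, e⟩ := H76.SAFB.ic (by omega) g hg
    obtain rfl | rfl : k = 1 ∨ k = 2 := by omega
    · exact Or.inl (isConj_iff.2 ⟨h, e.trans z_xk.symm⟩)
    · exact Or.inr (isConj_iff.2 ⟨h, e.trans w_xk.symm⟩)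

end H83.SVFK
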