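/- SU-FL: the Levi subgroup on `A`, generation and perfectness in `SU₄(q)`. -/
import Cfsg.Agent.H83.SVInd
import Cfsg.Agent.H76.SAFB

set_option autoImplicit false
set_option linter.unusedSectionVars false
set_option linter.unusedSimpArgs false

namespace H83.SVFL

open H64.SG (O2 Syl Cz Cs Ns cjs Is2 Inv2 fx mem_fx mem_Cz mem_Cs)
open H83.SV Matrix H57 Subgroup
open H67.SA (conj_mem_cjs mem_cjs)
open scoped commutatorElement

variable {F K : Type} [Field F] [Finite F] [CharP F 2] [Field K] [Algebra F K] [StarRing K] [CharP K 2]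
  [Qe F K] [Finite K]

/-- conjugacy under the Levi subgroup -/
def R (v w : VA F K) : Prop := ∃ l ∈ Lv F K, l * xa v * l⁻¹ = xa w

theorem R.trans {u v w : VA F K} (h : R u v) (h' : R v w) : R u w := by
  obtain ⟨l, h1, h2⟩ := h
  obtain ⟨m, h3, h4⟩ := h'
  exact ⟨m * l, mul_mem h3 h1, by rw [← h4, ← h2]; group⟩

theorem rS (a : K) (v : VA F K) : R v (aS a v) := ⟨_, xs_mem_Lv a, xs_xa a v⟩
theorem rW (v : VA F K) : R v (aW v) := ⟨_, ws_mem_Lv, ws_xa v⟩
theorem rH (y : Kˣ) (r : Fˣ) (v : VA F K) : R v (aH y r v) := ⟨_, ht_mem_Lv y r, ht_xa y r v⟩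

theorem dt_aS (a : K) (v : VA F K) : dt (aS a v) = dt v := io_inj (K := K) (by
  simp only [dt, aS, map_add, map_mul, io_nm, io_tr, star_add, star_mul', star_io, star_star]
  linear_combination (algebraMap F K v.2.2 * (a * star v.2.1 + star a * v.2.1) +
    a * star a * algebraMap F K v.2.2 ^ 2) * two0 K)

theorem exists_aS {c c' d : F} {b b' : K} (hd : d ≠ 0) (h : dt (c', b', d) = dt (c, b, d)) :
    R (c', b', d) (c, b, d) := by
  have h0 : algebraMap F K d ≠ 0 := by simpa using hd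
  have h1 := dt_aS ((b + b') / algebraMap F K d) (c', b', d)
  have h2 := rS ((b + b') / algebraMap F K d) (c', b', d)
  have h3 : b' + (b + b') = b := by linear_combination k2 b'
  simp only [aS, div_mul_cancel₀ _ h0, h3] at h1 h2
  simp only [dt] at h1 h
  have h4 := mul_right_cancel₀ hd (add_left_cancel (h1.trans h))
  rwa [h4] at h2

theorem trS (v : VA F K) (h0 : v ≠ 0) (h : dt v = 0) : R (1, 0, 0) v := by
  obtain ⟨c, b, d⟩ := v
  have h1 : ∀ {c : F}, c ≠ 0 → R ((1, 0, 0) : VA F K) (c, 0, 0) := fun hc => by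
    simpa [aH] using rH (1 : Kˣ) (Units.mk0 _ hc) ((1, 0, 0) : VA F K)
  by_cases hd : d = 0
  · subst hd
    obtain rfl : b = 0 := nm_eq_zero.1 (by simpa [dt] using h)
    exact h1 fun e => h0 (by rw [e]; rfl)
  · exact ((h1 hd).trans (rW _)).trans (exists_aS hd (by rw [h]; simp [dt]))

theorem trN (v : VA F K) (h : dt v ≠ 0) : R (0, 1, 0) v := by
  obtain ⟨c, b, d⟩ := v
  have h1 : ∀ (c : F) {b : K}, b ≠ 0 → R ((0, 1, 0) : VA F K) (c, b, 0) := fun c b hb => by
    obtain ⟨a, rfl⟩ := tr_surj K c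
    have h2 : star b ≠ 0 := by simpa using hb
    have h3 : R ((0, 1, 0) : VA F K) (0, b, 0) := by
      simpa [aH] using rH (Units.mk0 _ hb) (1 : Fˣ) ((0, 1, 0) : VA F K)
    simpa [aS, h2] using h3.trans (rS (a / star b) _)
  by_cases hd : d = 0
  · subst hd
    exact h1 c fun e => h (by simp [dt, e])
  · refine ((h1 d (b := algebraMap F K (rt (dt (c, b, d)))) (by simpa using rt_ne h)).trans (rW _)).trans
      (exists_aS hd ?_)
    rw [dt, star_io, nm_io, rt_sq, zero_mul, add_zero]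

theorem cS : Nat.card {v : VA F K // dt v = 0} + Nat.card F ^ 2 = Nat.card F ^ 3 + Nat.card F := by
  rw [← Nat.card_eq_of_bijective (Sum.elim (fun c : F => ⟨(c, 0, 0), by simp [dt]⟩)
    fun p : Fˣ × K => (⟨(nm F p.2 / p.1, p.2, p.1), by simp [dt, k2]⟩ : {v : VA F K // dt v = 0})) ⟨?_, ?_⟩,
    Nat.card_sum, Nat.card_prod, Nat.card_units, Qe.card (F := F) (K := K)]
  · obtain ⟨k, hk⟩ : ∃ k, Nat.card F = k + 1 := ⟨Nat.card F - 1, by have := Nat.card_pos (α := F); omega⟩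
    rw [hk, Nat.add_sub_cancel]
    ring
  · rintro (c | ⟨d, b⟩) (c' | ⟨d', b'⟩) h <;> simp only [Sum.elim_inl, Sum.elim_inr, Subtype.mk.injEq,
      Prod.mk.injEq] at h
    · rw [h.1]
    · exact absurd h.2.2.symm d'.ne_zero
    · exact absurd h.2.2 d.ne_zero
    · rw [h.2.1, Units.ext h.2.2]
  · rintro ⟨⟨c, b, d⟩, h⟩
    by_cases hd : d = 0
    · subst hd
      obtain rfl : b = 0 := nm_eq_zero.1 (by simpa [dt] using h)
      exact ⟨Sum.inl c, rfl⟩
    · refine ⟨Sum.inr (Units.mk0 d hd, b), Subtype.ext (Prod.ext ?_ rfl)⟩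
      rw [dt] at h
      exact (div_eq_iff hd).2 (by linear_combination h - k2 (c * d))

theorem dt_add (u v : VA F K) :
    dt (u + v) = dt u + dt v + (tr F (u.2.1 * star v.2.1) + u.1 * v.2.2 + v.1 * u.2.2) := by
  simp only [dt, Prod.fst_add, Prod.snd_add, nm_add]; ring

theorem dt_smul (c : F) (v : VA F K) : dt (c • v) = c ^ 2 * dt v := by
  simp only [dt, Prod.smul_fst, Prod.smul_snd, smul_eq_mul]
  rw [Algebra.smul_def, nm_mul, nm_io]
  ring

theorem prop {u v : VA F K} (h0 : u ≠ 0) (hu : dt u = 0) (hv : dt v = 0) (h : dt (u + v) = 0) :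
    ∃ k : F, v = k • u := by
  rw [dt_add, hu, hv, zero_add, zero_add] at h
  obtain ⟨c, b, d⟩ := u
  obtain ⟨c', b', d'⟩ := v
  simp only [dt] at hu hv h
  by_cases hd : d = 0
  · subst hd
    obtain rfl : b = 0 := nm_eq_zero.1 (by simpa using hu)
    have hc : c ≠ 0 := fun e => h0 (by rw [e]; rfl)
    obtain rfl : d' = 0 := by simpa [hc] using h
    obtain rfl : b' = 0 := nm_eq_zero.1 (by simpa using hv)
    exact ⟨c' / c, by simp [hc]⟩
  · have h1 : nm F (algebraMap F K d' * b + algebraMap F K d * b') = 0 := by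
      rw [nm_add, nm_mul, nm_mul, nm_io, nm_io, star_mul', star_io, mul_mul_mul_comm, ← map_mul, tr_io_mul]
      linear_combination d' ^ 2 * hu + d ^ 2 * hv + d * d' * h - (c * d * d' ^ 2 + c' * d' * d ^ 2) * two0 F
    have h2 : algebraMap F K d ≠ 0 := by simpa using hd
    obtain rfl : b' = algebraMap F K (d' / d) * b := by
      rw [map_div₀, div_mul_eq_mul_div, eq_div_iff h2]
      linear_combination nm_eq_zero.1 h1 - k2 (algebraMap F K d' * b)
    rw [star_mul', star_io, mul_left_comm, tr_io_mul, ← io_nm (F := F), tr_io, mul_zero, zero_add] at h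
    refine ⟨d' / d, Prod.ext ?_ (Prod.ext (Algebra.smul_def _ _).symm (div_mul_cancel₀ _ hd).symm)⟩
    change c' = d' / d * c
    rw [div_mul_eq_mul_div, eq_div_iff hd]
    linear_combination h - k2 (c * d')

theorem mul_U (v w : VA F K) (a b : K) :
    xa v * xs a * (xa w * xs b) = xa (v + aS a w) * xs (a + b) := by
  rw [xa_add, xs_add, ← xs_xa]; group

theorem cm_xs (a : K) (v : VA F K) : ⁅xs a, xa v⁆ = xa (aS a v + v) := by
  rw [commutatorElement_def, xs_xa, xa_inv, xa_add]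

include F in
theorem cU : ⁅UX K, UX K⁆ = AX K ⊓ QX K := by
  refine le_antisymm (commutator_le.2 fun g hg g' hg' => ?_) fun g hg => ?_
  · obtain ⟨v, a, rfl⟩ := (mem_UX (F := F)).1 hg
    obtain ⟨w, b, rfl⟩ := (mem_UX (F := F)).1 hg'
    rw [commutatorElement_def, mul_assoc _ _⁻¹, ← _root_.mul_inv_rev, mul_U, mul_U, add_comm b,
      _root_.mul_inv_rev, mul_assoc, mul_inv_cancel_left, xa_inv, ← xa_add]
    refine ⟨xa_mem_AX _, xa_mem_QX.2 ?_⟩
    simp only [aS, Prod.snd_add]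
    linear_combination k2 (v.2.2 + w.2.2)
  · obtain ⟨⟨c, b, d⟩, rfl⟩ := (mem_AX (F := F)).1 hg.1
    obtain rfl : d = 0 := xa_mem_QX.1 hg.2
    obtain ⟨a, ha⟩ := tr_surj K (c + nm F b)
    have := mul_mem (commutator_mem_commutator (xs_mem_UX b) (xa_mem_UX ((0, 0, 1) : VA F K)))
      (commutator_mem_commutator (xs_mem_UX a) (xa_mem_UX ((0, 1, 0) : VA F K)))
    rw [cm_xs, cm_xs, ← xa_add] at this
    simp only [aS, Prod.mk_add_mk, star_zero, mul_zero, tr_zero, add_zero, zero_add, mul_one, map_one,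
      map_zero, star_one, k2, ha] at this
    rwa [add_comm c, ← add_assoc, k2, zero_add] at this

include F in
theorem zU : UX K ⊓ Cs (UX K) = ZX K := by
  refine le_antisymm (fun g hg => ?_) (le_inf ZX_le_UX fun g hg u hu => (UX_le_Cs hu g hg).symm)
  obtain ⟨⟨c, b, d⟩, a, rfl⟩ := (mem_UX (F := F)).1 hg.1
  have h : ∀ (w : VA F K) (a' : K), w + aS a' (c, b, d) = (c, b, d) + aS a w := fun w a' => by
    have := hg.2 _ ((mem_UX (F := F)).2 ⟨w, a', rfl⟩)
    rw [mul_U, mul_U] at this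
    exact (xa_xs_inj this).1
  obtain rfl : a = 0 := by simpa [aS] using congrArg (fun v => v.2.1) (h (0, 0, 1) 0)
  obtain rfl : d = 0 := by simpa [aS] using congrArg (fun v => v.2.1) (h 0 1)
  obtain rfl : b = 0 := by
    by_contra hb
    obtain ⟨a, ha⟩ := tr_surj K (1 : F)
    have h2 : star b ≠ 0 := by simpa using hb
    simpa [aS, h2, ha] using congrArg (fun v => v.1) (h 0 (a / star b))
  rw [xs_zero, mul_one]
  exact xa_mem_ZX.2 ⟨rfl, rfl⟩

include F in
theorem invU : UX K ≤ closure {u | u ∈ UX K ∧ u * u = 1} := fun g hg => by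
  obtain ⟨v, a, rfl⟩ := (mem_UX (F := F)).1 hg
  exact mul_mem (subset_closure ⟨xa_mem_UX v, xa_sq v⟩) (subset_closure ⟨xs_mem_UX a, xs_sq a⟩)

include F in
theorem invQ : QX K = closure {u | u ∈ UX K ∧ u ∉ AX K ∧ u * u = 1} := by
  refine le_antisymm (fun g hg => ?_) ((closure_le _).2 fun g ⟨h1, h2, h3⟩ => ?_)
  · obtain ⟨c, b, a, rfl⟩ := (mem_QX (F := F)).1 hg
    have h1 : ∀ (c : F) (b a : K), a ≠ 0 → tr F (a * star b) = 0 → xa (c, b, (0 : F)) * xs a ∈
        closure {u | u ∈ UX K ∧ u ∉ AX K ∧ u * u = 1} := fun c b a ha h => subset_closure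
      ⟨mem_UX.2 ⟨_, _, rfl⟩, mt mem_AX_iff.1 ha, by
        rw [mul_U, k2, xs_zero, mul_one, xa_eq_one]; simp [aS, h, k2]⟩
    have h2 : ∀ a : K, xs a ∈ closure {u | u ∈ UX K ∧ u ∉ AX K ∧ u * u = 1} := fun a => by
      by_cases ha : a = 0
      · rw [ha, xs_zero]; exact one_mem _
      · exact subset_closure ⟨xs_mem_UX a, mt xs_mem_AX.1 ha, xs_sq a⟩
    refine mul_mem ?_ (h2 a)
    by_cases hb : b = 0
    · exact (mul_mem_cancel_right (h2 1)).1 (h1 c b 1 one_ne_zero (by simp [hb]))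
    · exact (mul_mem_cancel_right (h2 b)).1 (h1 c b b hb (by rw [← io_nm (F := F), tr_io]))
  · obtain ⟨v, a, rfl⟩ := (mem_UX (F := F)).1 h1
    rw [mul_U, k2, xs_zero, mul_one, xa_eq_one] at h3
    have := congrArg (fun v => v.2.1) h3
    simp only [aS, Prod.snd_add, Prod.fst_add, ← add_assoc, k2, zero_add, Prod.snd_zero, Prod.fst_zero,
      mul_eq_zero, map_eq_zero] at this
    exact mem_QX_iff.2 (this.resolve_left (mt mem_AX_iff.2 h2))

theorem conj_xz (g : X K) (c : F) (i j : Fin 4) : mt (g * xz c * g⁻¹) i j =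
    (if i = j then 1 else 0) + mt g i 0 * algebraMap F K c * star (mt g j.rev 0) := by
  rw [show mt g j.rev 0 = mt g j.rev (3 : Fin 4).rev from rfl, ← inv_apply]
  exact H76.SAFB.conj_x_apply g.1 (by decide) _ i j

theorem top_of (o : FO F K) {D : Subgroup (X K)} (hU : UX K ≤ D) (h1 : ws ∈ D) (h2 : wn ∈ D) :
    D = ⊤ := by
  have h0 : w0 ∈ D := w0_eq (K := K) ▸ mul_mem (mul_mem (mul_mem h1 h2) h1) h2
  have k3 : ∀ g : X K, mt g 3 0 ≠ 0 → ∀ c : F, g * xz c * g⁻¹ ∈ D := fun g hg c => by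
    have e : (mt g⁻¹ * mt g) 3 0 = 0 := by rw [← X_mul, inv_mul_cancel, one_val]; rfl
    simp only [mul_apply, Fin.sum_univ_four, inv_apply] at e
    change star (mt g 3 0) * _ + star (mt g 2 0) * _ + star (mt g 1 0) * _ + star (mt g 0 0) * _ = 0 at e
    have hg' : star (mt g 3 0) ≠ 0 := by simpa using hg
    obtain ⟨f, hf⟩ := (Qe.fix (F := F) (mt g 0 0 / mt g 3 0 +
        star (mt g 1 0 / mt g 3 0) * (mt g 2 0 / mt g 3 0))).1 (by
      simp only [star_add, star_mul', star_div₀, star_star]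
      field_simp
      linear_combination e - k2 (star (mt g 3 0) * mt g 0 0 + star (mt g 1 0) * mt g 2 0))
    have : g * xz c * g⁻¹ = xa (f, star (mt g 1 0 / mt g 3 0), (0 : F)) * xs (star (mt g 2 0 / mt g 3 0)) * w0 *
        xz (c * nm F (mt g 3 0)) *
        (xa (f, star (mt g 1 0 / mt g 3 0), (0 : F)) * xs (star (mt g 2 0 / mt g 3 0)) * w0)⁻¹ := by
      have e1 : ∀ i, mt (xa (f, star (mt g 1 0 / mt g 3 0), (0 : F)) * xs (star (mt g 2 0 / mt g 3 0)) * w0) i 0 =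
          mt g i 0 / mt g 3 0 := fun i => by
        rw [X_mul, xa_xs_val, w0_val, mul4]
        fin_cases i <;> simp [hf, hg]
        linear_combination k2 (star (mt g 1 0) / star (mt g 3 0) * (mt g 2 0 / mt g 3 0))
      refine X_ext (Matrix.ext fun i j => ?_)
      rw [conj_xz, conj_xz, e1, e1, map_mul, io_nm, star_div₀]
      field_simp
    rw [this]
    have h3 := mul_mem (hU ((mem_UX (F := F)).2 ⟨(f, star (mt g 1 0 / mt g 3 0), (0 : F)),
      star (mt g 2 0 / mt g 3 0), rfl⟩)) h0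
    exact mul_mem (mul_mem h3 (hU (xz_eq (F := F) (K := K) _ ▸ xa_mem_UX _))) (inv_mem h3)
  have k4 : ∀ d ∈ D, ∀ g : X K, mt (d * g) 3 0 ≠ 0 → ∀ c : F, g * xz c * g⁻¹ ∈ D := fun d hd g hg c => by
    have := mul_mem (mul_mem (inv_mem hd) (k3 _ hg c)) hd
    simpa [mul_assoc] using this
  have k5 : ∀ (g : X K) (c : F), g * xz c * g⁻¹ ∈ D := fun g c => by
    by_contra h
    have a3 : mt g 3 0 = 0 := not_not.1 fun e => h (k3 g e c)
    have a2 : mt g 2 0 = 0 := not_not.1 fun e => h (k4 _ h1 g (by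
      simpa [X_mul, ws_val, mul_apply, Fin.sum_univ_four] using e) c)
    have a1 : mt g 1 0 = 0 := not_not.1 fun e => h (k4 _ (mul_mem h1 h2) g (by
      simpa [X_mul, ws_val, wn_val, mul4, mul_apply, Fin.sum_univ_four] using e) c)
    have a0 : mt g 0 0 = 0 := not_not.1 fun e => h (k4 _ h0 g (by
      simpa [X_mul, w0_val, mul_apply, Fin.sum_univ_four] using e) c)
    have e : (mt g⁻¹ * mt g) 0 0 = 1 := by rw [← X_mul, inv_mul_cancel, one_val]; rfl
    simp [mul_apply, Fin.sum_univ_four, a0, a1, a2, a3] at e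
  have := o.simple
  rcases (normalClosure_normal (s := (ZX K : Set (X K)))).eq_bot_or_eq_top with h | h
  · have h3 : xa ((1, 0, 0) : VA F K) ∈ normalClosure (ZX K : Set (X K)) :=
      subset_normalClosure (xa_mem_ZX.2 ⟨rfl, rfl⟩)
    rw [h, mem_bot, xa_eq_one] at h3
    simp at h3
  · refine top_le_iff.1 (h ▸ (closure_le _).2 fun a ha => ?_)
    obtain ⟨z, hz, hc⟩ := Group.mem_conjugatesOfSet_iff.1 ha
    obtain ⟨g, rfl⟩ := isConj_iff.1 hc
    obtain ⟨c, rfl⟩ := (mem_ZX (F := F)).1 hz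
    exact xz_eq (K := K) c ▸ k5 g c

theorem cj_mem {D : Subgroup (X K)} {w u : X K} (hw : w * w = 1) (h : u ∈ D) : w * u * w ∈ cjs w D := by
  rwa [← conj_mem_cjs (g := w), inv_eq_of_mul_eq_one_left hw] at h

theorem cjs_le {D N : Subgroup (X K)} {w : X K} (h : D ≤ N) (hw : w ∈ N) : cjs w D ≤ N := by
  rintro _ ⟨u, hu, rfl⟩
  exact mul_mem (mul_mem hw (h hu)) (inv_mem hw)

include F in
theorem wn_mem : wn ∈ P0X K := by
  have h := xl_eq (K := K) (1 : F) ▸ xa_mem_UX _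
  rw [wn_braid (F := F)]
  exact mul_mem (mul_mem (mem_sup_left h) (mem_sup_right (cj_mem wn_sq h))) (mem_sup_left h)

theorem ws_mem : ws ∈ P2X K := by
  have h := xs_mem_UX (1 : K)
  rw [ws_braid]
  exact mul_mem (mul_mem (mem_sup_left h) (mem_sup_right (cj_mem ws_sq h))) (mem_sup_left h)

theorem genA (o : FO F K) : AX K ⊔ cjs w0 (AX K) = ⊤ := by
  set D := AX K ⊔ cjs w0 (AX K)
  have h1 : ∀ v : VA F K, xa v ∈ D := fun v => mem_sup_left (xa_mem_AX v)
  have h2 : ∀ v : VA F K, w0 * xa v * w0 ∈ D := fun v => mem_sup_right (cj_mem w0_sq (xa_mem_AX v))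
  have h3 : wn ∈ D := by
    rw [wn_braid (F := F), xl_eq, show (wn * xa ((0, 0, 1) : VA F K) * wn : X K) =
      w0 * xa ((0, 0, 1) : VA F K) * w0 by mat4]
    exact mul_mem (mul_mem (h1 _) (h2 _)) (h1 _)
  have h4 : ∀ a, xs a ∈ D := fun a => by
    rw [← wn_xm, xm_eq (F := F)]
    exact mul_mem (mul_mem h3 (h1 _)) (inv_mem h3)
  refine top_of o (fun g hg => ?_) ?_ h3
  · obtain ⟨v, a, rfl⟩ := (mem_UX (F := F)).1 hg
    exact mul_mem (h1 v) (h4 a)
  · rw [ws_braid, show (ws * xs 1 * ws : X K) = wn * (w0 * xa ((0, 1, 0) : VA F K) * w0) * wn by mat4]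
    exact mul_mem (mul_mem (h4 _) (mul_mem (mul_mem h3 (h2 _)) h3)) (h4 _)

theorem jobFL : H83.SV.JobFL := fun F K _ _ _ _ _ _ _ _ _ o =>
  ⟨trS, trN, cS, genA o, top_of o (UX_le_P0X.trans le_sup_left) (mem_sup_right ws_mem)
    (mem_sup_left (wn_mem (F := F))), invU (F := F), invQ (F := F), cU (F := F), zU (F := F)⟩

end H83.SVFL
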