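/- SU-FN: normalisers and centralisers in `SU₄(q)`. -/
import Cfsg.Agent.H83.SVFK

set_option autoImplicit false
set_option linter.unusedSectionVars false
set_option linter.unusedSimpArgs false

namespace H83.SVFN

open H64.SG (O2 Syl Cz Cs Ns cjs Is2 Inv2 fx mem_fx mem_Cz mem_Cs Cs_le_Ns)
open H83.SV Matrix H57 Subgroup H83.SVFH
open H67.SA (SLn Au St cI Ml QQ ZZ UU out Root mem_St mem_St_of_finite conj_mem_St mem_cI mem_cjs
  conj_mem_cjs out_conj out_slField map_Pat_le_Pat)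

variable {F K : Type} [Field F] [Finite F] [CharP F 2] [Field K] [Algebra F K] [StarRing K] [CharP K 2]
  [Qe F K] [Finite K]

/-- the extension to `SL₄(K)` -/
theorem ext_val (g s : X K) (τ : RingAut K) :
    ((MulAut.conj g * fld K τ) s).1 = (MulAut.conj g.1 * slField _ K τ : Au 3 K) s.1 := rfl

theorem exists_ext (o : FO F K) (β : MulAut (X K)) : ∃ β' : Au 3 K, ∀ s, (β s).1 = β' s.1 := by
  obtain ⟨g, h⟩ := o.dec β
  exact ⟨_, fun s => by rw [h]; exact ext_val g s _⟩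

theorem st_of {β : MulAut (X K)} {β' : Au 3 K} (h : ∀ s, (β s).1 = β' s.1) {P : Subgroup (SLn 3 K)}
    (h' : β' ∈ St P) : β ∈ St (P.subgroupOf (SUs K)) := fun s => by
  rw [mem_subgroupOf, mem_subgroupOf, h]; exact h' s.1

theorem ct (o : FO F K) {A : Subgroup (X K)} {P : Subgroup (SLn 3 K)}
    (h : ∀ β : Au 3 K, (∀ a ∈ A, β a.1 = a.1) →
      ∃ ζ ∈ P, β = MulAut.conj ζ ∨ β = MulAut.conj ζ * tau K)
    (β : MulAut (X K)) (hβ : ∀ a ∈ A, β a = a) : β ∈ cI (P.subgroupOf (SUs K)) := by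
  obtain ⟨g, e⟩ := o.dec β
  generalize oX K β = τ at e
  subst e
  obtain ⟨ζ, h1, h2⟩ := h _ fun a ha => (ext_val g a τ).symm.trans (congrArg _ (hβ a ha))
  have h3 := h2.imp (congrArg (out 3 K)) (congrArg (out 3 K))
  simp only [map_mul, out_conj (show 2 ≤ 3 by omega), out_slField (show 2 ≤ 3 by omega), out_tau, one_mul,
    Prod.mk.injEq, Prod.mk_eq_one, and_true] at h3
  obtain rfl : τ = 1 := h3.resolve_right fun e => absurd e.2 (by decide)
  rcases h2 with h2 | h2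
  · rw [map_one, mul_one] at h2 ⊢
    exact mem_cI.2 ⟨g, by rw [mem_subgroupOf, conj_inj SVFK.cen h2]; exact h1, rfl⟩
  · have := congrArg (fun β => (out 3 K β).2) h2
    simp only [map_mul, out_conj (show 2 ≤ 3 by omega), out_slField (show 2 ≤ 3 by omega), out_tau,
      one_mul] at this
    exact absurd this (by decide)

theorem root_xa (v : VA F K) : Root (xa v).1 ↔ v ≠ 0 ∧ dt v = 0 := by
  rw [SVFK.xa_mm, root_mm, det_fin_two_of]
  refine and_congr (not_congr ⟨fun h => ?_, fun h => ?_⟩) ?_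
  · refine xa_eq_one.1 (Subtype.ext ?_)
    rw [SVFK.xa_mm, h]; simp [mm]
  · subst h; ext i j; fin_cases i <;> fin_cases j <;> simp
  · rw [← map_eq_zero (algebraMap F K), dt, map_add, map_mul, io_nm, CharTwo.sub_eq_add]

theorem zw (o : FO F K) (β : MulAut (X K)) (v w : VA F K) (h : dt v = 0) (e : β (xa v) = xa w) :
    dt w = 0 := by
  by_cases h0 : v = 0
  · rw [h0, xa_zero, map_one, eq_comm, xa_eq_one] at e
    simp [e, dt]
  obtain ⟨β', h'⟩ := exists_ext o β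
  have := H76.SAFB.roota (by omega) _ β' ((root_xa v).2 ⟨h0, h⟩)
  rw [← h', e] at this
  exact ((root_xa w).1 this).2

theorem tri {g : X K} (h : ∀ i j, j < i → mt g i j = 0) :
    ∃ u ∈ UX K, ∃ (y : Kˣ) (r : Fˣ), g = u * ht y r := by
  have h1 := fun i j => congrFun (congrFun (X_form g) i) j
  have h2 := h1 0 0
  have h3 := h1 1 1
  have h4 := X_det g
  rw [det_of_isUpperTriangular (fun i j e => h i j e), Fin.prod_univ_four] at h4
  simp only [mul_apply, Fin.sum_univ_four, of_apply, one_apply_eq] at h2 h3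
  change _ * star (mt g 3 3) + _ * star (mt g 3 2) + _ * star (mt g 3 1) + _ * star (mt g 3 0) = 1 at h2
  change _ * star (mt g 2 3) + _ * star (mt g 2 2) + _ * star (mt g 2 1) + _ * star (mt g 2 0) = 1 at h3
  rw [h 3 2 (by decide), h 3 1 (by decide), h 3 0 (by decide)] at h2
  rw [h 1 0 (by decide), h 2 1 (by decide), h 2 0 (by decide)] at h3
  simp only [star_zero, mul_zero, zero_mul, add_zero, zero_add] at h2 h3
  have a0 := left_ne_zero_of_mul_eq_one h2
  have a1 := left_ne_zero_of_mul_eq_one h3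
  have b0 : star (mt g 0 0) ≠ 0 := by simpa using a0
  have b1 : star (mt g 1 1) ≠ 0 := by simpa using a1
  have a3 : mt g 3 3 = (star (mt g 0 0))⁻¹ :=
    eq_inv_of_mul_eq_one_right (by simpa using congrArg star h2)
  have a2 : mt g 2 2 = (star (mt g 1 1))⁻¹ :=
    eq_inv_of_mul_eq_one_right (by simpa using congrArg star h3)
  set y := Units.mk0 _ (div_ne_zero a0 a1) with hy
  set r := nu F (Units.mk0 _ a1) with hr
  have h5 : hb y r = mt g 1 1 := sq_inj (sq_inj (by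
    rw [a2, a3] at h4
    rw [hb_pow, hy, hr]
    simp only [nu_val, Units.val_mk0, io_nm, star_div₀, Units.val_inv_eq_inv_val]
    field_simp at h4 ⊢
    linear_combination -h4))
  have h6 : mt (ht y r) = diagonal fun i => mt g i i := by
    rw [ht_val, h5, hy, Units.val_mk0, div_mul_cancel₀ _ a1, ← a2, ← a3]
    ext i j; fin_cases i <;> fin_cases j <;> simp
  have h7 : ∀ i, mt g i i ≠ 0 := fun i => by
    fin_cases i
    exacts [a0, a1, a2 ▸ inv_ne_zero b1, a3 ▸ inv_ne_zero b0]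
  have h8 : ∀ i j, mt (g * (ht y r)⁻¹) i j * mt g j j = mt g i j := fun i j => by
    rw [← mul_diagonal (fun i => mt g i i), ← h6, ← X_mul, inv_mul_cancel_right]
  exact ⟨g * (ht y r)⁻¹, mem_UX_iff.2 ⟨fun i => mul_right_cancel₀ (h7 i) (by rw [h8, one_mul]),
    fun i j e => mul_right_cancel₀ (h7 j) (by rw [h8, h i j e, zero_mul])⟩, y, r, by group⟩

theorem nU (g : X K) (hg : g ∈ Ns (UX K)) : ∃ u ∈ UX K, ∃ (y : Kˣ) (r : Fˣ), g = u * ht y r := by
  have h : ∀ g ∈ Ns (UX K), (mt g 3 0 = 0 ∧ mt g 3 2 = 0 ∧ mt g 3 1 = 0) ∧ mt g 2 1 = 0 := fun g hg => by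
    have a : ∀ u ∈ UX K, ∀ j, (mt g * mt u) 3 j = mt g 3 j ∧
        ∃ c, (mt g * mt u) 2 j = mt g 2 j + c * mt g 3 j := fun u hu j => by
      obtain ⟨h1, h2⟩ := mem_UX_iff.1 ((mem_normalizer_iff.1 hg u).1 hu)
      rw [← X_mul, show g * u = g * u * g⁻¹ * g by group, X_mul]
      simp only [mul_apply (M := mt (g * u * g⁻¹)), Fin.sum_univ_four, h1, h2 3 0 (by decide),
        h2 3 1 (by decide), h2 3 2 (by decide), h2 2 0 (by decide), h2 2 1 (by decide), zero_mul, zero_add,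
        one_mul, true_and]
      exact ⟨_, rfl⟩
    have a1 := (a _ (xs_mem_UX 1) 1).1
    have a2 := (a _ (xs_mem_UX 1) 3).1
    obtain ⟨a3, c, a4⟩ := a _ (xa_mem_UX ((0, 0, 1) : VA F K)) 2
    simp [mul_apply, Fin.sum_univ_four, xs_val, xa_val] at a1 a2 a3 a4
    exact ⟨⟨a1, a2, a3⟩, by simpa [a2] using a4⟩
  obtain ⟨⟨a1, a2, a3⟩, a4⟩ := h g hg
  obtain ⟨⟨-, b2, b3⟩, -⟩ := h _ (inv_mem hg)
  rw [inv_apply, star_eq_zero] at b2 b3
  refine tri fun i j e => ?_
  fin_cases i <;> fin_cases j <;> first | exact absurd e (by decide) | assumption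

theorem exU (o : FO F K) (β : MulAut (X K)) (h : β ∈ St (UX K)) : ∃ u ∈ UX K, ∃ (y : Kˣ) (r : Fˣ),
    β = MulAut.conj (u * ht y r) * fld K (oX K β) := by
  obtain ⟨g, e⟩ := o.dec β
  obtain ⟨u, hu, y, r, rfl⟩ := nU (F := F) g (conj_mem_St.1 (by
    rw [eq_mul_inv_of_mul_eq e.symm]; exact mul_mem h (inv_mem (fld_UX _))))
  exact ⟨u, hu, y, r, e⟩

theorem nu' (o : FO F K) (β : MulAut (X K)) (h : β ∈ St (UX K)) :
    β ∈ St (AX K) ∧ β ∈ St (QX K) ∧ β ∈ St (ZX K) := by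
  obtain ⟨u, hu, y, r, e⟩ := exU o β h
  rw [e, map_mul]
  refine ⟨mul_mem (mul_mem (conj_mem_St.2 (UX_le_Ns_AX hu)) (conj_mem_St.2 (Lv_le_Ns (ht_mem_Lv y r))))
    (fld_AX _), mul_mem (mul_mem (conj_mem_St.2 (UX_le_Ns_QX hu)) (mem_St_of_finite fun a ha => ?_))
    (mem_St_of_finite fun _ h => ?_), mul_mem (mul_mem (conj_mem_St.2 (Cs_le_Ns _ (UX_le_Cs hu)))
    (mem_St_of_finite fun a ha => ?_)) (mem_St_of_finite fun _ h => ?_)⟩
  · obtain ⟨c, b, a, rfl⟩ := (mem_QX (F := F)).1 ha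
    rw [map_mul, MulAut.conj_apply, MulAut.conj_apply, ht_xa, ht_xs]
    exact mem_QX_iff.2 (mul_zero _)
  · rw [QX, mem_subgroupOf, H67.SA.QQ_eq] at h ⊢
    exact map_Pat_le_Pat (oX K β : K →+* K) _ (mem_map_of_mem _ h)
  · obtain ⟨c, rfl⟩ := (mem_ZX (F := F)).1 ha
    rw [MulAut.conj_apply, ht_xa]
    exact xa_mem_ZX.2 ⟨mul_zero _, mul_zero _⟩
  · exact map_Pat_le_Pat (oX K β : K →+* K) _ (mem_map_of_mem _ h)

theorem ctA3 (o : FO F K) (β : MulAut (X K)) (h : ∀ a ∈ AX K ⊓ QX K, β a = a) : β ∈ cI (AX K) := by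
  have h0 : ∀ (c : F) (b : K), β (xa (c, b, (0 : F))) = xa (c, b, (0 : F)) := fun c b =>
    h _ ⟨xa_mem_AX _, xa_mem_QX.2 rfl⟩
  obtain ⟨β', h'⟩ := exists_ext o β
  have h1 : β ∈ St (AX K) := st_of h' (SVFK.nw (F := F) β' (by rw [← h', h0]))
  obtain ⟨⟨c, b, d⟩, hv⟩ := (mem_AX (F := F)).1 ((h1 _).1 (xa_mem_AX ((0, 0, 1) : VA F K)))
  obtain rfl : d = 1 := (F_cases K d).resolve_left fun e => by
    subst e
    have := xa_inj (β.injective ((h0 c b).trans hv.symm))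
    simp at this
  have h2 : ∀ b' : K, nm F (b' + b) + (nm F b' + c) = 0 := fun b' => by
    simpa [dt] using zw o β (nm F b', b', 1) (nm F b' + c, b' + b, 1) (by simp [dt, k2]) (by
      rw [show ((nm F b', b', 1) : VA F K) = (nm F b', b', 0) + (0, 0, 1) by simp, xa_add, map_mul, h0,
        hv, ← xa_add]; simp)
  obtain rfl : b = 0 := by
    by_contra hb
    obtain ⟨y, y1, y2⟩ := exists_nm_one F K
    have h3 : c = 1 := by
      have := h2 0
      rw [zero_add, nm_zero, zero_add, nm_eq_one hb] at this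
      linear_combination this - k2 (1 : F)
    have h4 := h2 1
    have h5 := h2 y
    rw [h3, nm_one, k2, add_zero, nm_eq_zero] at h4
    rw [h3, y2, k2, add_zero, nm_eq_zero] at h5
    exact y1 (Units.ext (by rw [Units.val_one]; linear_combination h5 - h4))
  obtain rfl : c = 0 := by simpa using h2 0
  refine ct o (SVFK.cA (F := F)) β fun a ha => ?_
  obtain ⟨⟨c, b, d⟩, rfl⟩ := (mem_AX (F := F)).1 ha
  rcases F_cases K d with rfl | rfl
  · exact h0 c b
  · rw [show ((c, b, 1) : VA F K) = (c, b, 0) + (0, 0, 1) by simp, xa_add, map_mul, h0, hv]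

theorem jobFN : H83.SV.JobFN := by
  intro F K _ _ _ _ _ _ _ _ _ o
  refine ⟨nU, exU o, nu' o, zw o, fun β h => ?_, fun β h => ?_, ct o (SVFK.cA (F := F)),
    ct o (SVFK.cQ (F := F)), ctA3 o⟩
  all_goals obtain ⟨β', h'⟩ := exists_ext o β
  · exact st_of h' (SVFK.nw (F := F) β' (by rw [← h', h]))
  · exact st_of h' (SVFK.nz (F := F) β' (by rw [← h', h]))

end H83.SVFN
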