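import Cfsg.Agent.H83.SVInd
import Cfsg.Agent.H29.SARep

/-! STD-U at `q = 2`, slot FT: involutions of `Aut SL₄(K)`. -/

set_option autoImplicit false
set_option linter.unusedSectionVars false

namespace H83.SVFT

open H64.SG (O2 Syl Cz Cs Ns cjs Is2 Inv2 fx mem_Cs mem_Cz mem_fx)
open H67.SA (SLn Au Ml out pm val_mul card_cjs)
open H83.SV Matrix H57 Subgroup

variable {F K : Type} [Field F] [Finite F] [CharP F 2] [Field K] [Algebra F K] [StarRing K] [CharP K 2]
  [Qe F K] [Finite K]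

/-- the matrix of the form -/
abbrev RR (K : Type) [Field K] [CharP K 2] : SLn 3 K := pm Fin.revPerm

theorem RR_val : (RR K).1 = !![0, 0, 0, 1; 0, 0, 1, 0; 0, 1, 0, 0; 1, 0, 0, 0] := w0_val (K := K)

theorem RR_sq : (RR K).1 * (RR K).1 = 1 := congrArg H83.SV.mt (w0_sq (K := K))

theorem RR_star : (RR K).1ᴴ = (RR K).1 := by
  rw [RR_val]; ext i j; fin_cases i <;> fin_cases j <;> simp

theorem tau_inv (g : SLn 3 K) : ((tau K g)⁻¹).1 = (RR K).1 * g.1ᴴ * (RR K).1 := by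
  ext i j
  rw [← map_inv, tau_inv_apply, mul_apply, Finset.sum_eq_single j.rev, mul_apply,
    Finset.sum_eq_single i.rev]
  · simp [H67.SA.pm_apply]
  · intro b _ hb
    rw [H67.SA.pm_apply, if_neg fun h => hb (by simp [h]), zero_mul]
  · simp
  · intro b _ hb
    rw [H67.SA.pm_apply, if_neg (by simpa using hb), mul_zero]
  · simp

include F in
theorem herm {g : SLn 3 K} (h : g.1ᴴ = g.1) : ∃ p : GL (Fin 4) K, g.1 = p.1 * p.1ᴴ :=
  exists_eq_mul_conjTranspose (sg K) (sg_ne_one F K) star_star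
    (g := SpecialLinearGroup.toGL g) h

include F in
theorem fi (y : SLn 3 K) (hy : y * tau K y = 1) : ∃ h, y = h * (tau K h)⁻¹ := by
  have h1 : y.1 = (RR K).1 * y.1ᴴ * (RR K).1 := by
    rw [← tau_inv, ← eq_inv_of_mul_eq_one_left hy]
  obtain ⟨a, ha⟩ := herm (F := F) (g := y * RR K) (by
    rw [val_mul, conjTranspose_mul, RR_star]
    conv_rhs => rw [h1, Matrix.mul_assoc, RR_sq, Matrix.mul_one])
  obtain ⟨p, hp⟩ := herm (F := F) (RR_star (K := K))
  have h2 : (a * p⁻¹).1 * (RR K).1 * (a * p⁻¹).1ᴴ = (y * RR K).1 := by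
    rw [ha, hp, Units.val_mul, conjTranspose_mul, Matrix.mul_assoc a.1, ← Matrix.mul_assoc (p⁻¹).1,
      Units.inv_mul, Matrix.one_mul, Matrix.mul_assoc, ← Matrix.mul_assoc p.1ᴴ, ← conjTranspose_mul,
      Units.inv_mul, conjTranspose_one, Matrix.one_mul]
  generalize (a * p⁻¹).1 = m at h2
  have h3 : m.det * star m.det = 1 := by
    simpa [det_mul, det_conjTranspose, (RR K).2, y.2] using congrArg det h2
  have h4 : ∀ d : K, (rt (rt d) ^ 2) ^ 2 = d := fun d => by rw [rt_sq, rt_sq]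
  have h5 : rt (rt (star m.det)) * star (rt (rt (star m.det))) = 1 := sq_inj (sq_inj (by
    rw [mul_pow, mul_pow, ← star_pow, ← star_pow, h4, star_star, mul_comm, h3]; simp))
  obtain ⟨h, hh⟩ : ∃ h : SLn 3 K, h.1 = rt (rt (star m.det)) • m := ⟨⟨_, by
    rw [det_smul, Fintype.card_fin, ← h3, mul_comm]
    exact congrArg _ ((pow_mul _ 2 2).trans (h4 _))⟩, rfl⟩
  refine ⟨h, Subtype.ext (Eq.trans ?_ (val_mul h _).symm)⟩
  rw [tau_inv, hh]
  simp only [conjTranspose_smul, smul_mul_assoc, mul_smul_comm, smul_smul]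
  rw [mul_comm (star _), h5, one_smul, ← Matrix.mul_assoc, ← Matrix.mul_assoc, h2, val_mul,
    Matrix.mul_assoc, RR_sq, Matrix.mul_one]

theorem exists_ker (f : (Fin 4 → K) →ₗ[K] K × K) (u : Fin 4 → K) :
    ∃ w, f w = 0 ∧ ∀ c : K, w ≠ c • u := by
  by_contra h
  push Not at h
  have h1 := f.finrank_range_add_finrank_ker
  have h2 := (LinearMap.range f).finrank_le
  have h3 : Module.finrank K (LinearMap.ker f) ≤ Module.finrank K (K ∙ u) :=
    Submodule.finrank_mono fun w hw => by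
      obtain ⟨c, hc⟩ := h w hw
      exact Submodule.mem_span_singleton.2 ⟨c, hc.symm⟩
  have h4 : Module.finrank K (K ∙ u) ≤ 1 := by simpa using finrank_span_le_card (R := K) {u}
  simp at h1 h2
  omega

/-- An elementary abelian group of order `|K|³` of isometries of a symmetric form. -/
theorem big_gr {J : GL (Fin 4) K} (hJ : J.1ᵀ = J.1) :
    ∃ Y ≤ fx (H29.SA.gr (n := 3) J), El Y ∧ Nat.card K ^ 3 ≤ Nat.card Y := by
  let l : (Fin 4 → K) →ₗ[K] K := (dotProductBilin K K) fun i => rt (J.1 i i)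
  have hl : ∀ v, l v = 0 → v ⬝ᵥ J.1 *ᵥ v = 0 := fun v hv => by
    have h1 := congrArg (· ^ 2) hv
    have h2 : ∀ i j, J.1 j i = J.1 i j := fun i j => congrFun (congrFun hJ i) j
    have h3 := two0 K
    simp only [l, dotProductBilin_apply_apply, dotProduct, Fin.sum_univ_four, CharTwo.add_sq, mul_pow,
      rt_sq] at h1
    simp only [dotProduct, mulVec, Fin.sum_univ_four, h2 0 1, h2 0 2, h2 0 3, h2 1 2, h2 1 3, h2 2 3]
    linear_combination h1 + (v 0 * v 1 * J.1 0 1 + v 0 * v 2 * J.1 0 2 + v 0 * v 3 * J.1 0 3 +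
      v 1 * v 2 * J.1 1 2 + v 1 * v 3 * J.1 1 3 + v 2 * v 3 * J.1 2 3) * h3
  obtain ⟨u, h1, h2⟩ := exists_ker (l.prod 0) 0
  obtain ⟨w, h3, h4⟩ := exists_ker (l.prod ((dotProductBilin K K) (u ᵥ* J.1))) u
  have u0 : u ≠ 0 := by simpa using h2 0
  have uu := hl u (congrArg Prod.fst h1)
  have ww := hl w (congrArg Prod.fst h3)
  have uw : u ⬝ᵥ J.1 *ᵥ w = 0 := by rw [dotProduct_mulVec]; exact congrArg Prod.snd h3
  have wu : w ⬝ᵥ J.1 *ᵥ u = 0 := by
    rw [dotProduct_mulVec, dotProduct_comm, ← mulVec_transpose, hJ, uw]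
  have ind : ∀ a b : K, a • u + b • w = 0 → a = 0 ∧ b = 0 := fun a b h => by
    have hb : b = 0 := by_contra fun hb => h4 (-(b⁻¹ * a)) (by
      rw [← inv_smul_smul₀ hb w, eq_neg_of_add_eq_zero_right h, smul_neg, smul_smul, neg_smul])
    rw [hb, zero_smul, add_zero, smul_eq_zero] at h
    exact ⟨h.resolve_right u0, hb⟩
  let S : K × K × K → Matrix (Fin 4) (Fin 4) K := fun p =>
    vecMulVec u (p.1 • u + p.2.1 • w) + vecMulVec w (p.2.1 • u + p.2.2 • w)
  have s1 : ∀ p q, S (p + q) = S p + S q := fun p q => by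
    ext i j; simp [S, vecMulVec_apply]; ring
  have s2 : ∀ p, (S p)ᵀ = S p := fun p => by ext i j; simp [S, vecMulVec_apply]; ring
  have s3 : ∀ p q, S p * J.1 * S q = 0 := fun p q => by
    simp only [S, Matrix.add_mul, Matrix.mul_add, Matrix.mul_assoc, mul_vecMulVec J.1,
      vecMulVec_mul_vecMulVec, add_dotProduct, smul_dotProduct, uu, uw, wu, ww]
    simp
  have s4 : ∀ p, S p + S p = 0 := fun p => by ext i j; exact k2 _
  have s5 : ∀ p q, (1 + S p * J.1) * (1 + S q * J.1) = 1 + S (p + q) * J.1 := fun p q => by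
    have := s3 p q
    rw [s1]
    generalize S p = A, S q = B at *
    rw [Matrix.add_mul, Matrix.one_mul, Matrix.mul_add, ← Matrix.mul_assoc, this, Matrix.add_mul,
      Matrix.mul_one, Matrix.zero_mul, add_zero, add_assoc, add_comm (B * _)]
  have s6 : ∀ p, (1 + S p * J.1) * (1 + S p * J.1) = 1 := fun p => by
    rw [s5, s1, s4, Matrix.zero_mul, add_zero]
  let φ : Multiplicative (K × K × K) →* SLn 3 K := MonoidHom.mk'
    (fun p => ⟨1 + S p.toAdd * J.1, sq_inj (by rw [sq, ← det_mul, s6, det_one, one_pow])⟩)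
    fun p q => Subtype.ext (s5 _ _).symm
  have hφ : Function.Injective φ := (injective_iff_map_eq_one _).2 fun p hp => by
    have h5 : S p.toAdd * J.1 = 0 := add_eq_left.1 (congrArg Subtype.val hp)
    have h6 : S p.toAdd = 0 := by
      rw [← Matrix.mul_one (S _), ← J.mul_inv, ← Matrix.mul_assoc, h5, Matrix.zero_mul]
    have h7 := fun j => ind ((p.toAdd.1 • u + p.toAdd.2.1 • w) j) ((p.toAdd.2.1 • u + p.toAdd.2.2 • w) j)
      (funext fun i => by simpa [S, vecMulVec_apply, mul_comm] using congrFun (congrFun h6 i) j)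
    have h8 := ind _ _ (funext fun j => (h7 j).1)
    exact Prod.ext h8.1 (Prod.ext h8.2 (ind _ _ (funext fun j => (h7 j).2)).2)
  refine ⟨φ.range, ?_, ?_, ?_⟩
  · rintro _ ⟨p, rfl⟩
    refine H29.SA.mem_fx_gr.2 ?_
    change (1 + S _ * J.1)ᵀ * J.1 * (1 + S _ * J.1) = J.1
    rw [transpose_add, transpose_mul, transpose_one, hJ, s2, Matrix.add_mul, Matrix.one_mul,
      Matrix.mul_assoc J.1, show J.1 + J.1 * (S p.toAdd * J.1) = J.1 * (1 + S p.toAdd * J.1) by
        rw [Matrix.mul_add, Matrix.mul_one], Matrix.mul_assoc, s6, Matrix.mul_one]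
  · rintro _ ⟨p, rfl⟩
    exact Subtype.ext (s6 _)
  · rw [← Nat.card_congr (MonoidHom.ofInjective hφ).toEquiv]
    change _ ≤ Nat.card (K × K × K)
    simp [pow_succ, mul_assoc]

theorem card_fix : Nat.card (fixedSub (sg K)) = Nat.card F :=
  (Nat.card_eq_of_bijective (fun c : F => (⟨algebraMap F K c, mem_fixedSub.2 (star_io c)⟩ :
    fixedSub (sg K))) ⟨fun _ _ h => io_inj (congrArg Subtype.val h), fun ⟨a, h⟩ => by
      obtain ⟨c, rfl⟩ := (Qe.fix (F := F) a).1 (mem_fixedSub.1 h); exact ⟨c, rfl⟩⟩).symm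

theorem not_dvd (o : FO F K) : ¬ Nat.card (SLn 3 (fixedSub (sg K))) ∣ Nat.card (X K) := fun h => by
  cases nonempty_fintype (fixedSub (sg K))
  rw [card_sl_fin_eq, ← Nat.card_eq_fintype_card, card_fix (F := F), o.card] at h
  simp only [Finset.prod_range_succ, Finset.range_zero, Finset.prod_empty,
    Qe.two (F := F) (K := K)] at h
  norm_num at h

theorem jobFT : JobFT := fun F K _ _ _ _ _ _ _ _ _ o k => by
  refine ⟨fi (F := F), fun β hβ => ?_⟩
  have hs : ∀ σ : RingAut K, σ ≠ 1 → σ * σ = 1 → σ = sg K := fun σ h1 h2 =>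
    (H67.SA.out_sq_eq_one (sg_ne_one F K) sg_mul_self h2).resolve_left h1
  by_cases h : out 3 K β = 1
  · obtain ⟨g, rfl⟩ := k.inn β h
    have h1 : g * g = 1 := conj_inj k.cen (by rw [map_mul, hβ, map_one])
    obtain ⟨a, ha, h2⟩ : ∃ a ∈ Ml 3 K 2, IsConj g a := by
      by_cases h2 : g = 1
      · exact ⟨1, one_mem _, h2 ▸ IsConj.refl _⟩
      · rcases k.ic g ⟨h1, h2⟩ with h3 | h3
        exacts [⟨_, xa_mem_AX _, h3⟩, ⟨_, xa_mem_AX _, h3⟩]
    obtain ⟨p, rfl⟩ := isConj_iff.1 h2.symm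
    refine Or.inl ⟨cjs p (Ml 3 K 2), ?_, El.map (fun _ => H67.SA.sq_Ml) _, ?_⟩
    · rw [H64.SG.fx_conj, ← H64.SG.cj_Cz]
      exact map_mono fun b hb => mem_Cz.2 (H67.SA.Ml_le_Cs 2 hb a ha)
    · rw [card_cjs, H67.SA.card_Ml (by decide)]
      exact Nat.pow_le_pow_right Nat.card_pos (by decide)
  rcases H29.SA.rep (by decide) hβ h with ⟨σ, h1, h2, h3⟩ | ⟨J, rfl⟩ | ⟨σ, h1, h2, h3⟩
  · obtain rfl := hs σ h1 h2
    obtain ⟨e⟩ := H29.SA.fx_field h3
    exact Or.inr (Or.inl ⟨fx β, le_rfl, (H29.SA.comm_eq_of_equiv e (H67.SA.perfect (by decide))).ge,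
      Nat.card_congr e.toEquiv ▸ not_dvd o⟩)
  · exact Or.inl (big_gr (H29.SA.symm_of_sq hβ).2)
  · obtain rfl := hs σ h1 h2
    refine Or.inr (Or.inr ?_)
    rw [H29.SA.out_of_isConj h3, out_tau, map_mul, H67.SA.out_slField (by decide),
      H67.SA.out_slGraph (by decide)]
    simp

end H83.SVFT
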