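import Cfsg.Agent.H66.FUCore
import Cfsg.Agent.H66.SOEF
import Cfsg.Agent.H83.SVInd

/-! STD-U at `q = 2`, field case: `JobFU` and `JobNF`. -/

set_option autoImplicit false
set_option linter.unusedSectionVars false

namespace H83.SVE

open H64.SG (O2 Syl Cz Cs Ns cjs Is2 Inv2 UF mem_Cz)
open H67.SA (SLn Au x UU ZZ Ml St cm out out_conj out_cm UU_le_Cs Ml_le_Cs sq_Ml sq_ZZ x_add x_inv
  x_mem_ZZ ZZ_le_UU mem_St_Pat x_mem_Pat card_cjs)
open H66.FU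
open H83.SV H98 Subgroup

universe u

section
variable {K : Type} [Field K] [StarRing K] [CharP K 2] [Finite K]

theorem tau_Ml : tau K ∈ St (Ml 3 K 2) := mem_St_Pat fun i j _ hs a => by
  rw [tau_x]; exact x_mem_Pat (by simp only [Fin.val_rev]; omega) _

theorem tau_ZZ : tau K ∈ St (ZZ 3 K) := mem_St_Pat fun i j _ hs a => by
  rw [tau_x]; exact x_mem_Pat (by rw [hs.1, hs.2]; exact ⟨rfl, rfl⟩) _

theorem nm_mem {P : Subgroup (SLn 3 K)} (h1 : tau K ∈ St P) (h2 : P ≤ Cs P) {ζ : SLn 3 K}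
    (h : ζ ∈ P) : ζ * tau K ζ ∈ (P.subgroupOf (SUs K)).map (SUs K).subtype :=
  ⟨⟨ζ * tau K ζ, mem_SUs.2 (by rw [map_mul, tau_tau, h2 h _ ((h1 ζ).1 h)])⟩, mul_mem h ((h1 ζ).1 h), rfl⟩

end

theorem jobFU : JobFU.{u} := by
  intro F K _ _ _ _ _ _ _ _ _ A G _ _ e t Φ h ab c
  have hk := c.inj
  obtain ⟨η, h1, -⟩ := H66.SO.exists_eta (sg_mul_self (K := K)) (sg_ne_one F K)
  have o2 : out 3 K (tau K) * out 3 K (tau K) = 1 := by rw [← map_mul, tau_mul_self, map_one]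
  have f : F0 (SUs K).subtype (tau K) (x 0 3 η) e t Φ :=
    { inj := h.inj, inv := h.inv, cen := h.cen, cz := h.cz, two := h.two, inj' := hk, res := c.res
      act := c.act, lang := A.t.fi
      out := not_odd (out 3 K) (out_conj (by omega))
        (fun e => sg_ne_one F K (congrArg Prod.fst (out_tau.symm.trans e))) o2
      zz := by
        rw [range_subtype, tau_x, x_inv, mem_SUs]
        change tau K (x 0 3 η * x 0 3 (sg K η)) = x 0 3 η * x 0 3 (sg K η)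
        rw [← x_add, h1, tau_x, star_one]; rfl
      gen := by rw [range_subtype]; exact A.k.gen η h1 }
  have ft : ∀ s ∈ Ns Φ.range, IsConj t s →
      ∃ m ∈ Ns Φ.range, (∃ β, Ind Φ m β ∧ out 3 K β = 1) ∧ s = m * t * m⁻¹ := fun s hs h2 => by
    have s2 := (H9.UF.inv2_conj h.inv h2).1
    obtain ⟨β, i⟩ := exists_ind hk hs
    rcases A.t.uf β (i.sq hk s2) with ⟨Y, y1, y2, y3⟩ | ⟨N, n1, n2, n3⟩ | o
    · exact absurd h2 (ab.not_conj ((map_mono y1).trans i.map_fx_le) (y2.map Φ) (by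
        rwa [card_map_of_injective hk, show 6 = 2 * 3 from rfl, pow_mul, ← Qe.card (K := K)]))
    · obtain ⟨g, rfl⟩ := isConj_iff.1 h2
      have := card_dvd_of_le (ab.pf g _ ((map_mono n1).trans i.map_fx_le)
        (by rw [← map_commutator]; exact map_mono n2))
      rw [card_map_of_injective hk, card_cjs, e.range_eq_map, card_map_of_injective h.inj,
        card_top] at this
      exact absurd this n3
    · have o1 : out 3 K (β * tau K) = 1 := by rw [map_mul, o, o2]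
      obtain ⟨g, hg⟩ := A.k.inn _ o1
      exact f.ft s2 i odd_one ((pow_one _).trans hg) (D := (out 3 K).ker) (out_conj (by omega)) o1
  have eb := f.eb fun s s1 s2 => (ft s s1 s2).imp fun _ h => ⟨h.1, h.2.2⟩
  have fx : ∀ {m β} {B : Subgroup (X K)}, Ind Φ m β → m ∈ Cs (B.map e) → ∀ a ∈ B, β a.1 = a.1 :=
    fun i m2 a ha => (i.comm_iff hk).1 (by rw [c.res]; exact (m2 _ (mem_map_of_mem e ha)).symm)
  refine ⟨EG0.eg ⟨⟨eb.uf, eb.le, eb.odd, eb.tx⟩, fun m m1 m2 => ?_, fun m m1 m2 => ?_,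
    fun o => f.gen' ?_⟩ A.l h.toB1, ft, f.fi⟩
  · obtain ⟨β, i⟩ := exists_ind hk m1
    obtain ⟨ζ, z1, z2⟩ := A.k.cA β (fx i m2)
    exact f.cM i (sq_Ml z1) (nm_mem tau_Ml (Ml_le_Cs 2) z1) z2
  · obtain ⟨β, i⟩ := exists_ind hk m1
    obtain ⟨ζ, z1, z2⟩ := A.k.cQ β (fx i m2)
    exact f.cM i (sq_ZZ z1) (nm_mem tau_ZZ (ZZ_le_UU.trans UU_le_Cs) z1) z2
  · rintro _ ⟨u, hu, rfl⟩
    exact (UU_le_Cs hu _ (x_mem_ZZ η)).symm

theorem jobNF : JobNF.{u} := by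
  intro F K _ _ _ _ _ _ _ _ _ A G _ _ e t Φ _ _ c f n hn
  have hk := c.inj
  obtain ⟨θ, h1, h2⟩ := H59.SO.exists_autOn hk hn
  have rat : ∀ g ∈ Ml 3 K 2, ∃ h, tau K (h * g * h⁻¹) = h * g * h⁻¹ := fun g hg => by
    by_cases g1 : g = 1
    · exact ⟨1, by simp [g1]⟩
    · rcases A.k.ic g ⟨sq_Ml hg, g1⟩ with k | k <;> obtain ⟨p, hp⟩ := isConj_iff.1 k <;>
        exact ⟨p, hp ▸ mem_SUs.1 (Subtype.prop _)⟩
  obtain ⟨β, hβ⟩ := A.h θ h1.bij h1.mul fun g hg => by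
    obtain ⟨h, k1⟩ := rat g hg
    obtain ⟨h', k2⟩ := rat _ (h1.bij.mapsTo hg)
    obtain ⟨β, hβ⟩ := H66.SO.fus hk f.uf c.act (sq_Ml hg) (h2 g hg) k1 k2
    exact ⟨fun k => hβ ▸ A.k.roota _ β k, fun k => by simpa [← hβ] using A.k.roota _ β⁻¹ k⟩
  obtain ⟨p, hp⟩ := A.k.inn _ (out_cm β (tau K))
  have m : Φ p * t ∈ Ns Φ.range := mul_mem (le_normalizer ⟨p, rfl⟩) f.uf.mem
  refine f.uf.uf n ((mul_mem_cancel_left (inv_mem m)).1 (f.cA (centralizer_anti (c.map_le _)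
    (mem_Cs_map.2 fun s hs => ?_))))
  obtain ⟨g, g1, rfl⟩ := h1.bij.surjOn hs
  have e1 := h2 _ ((tau_Ml g).1 g1)
  have p2 : θ (tau K g) = p * tau K (θ g) * p⁻¹ := by
    rw [hβ _ ((tau_Ml g).1 g1), hβ g g1, ← MulAut.conj_apply, ← hp]; simp [cm]
  rw [p2, map_mul, map_mul, map_inv, ← c.act, ← c.act] at e1
  calc _ = (Φ p * t)⁻¹ * (Φ p * (t * Φ (θ g) * t⁻¹) * (Φ p)⁻¹) * (n * t * n⁻¹) := by group
    _ = _ := by rw [← e1, ← h2 g g1]; group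

end H83.SVE
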