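import Cfsg.Agent.H83.SVR
import Cfsg.Agent.H85.E2

/-! STD-U at `q = 2`, slot N: the big short root subgroup normalises `M`. -/

set_option autoImplicit false
set_option linter.unusedSectionVars false

namespace H83.SV.N

open H64.SG (O2 Syl Cz Cs Ns cjs Is2 Inv2 mem_Cs mem_Cz)
open H67.SA (mem_cjs conj_mem_cjs card_cjs mem_cI)
open Subgroup

universe u

variable {F K : Type} [Field F] [Finite F] [CharP F 2] [Field K] [Algebra F K] [StarRing K] [CharP K 2]
  [Qe F K] [Finite K] {G : Type u} [Group G] [Finite G] {e : X K →* G} {t : G} {M : Subgroup G}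
  {az : F × F → G} {bm : K × K → G}

theorem wnA {v w : VA F K} (h : wn * xa v * wn⁻¹ = xa w) : v.2.1 = 0 ∧ v.2.2 = 0 := by
  have h1 := congrArg mt h
  rw [wn_inv] at h1
  simp only [X_mul, wn_val, xa_val, mul4, ext4, one_mul, mul_one, zero_mul, mul_zero, add_zero,
    zero_add, map_eq_zero] at h1
  tauto

theorem conj_conj (a b x : G) : a * (b * x * b⁻¹) * a⁻¹ = b * (b⁻¹ * a * b * x * (b⁻¹ * a * b)⁻¹) * b⁻¹ := by
  group

theorem one_add_smul' {R : Type} [Field R] (a : R) (v : R × R) : (1 + a) • v = v + a • v := by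
  rw [add_smul, one_smul]

theorem e_conj (a b : X K) : (e a)⁻¹ * e b * e a = e (a⁻¹ * b * a⁻¹⁻¹) := by simp

variable (fa : Fa.{u} F K) (ce : CE e t) (ab : AB F e t) (h : Co e t M az bm)
include ce ab h

omit ab in
theorem fixt {m : G} (hm : m ∈ M) (h1 : m * t * m⁻¹ = t) : ∃ w : VA F K, m = e (xa w) := by
  obtain ⟨⟨c, c'⟩, ⟨b, b'⟩, ⟨d, d'⟩, rfl⟩ := (h.mem m).1 hm
  rw [h.th ce.toB1, mul_eq_left, map_eq_one_iff _ ce.inj, xa_eq_one] at h1
  obtain ⟨rfl, rfl, rfl⟩ : c' = 0 ∧ b' = 0 ∧ d' = 0 := by simpa using h1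
  exact ⟨(c, b, d), (h.xa_eq (c, b, d)).symm⟩

theorem big {m g : G} (hm : m ∈ M) (h1 : g * m * g⁻¹ ∈ Cs ((AX K).map e))
    (h2 : ∃ v : VA F K, g * m * g⁻¹ * t * (g * m * g⁻¹)⁻¹ = t * e (xa v)) : g * m * g⁻¹ ∈ M := by
  refine (h.big _ h1 (by rw [conj_mul, h.sq m hm]; simp) h2).resolve_right fun ⟨v, hv⟩ => ?_
  exact h.not_conj ce.toB1 ab hm ((hv ▸ h.tx ce.toB1 v).trans (isConj_iff.2 ⟨g, rfl⟩).symm)

include fa in
theorem naz (p : F × F) : e wn * az p = az p * e wn := by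
  have nt : (e wn)⁻¹ * t * e wn = t := by rw [mul_assoc, ce.comm]; group
  have k1 : ∀ p, ∃ p', e wn * az p * (e wn)⁻¹ = az p' := fun p => by
    have c0 : az p ∈ Cs ((QX K).map e) := mem_Cs_map.2 fun s hs => by
      obtain ⟨c, b, a, rfl⟩ := (mem_QX (F := F)).1 hs
      rw [map_mul, mul_assoc, h.saz, ← mul_assoc, h.comm (h.xa_mem _) (h.az_mem p), mul_assoc]
    have c1 : e wn * az p * (e wn)⁻¹ ∈ Cs ((QX K).map e) :=
      H98.conj_mem_of_mem_normalizer (H98.normalizer_le_normalizer_centralizer _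
        (map_mem_Ns wn_mem_Ns_QX)) c0
    have c2 : e wn * az p * (e wn)⁻¹ * t * (e wn * az p * (e wn)⁻¹)⁻¹ = t * e (xa (p.2, 0, 0)) := by
      calc _ = e wn * (az p * ((e wn)⁻¹ * t * e wn) * (az p)⁻¹) * (e wn)⁻¹ := by group
        _ = e wn * t * (e wn)⁻¹ * e (wn * xz p.2 * wn⁻¹) := by
          rw [nt, h.taz, xz_eq, map_mul, map_mul, map_inv]; group
        _ = _ := by rw [ce.conj_t, wn_xz, xz_eq]
    have c3 : (az p)⁻¹ * (e wn * az p * (e wn)⁻¹) ∈ Cz t := mem_Cz.2 (by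
      rw [← h.taz] at c2
      calc _ = (az p)⁻¹ * (az p * t * (az p)⁻¹) * (e wn * az p * (e wn)⁻¹) := by group
        _ = _ := by rw [← c2]; group)
    obtain ⟨β, hβ⟩ := exists_ind ce.inj (ce.cz c3)
    obtain ⟨z, hz, rfl⟩ := mem_cI.1 (fa.n.ctQ β (hβ.fix ce.inj (mul_mem (inv_mem c0) c1)))
    have c4 := mul_mem (mul_mem (h.cen (h.az_mem p)) (Cs_range_le _ (ind_conj_iff.1 hβ)))
      (map_mem_Cs (e := e) (AX_le_Cs (ZX_le_AX hz)))
    have c5 := mul_mem (inv_mem (h.az_mem p))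
      (big ce ab h (h.az_mem p) (by convert c4 using 1; group) ⟨_, c2⟩)
    obtain ⟨w, hw⟩ := fixt ce h c5 (mul_inv_eq_iff_eq_mul.2 (mem_Cz.1 c3).symm)
    have c6 : MulAut.conj (xa w) = MulAut.conj z := (ind_conj (e := e) _).unique ce.inj (hw ▸ hβ)
    obtain ⟨c, hc⟩ := (mem_ZX (F := F)).1 hz
    refine ⟨p + (c, 0), ?_⟩
    rw [h.az_add, h.az0, ← hc, ← conj_inj fa.o.cen c6, ← hw, mul_inv_cancel_left]
  have h1 : e wn = al e az (1, 0) * (e wn * al e az (1, 0) * (e wn)⁻¹) * al e az (1, 0) := by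
    rw [h.al0, ← xl_eq, e_inv wn_sq]; simp only [← map_mul]; rw [← wn_braid]
  obtain ⟨p', hp⟩ := k1 p
  have c : ∀ p, Commute (al e az (1, 0)) (az p) := fun p => h.comm (h.al_mem (1, 0)) (h.az_mem p)
  have c' : Commute (e wn * al e az (1, 0) * (e wn)⁻¹) (az p) := by
    have := (c p').map (MulAut.conj (e wn))
    rwa [MulAut.conj_apply, MulAut.conj_apply, ← hp, show ∀ a x : G, a * (a * x * a⁻¹) * a⁻¹ =
      a * a * x * (a * a)⁻¹ from fun a x => by group, e_sq wn_sq, one_mul, inv_one, mul_one] at this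
  exact h1 ▸ (((c p).mul_left c').mul_left (c p)).eq

omit ab in
/-- `Bm = [M, ht y 1]` -/
theorem bm_iff {y : Kˣ} (hy : y ≠ 1) {m : G} (hm : m ∈ M) : (∃ v, m = bm v) ↔
    m * (e (ht y (1 : Fˣ)) * m * (e (ht y (1 : Fˣ)))⁻¹) *
      (e (ht y⁻¹ (1 : Fˣ)) * m * (e (ht y⁻¹ (1 : Fˣ)))⁻¹) = 1 := by
  have h1 : ∀ y : Kˣ, nm F (y : K) = 1 := fun y => nm_eq_one y.ne_zero
  have h2 : (1 : K) + y + (y⁻¹ : Kˣ) = 0 := by
    have a1 : (y : K) + 1 ≠ 0 := fun e => hy (Units.ext (CharTwo.add_eq_zero.1 e))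
    have a2 := io_nm (F := F) (y : K)
    have a3 := io_nm (F := F) ((y : K) + 1)
    rw [h1, map_one] at a2
    rw [nm_eq_one a1, map_one, star_add, star_one] at a3
    rw [Units.val_inv_eq_inv_val, ← eq_inv_of_mul_eq_one_right a2.symm]
    linear_combination a2 - a3
  obtain ⟨p, v, p', rfl⟩ := (h.mem m).1 hm
  rw [h.h3 ce.toB1, h.h3 ce.toB1, h.mul3, h.mul3]
  simp only [h1, Units.val_one, mul_one, one_smul, map_one, one_mul, p2, zero_add]
  rw [show v + (y : K) • v + ((y⁻¹ : Kˣ) : K) • v = 0 by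
    rw [← one_add_smul', ← add_smul, h2, zero_smul]]
  refine ⟨fun ⟨w, hw⟩ => ?_, fun h3 => ?_⟩
  · obtain ⟨rfl, -, rfl⟩ := h.uniq ce.toB1 (p' := 0) (v' := w) (r' := 0)
      (by rw [hw, h.az_zero, h.al_zero, one_mul, mul_one])
    rw [h.az_zero, h.bm_zero, h.al_zero, mul_one, mul_one]
  · obtain ⟨rfl, -, rfl⟩ := h.uniq0 ce.toB1 h3
    exact ⟨v, by rw [h.az_zero, h.al_zero, one_mul, mul_one]⟩

omit ab in
theorem sig (v : K × K) : ∃ w, e ws * bm v * (e ws)⁻¹ = bm w := by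
  obtain ⟨y, hy, -⟩ := exists_nm_one F K
  have h1 := (bm_iff ce h (inv_ne_one.2 hy) (h.bm_mem v)).1 ⟨v, rfl⟩
  refine (bm_iff ce h hy (H98.conj_mem_of_mem_normalizer (h.nor _ ws_mem_Lv) (h.bm_mem v))).2 ?_
  have h2 : ∀ y : Kˣ, (e ws)⁻¹ * e (ht y (1 : Fˣ)) * e ws = e (ht y⁻¹ (1 : Fˣ)) := fun y => by
    rw [e_conj, ws_inv, ws_ht, unit_eq K (1 * nu F y)]
  rw [conj_conj (e (ht y _)), conj_conj (e (ht y⁻¹ _)), h2, h2, ← cjm, ← cjm, h1]
  simp

include fa

theorem baz (u : K × K) (p : F × F) : bs e bm u * az p = az p * bs e bm u := by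
  have : Commute (e wn) (az p) := naz fa ce ab h p
  exact ((this.mul_left (h.comm (h.bm_mem u) (h.az_mem p))).mul_left this.inv_left).eq

omit fa ce ab h in
theorem alg_w (w : K → K × K → VA F K) (h1 : ∀ a v v', w a (v + v') = w a v + w a v')
    (h2 : ∀ a a' v, w (a + a') v = w a v + aS a (w a' v))
    (h3 : ∀ (y : Kˣ) a v, w (y * a) ((y : K) • v) = aH y 1 (w a v)) (a : K) (v : K × K) :
    (w a v).2 = 0 := by
  obtain ⟨y, y1, -⟩ := exists_nm_one F K
  have yF : ∀ c d : F, algebraMap F K c = y * algebraMap F K d → c = 0 ∧ d = 0 := fun c d hc => by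
    rcases F_cases K d with rfl | rfl
    · simpa using hc
    · rcases F_cases K c with rfl | rfl
      · exact absurd (by simpa using hc.symm) y.ne_zero
      · exact absurd (Units.ext (by simpa using hc.symm)) y1
  have w0 : ∀ v, w 0 v = 0 := fun v => by
    have := h2 0 0 v
    rw [add_zero, left_eq_add] at this
    simpa [aS, nm_zero, tr_zero] using this
  have sc : ∀ (z : Kˣ) v, w z v = aH z 1 (w 1 (((z⁻¹ : Kˣ) : K) • v)) := fun z v => by
    rw [← h3, mul_one, smul_smul, Units.mul_inv, one_smul]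
  have d1 : ∀ v, (w 1 v).2.2 = 0 := fun v => by
    have := congrArg (fun x : VA F K => x.2.1) ((h2 1 y v).symm.trans (add_comm (1 : K) y ▸ h2 y 1 v))
    simp only [aS, Prod.fst_add, Prod.snd_add] at this
    exact (yF (w y v).2.2 (w 1 v).2.2 (by linear_combination this)).2
  have e1 : ∀ v, ∃ c : F, algebraMap F K c = (w 1 v).2.1 := fun v => by
    have := congrArg Prod.fst (h2 1 1 v)
    rw [k2, w0] at this
    simp only [aS, Prod.fst_add, Prod.fst_zero, d1, mul_zero, add_zero, one_mul, tr_star] at this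
    exact tr_eq_zero.1 (by linear_combination -this - k2 (w 1 v).1)
  choose ε hε using e1
  have y2 : (y : K) + 1 ≠ 0 := fun e => y1 (Units.ext (CharTwo.add_eq_zero.1 e))
  have e2 : ∀ v, ε (((y⁻¹ : Kˣ) : K) • v) = ε v := fun v => by
    have := congrArg (fun x : VA F K => x.2.1) (h2 y 1 v)
    have h4 := sc (Units.mk0 _ y2) v
    rw [Units.val_mk0] at h4
    rw [h4, sc y v] at this
    simp only [aS, aH, Prod.fst_add, Prod.snd_add, d1, map_zero, mul_zero, add_zero, ← hε,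
      Units.val_one, map_one, one_mul, Units.val_mk0] at this
    generalize ε ((((Units.mk0 _ y2)⁻¹ : Kˣ) : K) • v) = c at this
    have := yF (c + ε v) (c + ε (((y⁻¹ : Kˣ) : K) • v)) (by
      rw [map_add, map_add]
      linear_combination this - k2 ((y : K) * algebraMap F K c) + k2 (algebraMap F K (ε v)))
    rw [← CharTwo.add_eq_zero.1 this.1, CharTwo.add_eq_zero.1 this.2]
  have e3 : ∀ v, (w 1 v).2.1 = 0 := fun v => by
    have y3 : ((y⁻¹ : Kˣ) : K) + 1 ≠ 0 := fun e =>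
      inv_ne_one.2 y1 (Units.ext (CharTwo.add_eq_zero.1 e))
    have := congrArg (fun x : VA F K => x.2.1) (h1 1 (((y⁻¹ : Kˣ) : K) • (((y⁻¹ : Kˣ) : K) + 1)⁻¹ • v)
      ((((y⁻¹ : Kˣ) : K) + 1)⁻¹ • v))
    simp only [Prod.fst_add, Prod.snd_add, ← hε, e2, k2] at this
    rw [smul_smul, ← add_smul, ← add_one_mul, mul_inv_cancel₀ y3, one_smul] at this
    rw [← hε, this]
  by_cases ha : a = 0
  · rw [ha, w0]; rfl
  · have := sc (Units.mk0 a ha) v
    rw [Units.val_mk0] at this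
    rw [this]
    simp [aH, e3, d1]

omit fa ab in
theorem sbm (a : K) (v : K × K) : ∃ p, e (xs a) * bm v * (e (xs a))⁻¹ = bm v * az p := by
  have k1 : ∀ a v, ∃ w : VA F K, e (xs a) * bm v * (e (xs a))⁻¹ =
      az (0, tr F (a * star v.2)) * bm v * e (xa w) := fun a v => by
    have c1 := H98.conj_mem_of_mem_normalizer (h.nor _ (xs_mem_Lv a)) (h.bm_mem v)
    have c2 := mul_mem (h.az_mem (0, tr F (a * star v.2))) (h.bm_mem v)
    have c3 := h.th ce.toB1 (0, tr F (a * star v.2)) 0 v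
    rw [h.al_zero, mul_one] at c3
    have c4 : e (xs a) * bm v * (e (xs a))⁻¹ * t * (e (xs a) * bm v * (e (xs a))⁻¹)⁻¹ =
        t * e (xa (tr F (a * star v.2), v.2, (0 : F))) := by
      calc _ = e (xs a) * (bm v * ((e (xs a))⁻¹ * t * (e (xs a))⁻¹⁻¹) * (bm v)⁻¹) * (e (xs a))⁻¹ := by
            group
        _ = _ := by
            rw [← map_inv, ce.conj_t, h.tbm, map_inv, cjm, ce.conj_t, ← map_inv, ← map_mul, ← map_mul, xs_xa]
            simp [aS]
    replace c3 : _ = t * e (xa (tr F (a * star v.2), v.2, (0 : F))) := c3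
    obtain ⟨w, hw⟩ := fixt ce h (mul_mem (inv_mem c2) c1) (by
      rw [show ∀ a b : G, a⁻¹ * b * t * (a⁻¹ * b)⁻¹ = a⁻¹ * (b * t * b⁻¹) * a from fun _ _ => by group,
        c4, ← c3]
      group)
    exact ⟨w, by rw [← hw, mul_inv_cancel_left]⟩
  choose w hw using k1
  have f2 : ∀ (τ : F) v (w : VA F K), az (0, τ) * bm v * e (xa w) =
      az (w.1, τ) * bm (v + (w.2.1, 0)) * al e az (w.2.2, 0) := fun τ v w => by
    have := h.mul3 (0, τ) (w.1, 0) 0 (w.2.2, 0) v (w.2.1, 0)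
    rw [h.al_zero, mul_one, ← h.xa_eq] at this
    simpa using this
  have f3 : ∀ {τ τ' : F} {v} {w w' : VA F K}, az (0, τ) * bm v * e (xa w) =
      az (0, τ') * bm v * e (xa w') → w = w' := fun {τ τ' v w w'} hh => by
    rw [f2, f2] at hh
    obtain ⟨a1, a2, a3⟩ := h.uniq ce.toB1 hh
    exact Prod.ext (Prod.mk.inj a1).1 (Prod.ext (Prod.mk.inj (add_left_cancel a2)).1
      (Prod.mk.inj a3).1)
  have f4 : ∀ (τ τ' : F) v v' (w w' : VA F K), az (0, τ) * bm v * e (xa w) *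
      (az (0, τ') * bm v' * e (xa w')) = az (0, τ + τ') * bm (v + v') * e (xa (w + w')) :=
    fun τ τ' v v' w w' => by
    rw [f2, f2, f2, h.mul3]
    simp only [Prod.mk_add_mk, add_zero, Prod.fst_add, Prod.snd_add]
    congr 3
    ext <;> simp [add_add_add_comm]
  have key : (w a v).2 = 0 := by
    refine alg_w w (fun a v v' => ?_) (fun a a' v => ?_) (fun y a v => ?_) a v
    · have := hw a (v + v')
      rw [h.bm_add, cjm, hw, hw, f4, ← h.bm_add] at this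
      exact (f3 this).symm
    · have := hw (a + a') v
      have h1 := f4 (tr F (a * star v.2)) (tr F (a' * star v.2)) v 0 (w a v) (aS a (w a' v))
      rw [h.bm_zero, mul_one, add_zero] at h1
      rw [xs_add, map_mul, show ∀ a b x : G, a * b * x * (a * b)⁻¹ = a * (b * x * b⁻¹) * a⁻¹ from
        fun _ _ _ => by group, hw, cjm, cjm, hw, h.saz, mul_inv_cancel_right, ← map_inv, ← map_mul,
        ← map_mul, xs_xa, h.comm (h.az_mem _) (mul_mem (mul_mem (h.az_mem _) (h.bm_mem _)) (h.xa_mem _)),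
        mul_assoc, h1] at this
      exact (f3 this).symm
    · have := hw (y * a) ((y : K) • v)
      have h1 := h.hbm y 1 v
      rw [Units.val_one, map_one, one_mul] at h1
      rw [← ht_xs y (1 : Fˣ), map_mul, map_mul, map_inv] at this
      nth_rw 1 [← h1] at this
      rw [show ∀ g a b : G, g * b * g⁻¹ * (g * a * g⁻¹) * (g * b * g⁻¹)⁻¹ =
        g * (b * a * b⁻¹) * g⁻¹ from fun _ _ _ => by group, hw, cjm, cjm, h1, h.haz, ← map_inv,
        ← map_mul, ← map_mul, ht_xa, Prod.smul_mk, smul_zero] at this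
      exact (f3 this).symm
  refine ⟨(0, tr F (a * star v.2)) + ((w a v).1, 0), ?_⟩
  rw [hw, h.az_add, h.az0, h.comm (h.az_mem _) (h.bm_mem v), mul_assoc]
  congr 4
  exact Prod.ext rfl key


theorem bs_nor (u : K × K) {m : G} (hm : m ∈ M) : bs e bm u * m * (bs e bm u)⁻¹ ∈ M := by
  have hs := h.tbs ce.toB1 u
  have bz := baz fa ce ab h u
  have bx : ∀ a, ∃ p, (bs e bm u)⁻¹ * e (xm a) * bs e bm u = az p * e (xm a) := fun a => by
    obtain ⟨p, hp⟩ := sbm ce h a u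
    refine ⟨p, ?_⟩
    have := congrArg (fun g => e wn * g * (e wn)⁻¹) hp
    simp only [cjm] at this
    rw [naz fa ce ab h, mul_inv_cancel_right, ← map_inv e (xs a), ← map_inv e wn, ← map_mul, ← map_mul,
      ← map_mul, ← map_mul, wn_xs, xs_inv, wn_xs, map_inv] at this
    change e (xm a) * bs e bm u * e (xm a) = bs e bm u * az p at this
    have h2 : e (xm a) * e (xm a) = 1 := e_sq (by rw [xm_eq (F := F)]; exact xa_sq _)
    calc _ = (bs e bm u)⁻¹ * (e (xm a) * bs e bm u * e (xm a)) * e (xm a) := by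
          rw [mul_assoc (bs e bm u)⁻¹ _ (e (xm a)), mul_assoc _ (e (xm a)) (e (xm a)), h2]; group
      _ = _ := by rw [this, inv_mul_cancel_left]
  have bi := h.bs_inv u
  generalize bs e bm u = b at *
  have sN : b * t * b⁻¹ ∈ Ns M := hs ▸ mul_mem (h.t_mem_Ns ce.toB1) (h.nor _ (xs_mem_Lv _))
  have sT : IsConj t (b * t * b⁻¹) := isConj_iff.2 ⟨b, rfl⟩
  have s2 : b * t * b⁻¹ * (b * t * b⁻¹) = 1 := by rw [conj_mul, ce.inv.1]; simp
  set Y := M ⊓ Cz (b * t * b⁻¹) with hY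
  have y1 : Nat.card F ^ 4 ≤ Nat.card Y := by
    have := H85.E2.card_le_sq (E := M) h.sq sN (s2 ▸ one_mem _)
    rw [h.card ce.toB1, show 8 = 4 * 2 from rfl, pow_mul] at this
    exact (Nat.pow_le_pow_iff_left two_ne_zero).1 this
  have yt : ∀ y ∈ Y, b⁻¹ * y * b ∈ Cz t := fun y hy => mem_Cz.2 (by
    calc _ = b⁻¹ * (b * t * b⁻¹ * y) * b := by group
      _ = _ := by rw [mem_Cz.1 hy.2]; group)
  have y2 : ∀ s ∈ AX K ⊓ QX K, b * e s * b⁻¹ ∈ Y := fun s hs' => by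
    obtain ⟨⟨c, a, d⟩, rfl⟩ := (mem_AX (F := F)).1 hs'.1
    obtain rfl : d = 0 := xa_mem_QX.1 hs'.2
    obtain ⟨p, hp⟩ := bx a
    have m1 : ∀ c : F, az (c, tr F (u.2 * star a)) * e (xm a) ∈ Y := fun c => by
      refine ⟨mul_mem (h.az_mem _) (xm_eq (F := F) a ▸ h.xa_mem _), mem_Cz.2 ?_⟩
      rw [hs, ← mul_inv_eq_iff_eq_mul, show ∀ a b x : G, a * b * x * (a * b)⁻¹ = a * (b * x * b⁻¹) * a⁻¹
        from fun _ _ _ => by group, cjm (e _), h.saz, mul_inv_cancel_right, ← map_inv, ← map_mul, ← map_mul,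
        xm_eq (F := F), xs_xa, cjm, h.t_az ce.toB1, ce.conj_eq, h.xa_eq, h.xa_eq]
      simp only [← mul_assoc, ← h.az_add]
      simp [aS, tt, add_assoc, k2]
    have m2 : ∀ c : F, b⁻¹ * (az (c, tr F (u.2 * star a)) * e (xm a)) * b =
        az ((c, tr F (u.2 * star a)) + p) * e (xm a) := fun c => by
      rw [h.az_add, mul_assoc (az _), ← hp, ← mul_assoc, ← mul_assoc (az _), ← mul_assoc (az _), bi, bz]
    have m3 : tr F (u.2 * star a) + p.2 = 0 := by
      have h1 := mem_Cz.1 (m2 0 ▸ yt _ (m1 0))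
      have h2 := h.taz ((0, tr F (u.2 * star a)) + p)
      rw [mul_assoc, ← ce.comm, ← mul_assoc, ← mul_assoc, mul_left_inj] at h1
      rw [← h1, mul_inv_cancel_right, left_eq_mul, map_eq_one_iff _ ce.inj, xa_eq_one] at h2
      exact congrArg Prod.fst h2
    have m4 := m2 (c + p.1)
    rw [show (c + p.1, tr F (u.2 * star a)) + p = (c, 0) from Prod.ext (by simp [add_assoc, k2]) m3,
      h.az0, ← map_mul, xm_eq (F := F), ← xa_add] at m4
    have m5 := m1 (c + p.1)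
    rw [xm_eq (F := F)] at m5
    convert m5 using 1
    rw [show ((c, a, 0) : VA F K) = (c, 0, 0) + (0, a, 0) by simp, ← m4]
    group
  have y3 : Y = cjs b ((AX K).map e) := eq_of_le_of_card_ge (fun y hy => by
    obtain ⟨β, hβ⟩ := exists_ind ce.inj (ce.cz (yt y hy))
    obtain ⟨z, hz, rfl⟩ := mem_cI.1 (fa.n.ctA3 β (hβ.fix ce.inj (mem_Cs_map.2 fun s hs' => by
      have := h.comm (y2 s hs').1 hy.1
      calc _ = b⁻¹ * (b * e s * b⁻¹ * y) * b := by group
        _ = _ := by rw [this]; group)))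
    have c1 : b⁻¹ * y * b * e z = e z * (b⁻¹ * y * b) := hβ.comm (by simp)
    have c2 : b⁻¹ * y * b * (b⁻¹ * y * b) = 1 := by
      calc _ = b⁻¹ * (y * y) * b := by group
        _ = _ := by rw [h.sq y hy.1]; group
    have c3 := e_inv (e := e) (sq_AX hz)
    obtain ⟨v, rfl⟩ := (mem_AX (F := F)).1 hz
    rcases ce.b0.eq_or (ind_conj_iff.1 hβ) (by
        rw [c3, mul_assoc, ← mul_assoc (e _), ← c1, mul_assoc _ (e _), e_sq (xa_sq v), mul_one, c2])
      (by rw [c3, ← mul_assoc, mem_Cz.1 (yt y hy), mul_assoc _ t, ce.comm, ← mul_assoc]) with h4 | h4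
    · exact mem_cjs.2 ⟨_, hz, (mul_inv_eq_one.1 h4).symm⟩
    · exact absurd (((mul_inv_eq_iff_eq_mul.1 h4) ▸ h.tx ce.toB1 v).trans (isConj_iff.2 ⟨b, by group⟩))
        (h.not_conj ce.toB1 ab hy.1))
    (by rwa [card_cjs, card_map_of_injective ce.inj, card_AX (F := F)])
  have y4 : ∀ s ∈ AX K, b * e s * b⁻¹ ∈ Y := fun s hs => y3 ▸ conj_mem_cjs.2 ⟨s, hs, rfl⟩
  have h1 := big ce ab h (g := b⁻¹) hm (mem_Cs_map.2 fun s hs => by
    have := h.comm (y4 s hs).1 hm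
    calc _ = b⁻¹ * (b * e s * b⁻¹ * m) * b := by group
      _ = _ := by rw [this]; group) (by
    have h2 : b * t * b⁻¹ * m * (b * t * b⁻¹)⁻¹ * m⁻¹ ∈ Y := by
      have h3 := H98.conj_mem_of_mem_normalizer sN hm
      refine mem_inf.2 ⟨M.mul_mem h3 (M.inv_mem hm), mem_Cz.2 ?_⟩
      clear_value Y
      generalize b * t * b⁻¹ = s at *
      rw [h.inv_eq hm, inv_eq_of_mul_eq_one_right s2] at *
      calc _ = s * s * m * s * m := by simp only [mul_assoc]
        _ = m * (s * m * (s * s)) := by rw [s2, one_mul, mul_one, mul_assoc]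
        _ = m * (s * m * s) * s := by simp only [mul_assoc]
        _ = _ := by rw [h.comm hm h3]
    obtain ⟨a, ha, h3⟩ := mem_cjs.1 (y3 ▸ h2)
    obtain ⟨v, rfl⟩ := (mem_AX (F := F)).1 ha
    refine ⟨v, ?_⟩
    calc _ = t * (t⁻¹ * t⁻¹) * (b⁻¹ * (b * t * b⁻¹ * m * (b * t * b⁻¹)⁻¹ * m⁻¹) * b) *
          (b⁻¹ * m * b * (t * t) * b⁻¹ * m⁻¹ * b) := by group
      _ = _ := by rw [← h3, ← mul_inv_rev, ce.inv.1]; group)
  rw [inv_inv, bi] at h1
  rwa [bi]

theorem inter {x : G} (h1 : x ∈ M) (h2 : e wn * x * (e wn)⁻¹ ∈ M) : ∃ p, x = az p := by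
  have nt : (e wn)⁻¹ * t * e wn = t := by rw [mul_assoc, ce.comm]; group
  obtain ⟨p, ⟨b, b'⟩, ⟨d, d'⟩, rfl⟩ := (h.mem _).1 h1
  obtain ⟨p', v', r', h3⟩ := (h.mem _).1 h2
  have h4 := h.th ce.toB1 p' r' v'
  have h5 := h.th ce.toB1 p (d, d') (b, b')
  rw [← h3, show ∀ x : G, e wn * x * (e wn)⁻¹ * t * (e wn * x * (e wn)⁻¹)⁻¹ =
    e wn * (x * ((e wn)⁻¹ * t * e wn) * x⁻¹) * (e wn)⁻¹ from fun x => by group, nt, h5, cjm, ce.conj_t,
    mul_right_inj, ← map_inv, ← map_mul, ← map_mul] at h4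
  obtain ⟨rfl, rfl⟩ : b' = 0 ∧ d' = 0 := wnA (ce.inj h4)
  rw [mul_assoc (az p), h.bm0, h.al0, ← map_mul, ← xa_add, cjm, naz fa ce ab h, mul_inv_cancel_right,
    mul_mem_cancel_left (h.az_mem p), ← map_inv, ← map_mul, ← map_mul] at h2
  obtain ⟨w, hw⟩ := fixt ce h h2 (ce.conj_t _)
  obtain ⟨h6, h7⟩ := wnA (ce.inj hw)
  simp only [Prod.mk_add_mk, add_zero, zero_add] at h6 h7
  exact ⟨p, by rw [h6, h7, ← Prod.zero_eq_mk, ← Prod.zero_eq_mk, h.bm_zero, h.al_zero, mul_one, mul_one]⟩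

theorem gam (u v : K × K) : ∃ p, bs e bm u * bm v * (bs e bm u)⁻¹ = bm v * az p := by
  obtain ⟨p, hp⟩ := inter fa ce ab h (mul_mem (bs_nor fa ce ab h u (h.bm_mem v)) (inv_mem (h.bm_mem v))) (by
    have := mul_mem (h.bm_mem u) (bs_nor fa ce ab h v (inv_mem (h.bm_mem u)))
    rw [← h.n_bs u] at this
    convert this using 1
    simp only [bs]; group)
  exact ⟨p, by rw [h.comm (h.bm_mem v) (h.az_mem p), ← hp, inv_mul_cancel_right]⟩

theorem bet (u : K × K) (p : F × F) :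
    ∃ v p', bs e bm u * al e az p * (bs e bm u)⁻¹ = al e az p * bm v * az p' := by
  choose κ β l hl using fun u p => (h.mem _).1 (bs_nor fa ce ab h u (h.al_mem p))
  choose γ hγ using gam fa ce ab h
  simp only [← h.swap3] at hl
  have l1 : ∀ u u' p, l (u + u') p = l u (l u' p) := fun u u' p => by
    have := hl (u + u') p
    rw [h.bs_add, show ∀ a b x : G, a * b * x * (a * b)⁻¹ = a * (b * x * b⁻¹) * a⁻¹ from fun _ _ _ => by
      group, hl, cjm, cjm, hl, hγ, baz fa ce ab h, mul_inv_cancel_right, mul_assoc _ _ (az (κ u' p)),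
      mul_assoc (bm _), ← h.az_add, mul_assoc (al e az _), mul_assoc (al e az _), h.mul2,
      ← mul_assoc (al e az _)] at this
    exact (h.uniq3 ce.toB1 this).1.symm
  have l2 : ∀ (y : Kˣ) u p, l ((y : K) • u) p = l u p := fun y u p => by
    have := hl ((y : K) • u) p
    have h1 : ∀ p, e (ht y (1 : Fˣ)) * al e az p * (e (ht y (1 : Fˣ)))⁻¹ = al e az p := fun p => by
      rw [h.hal, Units.val_one, one_smul]
    rw [← h.hbs y 1, ← h1, show ∀ g a b : G, g * b * g⁻¹ * (g * a * g⁻¹) * (g * b * g⁻¹)⁻¹ =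
      g * (b * a * b⁻¹) * g⁻¹ from fun _ _ _ => by group, hl, cjm, cjm, h1, h.hbm, h.haz] at this
    exact (h.uniq3 ce.toB1 this).1.symm
  have l0 : ∀ p, l 0 p = p := fun p => (h.uniq3 ce.toB1 (v' := 0) (p' := 0) (by
    rw [← hl, h.bs_zero, h.bm_zero, h.az_zero]; simp)).1
  obtain ⟨y, y1, -⟩ := exists_nm_one F K
  have y2 : (y : K) + 1 ≠ 0 := fun e => y1 (Units.ext (CharTwo.add_eq_zero.1 e))
  have l3 := l1 ((y : K) • ((y : K) + 1)⁻¹ • u) (((y : K) + 1)⁻¹ • u) p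
  rw [l2, ← l1, p2, l0, smul_smul, ← add_smul, ← add_one_mul, mul_inv_cancel₀ y2, one_smul] at l3
  exact ⟨_, _, by rw [hl, l3]⟩

omit fa ce ab h in
theorem jobN : JobN.{u} := fun F K _ _ _ _ _ _ _ _ _ fa G _ _ e t ce ab M az bm h => by
  choose γ hγ using gam fa ce ab h
  choose β κ hβ using bet fa ce ab h
  choose σ hσ using sig ce h
  exact ⟨γ, β, κ, σ, naz fa ce ab h, hγ, hβ, hσ⟩

end H83.SV.N
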