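import Cfsg.Agent.H83.SVR
import Cfsg.Agent.H67.SAST

/-! STD-U at `q = 2`, slot SF: in the field case the root elements satisfy Steinberg's relations for `SL₄(K)`. -/

set_option autoImplicit false
set_option linter.unusedSectionVars false

namespace H83.SV

open H64.SG (Cz Cs cjs mem_Cz)
open H67.SA (SLn StR cm x pm pm_mul pm_conj hom_ext mem_cjs cm_eq_one)
open Equiv Subgroup

universe u

/-- the Weyl group, dihedral of order `8` -/
def DD : Subgroup (Perm (Fin 4)) where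
  carrier := {π | ∀ i, π i.rev = (π i).rev}
  mul_mem' := fun {a b} ha hb i => by rw [Perm.mul_apply, hb, ha]; rfl
  one_mem' := fun _ => rfl
  inv_mem' := fun {a} ha i => a.injective (by rw [ha]; simp)

/-- `(0 1)(2 3)` -/
def ds : DD := ⟨swap 0 1 * swap 2 3, show ∀ i : Fin 4, _ by decide⟩
/-- `(1 2)` -/
def dn : DD := ⟨swap 1 2, show ∀ i : Fin 4, _ by decide⟩
/-- `(0 3)(1 2)` -/
def d0 : DD := ⟨Fin.revPerm, show ∀ i : Fin 4, _ by decide⟩

/-- the Weyl group in `X` -/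
def om {K : Type} [Field K] [StarRing K] [CharP K 2] : DD →* X K :=
  MonoidHom.mk' (fun π => ⟨pm π.1, tau_pm _ π.2⟩) fun _ _ => Subtype.ext (pm_mul ..)

theorem dd1 : ∀ i j : Fin 4, ∃ π : Perm (Fin 4), (∀ k, π k.rev = (π k).rev) ∧ π 0 = i ∧
    (j ≠ i → j ≠ i.rev → π 2 = j) := by decide
theorem dd2 : ∀ π : Perm (Fin 4), (∀ k, π k.rev = (π k).rev) → π 0 = 0 →
    π = 1 ∨ π = swap 1 2 ∧ π 2 ≠ 2 := by decide
theorem dd3 : ∀ π : Perm (Fin 4), (∀ k, π k.rev = (π k).rev) →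
    π 2 ≠ π 0 ∧ π 2 ≠ (π 0).rev ∧ π 3 = (π 0).rev := by decide

theorem dd_ind {P : Fin 4 → Fin 4 → Prop} (h1 : ∀ π : DD, P (π.1 0) (π.1 2))
    (h2 : ∀ π : DD, P (π.1 0) (π.1 3)) {i j : Fin 4} (h : i ≠ j) : P i j := by
  obtain ⟨π, hπ, rfl, h3⟩ := dd1 i j
  by_cases h4 : j = (π 0).rev
  · rw [h4, ← (dd3 π hπ).2.2]; exact h2 ⟨π, hπ⟩
  · rw [← h3 h.symm h4]; exact h1 ⟨π, hπ⟩

/-- Root elements from a short and a long one. -/
theorem exists_y {G : Type*} [Group G] {R : Type*} (ω : DD →* G) (f g : R → G)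
    (hg : ∀ c, ω dn * g c * (ω dn)⁻¹ = g c) : ∃ y : Fin 4 → Fin 4 → R → G,
      (∀ c, y 0 2 c = f c) ∧ (∀ c, y 0 3 c = g c) ∧
      ∀ (π : DD) i j, i ≠ j → ∀ c, ω π * y i j c * (ω π)⁻¹ = y (π.1 i) (π.1 j) c := by
  choose P h1 h2 h3 using dd1
  let y : Fin 4 → Fin 4 → R → G := fun i j c =>
    ω ⟨P i j, h1 i j⟩ * (if j = i.rev then g c else f c) * (ω ⟨P i j, h1 i j⟩)⁻¹
  have k : ∀ (π : DD) j, (π⁻¹ * ⟨P (π.1 0) j, h1 _ j⟩).1 0 = 0 := fun π j => by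
    simp [h2]
  have s : ∀ (π : DD) c, y (π.1 0) (π.1 2) c = ω π * f c * (ω π)⁻¹ := fun π c => by
    obtain ⟨a1, a2, -⟩ := dd3 π.1 π.2
    rcases dd2 _ (π⁻¹ * ⟨P (π.1 0) (π.1 2), h1 _ _⟩).2 (k π _) with h | h
    · simp only [y, if_neg a2, ← inv_mul_eq_one.1 (Subtype.ext h : π⁻¹ * ⟨_, h1 _ _⟩ = 1)]
    · exact absurd (by simp [h3 _ _ a1 a2]) h.2
  have l : ∀ (π : DD) c, y (π.1 0) (π.1 3) c = ω π * g c * (ω π)⁻¹ := fun π c => by
    obtain ⟨-, -, a3⟩ := dd3 π.1 π.2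
    rcases dd2 _ (π⁻¹ * ⟨P (π.1 0) (π.1 3), h1 _ _⟩).2 (k π _) with h | h
    · simp only [y, if_pos a3, ← inv_mul_eq_one.1 (Subtype.ext h : π⁻¹ * ⟨_, h1 _ _⟩ = 1)]
    · simp only [y, if_pos a3, eq_mul_of_inv_mul_eq (Subtype.ext h.1 : π⁻¹ * ⟨_, h1 _ _⟩ = dn), map_mul]
      nth_rw 2 [← hg c]; group
  refine ⟨y, fun c => by simpa using s 1 c, fun c => by simpa using l 1 c, fun π i j h c => ?_⟩
  refine dd_ind (P := fun i j => ω π * y i j c * (ω π)⁻¹ = y (π.1 i) (π.1 j) c) (fun ρ => ?_)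
    (fun ρ => ?_) h
  · refine .trans ?_ (s (π * ρ) c).symm; rw [s, map_mul]; group
  · refine .trans ?_ (l (π * ρ) c).symm; rw [l, map_mul]; group

theorem conj_swap {G : Type*} [Group G] {t g : G} (h : t * g = g * t) (a : G) :
    t * (g * a * g⁻¹) * t⁻¹ = g * (t * a * t⁻¹) * g⁻¹ :=
  calc _ = t * g * a * (t * g)⁻¹ := by group
    _ = _ := by rw [h]; group

namespace SF

theorem dd4 : ∀ i j k l : Fin 4, i ≠ j → k ≠ l → j ≠ k → i ≠ l → ∃ π : Perm (Fin 4),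
    (∀ k, π k.rev = (π k).rev) ∧ ((π i < 2 ∧ 2 ≤ π j ∧ π k < 2 ∧ 2 ≤ π l) ∨
      (π i, π j, π k, π l) ∈ [(0, 1, 0, 2), (0, 2, 0, 1), (2, 3, 1, 3), (1, 3, 2, 3), (0, 1, 3, 2)]) := by
  decide
theorem dd5 : ∀ i j k : Fin 4, i ≠ j → j ≠ k → i ≠ k → ∃ π : Perm (Fin 4),
    (∀ k, π k.rev = (π k).rev) ∧ (π i, π j, π k) ∈ [(0, 1, 2), (0, 1, 3), (1, 2, 3)] := by decide
theorem dd6 : ∀ i j : Fin 4, i < 2 → 2 ≤ j → (i, j) ∈ [(0, 2), (0, 3), (1, 2), (1, 3)] := by decide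

theorem cm_conj {G : Type*} [Group G] (g a b : G) :
    g * cm a b * g⁻¹ = cm (g * a * g⁻¹) (g * b * g⁻¹) := by simp only [cm]; group

theorem cm_comm {G : Type*} [Group G] {A B m : G} (hA : A * A = 1) (hB : B * B = 1)
    (h : A * (B * m * B⁻¹) * A⁻¹ = B * (A * m * A⁻¹) * B⁻¹) : Commute (cm A B) m := by
  rw [show cm A B = A⁻¹ * B⁻¹ * A * B by
    rw [cm, inv_eq_of_mul_eq_one_right hA, inv_eq_of_mul_eq_one_right hB]]
  calc _ = A⁻¹ * B⁻¹ * (A * (B * m * B⁻¹) * A⁻¹) * A * B := by group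
    _ = _ := by rw [h]; group

theorem jobSF : JobSF.{u} := fun F K _ _ _ _ _ _ _ _ _ fa G _ _ e t ce ab M az bm γ β κ σ p p' ψ h r d => by
  obtain ⟨y, y02, y03, hy⟩ := exists_y (e.comp om) (fun a => bm (p a)) (fun c => az (ψ c))
    fun c => r.n_az _
  simp only [MonoidHom.comp_apply] at hy
  have y13 : ∀ a, y 1 3 a = bm (p' a) := fun a =>
    (hy ds 0 2 (by decide) a).symm.trans (by rw [y02, ← d.σ1]; exact r.sig _)
  have y12 : ∀ a, y 1 2 a = al e az (ψ a) := fun a => (hy ds 0 3 (by decide) a).symm.trans (by rw [y03]; rfl)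
  have y01 : ∀ a, y 0 1 a = bs e bm (p a) := fun a => (hy dn 0 2 (by decide) a).symm.trans (by rw [y02]; rfl)
  have y23 : ∀ a, y 2 3 a = bs e bm (p' a) := fun a => (hy dn 1 3 (by decide) a).symm.trans (by rw [y13]; rfl)
  have add : ∀ i j, i ≠ j → ∀ a b, y i j (a + b) = y i j a * y i j b := fun i j hij a b =>
    dd_ind (P := fun i j => y i j (a + b) = y i j a * y i j b)
      (fun π => by simp only [← hy π 0 2 (by decide), y02, map_add, h.bm_add, cjm])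
      (fun π => by simp only [← hy π 0 3 (by decide), y03, map_add, h.az_add, cjm]) hij
  have sq : ∀ i j, i ≠ j → ∀ a, y i j a * y i j a = 1 := fun i j hij a => by
    rw [← add i j hij, k2, ← mul_eq_left (a := y i j 0), ← add i j hij, add_zero]
  have mem : ∀ i j, i < 2 → 2 ≤ j → ∀ a, y i j a ∈ M := fun i j h1 h2 a => by
    have := dd6 i j h1 h2
    simp only [List.mem_cons, Prod.mk.injEq, List.not_mem_nil, or_false] at this
    rcases this with ⟨rfl, rfl⟩ | ⟨rfl, rfl⟩ | ⟨rfl, rfl⟩ | ⟨rfl, rfl⟩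
    exacts [y02 a ▸ h.bm_mem _, y03 a ▸ h.az_mem _, y12 a ▸ h.al_mem _, y13 a ▸ h.bm_mem _]
  have cmM : ∀ (b : G) {m m' : G}, m ∈ M → m' ∈ M → b * m * b⁻¹ = m * m' → cm b m = m' :=
    fun b m m' h1 h2 h3 => by rw [cm, h3, h.comm h1 h2, mul_inv_cancel_right]
  have cmM' : ∀ (b : G) {m m' : G}, m ∈ M → b * m * b⁻¹ = m * m' → cm m b = m' := fun b m m' h1 h3 => by
    rw [cm, h.inv_eq h1, mul_assoc, mul_assoc, ← mul_assoc b, h3, ← mul_assoc, h.sq m h1, one_mul]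
  have mul : ∀ i j k, i ≠ j → j ≠ k → i ≠ k → ∀ a b, cm (y i j a) (y j k b) = y i k (a * b) := by
    intro i j k h1 h2 h3 a b
    obtain ⟨π, hπ, h4⟩ := dd5 i j k h1 h2 h3
    refine (MulAut.conj (e (om ⟨π, hπ⟩))).injective ?_
    simp only [MulAut.conj_apply, cm_conj, hy _ _ _ h1, hy _ _ _ h2, hy _ _ _ h3]
    simp only [List.mem_cons, Prod.mk.injEq, List.not_mem_nil, or_false] at h4
    rcases h4 with ⟨a1, a2, a3⟩ | ⟨a1, a2, a3⟩ | ⟨a1, a2, a3⟩ <;> rw [a1, a2, a3]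
    · rw [y01, y12, y02]
      exact cmM _ (h.al_mem _) (h.bm_mem _) (by rw [r.bet, d.β1, d.κ1, h.az_zero, mul_one])
    · rw [y01, y13, y03]
      exact cmM _ (h.bm_mem _) (h.az_mem _) (by rw [r.gam, d.γ12])
    · rw [y12, y23, y13]
      exact cmM' _ (h.al_mem _) (by rw [r.bet, d.β2, d.κ2, h.az_zero, mul_one, mul_comm a])
  have tr : ∀ (π : DD) {i j k l}, i ≠ j → k ≠ l → ∀ {a b}, Commute (y (π.1 i) (π.1 j) a)
      (y (π.1 k) (π.1 l) b) → Commute (y i j a) (y k l b) := fun π i j k l h1 h2 a b c => by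
    rw [← hy π _ _ h1, ← hy π _ _ h2] at c
    exact (commute_map_iff (MulAut.conj (e (om π))).injective).1 c
  have c1 : ∀ a b, Commute (y 0 1 a) (y 0 2 b) := fun a b => mul_inv_eq_iff_eq_mul.1 (by
    rw [y01, y02, r.gam, d.γ11, h.az_zero, mul_one])
  have c2 : ∀ a b, Commute (y 2 3 a) (y 1 3 b) := fun a b => mul_inv_eq_iff_eq_mul.1 (by
    rw [y23, y13, r.gam, d.γ22, h.az_zero, mul_one])
  have k1 : ∀ a b, cm (y 0 1 a) (y 3 2 b) ∈ Cs M := fun a b => by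
    have l : ∀ i j k, i ≠ j → j ≠ k → i ≠ k → ∀ a b,
        y i j a * y j k b * (y i j a)⁻¹ = y i k (a * b) * y j k b := fun i j k h1 h2 h3 a b => by
      rw [← mul i j k h1 h2 h3, cm, inv_mul_cancel_right]
    have l' : ∀ i j k, i ≠ j → j ≠ k → i ≠ k → ∀ a b,
        y j k b * y i j a * (y j k b)⁻¹ = y i j a * y i k (a * b) := fun i j k h1 h2 h3 a b => by
      rw [← mul i j k h1 h2 h3, cm, ← mul_assoc, ← mul_assoc, ← mul_assoc, sq i j h1, one_mul,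
        inv_eq_of_mul_eq_one_right (sq i j h1 a)]
    have A2 : ∀ c, y 0 1 a * y 0 2 c * (y 0 1 a)⁻¹ = y 0 2 c := fun c => (c1 a c).mul_inv_cancel
    have A3 : ∀ c, y 0 1 a * y 0 3 c * (y 0 1 a)⁻¹ = y 0 3 c := fun c => by rw [y01, y03, r.baz h]
    have B2 : ∀ c, y 3 2 b * y 0 2 c * (y 3 2 b)⁻¹ = y 0 2 c := fun c =>
      (tr ds (by decide) (by decide) (c2 b c)).mul_inv_cancel
    have B1 : ∀ c, y 3 2 b * y 1 2 c * (y 3 2 b)⁻¹ = y 1 2 c := fun c =>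
      (tr (dn * ds) (by decide) (by decide) (h.comm (mem 1 3 (by decide) (by decide) b)
        (mem 0 3 (by decide) (by decide) c))).mul_inv_cancel
    have key := fun m => cm_comm (m := m) (sq 0 1 (by decide) a) (sq 3 2 (by decide) b)
    intro m hm
    obtain ⟨q, v, q', rfl⟩ := (h.mem m).1 hm
    obtain ⟨c, rfl⟩ := d.surj q
    obtain ⟨c', rfl⟩ := d.surj q'
    obtain ⟨u, u', rfl⟩ := d.span v
    rw [h.bm_add, ← y03, ← y12, ← y02, ← y13]
    refine (((key _ ?_).mul_right ((key _ ?_).mul_right (key _ ?_))).mul_right (key _ ?_)).symm.eq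
    · rw [l' 0 3 2 (by decide) (by decide) (by decide), cjm, A3, A2, l' 0 3 2 (by decide) (by decide) (by decide)]
    · rw [B2, A2, B2]
    · rw [l' 1 3 2 (by decide) (by decide) (by decide), cjm, l 0 1 3 (by decide) (by decide) (by decide),
        l 0 1 2 (by decide) (by decide) (by decide), cjm, l' 0 3 2 (by decide) (by decide) (by decide),
        l' 1 3 2 (by decide) (by decide) (by decide), ← mul_assoc a, mul_assoc, mul_assoc (y 0 3 _),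
        ← mul_assoc (y 1 3 u'),
        h.comm (mem 1 3 (by decide) (by decide) _) (mem 0 2 (by decide) (by decide) _), mul_assoc]
    · rw [B1, l 0 1 2 (by decide) (by decide) (by decide), cjm, B2, B1]
  have c3 : ∀ a b, Commute (y 0 1 a) (y 3 2 b) := fun a b => by
    have k2 : cm (y 0 1 a) (y 3 2 b) ∈ Cs e.range := by
      have k3 : e w0 * (cm (y 0 1 b) (y 3 2 a))⁻¹ * (e w0)⁻¹ = cm (y 0 1 a) (y 3 2 b) := by
        rw [show (cm (y 0 1 b) (y 3 2 a))⁻¹ = cm (y 3 2 a) (y 0 1 b) by simp only [cm]; group]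
        exact (cm_conj ..).trans (congrArg₂ cm (hy d0 3 2 (by decide) a) (hy d0 0 1 (by decide) b))
      have : (⊤ : Subgroup (X K)) ≤ (Cz (cm (y 0 1 a) (y 3 2 b))).comap e := by
        rw [← fa.l.genA]
        refine sup_le (fun s hs => mem_Cz.2 (k1 a b _ (h.le ⟨s, hs, rfl⟩)).symm) ?_
        rintro _ ⟨s, hs, rfl⟩
        refine mem_Cz.2 ?_
        rw [← k3, MulEquiv.coe_toMonoidHom, MulAut.conj_apply, map_mul, map_mul, map_inv, ← cjm, ← cjm,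
          inv_mem (k1 b a) _ (h.le ⟨s, hs, rfl⟩)]
      exact mem_Cs_range.2 fun s => (mem_Cz.1 (this (mem_top s))).symm
    have k4 : Commute (y 0 1 a) (cm (y 0 1 a) (y 3 2 b)) := by
      have c : Commute (e wn) (cm (y 0 1 a) (y 3 2 b)) := k2 _ ⟨_, rfl⟩
      nth_rw 1 [y01]
      exact (c.mul_left (k1 a b _ (h.bm_mem _))).mul_left c.inv_left
    have k5 : cm (y 0 1 a) (y 3 2 b) * cm (y 0 1 a) (y 3 2 b) = 1 := by
      nth_rw 1 [← k4.mul_inv_cancel]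
      have s1 := sq 0 1 (by decide) a
      rw [cm, inv_eq_of_mul_eq_one_right s1]
      calc _ = y 0 1 a * y 0 1 a * (y 3 2 b * (y 0 1 a * ((y 3 2 b)⁻¹ * (y 0 1 a * y 0 1 a) * y 3 2 b) *
          y 0 1 a) * (y 3 2 b)⁻¹) := by group
        _ = 1 := by rw [s1, mul_one, inv_mul_cancel, mul_one, s1]; group
    by_contra h1
    obtain ⟨c, -, hc⟩ := ce.conj k2 (H64.SG.is2_of_sq k5) fun h2 => h1 (cm_eq_one.1 h2)
    exact ab.not_conj (fun m hm => mem_Cz.2 (k1 a b m hm).symm) h.sq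
      (h.card ce.toB1 ▸ Nat.pow_le_pow_right Nat.card_pos (by norm_num)) (isConj_iff.2 ⟨c, hc.symm⟩)
  obtain ⟨Φ, hΦ⟩ := H67.SA.StR.exists_hom (y := y) ⟨add, fun i j k l h1 h2 h3 h4 a b => by
    obtain ⟨π, hπ, h5⟩ := dd4 i j k l h1 h2 h3 h4
    refine tr ⟨π, hπ⟩ h1 h2 ?_
    rcases h5 with ⟨a1, a2, a3, a4⟩ | h5
    · exact h.comm (mem _ _ a1 a2 a) (mem _ _ a3 a4 b)
    simp only [List.mem_cons, Prod.mk.injEq, List.not_mem_nil, or_false] at h5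
    rcases h5 with ⟨a1, a2, a3, a4⟩ | ⟨a1, a2, a3, a4⟩ | ⟨a1, a2, a3, a4⟩ | ⟨a1, a2, a3, a4⟩ |
      ⟨a1, a2, a3, a4⟩ <;> simp only [a1, a2, a3, a4]
    exacts [c1 a b, (c1 b a).symm, c2 a b, (c2 b a).symm, c3 a b], mul⟩ (by norm_num)
  have eqv : ∀ (π : DD) s, Φ (pm π.1 * s * (pm π.1)⁻¹) = e (om π) * Φ s * (e (om π))⁻¹ := fun π s =>
    DFunLike.congr_fun (hom_ext (e := Φ.comp (MulAut.conj (pm π.1)).toMonoidHom)
      (e' := cje (e (om π)) Φ) fun i j hij c => by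
        change Φ (pm π.1 * _ * _) = _
        rw [pm_conj, cje_apply, hΦ _ _ hij, hΦ _ _ (π.1.injective.ne hij), hy π _ _ hij]) s
  have rA : ∀ s ∈ AX K, Φ s.1 = e s := fun s hs => by
    obtain ⟨⟨c, b, c'⟩, rfl⟩ := (mem_AX (F := F)).1 hs
    change Φ (x 0 3 _ * (x 0 2 _ * x 1 3 _) * x 1 2 _) = _
    rw [map_mul, map_mul, map_mul, hΦ _ _ (by decide), hΦ _ _ (by decide), hΦ _ _ (by decide),
      hΦ _ _ (by decide), y03, y02, y13, y12, ← h.bm_add, d.sum, d.res, d.res, h.xa_eq]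
  have res : ∀ s : X K, Φ s.1 = e s := fun s => by
    have : (⊤ : Subgroup (X K)) ≤ (Φ.comp (SUs K).subtype).eqLocus e := by
      rw [← fa.l.genA]
      refine sup_le rA ?_
      rintro _ ⟨a, ha, rfl⟩
      exact (eqv d0 a.1).trans (by rw [rA a ha, ← map_inv, ← map_mul, ← map_mul]; rfl)
    exact this (mem_top s)
  refine ⟨Φ, (MonoidHom.ker_eq_bot_iff Φ).1 (eq_bot_iff.2 (fa.k.cen ▸ H67.SA.ker_le_of_ne (by norm_num)
    ⟨(xs (1 : K)).1, fun h1 => ?_⟩)), res, fun s => ?_⟩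
  · rw [res, map_eq_one_iff _ ce.inj, ← xs_zero] at h1
    exact one_ne_zero (xs_inj h1)
  · refine DFunLike.congr_fun (hom_ext (e := cje t Φ) (e' := Φ.comp (tau K).toMonoidHom)
      fun i j hij c => ?_) s
    change t * Φ _ * t⁻¹ = Φ (tau K _)
    rw [tau_x, hΦ _ _ hij, hΦ _ _ (Fin.rev_injective.ne hij.symm)]
    refine dd_ind (P := fun i j => t * y i j c * t⁻¹ = y j.rev i.rev (star c)) (fun π => ?_)
      (fun π => ?_) hij
    · rw [← π.2, ← π.2, ← hy π 0 2 (by decide), ← hy π _ _ (by decide), conj_swap (ce.comm _), y02,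
        h.t_bm ce.toB1, d.t1, ← y13]; rfl
    · rw [← π.2, ← π.2, ← hy π 0 3 (by decide), ← hy π _ _ (by decide), conj_swap (ce.comm _), y03,
        h.t_az ce.toB1, d.t3, ← y03]; rfl

end SF

end H83.SV
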