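import Cfsg.Agent.H83.SVSF
import Cfsg.Agent.H83.SVA2

/-! STD-U at `q = 2`, slot SW: the wreath case, `L` is diagonal in `L₁ × L₂`. -/

set_option autoImplicit false
set_option linter.unusedSectionVars false

namespace H83.SV.SW

open H64.SG (Cz Cs Ns cjs mem_Cz mem_Cs Cs_le_Ns)
open H67.SA (mem_cjs conj_mem_cjs mem_St_of_finite conj_mem_St)
open Equiv Subgroup

universe u

set_option synthInstance.maxSize 1024 in
theorem dd7 : ∀ i j k l : Fin 4, i ≠ j → k ≠ l → ¬ (k = j ∧ l = i) → ¬ (k = i.rev ∧ l = j.rev) →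
    ∃ π : Perm (Fin 4), (∀ k, π k.rev = (π k).rev) ∧ ((π i < 2 ∧ 2 ≤ π j ∧ π k < 2 ∧ 2 ≤ π l) ∨
      (π i, π j) ∈ [(0, 1), (2, 3)] ∧ (π k, π l) ∈ [(0, 2), (1, 3), (1, 2)] ∨
      (π k, π l) ∈ [(0, 1), (2, 3)] ∧ (π i, π j) ∈ [(0, 2), (1, 3), (1, 2)]) := by
  decide

theorem add_tt {R : Type} [Field R] [CharP R 2] {p : R × R} (h : p.2 = 1) (a : R) :
    a • p + tt (a • p) = (a, 0) :=
  Prod.ext (by simp [tt, h, ← add_assoc, k2]) (by simp [tt, k2])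

theorem conj2 {G : Type*} [Group G] {t : G} (h : t * t = 1) (g : G) : t * (t * g * t⁻¹) * t⁻¹ = g := by
  rw [← mul_assoc, ← mul_assoc, h, mul_assoc, ← mul_inv_rev, h]; simp

variable {F K : Type} [Field F] [Finite F] [CharP F 2] [Field K] [Algebra F K] [StarRing K] [CharP K 2]
  [Qe F K] [Finite K] {G : Type u} [Group G] [Finite G] {e : X K →* G} {t : G}

/-- `L` is diagonal in a commuting product `L₁ L₁^t`, `L₁` perfect. -/
theorem split (fa : Fa.{u} F K) (b : B1 e t) {L : Subgroup G} (c : L ≤ Cs (cjs t L))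
    (h1 : e.range ≤ L ⊔ cjs t L) (h2 : L ≤ e.range ⊔ cjs t L) (h3 : L ≤ ⁅L, L⁆)
    (h0 : ∀ g, L ≤ Cz g → e.range ≤ Cz g → g * g = 1 → g = 1) :
    ∃ e₁ e₂, CW e t e₁ e₂ := by
  have n2 : e.range ≤ Ns (cjs t L) := h1.trans (sup_le (c.trans (Cs_le_Ns _)) le_normalizer)
  have sw : ∀ {g}, g ∈ cjs t L → t * g * t⁻¹ ∈ L := by
    rintro _ ⟨g, hg, rfl⟩; exact (conj2 b.inv.1 g).symm ▸ hg
  have : ((cjs t L).comap e).Normal :=
    ⟨fun s hs g => by simpa using H98.conj_mem_of_mem_normalizer (n2 ⟨g, rfl⟩) hs⟩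
  have := fa.o.simple
  have k : ∀ s, e s ∈ cjs t L → s = 1 := by
    rcases this.eq_bot_or_eq_top_of_normal ((cjs t L).comap e) ‹_› with h | h
    · exact fun s hs => mem_bot.1 (h ▸ hs : s ∈ (⊥ : Subgroup (X K)))
    · have h4 : ∀ s, e s ∈ cjs t L := fun s => (h ▸ mem_top s : s ∈ (cjs t L).comap e)
      exact fun s _ => eq_one_of_Cs b.inj fa.o.cen ⟨s, rfl⟩ (mem_Cs_range.2 fun s' =>
        c (b.conj_eq s ▸ sw (h4 s)) _ (h4 s')) |> (map_eq_one_iff _ b.inj).1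
  have ex : ∀ l : L, ∃ s, (e s)⁻¹ * l ∈ cjs t L := fun l => by
    obtain ⟨_, ⟨s, rfl⟩, a, ha, h4⟩ := (H98.mem_sup_left_norm n2).1 (h2 l.2)
    exact ⟨s, by rwa [h4, inv_mul_cancel_left]⟩
  choose π hπ using ex
  have un : ∀ (l : L) s, (e s)⁻¹ * l ∈ cjs t L → π l = s := fun l s h => by
    have := k (s⁻¹ * π l) (by simpa [mul_assoc] using mul_mem h (inv_mem (hπ l)))
    exact (inv_mul_eq_one.1 this).symm
  let π' : L →* X K := MonoidHom.mk' π fun l l' => un _ _ (by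
    have := mul_mem (H98.conj_mem_of_mem_normalizer (inv_mem (n2 ⟨π l', rfl⟩)) (hπ l)) (hπ l')
    simpa [mul_assoc] using this)
  have sj : Function.Surjective π' := fun s => by
    obtain ⟨l, hl, a, ha, h4⟩ := (H98.mem_sup_left_norm (c.trans (Cs_le_Ns _))).1 (h1 ⟨s, rfl⟩)
    exact ⟨⟨l, hl⟩, un _ _ (by simpa [h4] using inv_mem ha)⟩
  have ij : Function.Injective π' := fa.m L π' sj (fun l hl => mem_center_iff.2 fun g => Subtype.ext (by
    have := hπ l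
    rw [show π l = 1 from hl, map_one, inv_one, one_mul] at this
    exact (c g.2 _ this).symm)) (map_injective L.subtype_injective (by
      rw [map_subtype_commutator, ← MonoidHom.range_eq_map, range_subtype]
      exact le_antisymm (map_subtype_commutator L ▸ map_subtype_le _) h3)) (by
    rw [← Nat.not_even_iff_odd, even_iff_two_dvd]
    intro h4
    obtain ⟨⟨l, hl⟩, h5⟩ := exists_prime_orderOf_dvd_card' 2 h4
    have h6 := hπ l
    rw [show π l = 1 from hl, map_one, inv_one, one_mul] at h6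
    have h7 : L ≤ Cz l.1 := fun g hg => mem_Cz.2 (c hg _ h6)
    have h8 := h0 l h7 (h1.trans (sup_le h7 fun g hg => mem_Cz.2 (c l.2 _ hg).symm)) (by
      have := pow_orderOf_eq_one (⟨l, hl⟩ : π'.ker)
      rw [h5, pow_two] at this
      exact congrArg (fun a : π'.ker => (a.1 : G)) this)
    rw [show (⟨l, hl⟩ : π'.ker) = 1 from Subtype.ext (Subtype.ext h8), orderOf_one] at h5
    exact absurd h5 (by decide))
  let ε := MulEquiv.ofBijective π' ⟨ij, sj⟩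
  have one : ∀ g ∈ L, g ∈ cjs t L → g = 1 := fun g h4 h5 => congrArg Subtype.val
    (ij (a₁ := ⟨g, h4⟩) (a₂ := 1) ((un _ 1 (by simpa using h5)).trans (map_one π').symm))
  refine ⟨L.subtype.comp ε.symm.toMonoidHom, cje t (L.subtype.comp ε.symm.toMonoidHom),
    L.subtype_injective.comp ε.symm.injective,
    fun a a' => (c (ε.symm a).2 _ (conj_mem_cjs.2 (ε.symm a').2)).symm, fun a => ?_, fun _ => rfl⟩
  change e a = ε.symm a * (t * ε.symm a * t⁻¹)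
  have h4 := hπ (ε.symm a)
  rw [show π (ε.symm a) = a from ε.apply_symm_apply a] at h4
  generalize ε.symm a = l at h4
  have h5 := sw h4
  rw [cjm, show t * (e a)⁻¹ * t⁻¹ = (e a)⁻¹ by rw [← map_inv, b.conj_eq]] at h5
  have h6 := one _ (mul_mem h5 l.2) (by
    rw [mul_assoc, c l.2 _ (conj_mem_cjs.2 l.2), ← mul_assoc]
    exact mul_mem h4 (conj_mem_cjs.2 l.2))
  rw [mul_assoc, c l.2 _ (conj_mem_cjs.2 l.2)] at h6
  exact inv_mul_eq_one.1 h6

theorem jobSW : JobSW.{u} := fun F K _ _ _ _ _ _ _ _ _ fa G _ _ e t ce ab M az bm γ β κ σ u y h r d => by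
  have b := ce.toB1
  obtain ⟨Y, y02, y03, hy⟩ := exists_y (e.comp om) (fun a : K => bm (a • u))
    (fun c => az (tr F c • y)) fun c => r.n_az _
  simp only [MonoidHom.comp_apply] at hy
  have y13 : ∀ a, Y 1 3 a = bm (star a • u) := fun a =>
    (hy ds 0 2 (by decide) a).symm.trans (by rw [y02, ← d.σ1]; exact r.sig _)
  have y12 : ∀ a, Y 1 2 a = al e az (tr F a • y) := fun a =>
    (hy ds 0 3 (by decide) a).symm.trans (by rw [y03]; rfl)
  have y01 : ∀ a, Y 0 1 a = bs e bm (a • u) := fun a =>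
    (hy dn 0 2 (by decide) a).symm.trans (by rw [y02]; rfl)
  have y23 : ∀ a, Y 2 3 a = bs e bm (star a • u) := fun a =>
    (hy dn 1 3 (by decide) a).symm.trans (by rw [y13]; rfl)
  have mem : ∀ i j, i < 2 → 2 ≤ j → ∀ a, Y i j a ∈ M := fun i j h1 h2 a => by
    have := SF.dd6 i j h1 h2
    simp only [List.mem_cons, Prod.mk.injEq, List.not_mem_nil, or_false] at this
    rcases this with ⟨rfl, rfl⟩ | ⟨rfl, rfl⟩ | ⟨rfl, rfl⟩ | ⟨rfl, rfl⟩
    exacts [y02 a ▸ h.bm_mem _, y03 a ▸ h.az_mem _, y12 a ▸ h.al_mem _, y13 a ▸ h.bm_mem _]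
  obtain ⟨η, -, hη⟩ := A2.exists_eta (F := F) (K := K)
  have g1 : ∀ c, Y 0 3 c = (Y 0 2 1)⁻¹ * Y 0 1 c * Y 0 2 1 * (Y 0 1 c)⁻¹ := fun c => by
    rw [mul_assoc, mul_assoc, ← mul_assoc (Y 0 1 c), y01, y02, r.gam, d.γ11, y03]; simp
  have g2 : ∀ a, ∃ c, Y 0 2 a = (Y 1 2 η)⁻¹ * Y 0 1 a * Y 1 2 η * (Y 0 1 a)⁻¹ * (Y 0 3 c)⁻¹ := fun a => by
    obtain ⟨c, hc⟩ := tr_surj K (nm F a * tr F η)
    refine ⟨c, ?_⟩
    rw [mul_assoc _ (Y 0 1 a), mul_assoc _ (_ * _), y01, y12, r.bet, d.β11, d.κ11, y03, y02, hc, hη,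
      map_one, one_mul]
    generalize al e az _ = x
    group
  let C : Fin 4 → Fin 4 → Fin 4 → Fin 4 → Prop := fun i j k l => ∀ a c, Y i j a ∈ Cz (t * Y k l c * t⁻¹)
  have tr' : ∀ (π : DD) {i j k l}, i ≠ j → k ≠ l → C (π.1 i) (π.1 j) (π.1 k) (π.1 l) → C i j k l :=
    fun π i j k l h1 h2 c a a' => by
      have := mem_Cz.1 (c a a')
      rw [← hy π _ _ h1, ← hy π _ _ h2, conj_swap (b.comm _), ← cjm, ← cjm] at this
      exact mem_Cz.2 (by simpa using this)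
  have sy : ∀ {i j k l}, C i j k l → C k l i j := fun c a a' => by
    have := congrArg (fun g => t * g * t⁻¹) (mem_Cz.1 (c a' a))
    simp only [cjm, conj2 b.inv.1] at this
    exact mem_Cz.2 this.symm
  have c0 : ∀ {i j k l : Fin 4}, (i, j) ∈ [(0, 1), (2, 3)] → (k, l) ∈ [(0, 2), (1, 3), (1, 2)] →
      C i j k l := fun h1 h2 a c => by
    simp only [List.mem_cons, Prod.mk.injEq, List.not_mem_nil, or_false] at h1 h2
    refine mem_Cz.2 (mul_inv_eq_iff_eq_mul.1 ?_).symm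
    rcases h1 with ⟨rfl, rfl⟩ | ⟨rfl, rfl⟩ <;> rcases h2 with ⟨rfl, rfl⟩ | ⟨rfl, rfl⟩ | ⟨rfl, rfl⟩ <;>
      simp only [y01, y23, y02, y13, y12, h.t_bm b, h.t_al b, A2.tt_smul, r.gam, r.bet, d.γ12, d.β12,
        d.κ12, h.az_zero, h.bm_zero, mul_one]
  have c1 : ∀ i j k l, i ≠ j → k ≠ l → ¬ (k = j ∧ l = i) → ¬ (k = i.rev ∧ l = j.rev) → C i j k l :=
    fun i j k l h1 h2 h3 h4 => by
      obtain ⟨π, hπ, h5⟩ := dd7 i j k l h1 h2 h3 h4
      refine tr' ⟨π, hπ⟩ h1 h2 ?_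
      rcases h5 with ⟨a1, a2, a3, a4⟩ | ⟨a1, a2⟩ | ⟨a1, a2⟩
      · exact fun a c => mem_Cz.2 (h.comm
          (H98.conj_mem_of_mem_normalizer (h.t_mem_Ns b) (mem _ _ a3 a4 c)) (mem _ _ a1 a2 a))
      · exact c0 a1 a2
      · exact sy (c0 a1 a2)
  have c2 : ∀ k l, k ≠ l → C 0 3 k l := fun k l h1 a c => by
    by_cases h2 : k = 3 ∧ l = 0
    · obtain ⟨rfl, rfl⟩ := h2
      have a1 := c1 0 1 3 0 (by decide) h1 (by decide) (by decide) a c
      have a2 := c1 0 2 3 0 (by decide) h1 (by decide) (by decide) 1 c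
      exact g1 a ▸ mul_mem (mul_mem (mul_mem (inv_mem a2) a1) a2) (inv_mem a1)
    · exact c1 0 3 k l (by decide) h1 h2 h2 a c
  have c3 : ∀ k l, k ≠ l → C 0 2 k l := fun k l h1 a c => by
    by_cases h2 : (k = 2 ∧ l = 0) ∨ (k = 3 ∧ l = 1)
    · obtain ⟨c', hc⟩ := g2 a
      have a1 := c1 0 1 k l (by decide) h1 (by omega) (show ¬ (k = 3 ∧ l = 2) by omega) a c
      have a2 := c1 1 2 k l (by decide) h1 (by omega) (show ¬ (k = 2 ∧ l = 1) by omega) η c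
      exact hc ▸ mul_mem (mul_mem (mul_mem (mul_mem (inv_mem a2) a1) a2) (inv_mem a1))
        (inv_mem (c2 k l h1 c' c))
    · exact c1 0 2 k l (by decide) h1 (fun h3 => h2 (Or.inl h3)) (fun h3 => h2 (Or.inr h3)) a c
  have c4 : ∀ i j, i ≠ j → ∀ k l, k ≠ l → C i j k l := fun i j h1 =>
    dd_ind (P := fun i j => ∀ k l, k ≠ l → C i j k l)
      (fun π k l h2 => tr' π⁻¹ (π.1.injective.ne (by decide)) h2 (by
        simpa using c3 _ _ ((π.1⁻¹).injective.ne h2)))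
      (fun π k l h2 => tr' π⁻¹ (π.1.injective.ne (by decide)) h2 (by
        simpa using c2 _ _ ((π.1⁻¹).injective.ne h2))) h1
  let L := closure {g | ∃ i j, i ≠ j ∧ ∃ a, Y i j a = g}
  have yL : ∀ {i j}, i ≠ j → ∀ a, Y i j a ∈ L := fun h1 a => subset_closure ⟨_, _, h1, a, rfl⟩
  have ind : ∀ {N : Subgroup G}, (∀ π : DD, e (om π) ∈ Ns N) → (∀ a, Y 0 2 a ∈ N) → (∀ a, Y 0 3 a ∈ N) →
      L ≤ N := fun {N} h1 h2 h3 => (closure_le _).2 (by
    rintro _ ⟨i, j, hij, a, rfl⟩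
    exact dd_ind (P := fun i j => Y i j a ∈ N)
      (fun π => hy π 0 2 (by decide) a ▸ H98.conj_mem_of_mem_normalizer (h1 π) (h2 a))
      (fun π => hy π 0 3 (by decide) a ▸ H98.conj_mem_of_mem_normalizer (h1 π) (h3 a)) hij)
  have n1 : ∀ π : DD, e (om π) ∈ Ns L := fun π => conj_mem_St.1 (mem_St_of_finite fun g hg =>
    (closure_le (L.comap (MulAut.conj (e (om π))).toMonoidHom)).2 (by
      rintro _ ⟨i, j, hij, a, rfl⟩
      exact (show _ ∈ L from (hy π i j hij a).symm ▸ yL (π.1.injective.ne hij) a :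
        e (om π) * Y i j a * _ ∈ L)) hg)
  have n2 : ∀ π : DD, e (om π) ∈ Ns (cjs t L) := fun π => conj_mem_St.1 (mem_St_of_finite (by
    rintro _ ⟨g, hg, rfl⟩
    change _ * (t * g * t⁻¹) * _ ∈ _
    rw [← conj_swap (b.comm _) g]
    exact conj_mem_cjs.2 (H98.conj_mem_of_mem_normalizer (n1 π) hg)))
  have ns : ∀ {A B : Subgroup G} {g : G}, g ∈ Ns A → g ∈ Ns B → g ∈ Ns (A ⊔ B) := fun h1 h2 =>
    normalizer_inf_normalizer_le_normalizer_sup _ _ ⟨h1, h2⟩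
  have d2 : ∀ a, Y 0 2 a * (t * Y 0 2 a * t⁻¹) = e (xa ((0 : F), a, (0 : F))) := fun a => by
    rw [y02, h.t_bm b, ← h.bm_add, add_tt d.su, h.bm0]
  have d3 : ∀ a, Y 0 3 a * (t * Y 0 3 a * t⁻¹) = e (xa (tr F a, 0, 0)) := fun a => by
    rw [y03, h.t_az b, ← h.az_add, add_tt d.sy, h.az0]
  have dm : ∀ {i j}, i ≠ j → ∀ a, Y i j a * (t * Y i j a * t⁻¹) ∈ L ⊔ cjs t L := fun h1 a =>
    mul_mem_sup (yL h1 a) (conj_mem_cjs.2 (yL h1 a))
  refine split fa b (L := L) ((closure_le _).2 ?_) ?_ (ind (fun π => ns (le_normalizer ⟨_, rfl⟩) (n2 π))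
    (fun a => ?_) fun a => ?_) ?_ fun g h1 h2 h3 => ?_
  · rintro _ ⟨i, j, hij, a, rfl⟩ _ ⟨g, hg, rfl⟩
    refine mem_Cz.1 ((closure_le ((Cz (Y i j a)).comap (MulAut.conj t).toMonoidHom)).2 ?_ hg) |>.symm
    rintro _ ⟨k, l, hkl, c, rfl⟩
    exact mem_Cz.2 (mem_Cz.1 (c4 i j hij k l hkl a c)).symm
  · have hA : ∀ s ∈ AX K, e s ∈ L ⊔ cjs t L := fun s hs => by
      obtain ⟨⟨c, a, c'⟩, rfl⟩ := (mem_AX (F := F)).1 hs
      obtain ⟨c, rfl⟩ := tr_surj K c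
      obtain ⟨c', rfl⟩ := tr_surj K c'
      have := H98.conj_mem_of_mem_normalizer (ns (n1 ds) (n2 ds)) (d3 c' ▸ dm (by decide) c')
      rw [show om ds = ws from rfl, ← map_inv, ← map_mul, ← map_mul, ws_xa] at this
      have := mul_mem (mul_mem (d3 c ▸ dm (by decide) c) (d2 a ▸ dm (by decide) a)) this
      simpa [← map_mul, ← xa_add, aW] using this
    rw [MonoidHom.range_eq_map, ← fa.l.genA, Subgroup.map_sup, map_cjs]
    refine sup_le (map_le_iff_le_comap.2 hA) ?_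
    rintro _ ⟨_, ⟨s, hs, rfl⟩, rfl⟩
    exact H98.conj_mem_of_mem_normalizer (ns (n1 d0) (n2 d0)) (hA s hs)
  · rw [eq_mul_inv_of_mul_eq (d2 a)]
    exact mul_mem_sup ⟨_, rfl⟩ (inv_mem (conj_mem_cjs.2 (yL (by decide) a)))
  · rw [eq_mul_inv_of_mul_eq (d3 a)]
    exact mul_mem_sup ⟨_, rfl⟩ (inv_mem (conj_mem_cjs.2 (yL (by decide) a)))
  · have k : ∀ {a c}, a ∈ L → c ∈ L → a⁻¹ * c * a * c⁻¹ ∈ ⁅L, L⁆ := fun ha hc => by
      simpa [commutatorElement_def] using commutator_mem_commutator (inv_mem ha) hc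
    have k3 : ∀ a, Y 0 3 a ∈ ⁅L, L⁆ := fun a => g1 a ▸ k (yL (by decide) _) (yL (by decide) _)
    refine ind (fun π => H98.le_normalizer_commutator (zpowers_le.2 (n1 π)) (zpowers_le.2 (n1 π))
      (mem_zpowers _)) (fun a => ?_) k3
    obtain ⟨c, hc⟩ := g2 a
    exact hc ▸ mul_mem (k (yL (by decide) _) (yL (by decide) _)) (inv_mem (k3 c))
  · by_contra h4
    obtain ⟨k, -, hk⟩ := ce.conj (mem_Cs_range.2 fun s => (mem_Cz.1 (h2 ⟨s, rfl⟩)).symm)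
      (H64.SG.is2_of_sq h3) h4
    have a1 : ∀ p, az p ∈ Cz g := fun p => by
      obtain ⟨a, ha⟩ := tr_surj K p.2
      rw [show p = (p.1 + p.2 * y.1, 0) + tr F a • y from
        Prod.ext (by simp [ha, add_assoc, k2]) (by simp [ha, d.sy]), h.az_add, h.az0, ← y03]
      exact mul_mem (h2 ⟨_, rfl⟩) (h1 (yL (by decide) a))
    refine ab.not_conj (Y := M) (fun m hm => ?_) h.sq
      (by rw [h.card b]; exact Nat.pow_le_pow_right Nat.card_pos (by decide)) (isConj_iff.2 ⟨k, hk.symm⟩)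
    obtain ⟨p, v, p', rfl⟩ := (h.mem m).1 hm
    refine mul_mem (mul_mem (a1 p) ?_) (mul_mem (mul_mem (h2 ⟨_, rfl⟩) (a1 p')) (inv_mem (h2 ⟨_, rfl⟩)))
    rw [show v = (v.1 + v.2 * u.1, 0) + v.2 • u from
      Prod.ext (by simp [add_assoc, k2]) (by simp [d.su]), h.bm_add, h.bm0, ← y02]
    exact mul_mem (h2 ⟨_, rfl⟩) (h1 (yL (by decide) _))

end H83.SV.SW
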