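import Cfsg.Agent.H83.SVInd

/-! STD-U at `q = 2`, slot W3: centralisers of the elements `e₁ y s` of order `4` in the wreath case. -/

set_option autoImplicit false
set_option linter.unusedSectionVars false

namespace H83.SVW3

open H64.SG (O2 Syl Cz Cs Ns cjs Is2 Inv2 UF IsO2 fx mem_Cs mem_Cz mem_fx is2_of_sq isPGroup_iff_is2)
open H67.SA (St cI cm mem_cI card_cjs conj_mem_cjs mem_cjs cm_eq_one)
open H83.SV H57 H98 Subgroup

universe u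

theorem conj_or {G : Type*} [Group G] {d m : G} (h4 : d ^ 4 = 1) (h2 : d * d ≠ 1)
    (hm : m ∈ Ns (zpowers d)) : m * d * m⁻¹ = d ∨ m * d * m⁻¹ = d⁻¹ := by
  obtain ⟨k, hk⟩ := mem_zpowers_iff.1 (conj_mem_of_mem_normalizer hm (mem_zpowers d))
  have h5 : d ^ (4 : ℤ) = 1 := by exact_mod_cast h4
  have h6 : m * d * m⁻¹ * (m * d * m⁻¹) ≠ 1 := by rwa [conj_mul, Ne, conj_eq_one_iff]
  rw [zpow_eq_zpow_emod k h5] at hk
  rw [← hk] at h6 ⊢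
  obtain h | h | h | h : k % 4 = 0 ∨ k % 4 = 1 ∨ k % 4 = 2 ∨ k % 4 = 3 := by omega
  all_goals rw [h] at h6 ⊢
  · simp at h6
  · simp
  · exact absurd (by rw [← zpow_add]; exact h5) h6
  · exact Or.inr (eq_inv_of_mul_eq_one_left (by rw [← zpow_add_one]; exact h5))

theorem cz_conj {G : Type*} [Group G] {N : Subgroup G} {n d : G} (hn : n ∈ N) (h : Cz d ≤ N) :
    Cz (n * d * n⁻¹) ≤ N := by
  rw [← H64.SG.cj_Cz]
  rintro _ ⟨a, ha, rfl⟩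
  exact mul_mem (mul_mem hn (h ha)) (inv_mem hn)

variable {F K : Type} [Field F] [Finite F] [CharP F 2] [Field K] [Algebra F K] [StarRing K] [CharP K 2]
  [Qe F K] [Finite K] {G : Type u} [Group G] [Finite G] {e e₁ e₂ : X K →* G} {t : G}

theorem fix_both (hc : center (X K) = ⊥) (c : CW e t e₁ e₂) {m : G} {β γ : MulAut (X K)}
    (h1 : Ind e₁ m β) (h2 : Ind e₂ m γ) {a b : X K} (h : m * (e₁ a * e₂ b) * m⁻¹ = e₁ a * e₂ b) :
    β a = a ∧ γ b = b :=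
  c.inj2 hc (by rw [← h1, ← h2, conj_mul, h])

theorem odd_nor (h : GW e t e₁ e₂) {m : G} (hm : m ∈ Ns (G12 e₁ e₂)) (ho : Odd (orderOf m)) :
    m ∈ Ns e₁.range ∧ m ∈ Ns e₂.range := by
  refine H64.SG.mem_of_sq_mem (K := Ns e₁.range ⊓ Ns e₂.range) ?_ ho
  rcases h.pm m hm with k | k
  · exact mul_mem k k
  · exact ⟨cj_eq_self_iff.1 (by rw [← cj_cj]; exact (congrArg (cjs m) k.1).trans k.2),
      cj_eq_self_iff.1 (by rw [← cj_cj]; exact (congrArg (cjs m) k.2).trans k.1)⟩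

theorem core (hc : center (X K) = ⊥) (b : B1 e t) (c : CW e t e₁ e₂) (g : GW e t e₁ e₂) {y : X K}
    (hy : Inv2 y) {B : Subgroup (X K)} (hB : IsPGroup 2 B) {S : Set (X K)} (h1 : B = closure S)
    (h2 : ∀ u ∈ S, u * u = 1) (h3 : B ≤ Cz y) (h4 : ∀ β : MulAut (X K), β y = y → β ∈ St B)
    (h5 : Cs (B.map e) ≤ Ns (G12 e₁ e₂)) : Cz (e₁ y * t) ≤ Ns (G12 e₁ e₂) := by
  have tt := b.inv.1
  have ti := b.inv_eq
  have e1 : e₁ y * e₁ y = 1 := by rw [← map_mul, hy.1, map_one]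
  have i1 := inv_eq_of_mul_eq_one_right e1
  have dd : e₁ y * t * (e₁ y * t) = e₁ y * e₂ y := by rw [← c.sw, ti]; group
  have d2 : e₁ y * e₂ y * (e₁ y * e₂ y) = 1 := by rw [c.mul_mul, hy.1]; simp
  have d4 : (e₁ y * t) ^ 4 = 1 := by
    rw [show 4 = 2 * 2 from rfl, pow_mul, pow_two, pow_two, dd, d2]
  have di : t * (e₁ y * t) * t⁻¹ = (e₁ y * t)⁻¹ := by
    rw [_root_.mul_inv_rev, ti, i1, mul_assoc, mul_assoc, tt, mul_one]
  have eM : ∀ u, e u ∈ Ns (G12 e₁ e₂) := fun u => le_normalizer (g.le ⟨u, rfl⟩)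
  have SB : ∀ u ∈ S, u ∈ B := fun u hu => h1 ▸ subset_closure hu
  have cd : ∀ u ∈ B, e u * (e₁ y * t) = e₁ y * t * e u := fun u hu => by
    rw [mul_assoc, b.comm u, ← mul_assoc, ← mul_assoc, c.diag, ← mul_assoc, ← map_mul,
      mem_Cz.1 (h3 hu), map_mul, mul_assoc (e₁ u), ← c.comm y u, ← mul_assoc]
  refine le_trans (fun a ha => H64.SG.Cs_le_Ns _ (H64.SG.mem_Cs_zpowers.2 (mem_Cz.1 ha)))
    (H64.SG.jobK8 g.uf (IsConj.refl t) g.uf.mem di d4 (fun m m1 m2 => ?_) (e '' S) ?_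
      (by rwa [← MonoidHom.map_closure, ← h1]) fun O o1 o2 o3 o4 v hv o ho => ?_)
  · have k1 := conj_or d4 (fun k => hy.2 (c.inj2 hc (a := y) (b := y) (c := 1) (d := 1) (by
      rw [← dd, k]; simp)).1) m1
    have k2 : m * (e₁ y * e₂ y) * m⁻¹ = e₁ y * e₂ y := by
      rw [← dd, ← conj_mul]
      rcases k1 with k | k <;> rw [k]
      rw [← _root_.mul_inv_rev, dd, inv_eq_of_mul_eq_one_right d2]
    have k3 : e₁ y * (m * (e₁ y * t) * m⁻¹) * t⁻¹ ∈ zpowers (e₁ y * t) := by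
      rcases k1 with k | k <;> rw [k]
      · rw [← mul_assoc, e1, one_mul, mul_inv_cancel]; exact one_mem _
      · rw [_root_.mul_inv_rev, i1, ti, ← mul_assoc, mul_assoc (e₁ y * t)]
        exact mul_mem (mem_zpowers _) (mem_zpowers _)
    have k4 : m * t * m⁻¹ * t⁻¹ = m * e₁ y * m⁻¹ * (m * (e₁ y * t) * m⁻¹) * t⁻¹ := by
      rw [conj_mul, ← mul_assoc (e₁ y), e1, one_mul]
    rw [k4]
    rcases g.pm m m2 with k | k
    · obtain ⟨β, hβ⟩ := exists_ind c.inj k.1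
      obtain ⟨γ, hγ⟩ := exists_ind c.inj₂ k.2
      rwa [hβ, (fix_both hc c hβ hγ k2).1]
    · obtain ⟨p, hp⟩ : m * e₁ y * m⁻¹ ∈ e₂.range := k.1 ▸ conj_mem_cjs.2 ⟨y, rfl⟩
      obtain ⟨q, hq⟩ : m * e₂ y * m⁻¹ ∈ e₁.range := k.2 ▸ conj_mem_cjs.2 ⟨y, rfl⟩
      rw [← conj_mul, ← hp, ← hq, ← c.comm] at k2
      rw [← hp, (c.inj2 hc k2).2, show e₂ y = e₁ y * t * (e₁ y * t) * e₁ y by
        rw [dd, c.comm, mul_assoc, e1, mul_one], mul_assoc _ (e₁ y), mul_assoc]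
      exact mul_mem (mul_mem (mem_zpowers _) (mem_zpowers _)) k3
  · rintro _ ⟨u, hu, rfl⟩
    exact ⟨by rw [← map_mul, h2 u hu, map_one], eM u, cd u (SB u hu), b.comm u, g.tx u (h2 u hu)⟩
  · obtain ⟨u, hu, rfl⟩ := hv
    obtain ⟨n1, n2⟩ := odd_nor g (o1 ho) (H64.SG.odd_orderOf_of_mem o2 ho)
    obtain ⟨β, hβ⟩ := exists_ind c.inj n1
    obtain ⟨γ, hγ⟩ := exists_ind c.inj₂ n2
    obtain ⟨f1, f2⟩ := fix_both hc c hβ hγ (a := y) (b := y) (by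
      rw [← dd, ← conj_mul, ← mem_Cz.1 (o4 ho), mul_inv_cancel_right])
    have k1 : cm o (e u) ∈ pr e₁ e₂ B B := by
      refine mul_mem ?_ (inv_mem (c.map_le _ ⟨u, SB u hu, rfl⟩))
      rw [c.diag, ← conj_mul, hβ, hγ]
      exact c.mem_pr.2 ⟨_, (h4 β f1 u).1 (SB u hu), _, (h4 γ f2 u).1 (SB u hu), rfl⟩
    have k2 : cm o (e u) ∈ O := by
      simpa only [cm, mul_assoc] using mul_mem ho (conj_mem_of_mem_normalizer (o3 ⟨H64.SG.Cs_le_Ns _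
        (H64.SG.mem_Cs_zpowers.2 (cd u (SB u hu)).symm), eM u⟩) (inv_mem ho))
    exact mem_Cz.2 (cm_eq_one.1 ((isPGroup_iff_is2.1 (c.isP_pr hB hB) _ k1).eq_one
      (H64.SG.odd_orderOf_of_mem o2 k2))).symm

theorem at_t (f : Fa.{u} F K) (b : B1 e t) (c : CW e t e₁ e₂) (g : GW e t e₁ e₂) {y : X K}
    (hy : Inv2 y) : Cz (e₁ y * t) ≤ Ns (G12 e₁ e₂) := by
  have key : ∀ y', IsConj y y' → (Inv2 y' → Cz (e₁ y' * t) ≤ Ns (G12 e₁ e₂)) →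
      Cz (e₁ y * t) ≤ Ns (G12 e₁ e₂) := fun y' h1 h2 => by
    obtain ⟨h, rfl⟩ := isConj_iff.1 h1.symm
    have := cz_conj (le_normalizer (g.le ⟨h, rfl⟩)) (h2 (H9.UF.inv2_conj hy h1))
    rwa [← conj_mul, b.conj_t, c.diag, c.ind₁ h h] at this
  rcases f.i.ic2 y hy with h | h
  · exact key _ h fun h1 => core f.o.cen b c g h1 (isP_UX.to_le QX_le_UX) f.l.invQ (fun u hu => hu.2.2)
      (fun u hu => mem_Cz.2 (UX_le_Cs (QX_le_UX hu) _ (mem_ZX.2 ⟨(1 : F), rfl⟩))) f.n.nz g.cQ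
  · exact key _ h fun h1 => core f.o.cen b c g h1 el_AX.isP (closure_eq _).symm el_AX
      (fun u hu => mem_Cz.2 (AX_le_Cs hu _ (xa_mem_AX _))) f.n.nw g.cA

theorem jobW3 : JobW3.{u} := fun F K _ _ _ _ _ _ _ _ _ f G _ _ e t e₁ e₂ b _ c g s hs h1 y hy => by
  obtain ⟨m, rfl⟩ := isConj_iff.1 h1
  have hm := g.uf.uf m hs
  have key : ∀ {f' : X K →* G} {p : X K}, f' p = m⁻¹ * e₁ y * m⁻¹⁻¹ → Function.Injective f' → Inv2 p :=
    fun h2 h3 => (inv2_e h3).1 (h2 ▸ H9.UF.inv2_conj ((inv2_e c.inj).2 hy) (isConj_iff.2 ⟨_, rfl⟩))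
  rw [show e₁ y * (m * t * m⁻¹) = m * (m⁻¹ * e₁ y * m⁻¹⁻¹ * t) * m⁻¹ by group]
  refine cz_conj hm ?_
  rcases g.pm _ (inv_mem hm) with k | k
  · obtain ⟨p, hp⟩ := conj_mem_of_mem_normalizer k.1 (⟨y, rfl⟩ : e₁ y ∈ e₁.range)
    exact hp ▸ at_t f b.toB1 c g (key hp c.inj)
  · obtain ⟨p, hp⟩ : m⁻¹ * e₁ y * m⁻¹⁻¹ ∈ e₂.range := k.1 ▸ conj_mem_cjs.2 ⟨y, rfl⟩
    have := cz_conj g.uf.mem (at_t f b.toB1 c g (key hp c.inj₂))
    rwa [← conj_mul, c.sw, mul_inv_cancel_right, hp] at this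

end H83.SVW3
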