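import Cfsg.Agent.H83.SVInd

/-! STD-U at `q = 2`, slot R: the identities of the commutator maps. -/

set_option autoImplicit false
set_option linter.unusedSectionVars false

namespace H83.SV

universe u

variable {F K : Type} [Field F] [Finite F] [CharP F 2] [Field K] [Algebra F K] [StarRing K] [CharP K 2]
  [Qe F K] [Finite K] {G : Type u} [Group G] {e : X K →* G} {t : G} {M : Subgroup G} {az : F × F → G}
  {bm : K × K → G} {γ : K × K → K × K → F × F} {β : K × K → F × F → K × K}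
  {κ : K × K → F × F → F × F} {σ : K × K → K × K}

theorem un {R : Type} [Field R] {P : R → Prop} (h0 : P 0) (h1 : ∀ x : Rˣ, P x) (c : R) : P c := by
  by_cases hc : c = 0
  exacts [hc ▸ h0, h1 (Units.mk0 c hc)]

theorem e_sq {s : X K} (h : s * s = 1) : e s * e s = 1 := by rw [← map_mul, h, map_one]
theorem e_inv {s : X K} (h : s * s = 1) : (e s)⁻¹ = e s := inv_eq_of_mul_eq_one_right (e_sq h)

theorem cjm (g a b : G) : g * (a * b) * g⁻¹ = g * a * g⁻¹ * (g * b * g⁻¹) := by group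

namespace Co

variable (h : Co e t M az bm)
include h

theorem swap3 (r p : F × F) (v : K × K) : al e az r * bm v * az p = az p * bm v * al e az r := by
  rw [h.comm (mul_mem (h.al_mem r) (h.bm_mem v)) (h.az_mem p), h.comm (h.al_mem r) (h.bm_mem v),
    mul_assoc]
theorem mul3' (p p' r r' : F × F) (v v' : K × K) : al e az r * bm v * az p * (al e az r' * bm v' * az p') =
    al e az (r + r') * bm (v + v') * az (p + p') := by
  rw [h.swap3, h.swap3, h.swap3, h.mul3]
theorem mul2 (p p' : F × F) (v v' : K × K) : bm v * az p * (bm v' * az p') = bm (v + v') * az (p + p') := by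
  have := h.mul3' p p' 0 0 v v'
  rwa [add_zero, h.al_zero, one_mul, one_mul, one_mul] at this
theorem bs_inv (v : K × K) : (bs e bm v)⁻¹ = bs e bm v := inv_eq_of_mul_eq_one_right (h.bs_sq v)
theorem n_bs (v : K × K) : e wn * bs e bm v * (e wn)⁻¹ = bm v := by
  rw [bs, ← mul_assoc, ← mul_assoc, e_sq wn_sq, one_mul, mul_assoc, ← mul_inv_rev, e_sq wn_sq, inv_one,
    mul_one]
theorem s_al (p : F × F) : e ws * al e az p * (e ws)⁻¹ = az p := by
  rw [al, ← mul_assoc, ← mul_assoc, e_sq ws_sq, one_mul, mul_assoc, ← mul_inv_rev, e_sq ws_sq, inv_one,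
    mul_one]

variable (b : B1 e t)
include b

theorem uniq3 {p p' r r' : F × F} {v v' : K × K}
    (h1 : al e az r * bm v * az p = al e az r' * bm v' * az p') : r = r' ∧ v = v' ∧ p = p' := by
  rw [h.swap3, h.swap3] at h1
  exact ⟨(h.uniq b h1).2.2, (h.uniq b h1).2.1, (h.uniq b h1).1⟩
theorem uniq2 {p p' : F × F} {v v' : K × K} (h1 : bm v * az p = bm v' * az p') : v = v' ∧ p = p' :=
  (h.uniq3 b (r := 0) (r' := 0) (by rw [h.al_zero, one_mul, one_mul, h1])).2

theorem bs_mem {v : K × K} (h1 : bs e bm v ∈ M) : v = 0 := by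
  obtain ⟨p, w, p', h2⟩ := (h.mem _).1 h1
  have h3 := h.tbs b v
  rw [h2, h.th b, mul_right_inj] at h3
  have h4 : v.2 = 0 := xs_mem_AX.1 (b.inj h3 ▸ xa_mem_AX _)
  obtain ⟨a, a'⟩ := v
  obtain rfl : a' = 0 := h4
  rw [h.bs0] at h1
  have h5 := h.comm h1 (h.xa_mem (0, 0, 1))
  rw [← map_mul, ← map_mul, b.inj.eq_iff, ← mul_inv_eq_iff_eq_mul, xs_xa] at h5
  have h6 := congrArg (·.2.1) (xa_inj h5)
  simp only [aS, map_one, mul_one, zero_add] at h6
  rw [h6]; rfl

end Co

theorem Tri.n_az (r : Tri e az bm γ β κ σ) (p : F × F) : e wn * az p * (e wn)⁻¹ = az p := by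
  rw [r.naz, mul_inv_cancel_right]

theorem Tri.baz (r : Tri e az bm γ β κ σ) (h : Co e t M az bm) (u : K × K) (p : F × F) :
    bs e bm u * az p * (bs e bm u)⁻¹ = az p := by
  rw [mul_inv_eq_iff_eq_mul, ← r.n_az p, bs, conj_mul, conj_mul, h.comm (h.bm_mem u) (h.az_mem p)]

theorem Tri.b3 (r : Tri e az bm γ β κ σ) (h : Co e t M az bm) (u v : K × K) (p p' : F × F) :
    bs e bm u * (al e az p * bm v * az p') * (bs e bm u)⁻¹ =
      al e az p * bm (β u p + v) * az (κ u p + (γ u v + p')) := by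
  rw [← conj_mul, ← conj_mul, r.bet, r.gam, r.baz h, mul_assoc _ _ (az p'), mul_assoc _ _ (az p'),
    ← h.az_add, mul_assoc (al e az p), mul_assoc (al e az p), h.mul2, mul_assoc (al e az p)]

theorem Tri.bs_conj (r : Tri e az bm γ β κ σ) (h : Co e t M az bm) (u : K × K) {m : G} (hm : m ∈ M) :
    bs e bm u * m * (bs e bm u)⁻¹ ∈ M := by
  obtain ⟨p, v, p', rfl⟩ := (h.mem _).1 hm
  rw [← h.swap3, r.b3 h]
  exact mul_mem (mul_mem (h.al_mem _) (h.bm_mem _)) (h.az_mem _)

namespace R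

theorem canc {R : Type} [Field R] {a b : R × R} (h : a = a + b) : b = 0 := left_eq_add.1 h

theorem jobR : JobR.{u} := fun F K _ _ _ _ _ _ _ _ _ _ G _ _ e t b M az bm γ β κ σ h r => by
  have γa : ∀ u v v', γ u (v + v') = γ u v + γ u v' := fun u v v' =>
    (h.uniq2 b (by rw [← r.gam, ← h.mul2, ← r.gam, ← r.gam, h.bm_add, conj_mul])).2
  have γs : ∀ u v, γ u v = γ v u := fun u v => h.az_inj b (by
    have h1 : bm u * bs e bm v * (bm u)⁻¹ = bs e bm v * az (γ u v) := by
      rw [← r.n_az, ← h.n_bs u, ← cjm (e wn) (bm v), ← r.gam]; simp only [bs]; group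
    have h2 := r.gam v u
    rw [← h.inv_eq (h.az_mem (γ v u)), ← r.baz h v (γ u v)]
    calc _ = bm u * bs e bm v * (bm u)⁻¹ * (bs e bm v)⁻¹ := by rw [h1]
      _ = bm u * (bs e bm v * bm u * (bs e bm v)⁻¹)⁻¹ := by group
      _ = _ := by rw [h2, h.comm (h.bm_mem _) (h.az_mem _)]; group)
  have γh : ∀ (y : Kˣ) (c : Fˣ) u v, γ ((y : K) • u) ((algebraMap F K c * y) • v) =
      ((c : F) * nm F (y : K)) • γ u v := fun y c u v => (h.uniq2 b (by
    rw [← r.gam, ← h.hbs y c, ← h.hbm, ← h.haz, conj_mul, conj_mul, ← r.gam]; group)).2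
  have γ0 : ∀ u, γ u 0 = 0 := fun u => canc (a := γ u 0) (by rw [← γa, add_zero])
  have γl : ∀ (c : F) u v, γ u (algebraMap F K c • v) = c • γ u v := fun c u v =>
    un (P := fun c => γ u (algebraMap F K c • v) = c • γ u v) (by simp [γ0])
      (fun c => by simpa using γh 1 c u v) c
  have au : ∀ u u' p, β (u + u') p = β u p + β u' p ∧ κ (u + u') p = κ u p + (γ u (β u' p) + κ u' p) :=
    fun u u' p => (h.uniq3 b (by rw [← r.bet, ← r.b3 h, ← r.bet, h.bs_add]; group)).2
  have ap : ∀ u p p', β u (p + p') = β u p + β u p' ∧ κ u (p + p') = κ u p + κ u p' := fun u p p' =>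
    (h.uniq3 b (by rw [← r.bet, ← h.mul3', ← r.bet, ← r.bet, h.al_add, cjm])).2
  have hh : ∀ (y : Kˣ) (c : Fˣ) u p, β ((y : K) • u) ((c : F) • p) = (algebraMap F K c * y) • β u p ∧
      κ ((y : K) • u) ((c : F) • p) = ((c : F) * nm F (y : K)) • κ u p := fun y c u p => (h.uniq3 b (by
    rw [← r.bet, ← h.hbs y c, ← h.hbm, ← h.haz, ← h.hal y c, conj_mul, conj_mul, conj_mul, ← r.bet]
    group)).2
  have z1 : ∀ p, β 0 p = 0 ∧ κ 0 p = 0 := fun p => (h.uniq3 b (r' := p) (by
    rw [← r.bet, h.bs_zero, h.bm_zero, h.az_zero]; simp)).2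
  have z2 : ∀ u, β u 0 = 0 ∧ κ u 0 = 0 := fun u => (h.uniq3 b (r' := 0) (by
    rw [← r.bet, h.al_zero, h.bm_zero, h.az_zero]; simp)).2
  have σa : ∀ u u', σ (u + u') = σ u + σ u' := fun u u' => h.bm_inj b (by
    rw [← r.sig, h.bm_add, h.bm_add, ← r.sig, ← r.sig, conj_mul])
  have one : ∀ p, κ (1, 0) p = p ∧ σ (β (1, 0) p) = β (1, 0) p := fun p => by
    have h1 : e ws = bs e bm (1, 0) * (e ws * bs e bm (1, 0) * e ws) * bs e bm (1, 0) := by
      rw [h.bs0]; simp only [← map_mul]; rw [← ws_braid]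
    have h2 : al e az p = bs e bm (1, 0) * (e ws * (bs e bm (1, 0) * (e ws * (bs e bm (1, 0) * az p *
        (bs e bm (1, 0))⁻¹) * (e ws)⁻¹) * (bs e bm (1, 0))⁻¹) * (e ws)⁻¹) * (bs e bm (1, 0))⁻¹ := by
      rw [al]; nth_rw 1 [h1]; nth_rw 3 [h1]; group
    rw [r.baz h, ← al, r.bet, cjm (e ws), cjm (e ws), h.s_al, r.sig, ← al, ← h.swap3,
      r.b3 h] at h2
    have h3 := h.uniq3 b (v := 0) (p := 0) (by rw [← h2, h.bm_zero, h.az_zero, mul_one, mul_one])
    have h4 := h3.2.1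
    rw [← h3.1] at h4
    exact ⟨h3.1.symm, (eq_of_add_eq_zero h4.symm).symm⟩
  refine ⟨γa, γs, fun a u v => ?_, γl, fun u u' p => (au u u' p).1, fun a u p => ?_,
    fun u p p' => (ap u p p').1, fun c u p => ?_, fun u => ?_, fun u p => (h.uniq3 b (r := tt p) (r' := tt p) (p := κ (tt u) (tt p)) (p' := tt (κ u p)) ?_).2.1,
    fun u u' p => by rw [(au u u' p).2, add_comm (γ _ _), add_assoc], fun a u p => ?_,
    fun u p p' => (ap u p p').2, fun c u p => ?_, fun p => (one p).1, σa, fun a u => ?_,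
    fun p => (one p).2⟩
  · refine un (P := fun a => γ (a • u) v = γ u (star a • v)) (by simp [γs 0, γ0]) (fun y => ?_) a
    have := γh y 1 u (((y⁻¹ : Kˣ) : K) • v)
    rw [← γl, smul_smul, smul_smul] at this
    simpa [mul_comm (y : K)] using this
  · exact un (P := fun a => β (a • u) p = a • β u p) (by simp [z1])
      (fun y => by simpa using (hh y 1 u p).1) a
  · exact un (P := fun c => β u (c • p) = algebraMap F K c • β u p) (by simp [z2])
      (fun c => by simpa using (hh 1 c u p).1) c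
  · have h0 : ∀ u, al e az (1, 0) * bs e bm u * (al e az (1, 0))⁻¹ =
        bs e bm u * (bm (β u (1, 0)) * az (κ u (1, 0))) := fun u => by
      have := r.bet u (1, 0)
      rw [h.bs_inv, mul_assoc (al e az _), h.comm (h.al_mem _) (mul_mem (h.bm_mem _) (h.az_mem _)),
        ← mul_inv_eq_iff_eq_mul] at this
      have e2 := h.bs_sq u
      generalize bs e bm u = x at *
      rw [← this, ← mul_assoc, ← mul_assoc, ← mul_assoc, e2, one_mul]
    have h1 : e wn = al e az (1, 0) * (e wn * al e az (1, 0) * (e wn)⁻¹) * al e az (1, 0) := by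
      rw [h.al0, ← xl_eq, e_inv wn_sq]; simp only [← map_mul]; rw [← wn_braid]
    have h2 : e wn * al e az (1, 0) * (e wn)⁻¹ * bm u * (e wn * al e az (1, 0) * (e wn)⁻¹)⁻¹ =
        bm u * (bs e bm (β u (1, 0)) * az (κ u (1, 0))) := by
      rw [← r.n_az, ← h.n_bs u, ← cjm (e wn) (bm _), ← cjm (e wn) (bs e bm u), ← h0]; group
    have h3 : bs e bm u = al e az (1, 0) * (e wn * al e az (1, 0) * (e wn)⁻¹ * (al e az (1, 0) * bm u *
        (al e az (1, 0))⁻¹) * (e wn * al e az (1, 0) * (e wn)⁻¹)⁻¹) * (al e az (1, 0))⁻¹ := by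
      rw [bs]; nth_rw 1 [h1]; nth_rw 3 [h1]; group
    rw [h.comm (h.al_mem _) (h.bm_mem _), mul_inv_cancel_right, h2, cjm, cjm, h0] at h3
    refine eq_of_add_eq_zero (h.bs_mem b ?_)
    have c : ∀ m ∈ M, al e az (1, 0) * m * (al e az (1, 0))⁻¹ ∈ M := fun m hm =>
      mul_mem (mul_mem (h.al_mem _) hm) (inv_mem (h.al_mem _))
    have := mul_mem (mul_mem (r.bs_conj h (β u (1, 0)) (c _ (h.bm_mem u))) (mul_mem
      (h.bm_mem (β (β u (1, 0)) (1, 0))) (h.az_mem (κ (β u (1, 0)) (1, 0))))) (c _ (h.az_mem (κ u (1, 0))))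
    rw [h.bs_inv] at this
    rw [h.bs_add, h3]
    convert this using 1
    group
  · rw [← r.bet, ← h.t_bs b, ← h.t_al b, ← h.t_bm b, ← h.t_az b, conj_mul, conj_mul, conj_mul, ← r.bet]
    group
  · exact un (P := fun a => κ (a • u) p = nm F a • κ u p) (by simp [z1])
      (fun y => by simpa using (hh y 1 u p).2) a
  · exact un (P := fun c => κ u (c • p) = c • κ u p) (by simp [z2])
      (fun c => by simpa using (hh 1 c u p).2) c
  · refine un (P := fun a => σ (a • u) = star a • σ u) ?_ (fun y => h.bm_inj b ?_) a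
    · simpa using canc (a := σ 0) (by rw [← σa, add_zero])
    · have h1 := h.hbm y 1 u
      have h2 := h.hbm y⁻¹ (1 * nu F y) (σ u)
      rw [← ws_ht, map_mul, map_mul, map_inv, ← r.sig] at h2
      simp only [Units.val_one, map_one, one_mul, nu_val, io_nm, Units.val_inv_eq_inv_val,
        mul_comm (y : K), mul_inv_cancel_right₀ y.ne_zero] at h1 h2
      rw [← r.sig, ← h1, ← h2]; group

end R

end H83.SV
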