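import Cfsg.Agent.H83.SVWU
import Cfsg.Agent.H83.SVR
import Cfsg.Agent.H86.SAWE

/-! STD-U at `q = 2`, slot WE: the endgame of the wreath case (after `H86.SAWE`). -/

set_option autoImplicit false
set_option linter.unusedSectionVars false

namespace H83.SV.WE

open H64.SG (Syl Cz Cs Ns cjs Is2 Inv2 mem_Cs mem_Cz)
open H67.SA (St cm mem_cjs conj_mem_cjs)
open H86.SAWE (exists_step nor_of)
open Subgroup

universe u

theorem cj_mul {G : Type*} [Group G] (a b : G) (H : Subgroup G) : cjs (a * b) H = cjs a (cjs b H) :=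
  (H98.cj_cj ..).symm

theorem jobWE : JobWE.{u} := fun hW2 F K _ _ _ _ _ _ _ _ _ fa G _ _ e t e₁ e₂ b ab c g w1a w1b w3 => by
  have inf_left : ∀ {g}, g ∈ pr e₁ e₂ (UX K) (UX K) → g ∈ e₁.range → g ∈ (UX K).map e₁ := by
    rintro _ h1 ⟨a, rfl⟩
    exact ⟨a, ((c.mem_pr' fa.o.cen (b := 1)).1 (by simpa using h1)).1, rfl⟩
  have ne : cjs t e₁.range ≠ e₁.range := fun h => H83.SVWU.ne fa.o c (c.cjs_range.symm.trans h).le
  by_contra hM
  have hU := H64.SG.syl_iff.1 (c.syl fa.o.syl)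
  obtain ⟨S, hS, hUS⟩ := H98.exists_isSyl_le hU.isPGroup (hU.le.trans le_normalizer)
  have SU : S ≤ Ns (pr e₁ e₂ (UX K) (UX K)) := by
    rw [← hU.eq_of_le (hS.isPGroup.to_inf_left (K := G12 e₁ e₂)) (le_inf hUS hU.le) inf_le_right]
    exact H98.le_normalizer_inf le_normalizer hS.le
  obtain ⟨W, a, b', WS, aS, ta, tb, aW, bW, bM, ⟨k, ko, kW⟩, WT, -, hi, -⟩ :=
    H9.UF.jobK4 g.uf hM S (H64.SG.syl_iff.2 hS)
  have WM := WS.trans hS.le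
  have hW := hS.isPGroup.to_le WS
  have hi' : ∀ i ∈ Ns W, i ∉ W → i * i ∈ W → ∃ w ∈ W, IsConj t (i * w) := fun i i1 i2 i3 => by
    obtain ⟨w, w1, m, -, w2⟩ := hi i i1 i2 i3
    exact ⟨w, w1, w2 ▸ ta.trans (H9.UF.conj_cj m a)⟩
  have nsw : ∀ s ∈ Ns (G12 e₁ e₂), IsConj t s → s ∉ Ns e₁.range := fun s s1 s2 s3 =>
    ne (c.cjs_range.trans ((g.sw s s1 s2).symm.trans (H98.cj_eq_self_iff.2 s3)))
  have hUW : ¬ pr e₁ e₂ (UX K) (UX K) ≤ W := fun h => bM (by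
    obtain ⟨i, j, e1, e2, e3⟩ := H64.SG.exists_two_odd (a * b')
    have h4 := w1a W hW WM h _ (pow_mem (mul_mem aW bW) j) e3
    have h5 := w1b _ h4.1 h4.2 e3
    obtain ⟨r, hr⟩ := e2.exists_pow ko
    have h6 : (a * b') ^ i ∈ W := by
      rw [← hr, ← pow_mul _ i k, mul_comm i k, pow_mul]; exact pow_mem (pow_mem kW i) r
    have h7 := mul_mem (WM h6) h5
    rw [← e1] at h7
    exact (mul_mem_cancel_left (hS.le aS)).1 h7)
  by_cases hW1 : W ≤ Ns e₁.range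
  · obtain ⟨i, i1, i2, i3, i4⟩ := exists_step hS.isPGroup WS hUS (WS.trans SU) hUW
    obtain ⟨w, w1, w2⟩ := hi' i i3 i2 i4
    exact nsw _ (hS.le (mul_mem (hUS i1) (WS w1))) w2 (mul_mem (c.G12_le_Ns (hU.le i1)) (hW1 w1))
  obtain ⟨w₀, w1, w2⟩ := SetLike.not_le_iff_exists.1 hW1
  have sw0 := (g.pm w₀ (WM w1)).resolve_left fun h => w2 h.1
  have sw : ∀ w ∈ W, w ∉ Ns e₁.range → w * w₀⁻¹ ∈ Ns e₁.range := fun w h1 h2 => by
    have h3 := (g.pm w (WM h1)).resolve_left fun h => h2 h.1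
    refine H98.cj_eq_self_iff.1 ((cj_mul ..).trans ?_)
    have : cjs w₀⁻¹ e₁.range = e₂.range := by
      rw [← sw0.2, ← cj_mul, inv_mul_cancel]; exact H98.cj_one _
    rw [this]; exact h3.2
  have U1 : (UX K).map e₁ ≤ S := le_sup_left.trans hUS
  have beta : ∀ B ≤ UX K, St (UX K) ≤ St B → ¬ B.map e₁ ≤ W →
      ∃ y ∈ B, e₁ y ∉ W ∧ e₁ y ∈ Ns W ∧ e₁ (y * y) ∈ W := fun B hB hSt hBW => by
    have h1 : W ⊓ Ns e₁.range ≤ Ns (B.map e₁) := fun m hm => by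
      obtain ⟨β, hβ⟩ := exists_ind c.inj hm.2
      refine hβ.mem_Ns_map (hSt (hβ.st c.inj (H98.mem_normalizer_of_cj_le ?_)))
      rintro _ ⟨x, hx, rfl⟩
      exact inf_left (H98.conj_mem_of_mem_normalizer (SU (WS hm.1)) (mem_sup_left hx))
        (H98.conj_mem_of_mem_normalizer hm.2 (map_le_range _ _ hx))
    obtain ⟨_, ⟨y, y1, rfl⟩, y2, y3, y4⟩ := exists_step hS.isPGroup (inf_le_left.trans WS)
      ((map_mono hB).trans U1) h1 fun h => hBW (h.trans inf_le_left)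
    have y5 : e₁ y ∈ Ns e₁.range := le_normalizer ⟨y, rfl⟩
    have y6 : w₀ * (e₁ y)⁻¹ * w₀⁻¹ ∈ e₂.range := by
      rw [← sw0.1]; exact conj_mem_cjs.2 (inv_mem ⟨y, rfl⟩)
    refine ⟨y, y1, fun h => y2 ⟨h, y5⟩, nor_of (t := t) inf_le_left w1 ⟨mul_mem w1 w1, ?_⟩ ?_
      (fun w h => ?_) y3 y4 (c.le_Cs y6 _ ⟨y, rfl⟩) WT hi' fun w h h' => ?_, by
        rw [map_mul]; exact y4.1⟩
    · exact H98.cj_eq_self_iff.1 ((cj_mul ..).trans ((congrArg (cjs w₀) sw0.1).trans sw0.2))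
    · refine H98.mem_normalizer_of_cj_le ?_
      rintro _ ⟨w, h, rfl⟩
      refine ⟨H98.conj_mem_of_mem_normalizer (le_normalizer w1) h.1, ?_⟩
      have h2 := ((g.pm w (WM h.1)).resolve_right fun k => ne
        (c.cjs_range.trans (k.1.symm.trans (H98.cj_eq_self_iff.2 h.2)))).2
      rw [← sw0.2, ← H64.SG.cj_Ns]
      exact conj_mem_cjs.2 h2
    · by_cases k : w ∈ Ns e₁.range
      exacts [Or.inl ⟨h, k⟩, Or.inr (mem_inf.2 ⟨mul_mem h (inv_mem w1), sw w h k⟩)]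
    · have h2 : cm (e₁ y) w₀ ∈ G12 e₁ e₂ := by
        rw [show cm (e₁ y) w₀ = e₁ y * (w₀ * (e₁ y)⁻¹ * w₀⁻¹) by unfold cm; group]
        exact mul_mem (mem_sup_left ⟨y, rfl⟩) (mem_sup_right y6)
      exact nsw _ (mul_mem (le_normalizer h2) (WM h.1)) h' (mul_mem (c.G12_le_Ns h2) h.2)
  have fin : ∀ y ∈ UX K, e₁ y ∉ W → e₁ y ∈ Ns W → e₁ (y * y) ∈ W →
      (y * y = 1 ∨ 2 < Nat.card ↥(W ⊓ e₁.range)) →
      (∀ s ∈ Ns (G12 e₁ e₂), IsConj t s → (e₁ y)⁻¹ * s ∈ W → Cs W ≤ Ns (G12 e₁ e₂)) → False := by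
    intro y y1 y2 y3 y4 y5 hC
    rw [map_mul] at y4
    obtain ⟨w, h1, m, m1, h2⟩ := hi _ y3 y2 y4
    have sM : e₁ y * w ∈ Ns (G12 e₁ e₂) := hS.le (mul_mem (U1 ⟨y, y1, rfl⟩) (WS h1))
    have mM := (H9.UF.jobK1 g.uf ta (hS.le aS)).1 m (h2 ▸ sM)
    have ts : IsConj t (e₁ y * w) := h2 ▸ ta.trans (H9.UF.conj_cj m a)
    have sW' : (e₁ y)⁻¹ * (e₁ y * w) ∈ W := by rwa [inv_mul_cancel_left]
    have kW' : (e₁ y * w * (m * b' * m⁻¹)) ^ k ∈ W := by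
      rw [h2, conj_mul, conj_pow]; exact H98.conj_mem_of_mem_normalizer m1 kW
    have h4 := hW2 e₁.range e₂.range W (e₁ y * w) (m * b' * m⁻¹) (e₁ y) k c.le_Cs'
      (by rw [show Cs e₁.range ⊓ Cs e₂.range = Cs (G12 e₁ e₂) from
        Subgroup.ext fun _ => mem_Cs_G12.symm]; exact g.odd)
      (H9.UF.inv2_conj g.uf.inv ts).1 (g.sw _ sM ts) (fun w hw => g.pm w (WM hw)) hW
      (mul_mem y3 (le_normalizer h1)) (mul_mem (mul_mem m1 bW) (inv_mem m1))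
      (H9.UF.inv2_conj g.uf.inv (tb.trans (H9.UF.conj_cj m b'))).1 ko kW' ⟨y, rfl⟩ y4 sW'
      (y5.imp_left e_sq)
    obtain ⟨i, j, e1, e2, e3⟩ := H64.SG.exists_two_odd (e₁ y * w * (m * b' * m⁻¹))
    have h5 := hC _ sM ts sW' (h4 _ (pow_mem (mem_zpowers _) j) e3)
    obtain ⟨r, hr⟩ := e2.exists_pow ko
    have h6 : (e₁ y * w * (m * b' * m⁻¹)) ^ i ∈ W := by
      rw [← hr, ← pow_mul _ i k, mul_comm i k, pow_mul]; exact pow_mem (pow_mem kW' i) r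
    have h7 := mul_mem (WM h6) h5
    rw [← e1] at h7
    have h8 := mul_mem (mul_mem (inv_mem mM) (mul_mem (inv_mem sM) h7)) mM
    exact bM (by simpa [mul_assoc] using h8)
  by_cases ca : (AX K).map e₁ ≤ W
  swap
  · obtain ⟨y, y1, y2, y3, y4⟩ := beta _ AX_le_UX (fun β h => (fa.n.nu β h).1) ca
    have yy := sq_AX y1
    refine fin y (AX_le_UX y1) y2 y3 y4 (Or.inl yy) fun s s1 s2 s3 m hm => ?_
    refine w3 s s1 s2 y ⟨yy, fun h => y2 (by rw [h, map_one]; exact one_mem _)⟩ (mem_Cz.2 (hm _ ?_))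
    rwa [e_inv yy] at s3
  have q4 := Qe.two (F := F) (K := K)
  have big : 2 < Nat.card ↥(W ⊓ e₁.range) := by
    refine lt_of_lt_of_le ?_ (card_le_of_le (le_inf ca (map_le_range _ _)))
    rw [card_map_of_injective c.inj, card_AX (F := F)]
    rw [q4]; norm_num
  have back : ∀ u ∈ UX K, w₀⁻¹ * e₂ u * w₀ ∈ (UX K).map e₁ := fun u hu => inf_left (by
    simpa using H98.conj_mem_of_mem_normalizer (inv_mem (SU (WS w1))) (mem_sup_right ⟨u, hu, rfl⟩))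
    (mem_cjs.1 (sw0.1 ▸ ⟨u, rfl⟩))
  have cc : ¬ (UX K).map e₁ ≤ W := fun h => hUW (sup_le h (by
    rintro _ ⟨u, hu, rfl⟩
    simpa [mul_assoc] using mul_mem (mul_mem w1 (h (back u hu))) (inv_mem w1)))
  obtain ⟨y, y1, y2, y3, y4⟩ := beta _ le_rfl le_rfl cc
  refine fin y y1 y2 y3 y4 (Or.inr big) fun _ _ _ _ => le_trans (centralizer_le ?_) g.cA
  rintro _ ⟨u, hu, rfl⟩
  rw [c.diag]
  refine mul_mem (ca ⟨u, hu, rfl⟩) ?_
  have h1 : (cjs w₀⁻¹ ((AX K).map e₂)).comap e₁ ≤ AX K := fa.i.jU _ (by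
    rintro v ⟨_, ⟨v', hv, rfl⟩, h2⟩
    obtain ⟨v'', h3, h4⟩ := back v' (AX_le_UX hv)
    rwa [← show v'' = v from c.inj (h4.trans (by simpa using h2))]) (fun v hv => c.inj (by
      rw [map_mul, map_one]; exact ((el_AX.map e₂).map _) _ hv)) (by
    rw [← card_map_of_injective c.inj, map_comap_eq_self (by
      rintro _ ⟨_, ⟨v, hv, rfl⟩, rfl⟩
      simpa using map_le_range _ _ (back v (AX_le_UX hv))), H67.SA.card_cjs,
      card_map_of_injective c.inj₂, card_AX (F := F)]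
    exact Nat.pow_lt_pow_right (by omega) (by norm_num))
  obtain ⟨v, -, h2⟩ := back u (AX_le_UX hu)
  have h3 : e₁ v ∈ W := ca ⟨v, h1 ⟨_, ⟨u, hu, rfl⟩, by simpa using h2.symm⟩, rfl⟩
  simpa [h2, mul_assoc] using mul_mem (mul_mem w1 h3) (inv_mem w1)

end H83.SV.WE
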