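import Cfsg.Agent.H83.SVFO
import Cfsg.Agent.H83.SVFN
import Cfsg.Agent.H83.SVFL
import Cfsg.Agent.H83.SVFI
import Cfsg.Agent.H83.SVFK
import Cfsg.Agent.H83.SVFT
import Cfsg.Agent.H83.SVFH
import Cfsg.Agent.H77.SVFS
import Cfsg.Agent.H79.SVA1
import Cfsg.Agent.H83.SVA2
import Cfsg.Agent.H83.SVAB
import Cfsg.Agent.H83.SVCo
import Cfsg.Agent.H83.SVN
import Cfsg.Agent.H83.SVSF
import Cfsg.Agent.H83.SVSW
import Cfsg.Agent.H83.SVFU
import Cfsg.Agent.H83.SVEF
import Cfsg.Agent.H83.SVWU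
import Cfsg.Agent.H66.SVW1a
import Cfsg.Agent.H13.SVW1b
import Cfsg.Agent.H83.SVW3
import Cfsg.Agent.H83.SVWE
import Cfsg.Agent.H81.W2
import Cfsg.Agent.H55.Transport

/-! STD-U at `q = 2` (row S3138, case `M = 2⁸`): the assembly of the slots, and the model-free form. -/

set_option autoImplicit false
set_option linter.unusedSectionVars false

namespace H83.SV

open H64.SG (O2 Syl Cz Cs Ns cjs Is2 Inv2 UF IsO2 fx mem_Cs mem_Cz)
open H67.SA (SLn Au x Gen mem_cI mem_cjs conj_mem_cjs card_cjs)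
open Matrix H57 Subgroup Cfsg
open scoped commutatorElement

universe u

theorem jobW2 : JobW2.{u} :=
  fun _ _ _ _ _ _ _ hc hodd ht hs hW hp tn bn hb hk hr y1 yy dw big _ ho oo =>
    H81.W2.core hc hodd ht hs hW hp tn bn hb hk hr y1 yy dw big ho oo

section Gen

variable {Y : Type*} [Group Y] {G : Type u} [Group G]

theorem comap_top [IsSimpleGroup Y] (f : Y →* G) (N : Subgroup G) [N.Normal] {a : Y} (h : a ≠ 1)
    (h' : f a ∈ N) : f.range ≤ N := by
  rcases IsSimpleGroup.eq_bot_or_eq_top_of_normal (N.comap f) inferInstance with h1 | h1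
  · exact absurd (mem_bot.1 (h1 ▸ h' : a ∈ (⊥ : Subgroup Y))) h
  · rintro _ ⟨s, rfl⟩; exact (h1 ▸ mem_top s : s ∈ N.comap f)

theorem exists_nc [Nontrivial Y] (hc : center Y = ⊥) : ∃ a b : Y, a * b * a⁻¹ * b⁻¹ ≠ 1 := by
  by_contra h
  push Not at h
  obtain ⟨a, ha⟩ := exists_ne (1 : Y)
  exact ha (mem_bot.1 (hc ▸ mem_center_iff.2 fun b => by
    rw [← mul_inv_eq_one, _root_.mul_inv_rev, ← mul_assoc, h]))

theorem hom_triv [IsSimpleGroup Y] (hc : center Y = ⊥) {A : Type*} [CommGroup A] (f : Y →* A) (s : Y) :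
    f s = 1 := by
  obtain ⟨a, b, h⟩ := exists_nc hc
  exact comap_top f ⊥ h (by simp) ⟨s, rfl⟩

end Gen

section Core

variable {F K : Type} [Field F] [Finite F] [CharP F 2] [Field K] [Algebra F K] [StarRing K] [CharP K 2]
  [Qe F K] [Finite K] {G : Type u} [Group G] [Finite G] {e : X K →* G} {t : G}

variable (F K) in
theorem facts : Fa.{u} F K :=
  have o := SVFO.jobFO.{u} F K
  have n := SVFN.jobFN F K o.1
  have l := SVFL.jobFL F K o.1
  ⟨o.1, o.2, n, l, SVFI.jobFI F K o.1 n l, SVFK.jobFK F K, SVFT.jobFT F K o.1 (SVFK.jobFK F K),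
    SVFH.jobFH F K, H77.SVFS.jobFS F K o.1 n l⟩

theorem CE.sub (h : CE e t) {H : Subgroup G} (h1 : ∀ s, e s ∈ H) (h2 : t ∈ H) :
    CE (e.codRestrict H h1) ⟨t, h2⟩ := by
  refine ⟨⟨fun a b h3 => h.inj (congrArg Subtype.val h3),
    ⟨Subtype.ext h.inv.1, fun h3 => h.inv.2 (congrArg Subtype.val h3)⟩,
    mem_Cs_range.2 fun s => Subtype.ext (h.comm s).symm, fun g hg => ?_⟩, fun R h3 h4 => ?_⟩
  · obtain ⟨β, hβ⟩ := exists_ind h.inj (h.cz (mem_Cz.2 (congrArg Subtype.val (mem_Cz.1 hg))))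
    exact Ind.mem_Ns (β := β) fun s => Subtype.ext (hβ s)
  · rw [← card_map_of_injective H.subtype_injective]
    refine h.two _ ?_ (h4.map _)
    rintro _ ⟨r, hr, rfl⟩
    exact mem_Cs_range.2 fun s => congrArg Subtype.val (mem_Cs_range.1 (h3 hr) s)

theorem field_case (fa : Fa.{u} F K) (ce : CE e t) {Φ : SLn 3 K →* G}
    (c : CF e t Φ) : normalClosure (e.range : Set G) = Φ.range := by
  set N := normalClosure (e.range : Set G)
  have := fa.o.simple
  have : IsSimpleGroup (SLn 3 K) := by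
    have := psl_isSimpleGroup_of_three_le (ι := Fin 4) (F := K) (by simp)
    exact ((QuotientGroup.quotientMulEquivOfEq fa.k.cen).trans
      QuotientGroup.quotientBot).symm.isSimpleGroup
  have eN : ∀ s, e s ∈ N := fun s => subset_normalClosure ⟨s, rfl⟩
  obtain ⟨a, ha⟩ := exists_ne (1 : X K)
  have h1 : Φ.range ≤ N := comap_top Φ N (a := a.1) (fun h => ha (Subtype.ext h)) (c.res a ▸ eN a)
  let H := N ⊔ zpowers t
  have tH : t ∈ H := mem_sup_right (mem_zpowers t)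
  have ce' := ce.sub (H := H) (fun s => mem_sup_left (eN s)) tH
  have c' : CF (e.codRestrict H fun s => mem_sup_left (eN s)) ⟨t, tH⟩
      (Φ.codRestrict H fun s => mem_sup_left (h1 ⟨s, rfl⟩)) :=
    ⟨fun a b h => c.inj (congrArg Subtype.val h), fun s => Subtype.ext (c.res s),
      fun s => Subtype.ext (c.act s)⟩
  have ab' := SVAB.jobAB F K fa H _ _ ce'.b0
  have gf := SVE.jobFU F K fa H _ _ _ ce' ab' c'
  have gen : Gen (⟨t, tH⟩ : H) := fun A _ V g => by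
    have h2 : N ≤ V.ker.map H.subtype := (closure_le _).2 fun a ha => by
      obtain ⟨_, ⟨s, rfl⟩, hb⟩ := Group.mem_conjugatesOfSet_iff.1 ha
      obtain ⟨g, rfl⟩ := isConj_iff.1 hb
      have h3 : ∀ s, cje g e s ∈ H := fun s => mem_sup_left (Normal.conj_mem inferInstance _ (eN s) g)
      exact ⟨⟨_, h3 s⟩, hom_triv fa.o.cen (V.comp ((cje g e).codRestrict H h3)) s, rfl⟩
    obtain ⟨n, hn, a, ha, h3⟩ := (H98.mem_sup_right_norm le_normalizer_of_normal).1 g.2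
    obtain ⟨n', hn', rfl⟩ := h2 hn
    rcases (mem_zpowers_two ce.inv.1).1 ha with rfl | rfl
    · left
      rw [show g = n' from Subtype.ext (h3.trans (mul_one _))]; exact hn'
    · right
      rw [show g = n' * ⟨a, tH⟩ from Subtype.ext h3, map_mul, MonoidHom.mem_ker.1 hn', one_mul]
  have h3 := SVE.jobEF F K fa H _ _ _ ce' ab' c' gf (SVE.jobNF F K fa H _ _ _ ce' ab' c' gf)
    (SVE.jobDF F K fa H _ _ _ ce' ab' c' gf) gen
  have h4 : ∀ n ∈ N, ∀ y ∈ Φ.range, n * y * n⁻¹ ∈ Φ.range := by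
    rintro n hn _ ⟨s, rfl⟩
    obtain ⟨s', hs⟩ := (normalizer_eq_top_iff.1 h3).conj_mem _ ⟨s, rfl⟩ (⟨n, mem_sup_left hn⟩ : H)
    exact ⟨s', congrArg Subtype.val hs⟩
  have : Φ.range.Normal := ⟨fun y hy g => by
    obtain ⟨s, rfl⟩ := hy
    have h5 : ∀ s, cje g Φ s ∈ N := fun s => Normal.conj_mem inferInstance _ (h1 ⟨s, rfl⟩) g
    have h6 : ∀ a b, cje g Φ a * Φ b * (cje g Φ a)⁻¹ * (Φ b)⁻¹ ∈ Φ.range := fun a b =>
      mul_mem (h4 _ (h5 a) _ ⟨b, rfl⟩) (inv_mem ⟨b, rfl⟩)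
    have h7 : ∀ a b, ∃ s, cje g Φ s = cje g Φ a * Φ b * (cje g Φ a)⁻¹ * (Φ b)⁻¹ := fun a b => by
      obtain ⟨s, hs⟩ := h4 (g⁻¹ * Φ b * g⁻¹⁻¹) (Normal.conj_mem inferInstance _ (h1 ⟨b, rfl⟩) _) _
        ⟨a⁻¹, rfl⟩
      exact ⟨a * s, by rw [map_mul, cje_apply (s := s), hs, map_inv, cje_apply]; group⟩
    rcases IsSimpleGroup.eq_bot_or_eq_top_of_normal (Φ.range.comap (cje g Φ)) ⟨fun a ha b => by
      simpa only [mem_comap, map_mul, map_inv] using h4 _ (h5 b) _ ha⟩ with h8 | h8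
    · exfalso
      have h9 := ce.two ((AX K).map (cje g e)) (by
        rintro _ ⟨a, -, rfl⟩
        refine mem_Cs_range.2 fun b => ?_
        obtain ⟨s, hs⟩ := h7 a.1 b.1
        have h9 : s = 1 := mem_bot.1 (h8 ▸ (mem_comap.2 (hs ▸ h6 _ _)))
        rw [h9, map_one, eq_comm, mul_inv_eq_one, mul_inv_eq_iff_eq_mul, cje_apply, c.res, c.res] at hs
        exact hs.symm) (el_AX.map _).isP
      rw [card_map_of_injective (cje_inj ce.inj g), card_AX (F := F)] at h9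
      rw [Qe.two (K := K)] at h9
      omega
    · exact (h8 ▸ mem_top s : s ∈ Φ.range.comap (cje g Φ))⟩
  exact le_antisymm (normalClosure_le_normal c.le) h1

theorem wreath_case (fa : Fa.{u} F K) (ce : CE e t) (ab : AB F e t)
    {e₁ e₂ : X K →* G} (c : CW e t e₁ e₂) : normalClosure (e.range : Set G) = G12 e₁ e₂ := by
  have gw := SVWU.jobWU F K fa G e t e₁ e₂ ce ab c
  have : (G12 e₁ e₂).Normal := normalizer_eq_top_iff.1 (WE.jobWE jobW2 F K fa G e t e₁ e₂ ce ab c gw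
    (H66.SVW.jobW1a F K fa G e t e₁ e₂ ce ab c gw) (H13.SVW.jobW1b F K fa G e t e₁ e₂ ce ab c gw)
    (SVW3.jobW3 F K fa G e t e₁ e₂ ce ab c gw))
  have := fa.o.simple
  obtain ⟨a, b, h⟩ := exists_nc fa.o.cen
  have eN : e b ∈ normalClosure (e.range : Set G) := subset_normalClosure ⟨b, rfl⟩
  have h1 := comap_top e₁ (normalClosure (e.range : Set G)) h (by
    convert mul_mem (Normal.conj_mem inferInstance _ eN (e₁ a)) (inv_mem eN) using 1
    rw [c.diag, map_mul, map_mul, map_mul, ← map_inv e₁ a, mul_assoc (e₁ a) (e₁ b * e₂ b),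
      mul_assoc (e₁ b), ← c.comm, map_inv e₁ b]
    group)
  refine le_antisymm (normalClosure_le_normal c.le) (sup_le h1 ?_)
  rintro _ ⟨s, rfl⟩
  exact c.sw s ▸ Normal.conj_mem inferInstance _ (h1 ⟨s, rfl⟩) t

theorem core (ce : CE e t) {M : Subgroup G} {θ : G → VA F K} (m0 : M0 e t M θ) :
    Nonempty (normalClosure (e.range : Set G) ≃* ProjectiveSpecialLinearGroup (Fin 4) K) ∨
      Nonempty (normalClosure (e.range : Set G) ≃* X K × X K) := by
  have fa := facts.{u} F K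
  have ab := SVAB.jobAB F K fa G e t ce.b0
  obtain ⟨az, bm, co⟩ := SVCo.jobCo H79.SVA.jobA1 F K fa G e t ce.toB1 M θ m0
  obtain ⟨γ, β, κ, σ, tri⟩ := N.jobN F K fa G e t ce ab M az bm co
  rcases A2.jobA2 F K γ β κ σ (R.jobR F K fa G e t ce.toB1 M az bm γ β κ σ co tri) with
    ⟨p, p', ψ, fd⟩ | ⟨v, y, wd⟩
  · obtain ⟨Φ, c⟩ := SF.jobSF F K fa G e t ce ab M az bm γ β κ σ p p' ψ co tri fd
    exact Or.inl ⟨(MulEquiv.subgroupCongr (field_case fa ce c)).trans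
      ((MonoidHom.ofInjective c.inj).symm.trans ((QuotientGroup.quotientMulEquivOfEq fa.k.cen).trans
        QuotientGroup.quotientBot).symm)⟩
  · obtain ⟨e₁, e₂, c⟩ := SW.jobSW F K fa G e t ce ab M az bm γ β κ σ v y co tri wd
    exact Or.inr ⟨(MulEquiv.subgroupCongr ((wreath_case fa ce ab c).trans
      (MonoidHom.noncommCoprod_range ..).symm)).trans
        (MonoidHom.ofInjective (c.cop_inj fa.o.cen)).symm⟩

/-- `A` is an irreducible module for the Levi subgroup. -/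
theorem irr (l : FL F K) {S : AddSubgroup (VA F K)}
    (h : ∀ g ∈ Lv F K, ∀ v w : VA F K, g * xa v * g⁻¹ = xa w → (v ∈ S ↔ w ∈ S)) {v : VA F K}
    (h0 : v ≠ 0) (hv : v ∈ S) (w : VA F K) : w ∈ S := by
  obtain ⟨c, b, d⟩ := w
  by_cases h1 : dt v = 0
  · have k : ∀ w : VA F K, dt w = 0 → w ∈ S := fun w hw => by
      by_cases h2 : w = 0
      · exact h2 ▸ S.zero_mem
      obtain ⟨g, hg, e1⟩ := l.trS v h0 h1
      obtain ⟨g', hg', e2⟩ := l.trS w h2 hw
      exact (h g' hg' _ _ e2).1 ((h g hg _ _ e1).2 hv)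
    have := S.add_mem (S.add_mem (k (c + 1, 0, 0) (by simp [dt, nm_zero]))
      (k (0, 0, d + nm F b) (by simp [dt, nm_zero]))) (k (1, b, nm F b) (by simp [dt, k2]))
    simpa [add_assoc, k2] using this
  · have k : ∀ w : VA F K, dt w ≠ 0 → w ∈ S := fun w hw => by
      obtain ⟨g, hg, e1⟩ := l.trN v h1
      obtain ⟨g', hg', e2⟩ := l.trN w hw
      exact (h g' hg' _ _ e2).1 ((h g hg _ _ e1).2 hv)
    have k1 : ∀ b : K, ((0, b, 0) : VA F K) ∈ S := fun b => by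
      by_cases h2 : b = 0
      · exact h2 ▸ S.zero_mem
      · exact k _ (by simpa [dt, nm_eq_zero] using h2)
    have := S.add_mem (S.add_mem (k (c, 1, 0) (by simp [dt, nm_one]))
      (k (0, 1, d) (by simp [dt, nm_one]))) (k1 b)
    simpa [add_assoc, k2] using this

theorem exists_M0 (fa : Fa.{u} F K) (ce : CE e t) {M : Subgroup G} (AM : (AX K).map e ≤ M) (eM : El M)
    (th : ∀ m ∈ M, ∃ a ∈ (AX K).map e, m * t * m⁻¹ = t * a) (nt : ∃ m ∈ M, m * t ≠ t * m)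
    (nor : ∀ l ∈ Ns (AX K), e l ∈ Ns M)
    (odd : ∀ o ∈ Cs e.range, o ∈ Cz t → Odd (orderOf o) → o ∈ Cs M) :
    ∃ θ : G → VA F K, M0 e t M θ := by
  classical
  have th' : ∀ m, ∃ v : VA F K, m ∈ M → m * t * m⁻¹ = t * e (xa v) := fun m => by
    by_cases hm : m ∈ M
    · obtain ⟨_, ⟨a, ha, rfl⟩, h1⟩ := th m hm
      obtain ⟨v, rfl⟩ := (mem_AX (F := F)).1 ha
      exact ⟨v, fun _ => h1⟩
    · exact ⟨0, fun h => absurd h hm⟩
  choose θ hθ using th'
  have xm : ∀ v : VA F K, e (xa v) ∈ M := fun v => AM ⟨_, xa_mem_AX v, rfl⟩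
  have cen : M ≤ Cs ((AX K).map e) := fun m hm => mem_Cs.2 fun a ha => eM.comm (AM ha) hm
  have un : ∀ {v w : VA F K}, t * e (xa v) = t * e (xa w) → v = w := fun h =>
    xa_inj (ce.inj (mul_left_cancel h))
  obtain ⟨m₀, hm₀, n₀⟩ := nt
  have ct : ∀ k ∈ Cs ((AX K).map e), k ∈ Cz t → ∃ v : VA F K, k * (e (xa v))⁻¹ ∈ Cs e.range :=
    fun k h1 h2 => by
    obtain ⟨β, hβ⟩ := exists_ind ce.inj (ce.cz h2)
    obtain ⟨z, hz, rfl⟩ := mem_cI.1 (fa.n.ctA β (hβ.fix ce.inj h1))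
    obtain ⟨v, rfl⟩ := (mem_AX (F := F)).1 hz
    exact ⟨v, ind_conj_iff.1 hβ⟩
  have fix : ∀ m ∈ M, m * t * m⁻¹ = t → m ∈ (AX K).map e := fun m hm h1 => by
    have h2 : m ∈ Cz t := mem_Cz.2 (mul_inv_eq_iff_eq_mul.1 h1).symm
    obtain ⟨v, hv⟩ := ct m (cen hm) h2
    have h3 := mul_mem hm (inv_mem (xm v))
    rcases ce.b0.eq_or hv (eM _ h3) (mem_Cz.1 (mul_mem h2 (inv_mem (ce.mem_Cz _)))) with h4 | h4
    · exact ⟨_, xa_mem_AX v, (mul_inv_eq_one.1 h4).symm⟩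
    · exact absurd (eM.comm hm₀ (h4 ▸ h3)) n₀
  let S : AddSubgroup (VA F K) :=
    { carrier := {v | ∃ m ∈ M, m * t * m⁻¹ = t * e (xa v)}
      zero_mem' := ⟨1, one_mem _, by simp [xa_zero]⟩
      add_mem' := by
        rintro v w ⟨m, hm, h1⟩ ⟨m', hm', h2⟩
        refine ⟨m * m', mul_mem hm hm', ?_⟩
        calc _ = m * (m' * t * m'⁻¹) * m⁻¹ := by group
          _ = m * t * m⁻¹ * (m * e (xa w) * m⁻¹) := by rw [h2]; group
          _ = _ := by rw [h1, eM.comm hm (xm w), mul_inv_cancel_right, xa_add, map_mul, mul_assoc]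
      neg_mem' := fun {v} h => by rwa [neg_eq_of_add_eq_zero_left (va2 v)] }
  have inv : ∀ g ∈ Lv F K, ∀ v w : VA F K, g * xa v * g⁻¹ = xa w → v ∈ S → w ∈ S := by
    rintro g hg v w h1 ⟨m, hm, h2⟩
    refine ⟨_, H98.conj_mem_of_mem_normalizer (nor g (Lv_le_Ns hg)) hm, ?_⟩
    calc _ = e g * (m * ((e g)⁻¹ * t * (e g)⁻¹⁻¹) * m⁻¹) * (e g)⁻¹ := by group
      _ = _ := by
        rw [← map_inv, ce.conj_t, h2, map_inv, cjm, ce.conj_t, ← map_inv, ← map_mul, ← map_mul, h1]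
  have onto : ∀ v : VA F K, ∃ m ∈ M, m * t * m⁻¹ = t * e (xa v) :=
    irr fa.l (S := S) (fun g hg v w h => ⟨inv g hg v w h, inv g⁻¹ (inv_mem hg) w v (by rw [← h]; group)⟩)
      (v := θ m₀) (fun h => n₀ (by
        have := hθ m₀ hm₀
        rw [h, xa_zero, map_one, mul_one] at this
        exact mul_inv_eq_iff_eq_mul.1 this)) ⟨m₀, hm₀, hθ m₀ hm₀⟩
  refine ⟨θ, AM, cen, fun m hm => hθ m hm, fun v => ?_, fun m hm h => fix m hm ?_, eM,
    fun l hl => nor l (Lv_le_Ns hl), ?_⟩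
  · obtain ⟨m, hm, h⟩ := onto v
    exact ⟨m, hm, un ((hθ m hm).symm.trans h)⟩
  · rw [hθ m hm, h, xa_zero, map_one, mul_one]
  rintro k hk k2 ⟨v, hv⟩
  obtain ⟨m, hm, h1⟩ := onto v
  have h2 : m⁻¹ * k ∈ Cz t := mem_Cz.2 (by
    calc _ = m⁻¹ * (m * t * m⁻¹) * k := by group
      _ = _ := by rw [h1, ← hv]; group)
  obtain ⟨w, hw⟩ := ct _ (mul_mem (inv_mem (cen hm)) hk) h2
  have h3 := mul_mem h2 (inv_mem (ce.mem_Cz (xa w)))
  have h4 : k = m * e (xa w) * (m⁻¹ * k * (e (xa w))⁻¹) := by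
    rw [mul_assoc m, mem_Cs_range.1 hw]; group
  have h5 := mul_mem hm (xm w)
  generalize m⁻¹ * k * (e (xa w))⁻¹ = c at hw h3 h4
  generalize m * e (xa w) = n at h4 h5
  obtain ⟨a, j, ⟨i, rfl⟩, h6⟩ := Nat.exists_eq_two_pow_mul_odd (orderOf_pos c).ne'
  have h7 := ce.eq_or (pow_mem hw (2 * i + 1)) ⟨a, by rw [← pow_mul, mul_comm, ← h6, pow_orderOf_eq_one]⟩
    (mem_Cz.1 (pow_mem h3 _))
  have h8 : (c ^ 2) ^ (2 * i + 1) = 1 := by
    rw [← pow_mul, mul_comm, pow_mul, pow_two]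
    rcases h7 with h | h <;> rw [h]
    exacts [one_mul _, ce.inv.1]
  have h9 : Odd (orderOf ((c ^ 2) ^ i)) :=
    (Odd.of_dvd_nat ⟨i, rfl⟩ (orderOf_dvd_of_pow_eq_one h8)).of_dvd_nat (orderOf_pow_dvd i)
  have c1 := odd _ (pow_mem (pow_mem hw 2) i) (pow_mem (pow_mem h3 2) i) h9
  have c2 : c * (c ^ 2) ^ i = c ^ (2 * i + 1) := by rw [← pow_mul, pow_succ']
  have c3 : Commute c ((c ^ 2) ^ i) := ((Commute.refl c).pow_right 2).pow_right i
  generalize (c ^ 2) ^ i = o at h9 c1 c2 c3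
  have c4 : Commute k o := h4 ▸ Commute.mul_left (mem_Cs.1 c1 n h5) c3
  have c5 : k * o = n * c ^ (2 * i + 1) := by rw [h4, mul_assoc, c2]
  have c6 : (k * o) ^ 2 ∈ M := by
    rw [c5]
    rcases h7 with h | h <;> rw [h]
    · exact pow_mem (mul_mem h5 (one_mem _)) 2
    · obtain ⟨b, hb, h⟩ := th n h5
      rw [show (n * t) ^ 2 = n * t * n⁻¹ * (n * n) * t by rw [pow_two]; group, eM n h5, mul_one, h,
        mul_assoc, ← mem_Cs.1 (Cs_range_le _ ce.cen) b hb |>.symm, ← mul_assoc, ce.inv.1, one_mul]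
      exact AM hb
  have c7 : o = 1 := by
    have := eM _ c6
    rw [c4.mul_pow, pow_two k, k2, one_mul, ← pow_add] at this
    exact orderOf_eq_one_iff.1 (Nat.Coprime.eq_one_of_dvd
      ((Nat.coprime_two_right.2 h9).pow_right 2) (orderOf_dvd_of_pow_eq_one this))
  rw [c7, mul_one] at c5
  rcases h7 with h | h <;> rw [h] at c5
  · exact Or.inl (c5 ▸ mul_mem h5 (one_mem _))
  · obtain ⟨a, ha, rfl⟩ := fix n h5 (by
      rw [c5, ← mul_assoc] at k2
      rw [inv_eq_of_mul_eq_one_right (eM n h5), eq_inv_of_mul_eq_one_left k2, ce.inv_eq])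
    obtain ⟨v, rfl⟩ := (mem_AX (F := F)).1 ha
    exact Or.inr ⟨v, by rw [c5, ce.comm]⟩

end Core

open FiniteField in
/-- The quadratic extension with its involution. -/
theorem exists_Qe (F : Type) [Field F] [Finite F] [CharP F 2] (h : Nat.card F = 2) :
    ∃ (K : Type) (_ : Field K) (_ : Algebra F K) (_ : StarRing K) (_ : CharP K 2) (_ : Finite K),
      Qe F K := by
  let f := Extension.frob F 2 2
  have ff : ∀ a, f (f a) = a := fun a => by
    have := Fintype.ofFinite (Extension F 2 2)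
    change (f * f) a = a
    rw [← pow_two, Extension.frob_iterate_apply, ← natCard_extension F 2 2, Nat.card_eq_fintype_card,
      pow_card]
  let _ : StarRing (Extension F 2 2) :=
    { star := f
      star_involutive := ff
      star_mul := fun a b => (map_mul f a b).trans (mul_comm _ _)
      star_add := map_add f }
  refine ⟨Extension F 2 2, _, _, _, charP_of_injective_algebraMap (algebraMap F _).injective 2,
    inferInstance, ⟨fun a => ⟨fun ha => ?_, ?_⟩, natCard_extension F 2 2, h⟩⟩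
  · refine (IsGalois.mem_range_algebraMap_iff_fixed a).2 fun g => ?_
    obtain ⟨i, hi, rfl⟩ := Extension.exists_frob_pow_eq F 2 2 g
    interval_cases i
    · rfl
    · exact ha
  · rintro ⟨c, rfl⟩
    exact f.commutes c

/-- Row S3138, case `M = 2⁸`, model-free form. -/
theorem mainE {G : Type u} [Group G] [Finite G] {F : Type*} [Field F] [Fintype F]
    (hF : Fintype.card F = 4) {L A M : Subgroup G} {t : G} (hLX : Nonempty (L ≃* PSU 4 F 2))
    (AL : A ≤ L) (cA : Nat.card A = 16) (t2 : t * t = 1) (tc : t ∈ Cs L) (cz : Cz t ≤ Ns L)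
    (two : ∀ R ≤ Cs L, IsPGroup 2 R → Nat.card R ≤ 2) (AM : A ≤ M) (eM : ∀ m ∈ M, m * m = 1)
    (th : ∀ m ∈ M, ∃ a ∈ A, m * t * m⁻¹ = t * a) (nt : ∃ m ∈ M, m * t ≠ t * m)
    (nor : ∀ l ∈ L, l ∈ Ns A → l ∈ Ns M)
    (odd : ∀ o ∈ Cs L, o ∈ Cz t → Odd (orderOf o) → o ∈ Cs M) :
    Nonempty (normalClosure (L : Set G) ≃* ProjectiveSpecialLinearGroup (Fin 4) F) ∨
      Nonempty (normalClosure (L : Set G) ≃* L × L) := by
  obtain ⟨ε⟩ := hLX
  have hc : Nat.card (ZMod 2) = 2 := Nat.card_zmod 2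
  obtain ⟨K, _, _, _, _, _, _⟩ := exists_Qe (ZMod 2) hc
  have fa := facts.{u} (ZMod 2) K
  let _ : Fintype K := Fintype.ofFinite K
  have hK : Fintype.card K = 4 := by
    rw [← Nat.card_eq_fintype_card, Qe.card (F := ZMod 2), hc]; rfl
  obtain ⟨ι⟩ := fa.o.iso
  rw [hc] at ι
  let φ := FiniteField.ringEquivOfCardEq (hK.trans hF.symm)
  let ρ : X K ≃* L := (ι.trans (H55.psuCongr φ 4 2)).trans ε.symm
  let e₀ : X K →* G := L.subtype.comp ρ.toMonoidHom
  have i₀ : Function.Injective e₀ := L.subtype_injective.comp ρ.injective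
  have he₀ : e₀.range = L := by
    rw [← MonoidHom.map_range, MonoidHom.range_eq_top.2 ρ.surjective, ← MonoidHom.range_eq_map,
      range_subtype]
  have a1 : (A.comap e₀).map e₀ = A := map_comap_eq_self (he₀ ▸ AL)
  have a2 : El (A.comap e₀) := fun y hy => i₀ (by rw [map_mul, map_one, eM _ (AM hy)])
  have a3 : Nat.card (A.comap e₀) = 16 := by rw [← card_map_of_injective i₀, a1, cA]
  obtain ⟨g, -, hg⟩ := (H64.SG.syl_iff.1 fa.o.syl).exists_cj_le a2.isP le_top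
  have a4 : cjs g (A.comap e₀) = AX K := eq_of_le_of_card_ge
    (fa.i.jU _ hg (a2.map _) (by rw [card_cjs, a3, hc]; norm_num))
    (by rw [card_cjs, a3, card_AX (F := ZMod 2), hc]; norm_num)
  let e : X K →* G := e₀.comp (MulAut.conj g⁻¹).toMonoidHom
  have ie : Function.Injective e := i₀.comp (MulAut.conj g⁻¹).injective
  have he : e.range = L := by
    rw [← MonoidHom.map_range, MonoidHom.range_eq_top.2 (MulAut.conj g⁻¹).surjective,
      ← MonoidHom.range_eq_map, he₀]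
  have hA : (AX K).map e = A := by
    rw [← a4, ← a1, ← Subgroup.map_map]
    congr 1
    ext y
    rw [a1]
    exact ⟨fun ⟨_, ⟨z, hz, rfl⟩, h⟩ => by simpa [← h, mul_assoc] using hz,
      fun h => ⟨_, conj_mem_cjs.2 h, by simp [mul_assoc]⟩⟩
  clear_value e
  clear a1 a2 a3 a4 hg he₀ i₀ e₀ ρ ε
  subst he hA
  have ce : CE e t := ⟨⟨ie, ⟨t2, fun h => by obtain ⟨m, -, h1⟩ := nt; simp [h] at h1⟩, tc, cz⟩, two⟩
  obtain ⟨θ, m0⟩ := exists_M0 fa ce AM eM th nt (fun l hl => nor _ ⟨l, rfl⟩ (map_mem_Ns hl)) odd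
  have ψ := MonoidHom.ofInjective ie
  exact (core ce m0).imp (fun ⟨h⟩ => ⟨h.trans (H55.pslCongr φ)⟩) fun ⟨h⟩ => ⟨h.trans (ψ.prodCongr ψ)⟩

/-- The same, from one involution `w`. -/
theorem mainW {G : Type u} [Group G] [Finite G] {F : Type*} [Field F] [Fintype F]
    (hF : Fintype.card F = 4) {L A : Subgroup G} {t w : G} (hLX : Nonempty (L ≃* PSU 4 F 2))
    (AL : A ≤ L) (eA : ∀ a ∈ A, a * a = 1) (cA : Nat.card A = 16) (t2 : t * t = 1) (tc : t ∈ Cs L)
    (cz : Cz t ≤ Ns L) (two : ∀ R ≤ Cs L, IsPGroup 2 R → Nat.card R ≤ 2) (w2 : w * w = 1)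
    (wA : w ∈ Cs A) (wt : ∃ a ∈ A, a ≠ 1 ∧ w * t * w⁻¹ = t * a)
    (wc : ∀ l ∈ L, l ∈ Ns A → Commute w (l * w * l⁻¹))
    (wo : ∀ o ∈ Cs L, o ∈ Cz t → Odd (orderOf o) → Commute o w) :
    Nonempty (normalClosure (L : Set G) ≃* ProjectiveSpecialLinearGroup (Fin 4) F) ∨
      Nonempty (normalClosure (L : Set G) ≃* L × L) := by
  let S : Set G := {g | g ∈ A ∨ ∃ l ∈ L, l ∈ Ns A ∧ g = l * w * l⁻¹}
  obtain ⟨z, hz, z1, wt⟩ := wt
  have lt : ∀ l ∈ L, l * t * l⁻¹ = t := fun l hl => mul_inv_eq_iff_eq_mul.2 (mem_Cs.1 tc l hl)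
  have cS : ∀ l ∈ L, l ∈ Ns A → l * w * l⁻¹ ∈ Cs A := fun l _ hl =>
    H98.conj_mem_of_mem_normalizer (H98.normalizer_le_normalizer_centralizer _ hl) wA
  have c1 : ∀ a ∈ S, ∀ b ∈ S, Commute a b := by
    rintro a (ha | ⟨l, hl, hl', rfl⟩) b (hb | ⟨l', hm, hm', rfl⟩)
    · exact El.comm eA ha hb
    · exact mem_Cs.1 (cS l' hm hm') a ha
    · exact (mem_Cs.1 (cS l hl hl') b hb).symm
    · have := (wc (l⁻¹ * l') (mul_mem (inv_mem hl) hm) (mul_mem (inv_mem hl') hm')).map (MulAut.conj l)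
      rw [MulAut.conj_apply, MulAut.conj_apply] at this
      convert this using 1
      group
  have c2 : closure S ≤ Cs (closure S) := by
    rw [Cs, centralizer_closure]
    exact (closure_le _).2 fun a ha b hb => c1 b hb a ha
  have AM : A ≤ closure S := fun a ha => subset_closure (Or.inl ha)
  have wS : w ∈ S := Or.inr ⟨1, one_mem _, one_mem _, by simp⟩
  refine mainE hF hLX AL cA t2 tc cz two AM (fun m hm => ?_) (fun m hm => ?_)
    ⟨w, subset_closure wS, fun h => z1 (by rwa [h, mul_inv_cancel_right, left_eq_mul] at wt)⟩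
    (fun l hl hl' => ?_) fun o h1 h2 h3 => ?_
  · induction hm using closure_induction with
    | mem a ha =>
      rcases ha with ha | ⟨l, -, -, rfl⟩
      · exact eA a ha
      · rw [conj_mul, w2]; simp
    | one => simp
    | mul a b ha hb h1 h2 =>
      rw [mul_assoc, ← mul_assoc b, mem_Cs.1 (c2 ha) b hb, mul_assoc, h2, mul_one, h1]
    | inv a _ h => rw [← _root_.mul_inv_rev, h, inv_one]
  · induction hm using closure_induction with
    | mem a ha =>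
      rcases ha with ha | ⟨l, hl, hl', rfl⟩
      · exact ⟨1, one_mem _, by rw [lt a (AL ha), mul_one]⟩
      · refine ⟨l * z * l⁻¹, H98.conj_mem_of_mem_normalizer hl' hz, ?_⟩
        calc _ = l * (w * (l⁻¹ * t * l⁻¹⁻¹) * w⁻¹) * l⁻¹ := by group
          _ = _ := by rw [lt _ (inv_mem hl), wt, cjm, lt l hl]
    | one => exact ⟨1, one_mem _, by simp⟩
    | mul a b ha _ h1 h2 =>
      obtain ⟨c, hc, h1⟩ := h1
      obtain ⟨d, hd, h2⟩ := h2
      refine ⟨c * d, mul_mem hc hd, ?_⟩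
      calc _ = a * (b * t * b⁻¹) * a⁻¹ := by group
        _ = _ := by rw [h2, cjm, h1, ← mem_Cs.1 (c2 ha) d (AM hd), mul_inv_cancel_right, mul_assoc]
    | inv a ha h =>
      obtain ⟨c, hc, h⟩ := h
      refine ⟨c⁻¹, inv_mem hc, ?_⟩
      calc _ = a⁻¹ * (t * c) * a * (a⁻¹ * c⁻¹ * a) := by group
        _ = _ := by rw [← h, mul_assoc a⁻¹ c⁻¹, mem_Cs.1 (c2 ha) _ (AM (inv_mem hc))]; group
  · refine H98.mem_normalizer_of_cj_le ((MonoidHom.map_closure ..).trans_le (closure_mono ?_))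
    rintro _ ⟨a, ha | ⟨l', h1, h2, rfl⟩, rfl⟩
    · exact Or.inl (H98.conj_mem_of_mem_normalizer hl' ha)
    · exact Or.inr ⟨l * l', mul_mem hl h1, mul_mem hl' h2, by simp [mul_assoc]⟩
  · rw [Cs, centralizer_closure]
    rintro a (ha | ⟨l, hl, -, rfl⟩)
    · exact mem_Cs.1 h1 a (AL ha)
    · have c : Commute o l := (mem_Cs.1 h1 l hl).symm
      exact ((c.mul_right (wo o h1 h2 h3)).mul_right c.inv_right).symm

end H83.SV
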