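import Cfsg.Agent.H83.SVDef

/-! STD-U at `q = 2` API: matrices, relations, membership and orders in `X = SU₄(q)`. -/

set_option autoImplicit false
set_option linter.unusedSectionVars false
set_option linter.unusedSimpArgs false

namespace H83.SV

open H64.SG (O2 Syl Cz Cs Ns cjs Is2 Inv2 UF IsO2 fx mem_fx)
open H67.SA Matrix H57 Subgroup

theorem k2 {R : Type} [Field R] [CharP R 2] (a : R) : a + a = 0 := CharTwo.add_self_eq_zero a
theorem two0 (R : Type) [Field R] [CharP R 2] : (2 : R) = 0 := CharTwo.two_eq_zero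

theorem mul4 {R : Type} [CommRing R] (a00 a01 a02 a03 a10 a11 a12 a13 a20 a21 a22 a23 a30 a31 a32 a33
    b00 b01 b02 b03 b10 b11 b12 b13 b20 b21 b22 b23 b30 b31 b32 b33 : R) :
    !![a00, a01, a02, a03; a10, a11, a12, a13; a20, a21, a22, a23; a30, a31, a32, a33] *
    !![b00, b01, b02, b03; b10, b11, b12, b13; b20, b21, b22, b23; b30, b31, b32, b33] =
    !![a00 * b00 + a01 * b10 + a02 * b20 + a03 * b30, a00 * b01 + a01 * b11 + a02 * b21 + a03 * b31,
      a00 * b02 + a01 * b12 + a02 * b22 + a03 * b32, a00 * b03 + a01 * b13 + a02 * b23 + a03 * b33;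
      a10 * b00 + a11 * b10 + a12 * b20 + a13 * b30, a10 * b01 + a11 * b11 + a12 * b21 + a13 * b31,
      a10 * b02 + a11 * b12 + a12 * b22 + a13 * b32, a10 * b03 + a11 * b13 + a12 * b23 + a13 * b33;
      a20 * b00 + a21 * b10 + a22 * b20 + a23 * b30, a20 * b01 + a21 * b11 + a22 * b21 + a23 * b31,
      a20 * b02 + a21 * b12 + a22 * b22 + a23 * b32, a20 * b03 + a21 * b13 + a22 * b23 + a23 * b33;
      a30 * b00 + a31 * b10 + a32 * b20 + a33 * b30, a30 * b01 + a31 * b11 + a32 * b21 + a33 * b31,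
      a30 * b02 + a31 * b12 + a32 * b22 + a33 * b32, a30 * b03 + a31 * b13 + a32 * b23 + a33 * b33] := by
  ext i j; fin_cases i <;> fin_cases j <;> simp [mul_apply, Fin.sum_univ_four]

theorem ext4 {R : Type} {a00 a01 a02 a03 a10 a11 a12 a13 a20 a21 a22 a23 a30 a31 a32 a33
    b00 b01 b02 b03 b10 b11 b12 b13 b20 b21 b22 b23 b30 b31 b32 b33 : R} :
    !![a00, a01, a02, a03; a10, a11, a12, a13; a20, a21, a22, a23; a30, a31, a32, a33] =
    !![b00, b01, b02, b03; b10, b11, b12, b13; b20, b21, b22, b23; b30, b31, b32, b33] ↔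
    (a00 = b00 ∧ a01 = b01 ∧ a02 = b02 ∧ a03 = b03) ∧ (a10 = b10 ∧ a11 = b11 ∧ a12 = b12 ∧ a13 = b13) ∧
    (a20 = b20 ∧ a21 = b21 ∧ a22 = b22 ∧ a23 = b23) ∧ a30 = b30 ∧ a31 = b31 ∧ a32 = b32 ∧ a33 = b33 := by
  refine ⟨fun h => ?_, ?_⟩
  · have := fun i j => congrFun (congrFun h i) j
    exact ⟨⟨this 0 0, this 0 1, this 0 2, this 0 3⟩, ⟨this 1 0, this 1 1, this 1 2, this 1 3⟩,
      ⟨this 2 0, this 2 1, this 2 2, this 2 3⟩, this 3 0, this 3 1, this 3 2, this 3 3⟩
  · rintro ⟨⟨rfl, rfl, rfl, rfl⟩, ⟨rfl, rfl, rfl, rfl⟩, ⟨rfl, rfl, rfl, rfl⟩, rfl, rfl, rfl, rfl⟩; rfl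

theorem eta4 {R : Type} (M : Matrix (Fin 4) (Fin 4) R) : M = !![M 0 0, M 0 1, M 0 2, M 0 3;
    M 1 0, M 1 1, M 1 2, M 1 3; M 2 0, M 2 1, M 2 2, M 2 3; M 3 0, M 3 1, M 3 2, M 3 3] := by
  ext i j; fin_cases i <;> fin_cases j <;> rfl

theorem map4 {R : Type} (f : R → R) (a00 a01 a02 a03 a10 a11 a12 a13 a20 a21 a22 a23 a30 a31 a32 a33 : R) :
    (!![a00, a01, a02, a03; a10, a11, a12, a13; a20, a21, a22, a23; a30, a31, a32, a33]).map f =
    !![f a00, f a01, f a02, f a03; f a10, f a11, f a12, f a13; f a20, f a21, f a22, f a23;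
      f a30, f a31, f a32, f a33] := by
  ext i j; fin_cases i <;> fin_cases j <;> rfl

theorem exists_sq {R : Type} [Field R] [CharP R 2] [Finite R] (c : R) : ∃ d : R, d ^ 2 = c :=
  ⟨rt c, rt_sq c⟩

variable {F K : Type} [Field F] [Finite F] [CharP F 2] [Field K] [Algebra F K] [StarRing K] [CharP K 2]
  [Qe F K]

/-! ### Norm and trace -/

@[simp] theorem nm_zero : nm F (0 : K) = 0 := io_inj (K := K) (by simp)
@[simp] theorem nm_one : nm F (1 : K) = 1 := io_inj (K := K) (by simp)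
@[simp] theorem tr_zero : tr F (0 : K) = 0 := io_inj (K := K) (by simp)
theorem nm_mul (a b : K) : nm F (a * b) = nm F a * nm F b := io_inj (K := K) (by simp; ring)
theorem tr_add (a b : K) : tr F (a + b) = tr F a + tr F b := io_inj (K := K) (by simp; ring)
theorem nm_add (a b : K) : nm F (a + b) = nm F a + nm F b + tr F (a * star b) :=
  io_inj (K := K) (by simp; ring)
@[simp] theorem nm_star (a : K) : nm F (star a) = nm F a := io_inj (K := K) (by simp; ring)
@[simp] theorem tr_star (a : K) : tr F (star a) = tr F a := io_inj (K := K) (by simp; ring)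
theorem nm_io (c : F) : nm F (algebraMap F K c) = c ^ 2 := io_inj (K := K) (by simp; ring)
@[simp] theorem tr_io (c : F) : tr F (algebraMap F K c) = 0 := io_inj (K := K) (by simp [k2])
theorem tr_io_mul (c : F) (a : K) : tr F (algebraMap F K c * a) = c * tr F a :=
  io_inj (K := K) (by simp; ring)
theorem nm_eq_zero {a : K} : nm F a = 0 ↔ a = 0 :=
  ⟨fun h => by simpa [h] using (io_nm (F := F) a).symm, fun h => by simp [h]⟩
theorem nm_ne (y : Kˣ) : nm F (y : K) ≠ 0 := fun h => y.ne_zero (nm_eq_zero.1 h)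
theorem nm_inv (a : K) : nm F a⁻¹ = (nm F a)⁻¹ := io_inj (K := K) (by simp [mul_comm])
theorem tr_eq_zero {a : K} : tr F a = 0 ↔ ∃ c : F, algebraMap F K c = a := by
  rw [← Qe.fix]
  refine ⟨fun h => ?_, fun h => io_inj (K := K) (by simp [h, k2])⟩
  have := io_tr (F := F) a
  rw [h, map_zero] at this
  linear_combination -this - k2 a

@[simp] theorem nu_val (y : Kˣ) : (nu F y : F) = nm F (y : K) := rfl
@[simp] theorem iu_val (r : Fˣ) : (iu K r : K) = algebraMap F K r := rfl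

section Fin

variable [Finite K]

variable (F K) in
include F in
theorem exists_star_ne : ∃ a : K, star a ≠ a := by
  by_contra h
  push Not at h
  have h1 : Nat.card K ≤ Nat.card F :=
    Nat.card_le_card_of_surjective _ fun a => (Qe.fix a).1 (h a)
  have h2 := Qe.two (F := F) (K := K)
  rw [Qe.card (F := F), h2] at h1
  omega

variable (F K) in
include F in
theorem sg_ne_one : sg K ≠ 1 := fun h => by
  obtain ⟨a, ha⟩ := exists_star_ne F K
  exact ha (congrArg (fun f : RingAut K => f a) h)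

theorem sg_mul_self : sg K * sg K = 1 := RingEquiv.ext fun a => star_star a

variable (K) in
theorem tr_surj (c : F) : ∃ a : K, tr F a = c := by
  obtain ⟨a, ha⟩ := exists_star_ne F K
  have h : tr F a ≠ 0 := fun h => ha ((Qe.fix a).2 (tr_eq_zero.1 h))
  exact ⟨algebraMap F K (c / tr F a) * a, by rw [tr_io_mul, div_mul_cancel₀ _ h]⟩

variable (K) in
include K in
omit [Finite K] in
/-- `F = F₂` -/
theorem F_cases (c : F) : c = 0 ∨ c = 1 := by
  by_contra h
  push Not at h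
  have h2 := Qe.two (F := F) (K := K)
  obtain ⟨y, -, hy⟩ := (Nat.card_eq_two_iff' (0 : F)).1 h2
  exact h.2 ((hy c h.1).trans (hy 1 one_ne_zero).symm)

variable (K) in
include K in
omit [Finite K] in
theorem unit_eq (r : Fˣ) : r = 1 := Units.ext ((F_cases K (r : F)).resolve_left r.ne_zero)

omit [Finite K] in
theorem nm_eq_one {a : K} (h : a ≠ 0) : nm F a = 1 :=
  (F_cases K _).resolve_left fun e => h (nm_eq_zero.1 e)

variable (F K) in
/-- an element of norm `1` different from `1` -/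
theorem exists_nm_one : ∃ y : Kˣ, y ≠ 1 ∧ nm F (y : K) = 1 := by
  obtain ⟨a, ha⟩ := exists_star_ne F K
  have h0 : a ≠ 0 := by rintro rfl; simp at ha
  have h1 : star a ≠ 0 := by simpa using h0
  refine ⟨Units.mk0 (star a / a) (div_ne_zero h1 h0), fun h => ha ?_, io_inj (K := K) ?_⟩
  · exact (div_eq_one_iff_eq h0).1 (congrArg Units.val h)
  · simp; field_simp

end Fin

/-! ### Matrices -/

theorem xs_val (a : K) : mt (xs a) = !![1, a, 0, 0; 0, 1, 0, 0; 0, 0, 1, star a; 0, 0, 0, 1] := by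
  change (x 0 1 a).1 * (x 2 3 (star a)).1 = _
  rw [x_coe (by decide), x_coe (by decide)]
  ext i j; fin_cases i <;> fin_cases j <;> simp [mul_apply, Fin.sum_univ_four, one_apply, single_apply]

theorem xa_val (v : VA F K) : mt (xa v) = !![1, 0, v.2.1, algebraMap F K v.1;
    0, 1, algebraMap F K v.2.2, star v.2.1; 0, 0, 1, 0; 0, 0, 0, 1] := by
  change (x 0 3 _).1 * ((x 0 2 _).1 * (x 1 3 _).1) * (x 1 2 _).1 = _
  rw [x_coe (by decide), x_coe (by decide), x_coe (by decide), x_coe (by decide)]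
  ext i j; fin_cases i <;> fin_cases j <;> simp [mul_apply, Fin.sum_univ_four, one_apply, single_apply]

theorem ws_val : mt (ws : X K) = !![0, 1, 0, 0; 1, 0, 0, 0; 0, 0, 0, 1; 0, 0, 1, 0] := by
  ext i j
  refine (pm_apply _ i j).trans ?_
  fin_cases i <;> fin_cases j <;> simp [Equiv.swap_apply_def]

theorem wn_val : mt (wn : X K) = !![1, 0, 0, 0; 0, 0, 1, 0; 0, 1, 0, 0; 0, 0, 0, 1] := by
  ext i j
  refine (pm_apply _ i j).trans ?_
  fin_cases i <;> fin_cases j <;> simp [Equiv.swap_apply_def]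

theorem w0_val : mt (w0 : X K) = !![0, 0, 0, 1; 0, 0, 1, 0; 0, 1, 0, 0; 1, 0, 0, 0] := by
  ext i j
  refine (pm_apply _ i j).trans ?_
  fin_cases i <;> fin_cases j <;> simp [Fin.rev]

theorem one_val : mt (1 : X K) = !![1, 0, 0, 0; 0, 1, 0, 0; 0, 0, 1, 0; 0, 0, 0, 1] := by
  rw [X_one]; ext i j; fin_cases i <;> fin_cases j <;> simp

theorem xz_eq (c : F) : (xz c : X K) = xa (c, 0, 0) := by
  simp [xa, show (xm 0 : X K) = 1 from Subtype.ext (by simp [xm]),
    show (xl (0 : F) : X K) = 1 from Subtype.ext (by simp [xl])]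
theorem xm_eq (b : K) : xm b = xa ((0 : F), b, (0 : F)) := by
  simp [xa, show (xz (0 : F) : X K) = 1 from Subtype.ext (by simp [xz]),
    show (xl (0 : F) : X K) = 1 from Subtype.ext (by simp [xl])]
theorem xl_eq (d : F) : (xl d : X K) = xa (0, 0, d) := by
  simp [xa, show (xm 0 : X K) = 1 from Subtype.ext (by simp [xm]),
    show (xz (0 : F) : X K) = 1 from Subtype.ext (by simp [xz])]

/-- reduce an equation in `X` between explicit products to its sixteen entries -/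
syntax "mat4" : tactic
macro_rules
  | `(tactic| mat4) => `(tactic| (
      refine X_ext ?_
      simp only [X_mul, xs_val, xa_val, ws_val, wn_val, w0_val, one_val, mul4, ext4, one_mul, mul_one,
        zero_mul, mul_zero, add_zero, zero_add, star_zero, star_one, map_zero, map_one, k2, true_and,
        and_true, and_self]))

/-! ### Relations -/

theorem xa_add (v w : VA F K) : xa (v + w) = xa v * xa w := by
  mat4; simp [add_comm]
@[simp] theorem xa_zero : xa (0 : VA F K) = 1 := by mat4; simp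
theorem va2 (v : VA F K) : v + v = 0 := Prod.ext (k2 _) (Prod.ext (k2 _) (k2 _))
theorem xa_sq (v : VA F K) : xa v * xa v = 1 := by rw [← xa_add, va2, xa_zero]
theorem xa_inv (v : VA F K) : (xa v)⁻¹ = xa v := inv_eq_of_mul_eq_one_left (xa_sq v)
theorem xa_comm (v w : VA F K) : xa v * xa w = xa w * xa v := by rw [← xa_add, add_comm, xa_add]
theorem xa_inj {v w : VA F K} (h : xa v = xa w) : v = w := by
  have h1 := fun i j => congrArg (fun g : X K => mt g i j) h
  simp only [xa_val] at h1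
  exact Prod.ext (io_inj (h1 0 3)) (Prod.ext (h1 0 2) (io_inj (h1 1 2)))
theorem xa_eq_one {v : VA F K} : xa v = 1 ↔ v = 0 :=
  ⟨fun h => xa_inj (h.trans xa_zero.symm), fun h => h ▸ xa_zero⟩

theorem xs_add (a b : K) : xs (a + b) = xs a * xs b := by mat4; simp [add_comm]
@[simp] theorem xs_zero : xs (0 : K) = 1 := by mat4
theorem xs_sq (a : K) : xs a * xs a = 1 := by rw [← xs_add, k2, xs_zero]
theorem xs_inv (a : K) : (xs a)⁻¹ = xs a := inv_eq_of_mul_eq_one_left (xs_sq a)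
theorem xs_comm (a b : K) : xs a * xs b = xs b * xs a := by rw [← xs_add, add_comm, xs_add]
theorem xs_inj {a b : K} (h : xs a = xs b) : a = b := by
  have h1 := congrArg (fun g : X K => mt g 0 1) h
  simpa [xs_val] using h1
theorem xs_xa (a : K) (v : VA F K) : xs a * xa v * (xs a)⁻¹ = xa (aS a v) := by
  rw [xs_inv]; mat4
  simp only [aS, map_add, map_mul, io_tr, io_nm, star_add, star_mul', star_io, star_star]
  and_intros <;> first | trivial | ring
theorem xa_xs_inj {v w : VA F K} {a b : K} (h : xa v * xs a = xa w * xs b) : v = w ∧ a = b := by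
  have h1 : a = b := by
    have := congrArg (fun g : X K => mt g 0 1) h
    simpa [X_mul, xs_val, xa_val, mul_apply, Fin.sum_univ_four] using this
  exact ⟨xa_inj (mul_right_cancel (h1 ▸ h)), h1⟩

theorem ws_sq : (ws * ws : X K) = 1 := by mat4
theorem wn_sq : (wn * wn : X K) = 1 := by mat4
theorem w0_sq : (w0 * w0 : X K) = 1 := by mat4
theorem ws_inv : (ws : X K)⁻¹ = ws := inv_eq_of_mul_eq_one_left ws_sq
theorem wn_inv : (wn : X K)⁻¹ = wn := inv_eq_of_mul_eq_one_left wn_sq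
theorem w0_inv : (w0 : X K)⁻¹ = w0 := inv_eq_of_mul_eq_one_left w0_sq
theorem w0_eq : (w0 : X K) = ws * wn * ws * wn := by mat4
theorem w0_eq' : (w0 : X K) = wn * ws * wn * ws := by mat4
theorem ws_xa (v : VA F K) : ws * xa v * ws⁻¹ = xa (aW v) := by rw [ws_inv]; mat4; simp [aW]
theorem xm_val (b : K) : mt (xm b) = !![1, 0, b, 0; 0, 1, 0, star b; 0, 0, 1, 0; 0, 0, 0, 1] := by
  change (x 0 2 b).1 * (x 1 3 (star b)).1 = _
  rw [x_coe (by decide), x_coe (by decide)]
  ext i j; fin_cases i <;> fin_cases j <;> simp [mul_apply, Fin.sum_univ_four, one_apply, single_apply]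
theorem wn_xm (b : K) : wn * xm b * wn⁻¹ = xs b := by
  rw [wn_inv]; refine X_ext ?_; simp [X_mul, xm_val, xs_val, wn_val, mul4]
theorem wn_xs (b : K) : wn * xs b * wn⁻¹ = xm b := by
  rw [← wn_xm, wn_inv, show ∀ g : X K, wn * (wn * g * wn) * wn = (wn * wn) * g * (wn * wn) from
    fun g => by group, wn_sq]; simp
theorem wn_xz (c : F) : wn * (xz c : X K) * wn⁻¹ = xz c := by rw [wn_inv, xz_eq]; mat4
/-- the braid relations -/
theorem ws_braid : (ws : X K) = xs 1 * (ws * xs 1 * ws) * xs 1 := by mat4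
theorem wn_braid : (wn : X K) = xl (1 : F) * (wn * xl (1 : F) * wn) * xl (1 : F) := by
  rw [xl_eq]; mat4

section Fin

variable [Finite K]

theorem ht_val (y : Kˣ) (r : Fˣ) : mt (ht y r) = !![y * hb y r, 0, 0, 0; 0, hb y r, 0, 0;
    0, 0, (star (hb y r))⁻¹, 0; 0, 0, 0, (star (y * hb y r))⁻¹] := by
  change diagonal _ = _
  ext i j; fin_cases i <;> fin_cases j <;> simp

theorem ht_xs (y : Kˣ) (r : Fˣ) (a : K) : ht y r * xs a * (ht y r)⁻¹ = xs (y * a) := by
  have h2 : star (hb y r) ≠ 0 := by simp [hb_ne]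
  have h3 : star (y : K) ≠ 0 := by simp
  rw [mul_inv_eq_iff_eq_mul]
  refine X_ext ?_
  simp only [X_mul, ht_val, xs_val, mul4, ext4]
  generalize hb y r = β at *
  simp
  exact ⟨by ring, by field_simp⟩

theorem ht_xa (y : Kˣ) (r : Fˣ) (v : VA F K) : ht y r * xa v * (ht y r)⁻¹ = xa (aH y r v) := by
  have h1 := hb_nm y r
  have h2 : star (hb y r) ≠ 0 := by simp [hb_ne]
  have h3 : star (y : K) ≠ 0 := by simp
  rw [mul_inv_eq_iff_eq_mul]
  refine X_ext ?_
  simp only [X_mul, ht_val, xa_val, aH, mul4, ext4]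
  generalize hb y r = β at *
  simp [← h1]
  refine ⟨⟨?_, ?_⟩, ?_, ?_⟩ <;> field_simp

theorem hb_mul (y y' : Kˣ) (r r' : Fˣ) : hb (y * y') (r * r') = hb y r * hb y' r' := by
  rw [hb, hb, hb, ← rt_mul, ← rt_mul]
  congr 2
  simp; ring

theorem ht_mul (y y' : Kˣ) (r r' : Fˣ) : ht (y * y') (r * r') = ht y r * ht y' r' := by
  refine X_ext ?_
  simp only [X_mul, ht_val, hb_mul, mul4, ext4]
  generalize hb y r = β
  generalize hb y' r' = β'
  simp
  refine ⟨?_, ?_, ?_⟩ <;> ring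

@[simp] theorem ht_one : ht (1 : Kˣ) (1 : Fˣ) = 1 :=
  mul_left_cancel (a := ht (1 : Kˣ) (1 : Fˣ)) (by rw [← ht_mul]; simp)

theorem ht_inv (y : Kˣ) (r : Fˣ) : (ht y r)⁻¹ = ht y⁻¹ r⁻¹ :=
  inv_eq_of_mul_eq_one_left (by rw [← ht_mul]; simp)

theorem ht_comm (y y' : Kˣ) (r r' : Fˣ) : ht y r * ht y' r' = ht y' r' * ht y r := by
  rw [← ht_mul, ← ht_mul, mul_comm y, mul_comm r]

/-- the torus as a homomorphism -/
noncomputable def htH : Kˣ × Fˣ →* X K := MonoidHom.mk' (fun p => ht p.1 p.2) fun _ _ => ht_mul ..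

theorem odd_units : Odd (Nat.card (Kˣ × Fˣ)) := by
  rw [Nat.card_prod, Nat.card_units, Nat.card_units]
  exact odd_card_sub_one.mul odd_card_sub_one

theorem odd_ht (y : Kˣ) (r : Fˣ) : Odd (orderOf (ht y r)) :=
  (odd_units (F := F) (K := K)).of_dvd_nat
    ((orderOf_map_dvd htH (y, r)).trans (orderOf_dvd_natCard _))

theorem ws_ht (y : Kˣ) (r : Fˣ) : ws * ht y r * ws⁻¹ = ht y⁻¹ (r * nu F y) := by
  have h1 : hb y⁻¹ (r * nu F y) = y * hb y r := sq_inj (sq_inj (by
    have h3 : star (y : K) ≠ 0 := by simp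
    rw [hb_pow, mul_pow, mul_pow, hb_pow]; simp; field_simp))
  rw [ws_inv]
  refine X_ext ?_
  simp only [X_mul, ht_val, ws_val, h1, mul4, ext4]
  generalize hb y r = β
  simp

theorem wn_ht (y : Kˣ) (r : Fˣ) : wn * ht y r * wn⁻¹ = ht (iu K r * y) r⁻¹ := by
  have h0 := hb_nm y r
  have h2 : star (hb y r) ≠ 0 := by simp [hb_ne]
  have h4 := hb_ne y r
  have h1 : hb (iu K r * y) r⁻¹ = (star (hb y r))⁻¹ := sq_inj (sq_inj (by
    have h3 : star (y : K) ≠ 0 := by simp
    have h5 := congrArg star (hb_pow y r)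
    have h6 : algebraMap F K r ≠ 0 := by simp
    simp only [star_pow] at h5
    rw [hb_pow, inv_pow, inv_pow, h5]; simp; field_simp))
  rw [wn_inv]
  refine X_ext ?_
  simp only [X_mul, ht_val, wn_val, h1, mul4, ext4, Units.val_mul, iu_val, ← h0]
  generalize hb y r = β at *
  simp
  refine ⟨?_, ?_⟩ <;> field_simp

theorem fld_xs (τ : RingAut K) (a : K) : fld K τ (xs a) = xs (τ a) := by
  refine X_ext ?_
  rw [fld_val, xs_val, xs_val, map4]
  simp [aut_star]

theorem fld_xa (v : VA F K) : fld K (sg K) (xa v) = xa (v.1, star v.2.1, v.2.2) := by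
  refine X_ext ?_
  rw [fld_val, xa_val, xa_val, map4]
  simp

/-- a field automorphism normalises `F` -/
theorem exists_res (τ : RingAut K) : ∃ ρ : RingAut F, ∀ c, τ (algebraMap F K c) = algebraMap F K (ρ c) := by
  choose f hf using fun c : F => (Qe.fix (F := F) (τ (algebraMap F K c))).1 (by
    rw [← aut_star, star_io])
  let φ : F →+* F :=
    { toFun := f, map_one' := io_inj (K := K) (by simp [hf]), map_zero' := io_inj (K := K) (by simp [hf])
      map_mul' := fun a b => io_inj (K := K) (by simp [hf])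
      map_add' := fun a b => io_inj (K := K) (by simp [hf]) }
  exact ⟨RingEquiv.ofBijective φ (Finite.injective_iff_bijective.1 φ.injective), fun c => (hf c).symm⟩

theorem fld_xa' (τ : RingAut K) {ρ : RingAut F}
    (h : ∀ c, τ (algebraMap F K c) = algebraMap F K (ρ c)) (v : VA F K) :
    fld K τ (xa v) = xa (ρ v.1, τ v.2.1, ρ v.2.2) := by
  refine X_ext ?_
  rw [fld_val, xa_val, xa_val, map4]
  simp [aut_star, h]

theorem fld_ws (τ : RingAut K) : fld K τ ws = ws := by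
  refine X_ext ?_
  rw [fld_val, ws_val, map4]
  simp

theorem fld_wn (τ : RingAut K) : fld K τ wn = wn := by
  refine X_ext ?_
  rw [fld_val, wn_val, map4]
  simp

end Fin

/-! ### Membership -/

theorem adj4 (a00 a01 a02 a03 a10 a11 a12 a13 a20 a21 a22 a23 a30 a31 a32 a33 : K) :
    (of fun i j : Fin 4 => star
      (!![a00, a01, a02, a03; a10, a11, a12, a13; a20, a21, a22, a23; a30, a31, a32, a33] j.rev i.rev)) =
    !![star a33, star a23, star a13, star a03; star a32, star a22, star a12, star a02;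
      star a31, star a21, star a11, star a01; star a30, star a20, star a10, star a00] := by
  ext i j; fin_cases i <;> fin_cases j <;> rfl

theorem inv_val (g : X K) : mt g⁻¹ = of fun i j => star (mt g j.rev i.rev) := by
  ext i j; exact inv_apply g i j

theorem mem_UX_iff {g : X K} : g ∈ UX K ↔ (∀ i, mt g i i = 1) ∧ ∀ i j, j < i → mt g i j = 0 := mem_UU

theorem xa_xs_val (v : VA F K) (a : K) : mt (xa v * xs a) =
    !![1, a, v.2.1, v.2.1 * star a + algebraMap F K v.1; 0, 1, algebraMap F K v.2.2,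
      algebraMap F K v.2.2 * star a + star v.2.1; 0, 0, 1, star a; 0, 0, 0, 1] := by
  simp only [X_mul, xs_val, xa_val, mul4, one_mul, mul_one, zero_mul, mul_zero, add_zero, zero_add]

/-- normal form in `U` -/
theorem mem_UX {g : X K} : g ∈ UX K ↔ ∃ (v : VA F K) (a : K), g = xa v * xs a := by
  rw [mem_UX_iff]
  refine ⟨fun ⟨h1, h2⟩ => ?_, ?_⟩
  · have h3 := X_form g
    have h4 := eta4 (mt g)
    rw [h1, h1, h1, h1, h2 1 0 (by decide), h2 2 0 (by decide), h2 2 1 (by decide), h2 3 0 (by decide),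
      h2 3 1 (by decide), h2 3 2 (by decide)] at h4
    generalize mt g 0 1 = a, mt g 0 2 = b, mt g 0 3 = c, mt g 1 2 = d, mt g 1 3 = e, mt g 2 3 = f at h4
    have h5 : (of fun i j => star (mt g j.rev i.rev)) = !![1, star f, star e, star c;
        0, 1, star d, star b; 0, 0, 1, star a; 0, 0, 0, 1] := by
      rw [h4, adj4]; simp only [star_one, star_zero]
    rw [h5, ← X_one (K := K), one_val, h4, mul4, ext4] at h3
    simp only [one_mul, mul_one, zero_mul, mul_zero, add_zero, zero_add, true_and, and_true] at h3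
    obtain ⟨⟨e1, e2, e3⟩, ⟨e4, e5⟩, e6⟩ := h3
    obtain ⟨d', rfl⟩ := (Qe.fix (F := F) d).1 (by linear_combination e4 - k2 d)
    obtain rfl : f = star a := by linear_combination e6 - k2 (star a)
    obtain rfl : e = star b + algebraMap F K d' * star a := by
      linear_combination e5 - k2 (star b + algebraMap F K d' * star a)
    obtain ⟨c', hc⟩ := (Qe.fix (F := F) (c + b * star a)).1 (by
      simp only [star_add, star_mul', star_star]
      linear_combination e3 - k2 c - k2 (b * star a))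
    refine ⟨(c', b, d'), a, X_ext ?_⟩
    rw [h4, X_mul, xa_val, xs_val, mul4, ext4]
    simp only [hc, mul_one, mul_zero, zero_mul, one_mul, add_zero, zero_add, true_and, and_true]
    exact ⟨by linear_combination -k2 (b * star a), add_comm _ _⟩
  · rintro ⟨v, a, rfl⟩
    rw [xa_xs_val]
    exact ⟨fun i => by fin_cases i <;> simp, fun i j => by fin_cases i <;> fin_cases j <;> simp⟩

theorem AX_le_UX : AX K ≤ UX K := fun _ h => Ml_le_UU 2 h
theorem QX_le_UX : QX K ≤ UX K := fun _ h => QQ_le_UU h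
theorem ZX_le_QX : ZX K ≤ QX K := fun _ h => ZZ_le_QQ h
theorem ZX_le_UX : ZX K ≤ UX K := ZX_le_QX.trans QX_le_UX

theorem mem_AX_iff {v : VA F K} {a : K} : xa v * xs a ∈ AX K ↔ a = 0 := by
  change (xa v * xs a).1 ∈ Ml 3 K 2 ↔ _
  rw [mem_Ml]
  change (∀ i, mt _ i i = 1) ∧ (∀ i j : Fin 4, _ → _ → mt _ i j = 0) ↔ _
  rw [xa_xs_val]
  refine ⟨fun h => h.2 0 1 (by decide) (by decide), ?_⟩
  rintro rfl
  exact ⟨fun i => by fin_cases i <;> simp, fun i j => by fin_cases i <;> fin_cases j <;> simp⟩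

theorem mem_QX_iff {v : VA F K} {a : K} : xa v * xs a ∈ QX K ↔ v.2.2 = 0 := by
  change (xa v * xs a).1 ∈ QQ 3 K ↔ _
  rw [mem_QQ]
  change (∀ i, mt _ i i = 1) ∧ (∀ i j : Fin 4, _ → _ → _ → mt _ i j = 0) ↔ _
  rw [xa_xs_val]
  refine ⟨fun h => io_inj (K := K) ((h.2 1 2 (by decide) (by decide) (by decide)).trans
    (map_zero _).symm), fun h => ?_⟩
  exact ⟨fun i => by fin_cases i <;> simp, fun i j => by fin_cases i <;> fin_cases j <;> simp [h, la]⟩

theorem mem_AX {g : X K} : g ∈ AX K ↔ ∃ v : VA F K, g = xa v := by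
  refine ⟨fun h => ?_, ?_⟩
  · obtain ⟨v, a, rfl⟩ := (mem_UX (F := F)).1 (AX_le_UX h)
    exact ⟨v, by rw [mem_AX_iff.1 h, xs_zero, mul_one]⟩
  · rintro ⟨v, rfl⟩
    simpa using (mem_AX_iff (v := v) (a := 0)).2 rfl

theorem mem_QX {g : X K} : g ∈ QX K ↔ ∃ (c : F) (b a : K), g = xa (c, b, 0) * xs a := by
  refine ⟨fun h => ?_, ?_⟩
  · obtain ⟨⟨c, b, d⟩, a, rfl⟩ := (mem_UX (F := F)).1 (QX_le_UX h)
    obtain rfl : d = 0 := mem_QX_iff.1 h
    exact ⟨c, b, a, rfl⟩
  · rintro ⟨c, b, a, rfl⟩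
    exact mem_QX_iff.2 rfl

theorem mem_ZX {g : X K} : g ∈ ZX K ↔ ∃ c : F, g = xa (c, 0, 0) := by
  refine ⟨fun h => ?_, ?_⟩
  · obtain ⟨c, hc⟩ := mem_ZZ.1 h
    have h1 := mem_SUs.1 g.2
    change g.1 = _ at hc
    rw [hc, tau_x] at h1
    obtain ⟨c', rfl⟩ := (Qe.fix (F := F) c).1 (x_inj (i := 0) (j := 3) (by decide) h1)
    exact ⟨c', by rw [← xz_eq]; exact Subtype.ext hc⟩
  · rintro ⟨c, rfl⟩
    rw [← xz_eq]; exact x_mem_ZZ _

theorem xa_mem_AX (v : VA F K) : xa v ∈ AX K := mem_AX.2 ⟨v, rfl⟩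
theorem xa_mem_UX (v : VA F K) : xa v ∈ UX K := AX_le_UX (xa_mem_AX v)
theorem xs_mem_QX (a : K) : xs a ∈ QX K :=
  mul_mem (Er_le_QQ (x_mem_Row 0 1 a)) (Ec_le_QQ (x_mem_Col 2 3 _))
theorem xs_mem_UX (a : K) : xs a ∈ UX K := QX_le_UX (xs_mem_QX a)
theorem xa_mem_QX {v : VA F K} : xa v ∈ QX K ↔ v.2.2 = 0 := by
  simpa using mem_QX_iff (v := v) (a := 0)
theorem xa_mem_ZX {v : VA F K} : xa v ∈ ZX K ↔ v.2.1 = 0 ∧ v.2.2 = 0 := by
  rw [mem_ZX (F := F)]
  exact ⟨fun ⟨c, h⟩ => by rw [xa_inj h]; exact ⟨rfl, rfl⟩,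
    fun h => ⟨v.1, congrArg _ (Prod.ext rfl (Prod.ext h.1 h.2))⟩⟩
theorem xs_mem_AX {a : K} : xs a ∈ AX K ↔ a = 0 :=
  ⟨fun h => by simpa [xs_val] using show mt (xs a) 0 1 = 0 from
    (mem_Ml.1 h).2 0 1 (by decide) (by decide), fun h => by rw [h, xs_zero]; exact one_mem _⟩
theorem ZX_le_AX : ZX K ≤ AX K := fun _ h =>
  Mk_le_Ml (k := 1) (by decide) (by decide) (Mk_one (n := 3) (F := K) ▸ h)
theorem sq_AX {g : X K} (h : g ∈ AX K) : g * g = 1 := Subtype.ext (sq_Ml h)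
theorem AX_le_Cs : AX K ≤ Cs (AX K) := fun _ h _ h' => Subtype.ext (Ml_le_Cs 2 h _ h')
theorem UX_le_Cs : UX K ≤ Cs (ZX K) := fun _ h _ h' => Subtype.ext (UU_le_Cs h _ h')
theorem UX_le_P0X : UX K ≤ P0X K := le_sup_left
theorem UX_le_P2X : UX K ≤ P2X K := le_sup_left
theorem xs_mem_Lv [Finite K] (a : K) : xs a ∈ Lv F K := subset_closure (Or.inl (Or.inl ⟨a, rfl⟩))
theorem ws_mem_Lv [Finite K] : ws ∈ Lv F K := subset_closure (Or.inl (Or.inr rfl))
theorem ht_mem_Lv [Finite K] (y : Kˣ) (r : Fˣ) : ht y r ∈ Lv F K := subset_closure (Or.inr ⟨y, r, rfl⟩)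

/-- `xa` as an isomorphism -/
noncomputable def xaE : Multiplicative (VA F K) ≃* AX K :=
  MulEquiv.ofBijective (MonoidHom.mk' (fun v : Multiplicative (VA F K) =>
    (⟨xa v.toAdd, xa_mem_AX _⟩ : AX K)) fun a b => Subtype.ext (xa_add a.toAdd b.toAdd)) ⟨fun _ _ h => xa_inj (congrArg Subtype.val h), fun ⟨_, h⟩ => by
      obtain ⟨v, rfl⟩ := (mem_AX (F := F)).1 h; exact ⟨Multiplicative.ofAdd v, rfl⟩⟩

section Fin

variable [Finite K]

theorem card_VA : Nat.card (VA F K) = Nat.card F ^ 4 := by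
  rw [Nat.card_prod, Nat.card_prod, Qe.card (F := F) (K := K)]; ring

theorem card_AX : Nat.card (AX K) = Nat.card F ^ 4 :=
  (Nat.card_congr (xaE (F := F)).toEquiv).symm.trans card_VA

theorem card_UX : Nat.card (UX K) = Nat.card F ^ 6 := by
  rw [← Nat.card_eq_of_bijective (fun p : VA F K × K => (⟨xa p.1 * xs p.2, mem_UX.2 ⟨_, _, rfl⟩⟩ : UX K))
    ⟨fun _ _ h => Prod.ext (xa_xs_inj (congrArg Subtype.val h)).1 (xa_xs_inj (congrArg Subtype.val h)).2,
    fun ⟨_, h⟩ => by obtain ⟨v, a, rfl⟩ := (mem_UX (F := F)).1 h; exact ⟨(v, a), rfl⟩⟩,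
    Nat.card_prod, card_VA, Qe.card (F := F) (K := K)]
  ring

theorem card_ZX : Nat.card (ZX K) = Nat.card F :=
  (Nat.card_eq_of_bijective (fun c : F => (⟨xa (c, 0, 0), mem_ZX.2 ⟨_, rfl⟩⟩ : ZX K))
    ⟨fun _ _ h => congrArg Prod.fst (xa_inj (congrArg Subtype.val h)),
    fun ⟨_, h⟩ => by obtain ⟨c, rfl⟩ := (mem_ZX (F := F)).1 h; exact ⟨c, rfl⟩⟩).symm

theorem isP_UX : IsPGroup 2 (UX K) := isP_UU.comap_of_injective _ (SUs K).subtype_injective
theorem is2_of_UX {g : X K} (h : g ∈ UX K) : Is2 g := H64.SG.isPGroup_iff_is2.1 isP_UX g h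

theorem UX_le_Ns_AX : UX K ≤ Ns (AX K) := fun _ h => conj_mem_St.1 (mem_St_of_finite fun a ha =>
  (mem_normalizer_iff.1 (UU_le_Ns_Ml 2 h) a.1).1 ha)
theorem UX_le_Ns_QX : UX K ≤ Ns (QX K) := fun _ h => conj_mem_St.1 (mem_St_of_finite fun a ha =>
  (mem_normalizer_iff.1 (P00_le_Ns (UU_le_P00 h)) a.1).1 ha)
theorem wn_mem_Ns_QX : wn ∈ Ns (QX K) := conj_mem_St.1 (mem_St_of_finite fun a ha =>
  (mem_normalizer_iff.1 (P00_le_Ns (pm_mem_P0 _ (by decide) (by decide))) a.1).1 ha)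
theorem wn_mem_Cs_ZX : wn ∈ Cs (ZX K) := fun _ h =>
  Subtype.ext (P00_le_Cs (pm_mem_P0 _ (by decide) (by decide)) _ h)

include F in
theorem Lv_le_Ns : Lv F K ≤ Ns (AX K) := (closure_le _).2 fun g hg =>
  conj_mem_St.1 (mem_St_of_finite fun a ha => by
    obtain ⟨v, rfl⟩ := (mem_AX (F := F)).1 ha
    rw [MulAut.conj_apply]
    rcases hg with (⟨a, rfl⟩ | rfl) | ⟨y, r, rfl⟩
    · rw [xs_xa]; exact xa_mem_AX _
    · rw [ws_xa]; exact xa_mem_AX _
    · rw [ht_xa]; exact xa_mem_AX _)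

theorem ht_mem_Ns_UX (y : Kˣ) (r : Fˣ) : ht y r ∈ Ns (UX K) :=
  conj_mem_St.1 (mem_St_of_finite fun a ha => by
    obtain ⟨v, a, rfl⟩ := (mem_UX (F := F)).1 ha
    rw [map_mul, MulAut.conj_apply, MulAut.conj_apply, ht_xa, ht_xs]
    exact mem_UX.2 ⟨_, _, rfl⟩)

theorem fld_UX (τ : RingAut K) : fld K τ ∈ St (UX K) := mem_St_of_finite fun _ h =>
  map_Pat_le_Pat (τ : K →+* K) _ (mem_map_of_mem _ h)
theorem fld_AX (τ : RingAut K) : fld K τ ∈ St (AX K) := mem_St_of_finite fun _ h =>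
  map_Pat_le_Pat (τ : K →+* K) _ (mem_map_of_mem _ h)

/-- scalars on `A` -/
theorem aH_one (r : Fˣ) (v : VA F K) : aH 1 r v = (r : F) • v := by
  simp [aH, Prod.ext_iff, Algebra.smul_def]

/-- the scalars are central in `Lv` -/
theorem Lv_comm (r : Fˣ) {l : X K} (hl : l ∈ Lv F K) : l * ht 1 r = ht 1 r * l := by
  have : Lv F K ≤ Cz (ht (1 : Kˣ) r) := (closure_le _).2 fun g hg => H64.SG.mem_Cz.2 (by
    rcases hg with (⟨a, rfl⟩ | rfl) | ⟨y, r', rfl⟩
    · rw [← mul_inv_eq_iff_eq_mul, ht_xs]; simp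
    · rw [eq_comm, ← mul_inv_eq_iff_eq_mul, ws_ht]; congr 1; ext; simp
    · exact ht_comm ..)
  exact (H64.SG.mem_Cz.1 (this hl)).symm

/-- `Lv` acts linearly on `A`. -/
theorem Lv_lin {l : X K} (hl : l ∈ Lv F K) {v w : VA F K} (h : l * xa v * l⁻¹ = xa w) (c : F) :
    l * xa (c • v) * l⁻¹ = xa (c • w) := by
  by_cases hc : c = 0
  · simp [hc]
  have := Lv_comm (Units.mk0 c hc) hl
  rw [show c = Units.mk0 c hc from rfl, ← aH_one, ← aH_one, ← ht_xa, ← ht_xa, ← h]
  calc _ = (l * ht 1 (Units.mk0 c hc)) * xa v * (l * ht 1 (Units.mk0 c hc))⁻¹ := by group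
    _ = _ := by rw [this]; group

end Fin

end H83.SV
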