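/- SU-FO: `X ≅ PSU₄(q)`, its order, multiplier and automorphisms. -/
import Cfsg.Agent.H83.SVFK
import Cfsg.Agent.H57.Descent
import Cfsg.Agent.H59.Twist
import Cfsg.Agent.H55.Transport
import Cfsg.Agent.S0280
import Cfsg.Agent.S2092
import Cfsg.Agent.S0822
import Cfsg.Agent.H21.MultCard

set_option autoImplicit false
set_option linter.unusedSectionVars false
set_option linter.unusedSimpArgs false

namespace H83.SVFO

open H64.SG (O2 Syl Cz Cs Ns cjs Is2 Inv2 fx mem_fx mem_Cz mem_Cs)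
open H83.SV Matrix H57 Subgroup
open H67.SA (SLn Au St cI Ml QQ ZZ UU out x val_mul val_one out_conj out_slField mem_ZZ pm_conj
  out_sq_eq_one x_apply)

universe u

variable {F K : Type} [Field F] [Finite F] [CharP F 2] [Field K] [Algebra F K] [StarRing K] [CharP K 2]
  [Qe F K] [Finite K]

/-- the antidiagonal matrix -/
abbrev J (K : Type) [Field K] [StarRing K] [CharP K 2] : SLn 3 K := (w0 : X K).1

theorem J_sq : J K * J K = 1 := congrArg Subtype.val w0_sq
theorem J_val : (J K).1 = !![0, 0, 0, 1; 0, 0, 1, 0; 0, 1, 0, 0; 1, 0, 0, 0] := w0_val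
theorem J_ct : (J K).1ᴴ = (J K).1 := by
  rw [J_val]; ext i j; fin_cases i <;> fin_cases j <;> simp

theorem J_conj (M : Matrix (Fin 4) (Fin 4) K) : (J K).1 * M * (J K).1 = of fun i j => M i.rev j.rev := by
  rw [J_val, eta4 M, mul4, mul4]
  simp only [zero_mul, mul_zero, one_mul, mul_one, add_zero, zero_add]
  ext i j; fin_cases i <;> fin_cases j <;> rfl

theorem tau_inv_val (g : SLn 3 K) : (tau K g⁻¹).1 = (J K).1 * g.1ᴴ * (J K).1 := by
  rw [J_conj]
  ext i j
  exact tau_inv_apply g i j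

include F in
theorem fi (y : SLn 3 K) (hy : y * tau K y = 1) : ∃ h, y = h * (tau K h)⁻¹ := by
  have h1 : y.1 = (J K).1 * y.1ᴴ * (J K).1 := by
    rw [← tau_inv_val, map_inv, ← eq_inv_of_mul_eq_one_left hy]
  have hJ : (J K).1 * (J K).1 = 1 := congrArg Subtype.val J_sq
  obtain ⟨h, e⟩ := exists_eq_mul_conjTranspose (sg K) (sg_ne_one F K) star_star
    (g := SpecialLinearGroup.toGL (y * J K)) (by
      change (y.1 * (J K).1)ᴴ = y.1 * (J K).1
      conv_rhs => rw [h1, mul_assoc, hJ, mul_one]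
      rw [conjTranspose_mul, J_ct])
  obtain ⟨P, eP⟩ := exists_eq_mul_conjTranspose (sg K) (sg_ne_one F K) star_star
    (g := SpecialLinearGroup.toGL (J K)) J_ct
  change y.1 * (J K).1 = h.1 * h.1ᴴ at e
  change (J K).1 = P.1 * P.1ᴴ at eP
  have e2 : y.1 * (J K).1 = (h * P⁻¹).1 * (J K).1 * (h * P⁻¹).1ᴴ := by
    rw [e, eP, Units.val_mul, conjTranspose_mul, mul_assoc h.1, Units.inv_mul_cancel_left, mul_assoc,
      ← mul_assoc P.1ᴴ, ← conjTranspose_mul, Units.inv_mul, conjTranspose_one, one_mul]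
  generalize h * P⁻¹ = k at e2
  have h2 := congrArg det e2
  rw [det_mul, det_mul, det_mul, y.2, (J K).2, det_conjTranspose, mul_one, mul_one] at h2
  have h3 : ∀ d : K, rt (rt d) ^ (3 + 1) = d := fun d => by
    rw [show 3 + 1 = 2 * 2 from rfl, pow_mul, rt_sq, rt_sq]
  have h4 : rt (rt k.1.det) * star (rt (rt k.1.det)) = 1 := sq_inj (sq_inj (by
    rw [mul_pow, mul_pow, ← star_pow, ← star_pow, rt_sq, rt_sq, ← h2, one_pow, one_pow]))
  obtain ⟨s, hs⟩ : ∃ s : SLn 3 K, s.1 = (rt (rt k.1.det))⁻¹ • k.1 := ⟨⟨_, by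
    rw [det_smul, Fintype.card_fin, inv_pow, h3, inv_mul_cancel₀ k.det_ne_zero]⟩, rfl⟩
  refine ⟨s, ?_⟩
  rw [← map_inv]
  refine Subtype.ext ?_
  rw [val_mul, tau_inv_val, hs, conjTranspose_smul, star_inv₀, Matrix.mul_smul, Matrix.smul_mul,
    Matrix.smul_mul, Matrix.mul_smul, smul_smul, ← mul_inv, h4, inv_one, one_smul, ← mul_assoc, ← mul_assoc,
    ← e2, mul_assoc, hJ, mul_one]

include F in
theorem fix_X {β : Au 3 K} (h : ∀ s : X K, β s.1 = s.1) : β = 1 ∨ β = tau K := by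
  obtain ⟨ζ, h1, h2⟩ := SVFK.cQ (F := F) β fun a _ => h a
  obtain ⟨c, rfl⟩ := mem_ZZ.1 h1
  have h3 : MulAut.conj (x 0 3 c) (ws : X K).1 = (ws : X K).1 := by
    rcases h2 with rfl | rfl
    · exact h ws
    · have := h ws
      rwa [MulAut.mul_apply, mem_SUs.1 (ws : X K).2] at this
  rw [MulAut.conj_apply, mul_inv_eq_iff_eq_mul, eq_comm, ← mul_inv_eq_iff_eq_mul] at h3
  have h4 := congrArg (fun g : SLn 3 K => g.1 0 3) ((pm_conj _ 0 3 c).symm.trans h3)
  obtain rfl : c = 0 := by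
    change (x 1 2 c).1 0 3 = _ at h4
    simpa [x_apply] using h4.symm
  simpa using h2

include F in
theorem uniq {g g' : X K} {τ τ' : RingAut K} (h : MulAut.conj g * fld K τ = MulAut.conj g' * fld K τ') :
    τ = τ' := by
  have := (fix_X (F := F) (β := (MulAut.conj g'.1 * slField _ K τ')⁻¹ * (MulAut.conj g.1 * slField _ K τ))
    fun s => by
      rw [MulAut.mul_apply, MulAut.inv_apply, MulEquiv.symm_apply_eq]
      exact congrArg (fun β : MulAut (X K) => (β s).1) h).imp (congrArg (out 3 K)) (congrArg (out 3 K))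
  simp only [map_mul, map_inv, out_conj (show 2 ≤ 3 by omega), out_slField (show 2 ≤ 3 by omega), out_tau,
    one_mul, map_one, Prod.inv_mk, Prod.mk_mul_mk, Prod.mk_eq_one, Prod.mk.injEq, inv_one, and_true] at this
  exact (inv_mul_eq_one.1 (this.resolve_right fun e => absurd e.2 (by decide))).symm

include F in
theorem star_eq [Fintype K] (hF : Fintype.card K = Nat.card F ^ 2) (a : K) : star a = a ^ Nat.card F := by
  have := (out_sq_eq_one (sg_ne_one F K) sg_mul_self (τ := H59.frobAut hF)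
    (RingEquiv.ext (H59.frob_frob hF))).resolve_left fun e =>
      H59.frob_ne_id hF (RingHom.ext fun a => congrArg (fun f : RingAut K => f a) e)
  exact (congrArg (fun f : RingAut K => f a) this).symm.trans (H59.frobAut_apply hF a)

theorem exists_base [Fintype K] (hF : Fintype.card K = Nat.card F ^ 2) : ∃ h : SLn 3 K,
    ∀ s : SLn 3 K, h * s * h⁻¹ ∈ Cfsg.SU 4 K (Nat.card F) ↔ s ∈ SUs K := by
  obtain ⟨h, e⟩ := fi (F := F) (J K) (by rw [mem_SUs.1 (w0 : X K).2, J_sq])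
  have h1 : ∀ s : SLn 3 K, s ∈ Cfsg.SU 4 K (Nat.card F) ↔ J K * tau K s⁻¹ * J K * s = 1 := fun s => by
    have hJ : (J K).1 * (J K).1 = 1 := congrArg Subtype.val J_sq
    refine (H55.mem_SU_iff_transpose_mul (starRingEnd K) (star_eq hF) s).trans (Iff.trans ?_ Subtype.ext_iff.symm)
    rw [val_mul, val_mul, val_mul,
      tau_inv_val, ← mul_assoc, ← mul_assoc, hJ, one_mul, mul_assoc _ _ (J K).1, hJ, mul_one, val_one,
      ← transpose_inj, transpose_mul, transpose_transpose, transpose_one]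
    rfl
  refine ⟨h, fun s => ?_⟩
  have e' : J K = tau K h * h⁻¹ := by
    rw [← inv_eq_of_mul_eq_one_left J_sq, e, _root_.mul_inv_rev, inv_inv]
  have e2 : J K * tau K (h * s * h⁻¹)⁻¹ * J K * (h * s * h⁻¹) = h * ((tau K s)⁻¹ * s) * h⁻¹ := by
    nth_rewrite 2 [e']
    rw [e]
    simp only [map_inv, map_mul]
    group
  rw [h1, mem_SUs, e2, mul_inv_eq_one, mul_eq_left, inv_mul_eq_one]

theorem gcd_eq : Nat.gcd 4 (Nat.card F + 1) = 1 := by
  obtain ⟨f, f1, hf⟩ := H67.SA.exists_card_eq (F := F)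
  exact Nat.Coprime.pow_left 2 (Nat.coprime_two_left.2 (by
    rw [hf]; exact (Nat.even_pow.2 ⟨even_two, by omega⟩).add_one))

theorem exists_iso [Fintype K] (hF : Fintype.card K = Nat.card F ^ 2) : center (X K) = ⊥ ∧
    ∃ (h : SLn 3 K) (e : X K ≃* Cfsg.PSU 4 K (Nat.card F)), (∀ s : X K, ∃ s' : Cfsg.SU 4 K (Nat.card F),
      s'.1 = h * s.1 * h⁻¹ ∧ e s = QuotientGroup.mk s') ∧
      Function.Injective (QuotientGroup.mk : _ → Cfsg.PSU 4 K (Nat.card F)) := by
  obtain ⟨h, hh⟩ := exists_base hF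
  let e₀ : X K ≃* Cfsg.SU 4 K (Nat.card F) :=
    { toFun := fun s => ⟨h * s.1 * h⁻¹, (hh _).2 s.2⟩
      invFun := fun s => ⟨h⁻¹ * s.1 * h, (hh _).1 (by simp [mul_assoc])⟩
      left_inv := fun s => Subtype.ext (by simp [mul_assoc])
      right_inv := fun s => Subtype.ext (by simp [mul_assoc])
      map_mul' := fun s t => Subtype.ext (by simp [mul_assoc]) }
  have hc : center (Cfsg.SU 4 K (Nat.card F)) = ⊥ :=
    card_eq_one.1 ((H59.card_center_SU hF (by omega)).trans gcd_eq)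
  have hi := (MonoidHom.ker_eq_bot_iff _).1 ((QuotientGroup.ker_mk' _).trans hc)
  refine ⟨eq_bot_iff.2 fun a ha => e₀.injective ?_, h, e₀.trans (MulEquiv.ofBijective (QuotientGroup.mk' _)
    ⟨hi, QuotientGroup.mk'_surjective _⟩), fun s => ⟨e₀ s, rfl, rfl⟩, hi⟩
  rw [map_one, ← mem_bot, ← hc, mem_center_iff]
  intro b
  obtain ⟨b, rfl⟩ := e₀.surjective b
  rw [← map_mul, ← map_mul, mem_center_iff.1 ha b]

include F in
theorem dec (β : MulAut (X K)) : ∃ g τ, β = MulAut.conj g * fld K τ := by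
  have := Fintype.ofFinite K
  have hF : Fintype.card K = Nat.card F ^ 2 := by
    rw [← Qe.card (F := F) (K := K), Nat.card_eq_fintype_card]
  have h4 := Qe.two (F := F) (K := K)
  obtain ⟨-, h, e, he, hi⟩ := exists_iso hF
  obtain ⟨g, τ, hβ⟩ := H59.psu_aut hF (n := 4) (by omega) (by omega) (MulAut.congr e β)
  obtain ⟨s, hs⟩ := SVFK.dg_conj g.1
  obtain ⟨k, h1⟩ : ∃ k : SLn 3 K, ∀ a : X K, (β a).1 = k * slField _ K τ a.1 * k⁻¹ :=
    ⟨h⁻¹ * s * slField _ K τ h, fun a => by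
      have h1 : e (β a) = H59.psuDiag _ _ _ g (H59.psuField _ _ _ τ (e a)) := by
        rw [← MulAut.mul_apply, ← hβ]; simp
      obtain ⟨a', a1, a2⟩ := he a
      obtain ⟨b', b1, b2⟩ := he (β a)
      rw [a2, b2, H59.psuField_mk, H59.psuDiag_mk] at h1
      have h2 : b'.1 = slDiag _ K g.1 (slField _ K τ a'.1) := congrArg Subtype.val (hi h1)
      rw [hs, a1, b1, MulAut.conj_apply, map_mul, map_mul, map_inv] at h2
      calc (β a).1 = h⁻¹ * (h * (β a).1 * h⁻¹) * h := by group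
        _ = _ := by rw [h2]; group⟩
  have h2 : ∀ a : X K, (β ((fld K τ)⁻¹ a)).1 = k * a.1 * k⁻¹ := fun a => by
    rw [h1, show slField _ K τ ((fld K τ)⁻¹ a).1 = a.1 from
      congrArg Subtype.val (MulAut.apply_inv_self _ (fld K τ) a)]
  have h3 := (fix_X (F := F) (β := MulAut.conj (k⁻¹ * tau K k)) fun a => by
    have := mem_SUs.1 (β ((fld K τ)⁻¹ a)).2
    rw [h2, map_mul, map_mul, map_inv, mem_SUs.1 a.2] at this
    calc _ = k⁻¹ * (tau K k * a.1 * (tau K k)⁻¹) * k := by rw [MulAut.conj_apply]; group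
      _ = _ := by rw [this]; group).resolve_right fun e => by
      have := congrArg (fun β => (out 3 K β).2) e
      simp only [out_conj (show 2 ≤ 3 by omega), out_tau, Prod.snd_one] at this
      exact absurd this (by decide)
  rw [H67.SA.conj_eq_one, SVFK.cen, mem_bot, inv_mul_eq_one] at h3
  exact ⟨⟨k, mem_SUs.2 h3.symm⟩, τ, MulEquiv.ext fun a => Subtype.ext (h1 a)⟩

include F in
theorem exists_o : ∃ o : MulAut (X K) →* RingAut K,
    (∀ g, o (MulAut.conj g) = 1) ∧ ∀ τ, o (fld K τ) = τ := by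
  choose g τ hτ using dec (F := F) (K := K)
  refine ⟨MonoidHom.mk' τ fun a b => uniq (F := F) (g := g (a * b)) (g' := g a * fld K (τ a) (g b)) ?_,
    fun k => uniq (F := F) (g := g _) (g' := k) (by rw [map_one, mul_one]; exact (hτ _).symm),
    fun σ => uniq (F := F) (g := g _) (g' := 1) (by rw [map_one, one_mul]; exact (hτ _).symm)⟩
  rw [← hτ, map_mul, map_mul]
  conv_lhs => rw [hτ a, hτ b]
  ext1 s
  simp

theorem jobFO : H83.SV.JobFO.{u} := by
  intro F K _ _ _ _ _ _ _ _ _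
  have := Fintype.ofFinite K
  have hF : Fintype.card K = Nat.card F ^ 2 := by
    rw [← Qe.card (F := F) (K := K), Nat.card_eq_fintype_card]
  have h4 := Qe.two (F := F) (K := K)
  obtain ⟨hc, -, e, -⟩ := exists_iso hF
  have hs := H59.isSimpleGroup_PSU hF (n := 4) (by omega) (by omega)
  have hcard : Nat.card (X K) =
      Nat.card F ^ 6 * (Nat.card F ^ 2 - 1) * (Nat.card F ^ 3 + 1) * (Nat.card F ^ 4 - 1) := by
    have := Cfsg.Agent.S0280.result hF 4 (by omega)
    rw [gcd_eq, one_mul, ← Nat.card_congr e.toEquiv] at this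
    rw [Finset.prod_range_succ, Finset.prod_range_succ, Finset.prod_range_succ, Finset.prod_range_succ,
      Finset.prod_range_zero] at this
    refine Nat.eq_of_mul_eq_mul_left (Nat.succ_pos _) (this.trans ?_)
    norm_num [show ¬ Even 3 by decide]
    ring
  have ho := exists_o (F := F) (K := K)
  have o1 : ∀ g, oX K (MulAut.conj g) = 1 := fun g => by rw [oX, dif_pos ho]; exact ho.choose_spec.1 g
  have o2 : ∀ τ, oX K (fld K τ) = τ := fun g => by rw [oX, dif_pos ho]; exact ho.choose_spec.2 g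
  refine ⟨⟨e.isSimpleGroup, hc, hcard, ⟨e⟩, ⟨le_top, isP_UX, ?_⟩, o1, o2, fun β => ?_⟩,
    fun H _ _ π h1 h2 h3 h5 => ?_⟩
  · have h1 := (UX K).card_mul_index
    obtain ⟨f, f1, hf⟩ := H67.SA.exists_card_eq (F := F)
    have h2 : ∀ k, Even (Nat.card F ^ (k + 1)) := fun k => by
      rw [hf]; exact Nat.even_pow.2 ⟨Nat.even_pow.2 ⟨even_two, by omega⟩, by omega⟩
    have h3 : ∀ k, Odd (Nat.card F ^ (k + 1) - 1) := fun k =>
      Nat.Even.sub_odd (Nat.one_le_pow _ _ (by omega)) (h2 k) odd_one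
    rw [card_UX (F := F), hcard, mul_assoc, mul_assoc] at h1
    rw [relIndex_top_right, Nat.eq_of_mul_eq_mul_left (by positivity) h1]
    exact (h3 1).mul ((h2 2).add_one.mul (h3 3))
  · obtain ⟨g, τ, rfl⟩ := dec (F := F) β
    exact ⟨g, by rw [map_mul, o1, o2, one_mul]⟩
  · have : Fact (Nat.Prime 3) := ⟨by norm_num⟩
    rw [h4] at e hF
    obtain ⟨e'⟩ := Cfsg.Agent.S0822.result (F := K) (K := ZMod 3) hF (ZMod.card 3)
    have : Finite (Cfsg.PSp 2 (ZMod 3)) := Finite.of_equiv _ (e.trans e').toEquiv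
    have h6 := H21.card_ker_dvd_multCard (π := π) ⟨h1, h2, h3 ▸ le_top⟩
    rw [← H21.multCard_congr (e.trans e')] at h6
    obtain ⟨E, _, _, σ, s1, s2⟩ := H21.exists_stem_card_eq (Cfsg.PSp 2 (ZMod 3))
    obtain ⟨p, hp⟩ := (Cfsg.Agent.S2092.result (ZMod.card 3) 2 le_rfl (fun _ => le_rfl) (by simp)).2 E σ s1
    have h7 := Subgroup.card_dvd_of_surjective p hp
    rw [s2, Nat.card_congr Multiplicative.toAdd, Nat.card_zmod] at h7
    rw [← MonoidHom.ker_eq_bot_iff, ← card_eq_one]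
    rcases (Nat.dvd_prime Nat.prime_two).1 (h6.trans h7) with h | h
    · exact h
    · rw [h] at h5; exact absurd h5 (by decide)

end H83.SVFO
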