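import Cfsg.Agent.H83.SVInd
import Cfsg.Agent.H67.SAW0

/-! STD-U at `q = 2`, slot WU: the wreath case, unique fixed point. -/

set_option autoImplicit false
set_option linter.unusedSectionVars false

namespace H83.SVWU

open H64.SG (O2 Syl Cz Cs Ns cjs Is2 Inv2 UF IsO2 fx mem_Cs mem_Cz mem_fx is2_of_sq isPGroup_iff_is2)
open H67.SA (St cI cm mem_cI card_cjs conj_mem_cjs IG IG_le le_IG cm_mem_IG cjs_IG_le cm_eq_of_odd
  cm_mul_t cm_eq_one)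
open H83.SV H57 H98 Subgroup

universe u

variable {F K : Type} [Field F] [Finite F] [CharP F 2] [Field K] [Algebra F K] [StarRing K] [CharP K 2]
  [Qe F K] [Finite K] {G : Type u} [Group G] [Finite G] {e e' e₁ e₂ : X K →* G} {g t : G}

theorem z_ne : zX F K ≠ 1 := fun h => by simpa using xa_eq_one.1 h

theorem eq_top_of_cm (o : FO F K) {N : Subgroup (X K)} (hN : N.Normal) {y : X K} (hy : y ≠ 1)
    (h : ∀ a, cm y a ∈ N) : N = ⊤ := by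
  have := o.simple
  refine (hN.eq_bot_or_eq_top).resolve_left fun h1 => hy (mem_bot.1 (o.cen ▸ mem_center_iff.2 fun a => ?_))
  exact (cm_eq_one.1 (mem_bot.1 (h1 ▸ h a))).symm

theorem perfect (o : FO F K) (f : X K →* G) : f.range ≤ ⁅f.range, f.range⁆ := by
  have h := eq_top_of_cm o (N := ⁅⊤, ⊤⁆) inferInstance (z_ne (F := F))
    fun a => commutator_mem_commutator (mem_top _) (mem_top a)
  rw [MonoidHom.range_eq_map, ← map_commutator, h]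

theorem normal_comap {R : Subgroup G} {f : X K →* G} (h : ∀ b, ∃ n ∈ Ns R, Ind f n (MulAut.conj b)) :
    (R.comap f).Normal := ⟨fun a ha b => by
  obtain ⟨n, h1, h2⟩ := h b
  change f (MulAut.conj b a) ∈ R
  rw [← h2]
  exact conj_mem_of_mem_normalizer h1 ha⟩

theorem conj_t (c : CW e t e₁ e₂) {u : X K} (hu : u * u = 1) : e₁ u * t * (e₁ u)⁻¹ = e u * t := by
  rw [c.diag, ← c.sw, ← map_inv, inv_eq_of_mul_eq_one_right hu]; group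

theorem cm₁ (c : CW e t e₁ e₂) (a b : X K) : cm (e₁ a) (e b) = e₁ (cm a b) := by
  rw [cm, c.diag, ← mul_assoc, mul_assoc _ (e₂ b), ← map_inv, ← c.comm]
  simp [mul_assoc]

theorem ind₁ (c : CW e t e₁ e₂) (a : X K) : Ind e₁ (e a) (MulAut.conj a) := c.diag a ▸ c.ind₁ a a

theorem sup_le_of (c : CW e t e₁ e₂) {R : Subgroup G} (h1 : e.range ≤ R) (h2 : R.comap e₁ = ⊤) :
    G12 e₁ e₂ ≤ R := by
  have h3 : ∀ a, e₁ a ∈ R := fun a => (h2 ▸ mem_top a : a ∈ R.comap e₁)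
  refine sup_le ?_ ?_ <;> rintro _ ⟨a, rfl⟩
  exacts [h3 a, (mul_mem_cancel_left (h3 a)).1 (c.diag a ▸ h1 ⟨a, rfl⟩)]

theorem IG_eq (o : FO F K) (c : CW e t e₁ e₂) (h : B1 e t) : IG t e.range = G12 e₁ e₂ := by
  refine le_antisymm (IG_le h.cz c.le fun w hw => ?_) (sup_le_of c le_IG ?_)
  · obtain ⟨u, hu⟩ := hw
    have h3 : e u * t = w * t * w⁻¹ := by rw [hu]; exact inv_mul_cancel_right _ _
    have h4 : e u * t * (e u * t) = 1 := by rw [h3, conj_mul, h.inv.1]; simp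
    rw [mul_assoc, ← mul_assoc t, h.comm, mul_assoc, h.inv.1, mul_one, ← map_mul, ← map_one e] at h4
    exact ⟨e₁ u, mem_sup_left ⟨u, rfl⟩, by rw [conj_t c (h.inj h4), h3]⟩
  · refine eq_top_of_cm o (normal_comap fun b => ⟨e b, le_normalizer (le_IG ⟨b, rfl⟩), ind₁ c b⟩)
      (z_ne (F := F)) fun a => ?_
    rw [mem_comap, ← cm₁ c]
    exact cm_mem_IG (by rw [cm, conj_t c (xa_sq _)]; simp) ⟨a, rfl⟩

theorem ne (o : FO F K) (c : CW e t e₁ e₂) : ¬ e₂.range ≤ e₁.range := fun h =>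
  z_ne (F := F) (c.inj₂ ((c.eq_one o.cen (h ⟨_, rfl⟩) ⟨_, rfl⟩).trans (map_one _).symm))

/-- A normal copy of `X` in `G₁` is one of the two factors. -/
theorem eq_or (o : FO F K) (c : CW e t e₁ e₂) {f : X K →* G} (f1 : Function.Injective f)
    (f2 : f.range ≤ G12 e₁ e₂) (f3 : G12 e₁ e₂ ≤ Ns f.range) :
    f.range = e₁.range ∨ f.range = e₂.range := by
  have := o.simple
  have k : ∀ f' : X K →* G, Function.Injective f' → f'.range ≤ G12 e₁ e₂ →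
      G12 e₁ e₂ ≤ Ns f'.range → f.range ≠ f'.range → f.range ≤ Cs f'.range := by
    rintro f' a1 a2 a3 a5 v hv _ ⟨s, rfl⟩
    rcases (normal_comap (R := f.range) (f := f') fun b =>
      ⟨f' b, f3 (a2 ⟨b, rfl⟩), H83.SV.ind_conj b⟩).eq_bot_or_eq_top with h1 | h1
    · obtain ⟨r, hr⟩ : cm v (f' s) ∈ f'.range :=
        mul_mem (conj_mem_of_mem_normalizer (a3 (f2 hv)) ⟨s, rfl⟩) (inv_mem ⟨s, rfl⟩)
      have h2 : f' r ∈ f.range := by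
        simpa only [hr, cm, mul_assoc] using
          mul_mem hv (conj_mem_of_mem_normalizer (f3 (a2 ⟨s, rfl⟩)) (inv_mem hv))
      rw [mem_bot.1 (h1.le h2), map_one] at hr
      exact (cm_eq_one.1 hr.symm).symm
    · refine absurd (eq_of_le_of_card_ge ?_ ?_).symm a5
      · rintro _ ⟨a, rfl⟩; exact (h1 ▸ mem_top a : a ∈ f.range.comap f')
      · rw [← Nat.card_congr (MonoidHom.ofInjective f1).toEquiv,
          ← Nat.card_congr (MonoidHom.ofInjective a1).toEquiv]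
  by_contra h1
  push Not at h1
  exact z_ne (F := F) (f1 ((eq_one_of_Cs f1 o.cen ⟨_, rfl⟩ (centralizer_le f2 (mem_Cs_G12.2
    ⟨k e₁ c.inj le_sup_left c.G12_le_Ns h1.1 ⟨_, rfl⟩,
      k e₂ c.inj₂ le_sup_right c.G12_le_Ns' h1.2 ⟨_, rfl⟩⟩))).trans (map_one _).symm))

theorem pm (o : FO F K) (c : CW e t e₁ e₂) {m : G} (hm : m ∈ Ns (G12 e₁ e₂)) :
    m ∈ Ns e₁.range ∧ m ∈ Ns e₂.range ∨
      cjs m e₁.range = e₂.range ∧ cjs m e₂.range = e₁.range := by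
  have key : ∀ f : X K →* G, Function.Injective f → f.range ≤ G12 e₁ e₂ → G12 e₁ e₂ ≤ Ns f.range →
      cjs m f.range = e₁.range ∨ cjs m f.range = e₂.range := fun f f1 f2 f3 => by
    rw [← range_cje]
    refine eq_or o c (cje_inj f1 m) ?_ ?_ <;> rw [range_cje]
    · exact (cj_mono m f2).trans (cj_eq_self hm).le
    · rw [← H64.SG.cj_Ns]; exact (cj_eq_self hm).ge.trans (cj_mono m f3)
  have h3 : cjs m e₁.range ≠ cjs m e₂.range := fun h3 =>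
    ne o c (map_injective (MulAut.conj m).injective h3).ge
  rcases key e₁ c.inj le_sup_left c.G12_le_Ns with h1 | h1 <;>
    rcases key e₂ c.inj₂ le_sup_right c.G12_le_Ns' with h2 | h2
  · exact absurd (h1.trans h2.symm) h3
  · exact Or.inl ⟨cj_eq_self_iff.1 h1, cj_eq_self_iff.1 h2⟩
  · exact Or.inr ⟨h1, h2⟩
  · exact absurd (h1.trans h2.symm) h3

/-- Change of the swapping involution. -/
theorem chg (o : FO F K) (c : CW e t e₁ e₂) (h : B1 e t) (a : AB F e t)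
    (h1 : cjs (g * t * g⁻¹) e₁.range = e₂.range) : ∃ e' : X K →* G, e'.range = cjs g e.range ∧
      B1 e' (g * t * g⁻¹) ∧ CW e' (g * t * g⁻¹) e₁ (cje (g * t * g⁻¹) e₁) := by
  have h2 := h.cje g
  have h0 := a.pf g
  generalize g * t * g⁻¹ = s at *
  have h3 : ∀ a b, e₁ a * cje s e₁ b = cje s e₁ b * e₁ a := fun a b =>
    c.le_Cs (h1 ▸ range_cje (g := s) (e := e₁) ▸ ⟨b, rfl⟩) _ ⟨a, rfl⟩
  let e' := (e₁.noncommCoprod (cje s e₁) h3).comp ((MonoidHom.id _).prod (MonoidHom.id _))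
  have c' : CW e' s e₁ (cje s e₁) := ⟨c.inj, h3, fun _ => rfl, fun _ => rfl⟩
  have h4 : Function.Injective e' := fun _ _ h4 => (c'.inj2 o.cen h4).1
  have h5 : e'.range = cjs g e.range := eq_of_le_of_card_ge (h0 _ (by
    rintro _ ⟨a, rfl⟩
    rw [mem_Cz, ← mul_inv_eq_iff_eq_mul, c'.diag, ← conj_mul, c'.sw, (c'.symm h2.inv.1).sw, h3])
    (perfect o e')) (by rw [card_cjs, ← Nat.card_congr (MonoidHom.ofInjective h4).toEquiv,
      ← Nat.card_congr (MonoidHom.ofInjective h.inj).toEquiv])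
  exact ⟨e', h5, ⟨h4, h2.inv, h5 ▸ range_cje (e := e) (g := g) ▸ h2.cen,
    h5 ▸ range_cje (e := e) (g := g) ▸ h2.cz⟩, c'⟩

theorem ufs (o : FO F K) (c : CW e t e₁ e₂) (h : B1 e t) (a : AB F e t)
    (hg : cjs (g * t * g⁻¹) e₁.range = e₂.range) : g ∈ Ns (G12 e₁ e₂) := by
  obtain ⟨e', h1, h2, h3⟩ := chg o c h a hg
  have h4 := cjs_IG_le (t := t) (L := e.range) g
  rw [← h1, IG_eq o h3 h2, IG_eq o c h, G12, G12, range_cje, hg] at h4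
  exact mem_normalizer_of_cj_le h4

theorem not_conj (o : FO F K) (c : CW e t e₁ e₂) (a : AB F e t) {s : G} {A B : Subgroup (X K)}
    (h1 : A.map e₁ ≤ Cz s) (h2 : B.map e₂ ≤ Cz s) (h3 : El A) (h4 : El B)
    (h5 : Nat.card F ^ 3 ≤ Nat.card A) (h6 : Nat.card F ^ 3 ≤ Nat.card B) : ¬ IsConj t s :=
  a.not_conj (Y := pr e₁ e₂ A B) (sup_le h1 h2) (c.el_pr h3 h4) (by
    rw [c.card_pr o.cen, show 6 = 3 + 3 from rfl, pow_add]; exact Nat.mul_le_mul h5 h6)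

theorem odd (o : FO F K) (c : CW e t e₁ e₂) (h : CE e t) (a : AB F e t) :
    Odd (Nat.card (Cs (G12 e₁ e₂))) := H64.SG.odd_card_of_forall fun g hg => by
  obtain ⟨i, j, e1, h1, h2⟩ := H64.SG.exists_two_odd g
  by_cases h3 : g ^ i = 1
  · rwa [e1, h3, one_mul]
  obtain ⟨k, -, h4⟩ := h.conj (centralizer_le c.le (pow_mem hg i)) h1 h3
  have h5 : G12 e₁ e₂ ≤ Cz (g ^ i) := fun b hb => mem_Cz.2 (pow_mem hg i b hb).symm
  have h6 : Nat.card F ^ 3 ≤ Nat.card (AX K) :=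
    card_AX (F := F) (K := K) ▸ Nat.pow_le_pow_right Nat.card_pos (by decide)
  exact absurd (isConj_iff.2 ⟨k, h4.symm⟩) (not_conj o c a (((map_le_range _ _).trans le_sup_left).trans h5)
    (((map_le_range _ _).trans le_sup_right).trans h5) el_AX el_AX h6 h6)

theorem sw (o : FO F K) (i : FI F K) (c : CW e t e₁ e₂) (h : B1 e t) (a : AB F e t) {s : G}
    (hs : s ∈ Ns (G12 e₁ e₂)) (h1 : IsConj t s) : cjs s e₁.range = e₂.range := by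
  refine ((pm o c hs).resolve_left fun ⟨h2, h3⟩ => ?_).1
  have h4 := (H9.UF.inv2_conj h.inv h1).1
  obtain ⟨β₁, i1⟩ := exists_ind c.inj h2
  obtain ⟨β₂, i2⟩ := exists_ind c.inj₂ h3
  obtain ⟨A, a1, a2, a3⟩ := i.f3 β₁ (i1.sq c.inj h4)
  obtain ⟨B, b1, b2, b3⟩ := i.f3 β₂ (i2.sq c.inj₂ h4)
  exact not_conj o c a ((map_mono a1).trans i1.map_fx_le) ((map_mono b1).trans i2.map_fx_le)
    a2 b2 a3 b3 h1

theorem cM (o : FO F K) (c : CW e t e₁ e₂) (h : B1 e t) (od : Odd (Nat.card (Cs (G12 e₁ e₂))))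
    {A Z : Subgroup (X K)} (hZ : El Z) (ct : ∀ β : MulAut (X K), (∀ a ∈ A, β a = a) → β ∈ cI Z)
    (m : G) (m1 : m ∈ Ns (G12 e₁ e₂)) (m2 : m ∈ Cs (A.map e)) :
    (Is2 (cm m t) → cm m t ∈ Z.map e) ∧ (Odd (orderOf m) → m ∈ Cs (G12 e₁ e₂)) := by
  have t1 : t ∈ Ns (G12 e₁ e₂) := pr_top (e₁ := e₁) (e₂ := e₂) ▸ c.t_mem_Ns h.inv.1 ⊤
  have key : ∀ m ∈ Ns e₁.range, m ∈ Ns e₂.range → m ∈ Cs (A.map e) →
      (Is2 (cm m t) → cm m t ∈ Z.map e) ∧ m * m ∈ Cs (G12 e₁ e₂) := fun m a1 a2 a3 => by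
    obtain ⟨β₁, i1⟩ := exists_ind c.inj a1
    obtain ⟨β₂, i2⟩ := exists_ind c.inj₂ a2
    have k : ∀ u ∈ A, β₁ u = u ∧ β₂ u = u := fun u hu => by
      refine c.inj2 o.cen ?_
      rw [← i1, ← i2, conj_mul, ← c.diag, ← a3 _ ⟨u, hu, rfl⟩, mul_inv_cancel_right]
    obtain ⟨ζ₁, z1, rfl⟩ := mem_cI.1 (ct β₁ fun u hu => (k u hu).1)
    obtain ⟨ζ₂, z2, rfl⟩ := mem_cI.1 (ct β₂ fun u hu => (k u hu).2)
    have k1 : m * (e₁ ζ₁ * e₂ ζ₂)⁻¹ ∈ Cs (G12 e₁ e₂) :=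
      mem_Cs_G12.2 ⟨ind_one_iff.1 (by simpa using i1.mul (c.ind₁ ζ₁ ζ₂).inv),
        ind_one_iff.1 (by simpa using i2.mul (c.ind₂ ζ₁ ζ₂).inv)⟩
    have k0 : e₁ ζ₁ * e₂ ζ₂ ∈ G12 e₁ e₂ := c.mem_G12.2 ⟨_, _, rfl⟩
    have k2 : e₁ ζ₁ * e₂ ζ₂ * (e₁ ζ₁ * e₂ ζ₂) = 1 := by rw [c.mul_mul, hZ _ z1, hZ _ z2]; simp
    have k3 : cm (e₁ ζ₁ * e₂ ζ₂) t = e (ζ₁ * ζ₂) := by
      rw [cm, inv_eq_of_mul_eq_one_right k2, mul_assoc, mul_assoc, ← mul_assoc t, ← conj_mul, c.sw,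
        (c.symm h.inv.1).sw, ← c.comm, c.mul_mul, c.diag, hZ.comm z1 z2]
    obtain ⟨k, rfl⟩ : ∃ k, m = k * (e₁ ζ₁ * e₂ ζ₂) := ⟨m * _⁻¹, (inv_mul_cancel_right _ _).symm⟩
    rw [mul_inv_cancel_right] at k1
    refine ⟨fun k4 => ?_, ?_⟩
    · rw [cm_eq_of_odd od (normalizer_le_normalizer_centralizer _ t1) k1 (k3 ▸ fun a ha =>
        (ha _ (c.le ⟨_, rfl⟩)).symm) (k3 ▸ (is2_of_sq (hZ _ (mul_mem z1 z2))).map e) k4, k3]
      exact ⟨_, mul_mem z1 z2, rfl⟩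
    · rw [mul_assoc, ← mul_assoc (e₁ ζ₁ * e₂ ζ₂), k1 _ k0, mul_assoc k, k2, mul_one]
      exact mul_mem k1 k1
  rcases pm o c m1 with ⟨a1, a2⟩ | ⟨a1, a2⟩
  · exact ⟨(key m a1 a2 m2).1, H64.SG.mem_of_sq_mem (key m a1 a2 m2).2⟩
  · refine ⟨cm_mul_t (t := t) m ▸ (key (m * t) (cj_eq_self_iff.1 ?_) (cj_eq_self_iff.1 ?_)
      (mul_mem m2 (Cs_range_le _ h.cen))).1, fun ho => absurd ?_ (ne o c)⟩
    · rw [← cj_cj]; exact (congrArg _ c.cjs_range).trans a2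
    · rw [← cj_cj]; exact (congrArg _ (c.symm h.inv.1).cjs_range).trans a1
    · have : m ∈ Ns e₁.range := H64.SG.mem_of_sq_mem (cj_eq_self_iff.1 (by
        rw [← cj_cj]; exact (congrArg _ a1).trans a2)) ho
      exact a1.ge.trans (cj_eq_self this).le

theorem gen (o : FO F K) (c : CW e t e₁ e₂) {p : G} (o1 : p ∈ Cs e.range)
    (o2 : ∀ ζ ∈ Ns (G12 e₁ e₂), ζ ∈ Cs ((UX K).map e) → ζ * p * ζ⁻¹ ∈ Cs e.range) :
    p ∈ Ns (G12 e₁ e₂) := by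
  have z1 := o2 (e₁ (zX F K)) (le_normalizer (mem_sup_left ⟨_, rfl⟩)) (by
    rintro _ ⟨u, hu, rfl⟩
    rw [c.diag, mul_assoc, ← c.comm, ← mul_assoc, ← map_mul,
      ← UX_le_Cs hu _ (mem_ZX.2 ⟨(1 : F), rfl⟩), map_mul, mul_assoc])
  have z0 : e.range ≤ Cz p := fun a ha => mem_Cz.2 (o1 a ha).symm
  have z2 := eq_top_of_cm o (normal_comap (R := Cz p) (f := e₁) fun b =>
    ⟨e b, le_normalizer (z0 ⟨b, rfl⟩), ind₁ c b⟩) (inv_ne_one.2 (z_ne (F := F))) fun a => by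
      have k1 : (e₁ (zX F K))⁻¹ * e a * e₁ (zX F K) ∈ Cz p := mem_Cz.2 (by
        have := z1 _ ⟨a, rfl⟩
        calc _ = (e₁ (zX F K))⁻¹ * (e₁ (zX F K) * p * (e₁ (zX F K))⁻¹ * e a) * e₁ (zX F K) := by group
          _ = _ := by rw [← this]; group)
      change e₁ _ ∈ Cz p
      rw [← cm₁ c, map_inv, cm, inv_inv]
      exact mul_mem k1 (inv_mem (z0 ⟨a, rfl⟩))
  exact H64.SG.Cs_le_Ns _ fun a ha => (mem_Cz.1 (sup_le_of c z0 z2 ha)).symm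

theorem jobWU : JobWU.{u} := fun F K _ _ _ _ _ _ _ _ _ f _ _ _ e t e₁ e₂ h a c => by
  have t1 : t ∈ Ns (G12 e₁ e₂) := pr_top (e₁ := e₁) (e₂ := e₂) ▸ c.t_mem_Ns h.inv.1 ⊤
  have od := odd f.o c h a
  exact ⟨EG0.eg ⟨⟨⟨h.inv, t1, fun g hg => ufs f.o c h.toB1 a
    (sw f.o f.i c h.toB1 a hg (isConj_iff.2 ⟨g, rfl⟩))⟩, c.le, od, fun g hg =>
      isConj_iff.2 ⟨e₁ g, by rw [conj_t c hg, h.comm]⟩⟩,
    cM f.o c h.toB1 od el_AX f.n.ctA, cM f.o c h.toB1 od (el_AX.mono ZX_le_AX) f.n.ctQ,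
    fun _ => gen f.o c⟩ f.l h.toB1, fun _ => pm f.o c, fun _ => sw f.o f.i c h.toB1 a⟩

end H83.SVWU
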