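import Cfsg.Agent.H64.SFBasic
import Cfsg.Agent.H86.F4Kit

/-! STD-F4, job FE, part 0: products of root elements, congruence modulo `Z = X₄₄`, `qe`, `cE`. -/

set_option autoImplicit false
set_option linter.unusedSectionVars false
set_option synthInstance.maxSize 2000

namespace H83.SfE

open Cfsg.Lie H64.SF Subgroup
open H64.SG (Cz Cs Ns IsO2 mem_Cs mem_Cz)
open H67.SA (cm)
open H59.SO (AutOn)
open H86.WR (XF US UF4)
open H86.F4 (PP Nm Cert mem_PP)
open H46.SF (sh)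

variable {F : Type} [Field F] [CharP F 2]

/-- A product of root elements. -/
noncomputable def pr (l : List ℕ) (k : ℕ → F) : XF F := (l.map fun r => x F r (k r)).prod

theorem pr_nil (k : ℕ → F) : pr [] k = 1 := rfl
theorem pr_cons (r : ℕ) (l : List ℕ) (k : ℕ → F) : pr (r :: l) k = x F r (k r) * pr l k := by
  simp [pr]

theorem pr_mem {l : List ℕ} {k : ℕ → F} {K : Subgroup (XF F)} (h : ∀ r ∈ l, x F r (k r) ∈ K) :
    pr l k ∈ K := list_prod_mem fun g hg => by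
  obtain ⟨r, hr, rfl⟩ := List.mem_map.1 hg
  exact h r hr

/-- pairwise commuting roots -/
def Ab (l : List ℕ) : Prop := ∀ r ∈ l, r < 48 ∧ ∀ s ∈ l, 0 ≤ ip r s

instance (l : List ℕ) : Decidable (Ab l) := by unfold Ab; infer_instance

theorem Ab.tail {r : ℕ} {l : List ℕ} (h : Ab (r :: l)) : Ab l := fun s hs =>
  ⟨(h s (by simp [hs])).1, fun t ht => (h s (by simp [hs])).2 t (by simp [ht])⟩

theorem pr_add {l : List ℕ} (h : Ab l) (k k' : ℕ → F) : pr l k * pr l k' = pr l (k + k') := by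
  induction l with
  | nil => simp [pr_nil]
  | cons r l ih =>
    have h1 := h r (by simp)
    have h2 : pr l k ∈ Cz (x F r (k' r)) := pr_mem fun s hs =>
      mem_Cz.2 (x_c0 h1.1 (h s (by simp [hs])).1 (h1.2 s (by simp [hs])) _ _)
    rw [pr_cons, pr_cons, pr_cons, mul_assoc, ← mul_assoc (pr l k), ← mem_Cz.1 h2, mul_assoc,
      ih h.tail, ← mul_assoc, x_add h1.1, Pi.add_apply]

theorem pr_eq_one {l : List ℕ} (h : ∀ r ∈ l, r < 48) {k : ℕ → F} (e : ∀ r ∈ l, k r = 0) :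
    pr l k = 1 := mem_bot.1 (pr_mem fun r hr => by rw [e r hr, x_zero (h r hr)]; exact one_mem _)

theorem pr_single {l : List ℕ} (h : ∀ r ∈ l, r < 48) (nd : l.Nodup) {r : ℕ} (hr : r ∈ l) (c : F) :
    pr l (Pi.single r c) = x F r c := by
  induction l with
  | nil => simp at hr
  | cons s l ih =>
    rw [List.nodup_cons] at nd
    rw [pr_cons]
    by_cases e : s = r
    · subst e
      rw [pr_eq_one (fun t ht => h t (by simp [ht])) fun t ht => by
        rw [Pi.single_eq_of_ne (fun e : t = s => nd.1 (e ▸ ht))], Pi.single_eq_same, mul_one]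
    · rw [Pi.single_eq_of_ne e, x_zero (h s (by simp)), one_mul]
      exact ih (fun t ht => h t (by simp [ht])) nd.2 ((List.mem_cons.1 hr).resolve_left (Ne.symm e))

theorem exists_pr {l : List ℕ} (h : Ab l) (nd : l.Nodup) {g : XF F} (hg : g ∈ US F l) :
    ∃ k, g = pr l k := by
  let K : Subgroup (XF F) :=
    { carrier := {g | ∃ k, g = pr l k}
      one_mem' := ⟨0, (pr_eq_one (fun r hr => (h r hr).1) fun _ _ => rfl).symm⟩
      mul_mem' := by rintro _ _ ⟨k, rfl⟩ ⟨k', rfl⟩; exact ⟨_, pr_add h k k'⟩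
      inv_mem' := by
        rintro _ ⟨k, rfl⟩
        refine ⟨k, inv_eq_of_mul_eq_one_right ?_⟩
        rw [pr_add h]
        exact pr_eq_one (fun r hr => (h r hr).1) fun r _ => CharTwo.add_self_eq_zero _ }
  exact US_le (K := K) (fun r hr _ a => ⟨_, (pr_single (fun r hr => (h r hr).1) nd hr a).symm⟩) hg

theorem pr_zero {l T : List ℕ} (hs : l.Pairwise (· < ·)) (hp : ∀ r ∈ l, r ∈ PP) (hT : Nm T)
    {k : ℕ → F} (h : pr l k ∈ US F T) : ∀ r ∈ l, r ∉ T → k r = 0 := by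
  induction l with
  | nil => simp
  | cons s l ih =>
    rw [List.pairwise_cons] at hs
    rw [pr_cons] at h
    have h1 := mem_PP.1 (hp s (by simp))
    have key : s ∉ T → k s = 0 := fun e => hT.lead stB (hp s (by simp)) e (pr_mem fun t ht => by
      have h2 := hp t (by simp [ht])
      exact H64.SG.x_mem_gen (r := H86.F4.R t (mem_PP.1 h2).2)
        (by exact ⟨(H86.F4.pos_iff _).2 h2, hs.1 t ht⟩) _) h
    have h3 : pr l k ∈ US F T := by
      by_cases e : s ∈ T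
      · exact (mul_mem_cancel_left (x_mem e h1.2 _)).1 h
      · rwa [key e, x_zero h1.2, one_mul] at h
    intro r hr
    rcases List.mem_cons.1 hr with rfl | hr
    · exact key
    · exact ih hs.2 (fun t ht => hp t (by simp [ht])) h3 r hr

/-- `Z` is central in `P`. -/
theorem zc {z p : XF F} (hz : z ∈ Z F 44) (hp : p ∈ P F 44) : p * z = z * p := by
  obtain ⟨c, rfl⟩ := (mem_Z (by decide)).1 hz
  exact (mem_Cz.1 (US_le (K := Cz (x F 44 c)) (fun r hr h a =>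
    mem_Cz.2 (x_c0 (by decide) h (mem_lP.1 hr).2 c a)) hp)).symm

theorem z_sq {z : XF F} (hz : z ∈ Z F 44) : z * z = 1 := by
  obtain ⟨c, rfl⟩ := (mem_Z (by decide)).1 hz
  exact x_sq (by decide) c

theorem QP : Q F 44 ≤ P F 44 := US_mono fun _ hr => mem_lP.2 ⟨(mem_lQ.1 hr).1, (mem_lQ.1 hr).2.le⟩
theorem ZP : Z F 44 ≤ P F 44 := US_mono (by decide +kernel)
theorem xP (r : ℕ) (a : F) (h : r ∈ lP 44 := by decide +kernel) : x F r a ∈ P F 44 :=
  x_mem h (mem_lP.1 h).1 a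
theorem xQ (r : ℕ) (a : F) (h : r ∈ lQ 44 := by decide +kernel) : x F r a ∈ Q F 44 :=
  x_mem h (mem_lQ.1 h).1 a
theorem xZ (a : F) : x F 44 a ∈ Z F 44 := x_mem (by simp) (by decide) a

theorem cm_central {a b z w : XF F} (ha : a ∈ P F 44) (hb : b ∈ P F 44) (hz : z ∈ Z F 44)
    (hw : w ∈ Z F 44) : cm (z * a) (w * b) = cm a b := by
  have h1 : z * a * (w * b) * (z * a)⁻¹ = w * (a * b * a⁻¹) := by
    rw [← zc hz ha, mul_inv_rev, ← mul_assoc, mul_assoc a, ← zc hz (mul_mem (ZP hw) hb),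
      ← zc hw (mul_mem (mul_mem ha hb) (inv_mem ha)), mul_assoc (a * b), zc hw (inv_mem ha),
      ← zc hw hb]
    group
  rw [cm, cm, h1, ← zc hw hb, ← zc hw (mul_mem (mul_mem ha hb) (inv_mem ha)), mul_inv_rev]
  group

/-- congruence modulo `Z` -/
def E (a b : XF F) : Prop := a * b⁻¹ ∈ Z F 44

theorem E.refl (a : XF F) : E a a := by simp [E]
theorem E.of_eq {a b : XF F} (h : a = b) : E a b := h ▸ E.refl a
theorem E.symm {a b : XF F} (h : E a b) : E b a := by simpa [E] using inv_mem h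
theorem E.trans {a b c : XF F} (h : E a b) (k : E b c) : E a c := by simpa [E] using mul_mem h k
theorem E.conj {a b p : XF F} (h : E a b) (hp : p ∈ P F 44) : E (p * a * p⁻¹) (p * b * p⁻¹) := by
  have : p * a * p⁻¹ * (p * b * p⁻¹)⁻¹ = p * (a * b⁻¹) * p⁻¹ := by group
  rw [E, this, zc h hp, mul_inv_cancel_right]
  exact h
theorem E.mul {a b c d : XF F} (h : E a b) (k : E c d) (ha : a ∈ P F 44) : E (a * c) (b * d) := by
  have : a * c * (b * d)⁻¹ = a * (c * d⁻¹) * b⁻¹ := by group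
  rw [E, this, zc k ha, mul_assoc]
  exact mul_mem k h
theorem E.inv {a b : XF F} (h : E a b) (ha : a ∈ P F 44) : E a⁻¹ b⁻¹ := by
  have : a⁻¹ * b⁻¹⁻¹ = a⁻¹ * (a * b⁻¹)⁻¹ * a := by group
  rw [E, this, zc (inv_mem h) (inv_mem ha)]
  simpa using inv_mem h

/-- The roots of the Levi factor. -/
def Lv : List ℕ := [15, 16, 17, 18, 19, 20, 21, 22, 23, 24, 25, 26, 27, 28, 29, 30, 31, 32]

theorem Lv_spec : ∀ s ∈ Lv, s < 48 ∧ s ∈ lP 44 ∧ ip 44 s = 0 := by decide +kernel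

theorem gen_Q {K : Subgroup (XF F)} (h1 : ∀ s ∈ Lv, ∀ c, ∀ u ∈ K, x F s c * u * (x F s c)⁻¹ ∈ K)
    (h2 : ∀ a, x F 40 a ∈ K) : Q F 44 ≤ K := by
  have s1 : ∀ s r v : ℕ, (∀ a, x F r a ∈ K) → s ∈ Lv ∧ s < 48 ∧ r < 48 ∧ sh s = sh r ∧ ip s r < 0 ∧
      r ≠ 47 - s ∧ ad s r = v → ∀ a, x F v a ∈ K := fun s r v h e a => by
    rw [← one_mul a, ← c1' s r v 1 a e.2]
    exact mul_mem (h1 s e.1 1 _ (h a)) (inv_mem (h a))
  have s2 : ∀ r l v w : ℕ, (∀ a, x F r a ∈ K) → (∀ a, x F v a ∈ K) → l ∈ Lv ∧ S r ∧ L l ∧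
      ip r l < 0 ∧ ad r l = v ∧ ad r v = w → ∀ a, x F w a ∈ K := fun r l v w h h' e a => by
    have k := mul_mem (h 1) (h1 l e.1 a _ (inv_mem (h 1)))
    rw [← mul_assoc, ← mul_assoc, ← cm, c2' r l v w 1 a e.2, mul_mem_cancel_left (h' _)] at k
    simpa using k
  have a37 := s1 18 40 37 h2 (by decide +kernel)
  have a38 := s1 19 40 38 h2 (by decide +kernel)
  have a39 := s1 20 40 39 h2 (by decide +kernel)
  have a34 := s1 19 37 34 a37 (by decide +kernel)
  have a35 := s1 20 37 35 a37 (by decide +kernel)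
  have a36 := s1 20 38 36 a38 (by decide +kernel)
  have a33 := s1 20 34 33 a34 (by decide +kernel)
  have a44 : ∀ a, x F 44 a ∈ K := fun a => by
    rw [← mul_one a, ← c1' 40 33 44 a 1]
    exact mul_mem (mul_mem (mul_mem (h2 a) (a33 1)) (inv_mem (h2 a))) (inv_mem (a33 1))
  refine US_le fun r hr _ => ?_
  have : r ∈ [33, 34, 35, 36, 37, 38, 39, 40, 41, 42, 43, 44, 45, 46, 47] :=
    (by decide +kernel : ∀ r ∈ lQ 44, r ∈ [33, 34, 35, 36, 37, 38, 39, 40, 41, 42, 43, 44, 45, 46, 47])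
      r hr
  simp only [List.mem_cons, List.not_mem_nil, or_false] at this
  rcases this with rfl | rfl | rfl | rfl | rfl | rfl | rfl | rfl | rfl | rfl | rfl | rfl | rfl | rfl |
    rfl
  exacts [a33, a34, a35, a36, a37, a38, a39, h2, s2 33 30 37 41 a33 a37 (by decide +kernel),
    s2 33 31 38 42 a33 a38 (by decide +kernel), s2 33 32 39 43 a33 a39 (by decide +kernel), a44,
    s2 40 15 34 45 h2 a34 (by decide +kernel), s2 40 16 35 46 h2 a35 (by decide +kernel),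
    s2 40 17 36 47 h2 a36 (by decide +kernel)]

variable [Finite F]

theorem conjQ (R : FR F) {p u : XF F} (hp : p ∈ P F 44) (hu : u ∈ Q F 44) : p * u * p⁻¹ ∈ Q F 44 :=
  (mem_normalizer_iff.1 ((R.o2 44 (by decide)).2.1 hp) u).1 hu

theorem mem_V (R : FR F) {v : XF F} : v ∈ V F 44 ↔ ∀ u ∈ Q F 44, u * v = v * u := by
  rw [← R.cq 44 (by decide)]; exact mem_centralizer_iff

theorem conjV (R : FR F) {p v : XF F} (hp : p ∈ P F 44) (hv : v ∈ V F 44) :
    p * v * p⁻¹ ∈ V F 44 := (mem_V R).2 fun u hu => by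
  have := (mem_V R).1 hv _ (conjQ R (inv_mem hp) hu)
  calc u * (p * v * p⁻¹) = p * (p⁻¹ * u * p⁻¹⁻¹ * v) * p⁻¹ := by group
    _ = _ := by rw [this]; group

theorem abV : Ab (lV 44) := by decide +kernel

theorem v_sq {v : XF F} (hv : v ∈ V F 44) : v * v = 1 := by
  obtain ⟨k, rfl⟩ := exists_pr abV (by decide +kernel) hv
  rw [pr_add abV]
  exact pr_eq_one (fun r hr => (abV r hr).1) fun r _ => CharTwo.add_self_eq_zero _

theorem cE (R : FR F) : ∀ p ∈ P F 44, (∀ u ∈ Q F 44, cm p u ∈ Z F 44) → p ∈ Q F 44 := by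
  intro p hp h
  let K : Subgroup (XF F) :=
    { carrier := {p | p ∈ P F 44 ∧ ∀ u ∈ Q F 44, E (p * u * p⁻¹) u}
      one_mem' := ⟨one_mem _, fun u _ => E.of_eq (by group)⟩
      mul_mem' := fun {a b} ha hb => ⟨mul_mem ha.1 hb.1, fun u hu =>
        (E.of_eq (by group)).trans (((hb.2 u hu).conj ha.1).trans (ha.2 u hu))⟩
      inv_mem' := fun {a} ha => ⟨inv_mem ha.1, fun u hu =>
        ((E.of_eq (by group)).trans (ha.2 _ (conjQ R (inv_mem ha.1) hu))).symm⟩ }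
  refine (R.o2 44 (by decide)).2.2.2 K (fun _ h => h.1) (fun g hg => H98.mem_normalizer_of_cj_le ?_)
    (fun g => ⟨2, Subtype.ext ?_⟩) ⟨hp, h⟩
  · rintro _ ⟨a, ha, rfl⟩
    refine ⟨mul_mem (mul_mem hg ha.1) (inv_mem hg), fun u hu => ?_⟩
    have := (ha.2 _ (conjQ R (inv_mem hg) hu)).conj hg
    exact (E.of_eq (by simp only [MulEquiv.toMonoidHom_eq_coe, MonoidHom.coe_coe,
      MulAut.conj_apply]; group)).trans (this.trans (E.of_eq (by group)))
  · obtain ⟨g, h1, h2⟩ := g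
    have h3 : g * g ∈ V F 44 := (mem_V R).2 fun u hu => by
      have h4 := h2 u hu
      have h5 : g * u = g * u * g⁻¹ * u⁻¹ * (u * g) := by group
      rw [E] at h4
      generalize g * u * g⁻¹ * u⁻¹ = z at h4 h5
      rw [mul_assoc g, h5, ← mul_assoc g, zc h4 h1, mul_assoc z, ← mul_assoc g, h5, ← mul_assoc z,
        ← mul_assoc z z, z_sq h4, one_mul, mul_assoc]
    show g ^ 2 ^ 2 = 1
    rw [show g ^ 2 ^ 2 = g * g * (g * g) by norm_num [pow_succ, mul_assoc], v_sq h3]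

theorem qe (R : FR F) (θ : XF F → XF F) (A : AutOn (Q F 44) θ)
    (h : ∀ p ∈ P F 44, ∀ u ∈ Q F 44, θ (p * u * p⁻¹) * (p * θ u * p⁻¹)⁻¹ ∈ Z F 44) :
    ∃ l : F, l ≠ 0 ∧ ∀ u ∈ Q F 44, θ u * (H64.SF.h F 44 l * u * (H64.SF.h F 44 l)⁻¹)⁻¹ ∈ Z F 44 := by
  have hE : ∀ p ∈ P F 44, ∀ u ∈ Q F 44, E (θ (p * u * p⁻¹)) (p * θ u * p⁻¹) := h
  have hQ := A.bij.mapsTo
  have fx : ∀ k ∈ P F 44, k * x F 40 1 = x F 40 1 * k → cm (θ (x F 40 1)) k ∈ Z F 44 := by
    intro k hk e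
    have := h k hk _ (xQ 40 1)
    rw [e, mul_inv_cancel_right] at this
    have e2 : cm (θ (x F 40 1)) k = θ (x F 40 1) * (k * θ (x F 40 1) * k⁻¹)⁻¹ := by
      simp only [cm]; group
    rwa [e2]
  have c : Cert (lQ 44) [24, 25, 26, 27, 28, 29, 30, 31, 32] [44] [40, 44, 47] := by decide +kernel
  obtain ⟨k, hk⟩ := exists_pr (l := [40, 44, 47]) (by decide +kernel) (by decide)
    ((c.iff stB _ (hQ (xQ 40 1))).1 fun k hk => fx k (US_mono (by decide +kernel) hk)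
      (mem_Cz.1 (US_le (K := Cz (x F 40 1)) (fun r hr h a => mem_Cz.2 (x_c0 (by decide) h
        ((by decide +kernel : ∀ r ∈ [24, 25, 26, 27, 28, 29, 30, 31, 32], 0 ≤ ip 40 r) r hr) _ _))
        hk)).symm)
  simp only [pr_cons, pr_nil, mul_one] at hk
  have k47 : k 47 = 0 := by
    have h1 := fx _ (xP 23 1) (c0' 23 40 1 1)
    have h2 : cm (θ (x F 40 1)) (x F 23 1) = x F 40 (k 40) * x F 44 (k 44) *
        cm (x F 47 (k 47)) (x F 23 1) * (x F 40 (k 40) * x F 44 (k 44))⁻¹ *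
        cm (x F 40 (k 40) * x F 44 (k 44)) (x F 23 1) := by rw [hk]; simp only [cm]; group
    rw [h2, c1' 47 23 46, H67.SA.cm_eq_one.2 (by rw [mul_assoc, c0' 44 23, ← mul_assoc, c0' 40 23,
      mul_assoc]), mul_assoc (x F 40 _), c0' 44 46, ← mul_assoc, c0' 40 46, mul_assoc (x F 46 _),
      mul_inv_cancel_right, mul_one, mul_one] at h1
    exact H86.F4.Nm.eq_zero stB (T := [44]) (by decide +kernel) (by decide) (by decide) h1
  have e40 : E (θ (x F 40 1)) (x F 40 (k 40)) := by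
    rw [E, hk, k47, x_zero (by decide), mul_one, c0' 40 44, mul_inv_cancel_right]
    exact xZ _
  generalize k 40 = l at e40
  have hl : l ≠ 0 := by
    rintro rfl
    rw [x_zero (by decide), E, inv_one, mul_one] at e40
    have h1 : θ (cm (x F 40 1) (x F 33 1)) = θ 1 := by
      rw [H86.F4.autOn_cm A (xQ 40 1) (xQ 33 1), H86.F4.autOn_one A]
      exact H67.SA.cm_eq_one.2 (zc e40 (QP (hQ (xQ 33 1)))).symm
    rw [c1' 40 33 44] at h1
    exact one_ne_zero ((mul_one (1 : F)).symm.trans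
      ((x_eq_one (by decide)).1 (A.bij.injOn (xQ 44 _) (one_mem _) h1)))
  have nP : n F 29 ∈ P F 44 := by
    rw [n_eq (by decide)]; exact mul_mem (mul_mem (xP 29 1) (xP 18 1)) (xP 29 1)
  have e37 : E (θ (x F 37 1)) (x F 37 l) := by
    have h1 := (hE _ nP _ (xQ 40 1)).trans (e40.conj nP)
    rwa [n_conj (by decide) (by decide), n_conj (by decide) (by decide),
      show rf 29 40 = 37 by decide +kernel] at h1
  set H := H64.SF.h F 44 l with hH
  have HN : H ∈ Ns (Q F 44) := h_mem_Ns (by decide) hl _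
  let K : Subgroup (XF F) :=
    { carrier := {u | u ∈ Q F 44 ∧ E (θ u) (H * u * H⁻¹)}
      one_mem' := ⟨one_mem _, E.of_eq (by rw [H86.F4.autOn_one A]; group)⟩
      mul_mem' := fun {a b} ha hb => ⟨mul_mem ha.1 hb.1, by
        rw [A.mul _ ha.1 _ hb.1]
        exact (ha.2.mul hb.2 (QP (hQ ha.1))).trans (E.of_eq (by group))⟩
      inv_mem' := fun {a} ha => ⟨inv_mem ha.1, by
        rw [H86.F4.autOn_inv A ha.1]
        exact (ha.2.inv (QP (hQ ha.1))).trans (E.of_eq (by group))⟩ }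
  refine ⟨l, hl, fun u hu => (gen_Q (K := K) (fun s hs c u hu => ?_) (fun a => ⟨xQ 40 a, ?_⟩) hu).2⟩
  · obtain ⟨s1, s2, s3⟩ := Lv_spec s hs
    have h1 : H * x F s c = x F s c * H := by
      have := h_conj (s := 44) (by decide) s1 hl c
      rw [s3, mul_zero, Int.zero_ediv, zpow_zero, one_mul, mul_inv_eq_iff_eq_mul] at this
      exact this
    have sP := xP s c s2
    refine ⟨?_, ((hE _ sP _ hu.1).trans (hu.2.conj sP)).trans (E.of_eq ?_)⟩
    · exact conjQ R sP hu.1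
    · rw [← mul_assoc, ← mul_assoc, ← h1, mul_assoc _ H⁻¹, ← mul_inv_rev, ← h1]; group
  · have h1 : x F 29 a * x F 37 1 * (x F 29 a)⁻¹ ∈ Q F 44 := conjQ R (xP 29 a) (xQ 37 1)
    have h2 := ((hE _ (xP 29 a) _ (xQ 37 1)).trans (e37.conj (xP 29 a))).mul
      (e37.inv (QP (hQ (xQ 37 1)))) (QP (hQ h1))
    rw [← H86.F4.autOn_inv A (xQ 37 1), ← A.mul _ h1 _ (inv_mem (xQ 37 1)), ← cm, ← cm, c1' 29 37 40,
      c1' 29 37 40, mul_one] at h2
    rw [h_conj (by decide) (by decide) hl, show 2 * ip 44 40 / ip 44 44 = 1 by decide +kernel,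
      zpow_one, mul_comm l]
    exact h2

end H83.SfE
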