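import Cfsg.Agent.H83.SfE0

/-! STD-F4, job FE, part 1: `hq` and coordinates on `V`. -/

set_option autoImplicit false
set_option linter.unusedSectionVars false
set_option synthInstance.maxSize 2000

namespace H83.SfE

open Cfsg.Lie H64.SF Subgroup
open H64.SG (Cz Cs Ns IsO2 mem_Cs mem_Cz)
open H67.SA (cm cm_eq_one)
open H59.SO (AutOn)
open H86.WR (XF US UF4)
open H86.F4 (PP Nm Cert mem_PP)
open H46.SF (sh)
open scoped commutatorElement

variable {F : Type} [Field F] [CharP F 2] [Finite F]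

theorem cmZ (R : FR F) {a b : XF F} (ha : a ∈ Q F 44) (hb : b ∈ Q F 44) : cm a b ∈ Z F 44 :=
  R.zq 44 (by decide) ▸ commutator_mem_commutator ha hb

theorem cm_left {a b y : XF F} (ha : a ∈ P F 44) (h : cm b y ∈ Z F 44) :
    cm (a * b) y = cm b y * cm a y := by
  have : cm (a * b) y = a * cm b y * a⁻¹ * cm a y := by simp only [cm]; group
  rw [this, zc h ha, mul_inv_cancel_right]

theorem cm_right {a y w : XF F} (hy : y ∈ P F 44) (h : cm a w ∈ Z F 44) :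
    cm a (y * w) = cm a y * cm a w := by
  have : cm a (y * w) = cm a y * (y * cm a w * y⁻¹) := by simp only [cm]; group
  rw [this, zc h hy, mul_inv_cancel_right]

/-- The short roots of `Q` other than `σ`. -/
def SQ : List ℕ := [33, 34, 35, 36, 37, 38, 39, 40]

theorem tQ : ∀ s ∈ lQ 44, ∀ r ∈ SQ, s < 48 ∧ r < 48 ∧ r ∈ lQ 44 ∧ ((s ≠ 73 - r ∧ 0 ≤ ip s r) ∨
    (s = 73 - r ∧ sh s = sh r ∧ ip s r < 0 ∧ r ≠ 47 - s ∧ ad s r = 44)) := by decide +kernel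

theorem cm_x {s r : ℕ} (hs : s ∈ lQ 44) (hr : r ∈ SQ) (c a : F) :
    cm (x F s c) (x F r a) = x F 44 (if s = 73 - r then c * a else 0) := by
  obtain ⟨h1, h2, -, h3 | h3⟩ := tQ s hs r hr
  · rw [if_neg h3.1, x_zero (by decide), cm_eq_one.2 (x_c0 h1 h2 h3.2 _ _)]
  · rw [if_pos h3.1, c1' s r 44 c a ⟨h1, h2, h3.2⟩]

theorem lin {ζ : XF F} (hζ : ζ ∈ Q F 44) {r : ℕ} (hr : r ∈ SQ) :
    ∃ k, ∀ a, cm ζ (x F r a) = x F 44 (k * a) := by
  let K : Subgroup (XF F) :=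
    { carrier := {g | g ∈ P F 44 ∧ ∃ k, ∀ a, cm g (x F r a) = x F 44 (k * a)}
      one_mem' := ⟨one_mem _, 0, fun a => by rw [zero_mul, x_zero (by decide)]; simp [cm]⟩
      mul_mem' := by
        rintro g g' ⟨h1, k, h2⟩ ⟨h3, k', h4⟩
        refine ⟨mul_mem h1 h3, k' + k, fun a => ?_⟩
        rw [cm_left h1 (h4 a ▸ xZ _), h2, h4, x_add (by decide), add_mul]
      inv_mem' := by
        rintro g ⟨h1, k, h2⟩
        refine ⟨inv_mem h1, k, fun a => ?_⟩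
        have : cm g⁻¹ (x F r a) = g⁻¹ * (cm g (x F r a))⁻¹ * g := by simp only [cm]; group
        rw [this, h2, x_inv (by decide), zc (xZ _) (inv_mem h1), inv_mul_cancel_right] }
  refine (US_le (K := K) (fun s hs _ c => ⟨QP (xQ s c hs), if s = 73 - r then c else 0, fun a => ?_⟩)
    hζ).2
  rw [cm_x hs hr]; split_ifs <;> simp

theorem cm_pr {l : List ℕ} (hl : ∀ s ∈ l, s ∈ lQ 44) (nd : l.Nodup) {r : ℕ} (hr : r ∈ SQ)
    (κ : ℕ → F) (a : F) :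
    cm (pr l κ) (x F r a) = x F 44 (if 73 - r ∈ l then κ (73 - r) * a else 0) := by
  induction l with
  | nil => simp [pr_nil, cm, x_zero]
  | cons s l ih =>
    rw [List.nodup_cons] at nd
    have h1 := ih (fun t ht => hl t (by simp [ht])) nd.2
    rw [pr_cons, cm_left (QP (xQ s _ (hl s (by simp)))) (h1 ▸ xZ _), h1, cm_x (hl s (by simp)) hr,
      x_add (by decide)]
    by_cases e : s = 73 - r
    · subst e; simp [nd.1]
    · simp [e, Ne.symm e]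

theorem hq (R : FR F) (θ : XF F → XF F) (A : AutOn (Q F 44) θ)
    (h1 : ∀ u ∈ Q F 44, θ u * u⁻¹ ∈ Z F 44)
    (h2 : ∀ p ∈ P F 44, ∃ ζ ∈ Q F 44, ∀ u ∈ Q F 44, θ (p * u * p⁻¹) = ζ * (p * θ u * p⁻¹) * ζ⁻¹) :
    ∃ ζ ∈ Q F 44, ∀ u ∈ Q F 44, θ u = ζ * u * ζ⁻¹ := by
  have key : ∀ s r v : ℕ, s ∈ lP 44 ∧ r ∈ lQ 44 ∧ v ∈ lQ 44 ∧ s < 48 ∧ r < 48 ∧ sh s = sh r ∧
      ip s r < 0 ∧ r ≠ 47 - s ∧ ad s r = v →
      ∃ ζ ∈ Q F 44, ∀ a, θ (x F v a) = cm ζ (x F v a * x F r a) * x F v a := by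
    intro s r v ⟨e1, e2, e3, e4⟩
    obtain ⟨ζ, z1, z2⟩ := h2 _ (xP s 1 e1)
    refine ⟨ζ, z1, fun a => ?_⟩
    have c : x F s 1 * x F r a * (x F s 1)⁻¹ = x F v a * x F r a := by
      rw [← one_mul a, ← c1' s r v 1 a e4, one_mul, cm, inv_mul_cancel_right]
    have k := z2 _ (xQ r a e2)
    have hz := h1 _ (xQ r a e2)
    obtain ⟨z, e⟩ : ∃ z, z = θ (x F r a) * (x F r a)⁻¹ := ⟨_, rfl⟩
    rw [← e] at hz
    rw [eq_mul_inv_iff_mul_eq] at e
    rw [c, A.mul _ (xQ v a e3) _ (xQ r a e2), ← e, ← mul_assoc (x F s 1), zc hz (xP s 1 e1),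
      mul_assoc z, mul_assoc z, c, ← mul_assoc ζ, zc hz (QP z1), ← zc hz (QP (xQ r a e2)),
      mul_assoc z, mul_assoc z, ← zc hz (mul_mem (mul_mem (QP z1) (QP (mul_mem (xQ v a e3)
      (xQ r a e2)))) (inv_mem (QP z1))), ← mul_assoc, mul_left_inj, ← eq_mul_inv_iff_mul_eq] at k
    rw [k, cm]; group
  have ks : ∀ v ∈ SQ, ∃ k, ∀ a, θ (x F v a) = x F 44 (k * a) * x F v a := by
    intro v hv
    obtain ⟨s, -, r, hr, e⟩ := (by decide +kernel : ∀ v ∈ SQ, ∃ s ∈ [18, 29], ∃ r ∈ SQ,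
      s ∈ lP 44 ∧ r ∈ lQ 44 ∧ v ∈ lQ 44 ∧ s < 48 ∧ r < 48 ∧ sh s = sh r ∧ ip s r < 0 ∧ r ≠ 47 - s ∧
        ad s r = v) v hv
    obtain ⟨ζ, z1, z2⟩ := key s r v e
    obtain ⟨k, hk⟩ := lin z1 hv
    obtain ⟨k', hk'⟩ := lin z1 hr
    refine ⟨k + k', fun a => ?_⟩
    rw [z2, cm_right (QP (xQ v a e.2.2.1)) (hk' a ▸ xZ _), hk, hk', x_add (by decide), add_mul]
  choose! k hk using ks
  have kv : ∀ v ∈ lV 44, ∀ a, θ (x F v a) = x F v a := by
    intro v hv a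
    rcases (by decide +kernel : ∀ v ∈ lV 44, v = 44 ∨ ∃ s ∈ [21, 22, 23, 24, 25, 26], ∃ r ∈ lV 44,
      s ∈ lP 44 ∧ r ∈ lQ 44 ∧ v ∈ lQ 44 ∧ s < 48 ∧ r < 48 ∧ sh s = sh r ∧ ip s r < 0 ∧ r ≠ 47 - s ∧
        ad s r = v) v hv with rfl | ⟨s, -, r, hr, e⟩
    · rw [← mul_one a, ← c1' 40 33 44, H86.F4.autOn_cm A (xQ 40 a) (xQ 33 1), hk 40 (by decide),
        hk 33 (by decide), cm_central (xP 40 a) (xP 33 1) (xZ _) (xZ _)]
    · obtain ⟨ζ, z1, z2⟩ := key s r v e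
      rw [z2, cm_eq_one.2 ((mem_V R).1 (mul_mem (x_mem hv (abV v hv).1 a)
        (x_mem hr (abV r hr).1 a)) ζ z1), one_mul]
  have hζ : pr SQ (fun s => k (73 - s)) ∈ Q F 44 := pr_mem fun s hs =>
    xQ s _ (tQ 44 (by decide +kernel) s hs).2.2.1
  generalize hζ' : pr SQ (fun s => k (73 - s)) = ζ at hζ
  let K : Subgroup (XF F) :=
    { carrier := {u | u ∈ Q F 44 ∧ θ u = ζ * u * ζ⁻¹}
      one_mem' := ⟨one_mem _, by rw [H86.F4.autOn_one A]; group⟩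
      mul_mem' := fun {a b} ha hb => ⟨mul_mem ha.1 hb.1, by
        rw [A.mul _ ha.1 _ hb.1, ha.2, hb.2]; group⟩
      inv_mem' := fun {a} ha => ⟨inv_mem ha.1, by rw [H86.F4.autOn_inv A ha.1, ha.2]; group⟩ }
  refine ⟨ζ, hζ, fun u hu => (US_le (K := K) (fun r hr r1 a => ⟨xQ r a hr, ?_⟩) hu).2⟩
  rcases (by decide +kernel : ∀ r ∈ lQ 44, r ∈ lV 44 ∨ (r ∈ SQ ∧ 73 - r ∈ SQ ∧ 73 - (73 - r) = r))
    r hr with e | e
  · rw [kv r e, (mem_V R).1 (x_mem e r1 a) ζ hζ, mul_inv_cancel_right]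
  · have := cm_pr (l := SQ) (fun s hs => (tQ 44 (by decide +kernel) s hs).2.2.1) (by decide) e.1
      (fun s => k (73 - s)) a
    rw [hζ', if_pos e.2.1, e.2.2] at this
    rw [hk r e.1, ← this, cm, inv_mul_cancel_right]

/-! ### Coordinates on `V` -/

open Classical in
/-- The coordinates of an element of `V`. -/
noncomputable def co (v : XF F) (r : ℕ) : F :=
  if r ∈ lV 44 then if h : ∃ k, v = pr (lV 44) k then h.choose r else 0 else 0

theorem co_pr (k : ℕ → F) (r : ℕ) : co (pr (lV 44) k) r = if r ∈ lV 44 then k r else 0 := by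
  unfold co
  split_ifs with h1 h2
  · have h3 := pr_add abV h2.choose k
    rw [← h2.choose_spec, v_sq (pr_mem fun s hs => x_mem hs (abV s hs).1 _)] at h3
    have h4 := pr_zero (l := lV 44) (T := []) (by decide +kernel) (by decide +kernel) (by decide)
      (h3 ▸ one_mem _) r h1 (by simp)
    exact CharTwo.add_eq_zero.1 h4
  · exact absurd ⟨k, rfl⟩ h2
  · rfl

theorem co_not {v : XF F} {r : ℕ} (h : r ∉ lV 44) : co v r = 0 := if_neg h

theorem co_mul {v w : XF F} (hv : v ∈ V F 44) (hw : w ∈ V F 44) (r : ℕ) :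
    co (v * w) r = co v r + co w r := by
  obtain ⟨k, rfl⟩ := exists_pr abV (by decide +kernel) hv
  obtain ⟨k', rfl⟩ := exists_pr abV (by decide +kernel) hw
  rw [pr_add abV, co_pr, co_pr, co_pr]
  split_ifs <;> simp

theorem co_one (r : ℕ) : co (1 : XF F) r = 0 := by
  have := co_mul (one_mem (V F 44)) (one_mem _) r
  rwa [mul_one, left_eq_add] at this

theorem co_x {s : ℕ} (hs : s ∈ lV 44) (c : F) (r : ℕ) :
    co (x F s c) r = if r = s then c else 0 := by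
  rw [← pr_single (fun r hr => (abV r hr).1) (by decide +kernel) hs, co_pr]
  by_cases e : r = s
  · simp [e, hs]
  · simp [e]

theorem mem_of_co {v : XF F} (hv : v ∈ V F 44) {T : List ℕ}
    (h : ∀ r ∈ lV 44, r ∉ T → co v r = 0) : v ∈ US F T := by
  obtain ⟨k, rfl⟩ := exists_pr abV (by decide +kernel) hv
  refine pr_mem fun r hr => ?_
  by_cases e : r ∈ T
  · exact x_mem e (abV r hr).1 _
  · have := h r hr e
    rw [co_pr, if_pos hr] at this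
    rw [this, x_zero (abV r hr).1]; exact one_mem _

/-- exponent of the action on `V / Z` -/
def ex (s : ℕ) : ℕ := if sh s then 2 else 1
/-- the root moved to `r` by `X_s` -/
def bk (s r : ℕ) : ℕ := lc 1 r (-(ex s : ℤ)) s
/-- The long roots of `V` and a dummy. -/
def M8 : List ℕ := [41, 42, 43, 45, 46, 47, 48]

theorem tA : ∀ s ∈ Lv, ∀ v ∈ lV 44, s < 48 ∧ v < 48 ∧ ((0 ≤ ip s v ∧ ∀ r ∈ M8, bk s r ≠ v) ∨
    (sh s = false ∧ sh v = false ∧ ip s v < 0 ∧ v ≠ 47 - s ∧ ad s v ∈ lV 44 ∧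
      ∀ r ∈ M8, (r = ad s v ↔ bk s r = v)) ∨
    (sh s = true ∧ sh v = false ∧ ip s v < 0 ∧ ad s v = 44 ∧ ad s 44 ∈ lV 44 ∧
      ∀ r ∈ M8, r ≠ 44 ∧ (r = ad s 44 ↔ bk s r = v))) := by decide +kernel

theorem co_conj (R : FR F) {s r : ℕ} (hs : s ∈ Lv) (hr : r ∈ M8) (d : F) {v : XF F}
    (hv : v ∈ V F 44) :
    co (x F s d * v * (x F s d)⁻¹) r = co v r + d ^ ex s * co v (bk s r) := by
  have sP := xP s d (Lv_spec s hs).2.1
  let K : Subgroup (XF F) :=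
    { carrier := {v | v ∈ V F 44 ∧
        co (x F s d * v * (x F s d)⁻¹) r = co v r + d ^ ex s * co v (bk s r)}
      one_mem' := ⟨one_mem _, by simp [co_one]⟩
      mul_mem' := fun {a b} ha hb => ⟨mul_mem ha.1 hb.1, by
        rw [← conj_mul, co_mul (conjV R sP ha.1) (conjV R sP hb.1), ha.2, hb.2, co_mul ha.1 hb.1,
          co_mul ha.1 hb.1]; ring⟩
      inv_mem' := fun {a} ha => by rwa [inv_eq_of_mul_eq_one_right (v_sq ha.1)] }
  refine (US_le (K := K) (fun t ht t1 c => ⟨x_mem ht t1 c, ?_⟩) hv).2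
  have e0 : x F s d * x F t c * (x F s d)⁻¹ = cm (x F s d) (x F t c) * x F t c := by
    rw [cm, inv_mul_cancel_right]
  rw [e0]
  obtain ⟨s1, -, e | e | e⟩ := tA s hs t ht
  · rw [cm_eq_one.2 (x_c0 s1 t1 e.1 _ _), one_mul, co_x ht, co_x ht, if_neg (e.2 r hr)]; simp
  · obtain ⟨e1, e2, e3, e4, e5, e6⟩ := e
    rw [x_c1 s1 t1 (e1.trans e2.symm) e3 e4, co_mul (x_mem e5 (abV _ e5).1 _) (x_mem ht t1 c),
      co_x e5, co_x ht, co_x ht, ex, e1]
    simp only [e6 r hr]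
    split_ifs <;> simp_all [add_comm]
  · obtain ⟨e1, e2, e3, e4, e5, e6⟩ := e
    rw [x_c2 ⟨s1, e1⟩ ⟨t1, e2⟩ e3, e4, co_mul (mul_mem (x_mem (by decide +kernel) (by decide) _)
      (x_mem e5 (abV _ e5).1 _)) (x_mem ht t1 c), co_mul (x_mem (by decide +kernel) (by decide) _)
      (x_mem e5 (abV _ e5).1 _), co_x e5, co_x ht, co_x ht, co_x (by decide +kernel),
      if_neg (e6 r hr).1, ex, e1]
    simp only [(e6 r hr).2]
    split_ifs <;> simp_all [add_comm]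

end H83.SfE
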