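import Cfsg.Agent.H83.W2M
import Cfsg.Agent.H78.Perp
import Cfsg.Agent.H78.XSMap

/-! Coordinates on an extraspecial group of order 32 and its automorphisms. -/

set_option autoImplicit false
set_option maxRecDepth 100000
set_option synthInstance.maxSize 100000
set_option synthInstance.maxHeartbeats 0

namespace H83.W2

open Cfsg H78

variable {G : Type*} [Group G]

/-- coordinates on `Q / ⟨z⟩` -/
structure Cd (Q : Subgroup G) (z : G) (ε : Bool) where
  /-- the projection -/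
  π : G → V
  xs : XS Q z
  π_mul : ∀ {x y}, x ∈ Q → y ∈ Q → π (x * y) = π x + π y
  surj : ∀ v, ∃ x ∈ Q, π x = v
  π_eq_zero : ∀ {x}, x ∈ Q → (π x = 0 ↔ x = 1 ∨ x = z)
  B_π : ∀ {x y}, x ∈ Q → y ∈ Q → B (π x) (π y) = cf x y
  q_π : ∀ {x}, x ∈ Q → q ε (π x) = sf x
  ex : ∀ f : G → G, (∀ x ∈ Q, f x ∈ Q) → (∀ x ∈ Q, ∀ y ∈ Q, f (x * y) = f x * f y) →
    Set.InjOn f Q → ∃ g : X ε, ∀ x ∈ Q, act g (π x) = π (f x)

theorem exists_cd [Finite G] {Q : Subgroup G} {z : G} (h : XS Q z) (hc : Nat.card Q = 32) :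
    ∃ ε, Nonempty (Cd Q z ε) := by
  classical
  obtain ⟨ε, a, b, c, d, s, qa, qb, qc, qd⟩ := exists_std h hc
  let π : G → V := fun x => vec (cf x b) (cf x a) (cf x d) (cf x c)
  have pm : ∀ {x y}, x ∈ Q → y ∈ Q → π (x * y) = π x + π y := fun hx hy => by
    simp only [π, h.cf_mul_left hx hy, s.ma, s.mb, s.mc, s.md, vec_add]
  have pa : π a = .mk 1 := by simp only [π, s.ab, s.ac, s.ad, cf_self]; decide
  have pb : π b = .mk 2 := by simp only [π, s.sw1.ab, s.bc, s.bd, cf_self]; decide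
  have pc : π c = .mk 4 := by simp only [π, s.cd, s.sw2.ac, s.sw2.ad, cf_self]; decide
  have pd : π d = .mk 8 := by simp only [π, s.sw2.sw1.ab, s.sw2.bc, s.sw2.bd, cf_self]; decide
  have p1 : π 1 = 0 := by simp only [π, cf_one_left]; decide
  have pz : π z = 0 := by simp only [π, h.cf_z_left, s.ma, s.mb, s.mc, s.md]; decide
  have sj : ∀ v, ∃ x ∈ Q, π x = v := V.ind ⟨1, one_mem _, p1⟩
    (fun v ⟨x, hx, e⟩ => ⟨_, mul_mem hx s.ma, by rw [pm hx s.ma, e, pa]⟩)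
    (fun v ⟨x, hx, e⟩ => ⟨_, mul_mem hx s.mb, by rw [pm hx s.mb, e, pb]⟩)
    (fun v ⟨x, hx, e⟩ => ⟨_, mul_mem hx s.mc, by rw [pm hx s.mc, e, pc]⟩)
    fun v ⟨x, hx, e⟩ => ⟨_, mul_mem hx s.md, by rw [pm hx s.md, e, pd]⟩
  have p0 : ∀ {x}, x ∈ Q → (π x = 0 ↔ x = 1 ∨ x = z) := fun {x} hx => by
    refine ⟨fun e => ?_, by rintro (rfl | rfl) <;> assumption⟩
    let f : Q →* Multiplicative V := MonoidHom.mk' (fun x => Multiplicative.ofAdd (π x))
      fun x y => congrArg Multiplicative.ofAdd (pm x.2 y.2)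
    have h1 := f.ker.card_mul_index
    rw [Subgroup.index_ker, MonoidHom.range_eq_top.2 fun v => by
      obtain ⟨x, hx, e⟩ := sj v.toAdd; exact ⟨⟨x, hx⟩, congrArg Multiplicative.ofAdd e⟩,
      Subgroup.card_top, hc, Nat.card_congr Multiplicative.toAdd, V.card] at h1
    have := H93.LX.two_cases (I := f.ker) (by omega) (a := ⟨z, h.z_mem⟩)
      (congrArg Multiplicative.ofAdd pz) (fun e => h.z_ne (congrArg Subtype.val e)) (x := ⟨x, hx⟩)
      (congrArg Multiplicative.ofAdd e)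
    exact this.imp (congrArg Subtype.val) (congrArg Subtype.val)
  have ind : ∀ P : G → Prop, P 1 → P z → (∀ y ∈ Q, ∀ e, e = a ∨ e = b ∨ e = c ∨ e = d →
      P (y * e) → P y) → ∀ y ∈ Q, P y := fun P h1 h2 h3 y hy => by
    have k : ∀ e ∈ Q, (e = a ∨ e = b ∨ e = c ∨ e = d) → ∀ v, (∀ y ∈ Q, π y = v → P y) →
        ∀ y ∈ Q, π y = v + π e → P y := fun e he he' v hv y hy e1 =>
      h3 y hy e he' (hv _ (mul_mem hy he) (by rw [pm hy he, e1, V.add_add]))
    exact V.ind (P := fun v => ∀ y ∈ Q, π y = v → P y)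
      (fun y hy e => by rcases (p0 hy).1 e with rfl | rfl <;> assumption)
      (pa ▸ k a s.ma (by simp)) (pb ▸ k b s.mb (by simp)) (pc ▸ k c s.mc (by simp))
      (pd ▸ k d s.md (by simp)) _ y hy rfl
  have mm : ∀ {e}, e = a ∨ e = b ∨ e = c ∨ e = d → e ∈ Q := by
    rintro e (rfl | rfl | rfl | rfl)
    exacts [s.ma, s.mb, s.mc, s.md]
  have pB : ∀ {x y}, x ∈ Q → y ∈ Q → B (π x) (π y) = cf x y := fun {x y} hx hy => by
    refine ind (fun y => B (π x) (π y) = cf x y) (by rw [p1, B_zero, cf_one_right])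
      (by rw [pz, B_zero, h.cf_z_right hx]) (fun y hy e he h1 => ?_) y hy
    have h2 : B (π x) (π e) = cf x e := by
      obtain ⟨k1, k2, k3, k4⟩ := B_vec (cf x b) (cf x a) (cf x d) (cf x c)
      rcases he with rfl | rfl | rfl | rfl
      exacts [pa ▸ k1, pb ▸ k2, pc ▸ k3, pd ▸ k4]
    rwa [pm hy (mm he), B_add, h.cf_mul_right hy (mm he) hx, h2, add_left_inj] at h1
  have pq : ∀ {x}, x ∈ Q → q ε (π x) = sf x := fun {x} hx => by
    refine ind (fun y => q ε (π y) = sf y) (by rw [p1, q_zero, sf_one])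
      (by rw [pz, q_zero, h.sf_z]) (fun y hy e he h1 => ?_) x hx
    have h2 : q ε (π e) = sf e := by
      obtain ⟨k1, k2, k3, k4⟩ := q_bas ε
      rcases he with rfl | rfl | rfl | rfl
      exacts [by rw [pa, k1, qa], by rw [pb, k2, qb], by rw [pc, k3, qc], by rw [pd, k4, qd]]
    rwa [pm hy (mm he), q_add, h.sf_mul hy (mm he), h2, pB hy (mm he), add_left_inj,
      add_left_inj] at h1
  refine ⟨ε, ⟨⟨π, h, pm, sj, p0, pB, pq, fun f n fm fi => ?_⟩⟩⟩
  have f1 : f 1 = 1 := by simpa using fm 1 (one_mem _) 1 (one_mem _)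
  have fc : ∀ {x y}, x ∈ Q → y ∈ Q → cf (f x) (f y) = cf x y := fun hx hy => zmod2_ext (by
    rw [cf_eq_zero, cf_eq_zero, ← fm _ hx _ hy, ← fm _ hy _ hx]
    exact fi.eq_iff (mul_mem hx hy) (mul_mem hy hx))
  have fs : ∀ {x}, x ∈ Q → sf (f x) = sf x := fun hx => zmod2_ext (by
    rw [sf_eq_zero, sf_eq_zero, ← fm _ hx _ hx, ← f1]
    exact (fi.eq_iff (mul_mem hx hx) (one_mem _)).trans (by rw [f1]))
  have fz : f z = z := by
    have e := (h.sf_eq_one' (n _ s.ma)).1 ((fs s.ma).trans qa)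
    rwa [← fm _ s.ma _ s.ma, (h.sf_eq_one' s.ma).1 qa] at e
  obtain ⟨k1, k2, k3, k4⟩ := q_bas ε
  obtain ⟨ρ, r1, r2, r3, r4⟩ := exists_X ε (π (f a)) (by rw [pq (n _ s.ma), fs s.ma, qa])
    (π (f b)) (by rw [pq (n _ s.mb), fs s.mb, qb])
    (by rw [pB (n _ s.ma) (n _ s.mb), fc s.ma s.mb, s.ab])
    (π (f c)) (by rw [pq (n _ s.mc), fs s.mc, qc, k3])
    (by rw [pB (n _ s.ma) (n _ s.mc), fc s.ma s.mc, s.ac])
    (by rw [pB (n _ s.mb) (n _ s.mc), fc s.mb s.mc, s.bc])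
    (π (f d)) (by rw [pq (n _ s.md), fs s.md, qd, k4])
    (by rw [pB (n _ s.ma) (n _ s.md), fc s.ma s.md, s.ad])
    (by rw [pB (n _ s.mb) (n _ s.md), fc s.mb s.md, s.bd])
    (by rw [pB (n _ s.mc) (n _ s.md), fc s.mc s.md, s.cd])
  refine ⟨ρ, ind (fun y => act ρ (π y) = π (f y)) (by rw [f1, p1, act_zero])
    (by rw [fz, pz, act_zero]) fun y hy e he h1 => ?_⟩
  have h2 : act ρ (π e) = π (f e) := by
    rcases he with rfl | rfl | rfl | rfl
    exacts [pa ▸ r1, pb ▸ r2, pc ▸ r3, pd ▸ r4]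
  rwa [pm hy (mm he), act_add, fm _ hy _ (mm he), pm (n _ hy) (n _ (mm he)), h2,
    add_left_inj] at h1

theorem plus_sing : ∃ u v : V, u ≠ 0 ∧ v ≠ 0 ∧ u ≠ v ∧ ∀ x, x = 0 ∨ x = u ∨ x = v ∨ x = u + v →
    q false x = 0 ∧ ∀ y, y = 0 ∨ y = u ∨ y = v ∨ y = u + v → B x y = 0 ∧
      (x + y = 0 ∨ x + y = u ∨ x + y = v ∨ x + y = u + v) := by decide +kernel

theorem tv_act : ∀ g : X true, ty g = 1 → q true (tw g) = 1 ∧
    ∀ v, (B v (tw g) = 0 → act g v = v) ∧ (B v (tw g) = 1 → act g v = v + tw g) := by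
  decide +kernel

theorem ty3_dec : ∀ g : X true, ty g = 3 → ∃ a : X true, ty a = 1 ∧ ty (a * g) = 1 := by
  decide +kernel

theorem tv_five : ∀ t : X true, ty t = 1 → ∀ p : X true, p * p * (p * p) * p = 1 → p ≠ 1 →
    ∀ k : X true, k = t * p * (t * p) → k * k * (k * k) * k ≠ 1 := by decide +kernel

theorem eq_top_of_tv {R : Subgroup (X true)} (h : ∀ g, ty g = 1 → g ∈ R) : R = ⊤ := by
  have h3 : ∀ g, ty g = 3 → g ∈ R := fun g hg => by
    obtain ⟨a, h1, h2⟩ := ty3_dec g hg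
    exact (mul_mem_cancel_left (h a h1)).1 (h _ h2)
  have he : ∀ g, dk0 g = 0 → g ∈ R := fun g hg => by
    rcases even_gen g hg with rfl | ⟨a, h1, h2 | h2⟩
    · exact one_mem _
    · exact (mul_mem_cancel_left (h3 a h1)).1 (h2 ▸ one_mem _)
    · exact (mul_mem_cancel_left (h3 a h1)).1 (h3 _ h2)
  refine eq_top_iff.2 fun g _ => ?_
  by_cases hg : dk0 g = 0
  · exact he g hg
  · obtain ⟨k, h1, h2⟩ := minus_ex.2 g hg
    exact (mul_mem_cancel_left (he k h1)).1 (h _ h2)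

namespace Cd

variable {Q : Subgroup G} {z : G} {ε : Bool} (M : Cd Q z ε)

theorem π_one : M.π 1 = 0 := (M.π_eq_zero (one_mem _)).2 (Or.inl rfl)

theorem π_z : M.π z = 0 := (M.π_eq_zero M.xs.z_mem).2 (Or.inr rfl)

theorem π_inv {x : G} (hx : x ∈ Q) : M.π x⁻¹ = M.π x := by
  rw [← V.add_eq_zero, ← M.π_mul (inv_mem hx) hx, inv_mul_cancel, M.π_one]

theorem π_eq {x y : G} (hx : x ∈ Q) (hy : y ∈ Q) (e : M.π x = M.π y) : x = y ∨ x = y * z := by
  have := (M.π_eq_zero (mul_mem (inv_mem hy) hx)).1 (by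
    rw [M.π_mul (inv_mem hy) hx, M.π_inv hy, e, V.add_self])
  exact this.imp (fun e => (inv_mul_eq_one.1 e).symm) inv_mul_eq_iff_eq_mul.1

theorem π_conj {x y : G} (hx : x ∈ Q) (hy : y ∈ Q) : M.π (x * y * x⁻¹) = M.π y := by
  rw [M.π_mul (mul_mem hx hy) (inv_mem hx), M.π_mul hx hy, M.π_inv hx, add_comm (M.π x),
    V.add_add]

theorem X_ext {g k : X ε} (h : ∀ x ∈ Q, act g (M.π x) = act k (M.π x)) : g = k :=
  act_ext _ _ fun v => by obtain ⟨x, hx, rfl⟩ := M.surj v; exact h x hx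

/-- The plus type contains an elementary abelian group of order eight. -/
theorem not_plus [Finite G] (M : Cd Q z false)
    (h : ∀ A : Subgroup G, A ≤ Q → IsElementaryAbelian 2 A → Nat.card A ≤ 4) : False := by
  obtain ⟨u, v, u0, v0, uv, k⟩ := plus_sing
  let A : Subgroup G :=
    { carrier := {x | x ∈ Q ∧ (M.π x = 0 ∨ M.π x = u ∨ M.π x = v ∨ M.π x = u + v)}
      mul_mem' := fun hx hy => ⟨mul_mem hx.1 hy.1, M.π_mul hx.1 hy.1 ▸ ((k _ hx.2).2 _ hy.2).2⟩
      one_mem' := ⟨one_mem _, Or.inl M.π_one⟩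
      inv_mem' := fun hx => ⟨inv_mem hx.1, (M.π_inv hx.1).symm ▸ hx.2⟩ }
  have h4 := h A (fun _ hx => hx.1) ⟨⟨⟨fun x y => Subtype.ext (cf_eq_zero.1
    ((M.B_π x.2.1 y.2.1).symm.trans ((k _ x.2.2).2 _ y.2.2).1))⟩⟩, fun x hx => by
      rw [sq, ← sf_eq_zero, ← M.q_π hx.1, (k _ hx.2).1]⟩
  obtain ⟨x, hx, rfl⟩ := M.surj u
  obtain ⟨y, hy, rfl⟩ := M.surj v
  have s0 : M.π x + M.π y ≠ 0 := mt (V.add_eq_zero _ _).1 uv
  have s1 : M.π x + M.π y ≠ M.π x := by simpa using v0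
  have s2 : M.π x + M.π y ≠ M.π y := by simpa using u0
  have := Fintype.ofFinite A
  have ne : ∀ {a b : G} {s t : V}, M.π a = s → M.π b = t → s ≠ t → a ≠ b :=
    fun e1 e2 n e => n (e1.symm.trans (e ▸ e2))
  have m := M.π_mul hx hy
  have nd : ([1, ⟨z, M.xs.z_mem, Or.inl M.π_z⟩, ⟨x, hx, by simp⟩, ⟨y, hy, by simp⟩,
      ⟨x * y, mul_mem hx hy, by simp [m]⟩] : List A).Nodup := by
    refine List.Nodup.of_map Subtype.val ?_
    simp only [List.map_cons, List.map_nil, List.nodup_cons, List.mem_cons, List.not_mem_nil,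
      or_false, not_or, not_false_iff, List.nodup_nil, and_true]
    exact ⟨⟨M.xs.z_ne.symm, ne M.π_one rfl u0.symm, ne M.π_one rfl v0.symm, ne M.π_one m s0.symm⟩,
      ⟨ne M.π_z rfl u0.symm, ne M.π_z rfl v0.symm, ne M.π_z m s0.symm⟩,
      ⟨ne rfl rfl uv, ne rfl m s1.symm⟩, ne rfl m s2.symm⟩
  have := nd.length_le_card
  rw [← Nat.card_eq_fintype_card] at this
  simp only [List.length_cons, List.length_nil] at this
  omega

/-- the action on the coordinates -/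
theorem exists_hom {A : Type*} [Group A] (f : A →* MulAut G) (hf : ∀ a, ∀ x ∈ Q, f a x ∈ Q) :
    ∃ ρ : A →* X ε, ∀ a, ∀ x ∈ Q, act (ρ a) (M.π x) = M.π (f a x) := by
  choose r hr using fun a => M.ex (f a) (hf a) (fun x _ y _ => map_mul _ x y) (f a).injective.injOn
  exact ⟨MonoidHom.mk' r fun a b => M.X_ext fun x hx => by
    rw [act_mul, hr b x hx, hr a _ (hf b x hx), hr _ x hx, map_mul, MulAut.mul_apply], hr⟩

theorem inner_of [Finite G] (φ : MulAut G) (hφ : ∀ x ∈ Q, φ x ∈ Q)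
    (h : ∀ x ∈ Q, M.π (φ x) = M.π x) : ∃ c ∈ Q, ∀ x ∈ Q, φ x = c * x * c⁻¹ :=
  M.xs.exists_inner φ (fun x _ y _ => map_mul φ x y)
    (((M.π_eq_zero (hφ _ M.xs.z_mem)).1 ((h _ M.xs.z_mem).trans M.π_z)).resolve_left
      (by simpa using M.xs.z_ne)) fun x hx => M.π_eq (hφ x hx) hx (h x hx)

end Cd

open Classical in
/-- the automorphism attached to an element of order four -/
noncomputable def tvHom {z : G} (h : XS (⊤ : Subgroup G) z) {w : G} (hw : w * w = z) : G →* G :=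
  MonoidHom.mk' (fun x => if cf x w = 0 then x else x * w) fun x y => by
    rw [h.cf_mul_left trivial trivial trivial]
    rcases zmod2_cases (cf x w) with h1 | h1 <;> rcases zmod2_cases (cf y w) with h2 | h2 <;>
      simp only [h1, h2, add_zero, zero_add, if_true, one_ne_zero, if_false, zmod2_add_self]
    · rw [mul_assoc]
    · rw [mul_assoc, cf_eq_zero.1 h2, mul_assoc]
    · have e := (h.cf_eq_one' trivial trivial).1 ((cf_symm w y).trans h2)
      calc x * y = x * (y * (w * w) * z) := by rw [hw, h.mul_z_z]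
        _ = x * (y * w * z * w) := by
          simp only [mul_assoc, h.z_comm w trivial]
        _ = _ := by rw [← e]; simp only [mul_assoc]

theorem tvHom_zero {z : G} (h : XS (⊤ : Subgroup G) z) {w : G} (hw : w * w = z) {x : G}
    (e : cf x w = 0) : tvHom h hw x = x := if_pos e

theorem tvHom_one {z : G} (h : XS (⊤ : Subgroup G) z) {w : G} (hw : w * w = z) {x : G}
    (e : cf x w = 1) : tvHom h hw x = x * w := if_neg (by rw [e]; decide)

theorem tvHom_inj {z : G} (h : XS (⊤ : Subgroup G) z) {w : G} (hw : w * w = z) :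
    Function.Injective (tvHom h hw) := (injective_iff_map_eq_one _).2 fun x e => by
  rcases zmod2_cases (cf x w) with h1 | h1
  · rwa [tvHom_zero h hw h1] at e
  · rw [tvHom_one h hw h1, mul_eq_one_iff_eq_inv] at e
    rw [e, cf_inv_left, cf_self] at h1
    exact absurd h1 (by decide)

theorem Cd.surj_aut [Finite G] {z : G} (M : Cd (⊤ : Subgroup G) z true) {ρ : MulAut G →* X true}
    (hρ : ∀ a x, act (ρ a) (M.π x) = M.π (a x)) : ρ.range = ⊤ := eq_top_of_tv fun g hg => by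
  obtain ⟨h1, h2⟩ := tv_act g hg
  obtain ⟨w, -, hw⟩ := M.surj (tw g)
  have w2 := (M.xs.sf_eq_one' trivial).1 ((M.q_π trivial).symm.trans (hw ▸ h1))
  refine ⟨MulEquiv.ofBijective (tvHom M.xs w2)
    (Finite.injective_iff_bijective.1 (tvHom_inj M.xs w2)), M.X_ext fun x _ => ?_⟩
  rw [hρ, MulEquiv.ofBijective_apply]
  have e := M.B_π (x := x) (y := w) trivial trivial
  rw [hw] at e
  rcases zmod2_cases (cf x w) with k | k
  · rw [tvHom_zero _ _ k, (h2 _).1 (e.trans k)]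
  · rw [tvHom_one _ _ k, (h2 _).2 (e.trans k), M.π_mul trivial trivial, hw]

end H83.W2
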